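import Mathlib
import Groth.Agent.H55.FFRiemannRoch

set_option autoImplicit false

namespace Groth.Agent.H86.FF

open FunFld Module Groth.Agent.H55

variable {k K : Type*} [Field k] [Field K] [Algebra k K]

theorem toModule_eq (P : Place k K) :
    (Algebra.toModule : Module k (IsLocalRing.ResidueField P.O)) =
      IsLocalRing.instModuleResidueFieldOfAlgebra ↥P.O := by
  apply Module.ext'
  intro c x
  obtain ⟨y, rfl⟩ := IsLocalRing.residue_surjective x
  rfl

/-- over an algebraically closed constant field every place has degree one -/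
theorem deg_place_eq_one [IsAlgClosed k] (hK : IsFunctionField k K) (P : Place k K) :
    P.deg = 1 := by
  have hfd := Place.finiteDimensional_residue hK P
  rw [← toModule_eq P] at hfd
  have hint : Algebra.IsIntegral k (IsLocalRing.ResidueField P.O) :=
    Algebra.IsIntegral.of_finite k _
  have hbij : Function.Bijective (algebraMap k (IsLocalRing.ResidueField P.O)) :=
    IsAlgClosed.algebraMap_bijective_of_isIntegral
  unfold Place.deg
  have e : k ≃ₗ[k] IsLocalRing.ResidueField P.O :=
    LinearEquiv.ofBijective (Algebra.linearMap k _) hbij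
  have := e.finrank_eq
  rw [Module.finrank_self] at this
  rw [this]

theorem deg_single_one [IsAlgClosed k] (hK : IsFunctionField k K) (P : Place k K) (n : ℤ) :
    FunFld.Divisor.deg (Finsupp.single P n : Divisor k K) = n := by
  rw [Divisor.deg_single, deg_place_eq_one hK P]
  simp

/-- a degree-zero divisor with a nonzero section is principal (up to sign) -/
theorem exists_div_eq_of_deg_zero (hK : IsFunctionField k K) (D : Divisor k K)
    (hdeg : D.deg = 0) (hL : L D ≠ ⊥) : ∃ x : K, x ≠ 0 ∧ div k x = -D := by
  obtain ⟨x, hx0, hx⟩ := (L_ne_bot_iff hK D).mp hL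
  refine ⟨x, hx0, ?_⟩
  have h := Divisor.eq_of_le_of_deg_eq hK hx (by rw [Divisor.deg_zero, deg_add_div hK, hdeg])
  have : div k x = (D + div k x) - D := by abel
  rw [this, ← h, zero_sub]

theorem ell_pos_of_eq {D : Divisor k K} {n : ℕ} (hK : IsFunctionField k K) (h : ell D = n)
    (hn : 0 < n) : L D ≠ ⊥ := (ell_pos_iff hK D).mp (by omega)

/-- if `0 ≤ D` and `ℓ(D) = 1` then `L(D)` consists of constants -/
theorem mem_range_of_ell_eq_one (hK : IsFunctionField k K) {D : Divisor k K} (h0 : 0 ≤ D)
    (h1 : ell D = 1) {x : K} (hx : x ∈ L D) : x ∈ Set.range (algebraMap k K) := by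
  have hfin := L_finite hK D
  have heq : L (0 : Divisor k K) = L D := by
    apply Submodule.eq_of_le_of_finrank_le (L_mono h0)
    have := ell_zero hK (k := k) (K := K)
    unfold ell at this h1
    omega
  rw [← heq, L_zero hK, Submodule.mem_one] at hx
  exact hx

end Groth.Agent.H86.FF
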