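import Groth.Agent.H86.Wronsk3

set_option autoImplicit false

namespace Groth.Agent.H86.Wr

open Polynomial Finset

variable {k : Type*} [Field k] {m : ℕ} (r : Fin m → k) (a : Fin m → ℕ)

theorem finrank_degreeLT (n : ℕ) : Module.finrank k (degreeLT k n) = n := by
  rw [LinearEquiv.finrank_eq (degreeLTEquiv k n), Module.finrank_fin_fun]

theorem derivative_mem_degreeLT {n : ℕ} {q : k[X]} (hq : q ∈ degreeLT k (n + 1)) :
    derivative q ∈ degreeLT k n := by
  rw [mem_degreeLT, degree_lt_iff_coeff_zero] at hq ⊢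
  intro M hM
  rw [coeff_derivative, hq (M + 1) (by omega), zero_mul]

theorem mem_degreeLT_of_natDegree_lt {f : k[X]} {n : ℕ} (h : f.natDegree < n) :
    f ∈ degreeLT k n := by
  rw [mem_degreeLT]
  exact degree_le_natDegree.trans_lt (Nat.cast_lt.mpr h)

theorem natDegree_lt_of_mem_degreeLT {f : k[X]} {n : ℕ} (hf : f ≠ 0) (h : f ∈ degreeLT k n) :
    f.natDegree < n := by
  rw [mem_degreeLT] at h
  exact (natDegree_lt_iff_degree_lt hf).mpr h

theorem mem_degreeLT_of_mul_monic {g : k[X]} (hg : g.Monic) {q : k[X]} {n : ℕ}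
    (h : q * g ∈ degreeLT k (n + g.natDegree)) : q ∈ degreeLT k n := by
  by_cases hq : q = 0
  · rw [hq]; exact Submodule.zero_mem _
  · have h1 := natDegree_lt_of_mem_degreeLT (mul_ne_zero hq hg.ne_zero) h
    rw [natDegree_mul hq hg.ne_zero] at h1
    exact mem_degreeLT_of_natDegree_lt (by omega)

theorem mul_mem_degreeLT {f g : k[X]} {n c : ℕ} (hf : f ∈ degreeLT k n)
    (hg : g.natDegree ≤ c) : g * f ∈ degreeLT k (n + c) := by
  by_cases hf0 : f = 0
  · rw [hf0, mul_zero]; exact Submodule.zero_mem _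
  · have h1 := natDegree_lt_of_mem_degreeLT hf0 hf
    apply mem_degreeLT_of_natDegree_lt
    have := natDegree_mul_le (p := g) (q := f)
    omega

theorem Ei_mem (c e : k) (n : ℕ) (u : k[X]) (hu : u ∈ degreeLT k n) :
    (X - C c) * derivative u - C e * u ∈ degreeLT k n := by
  rw [mem_degreeLT, degree_lt_iff_coeff_zero] at hu ⊢
  intro M hM
  have h1 := hu M hM
  have h2 := hu (M + 1) (by omega)
  rcases M with _ | M
  · simp [sub_mul, coeff_derivative, h1, h2]
  · simp [sub_mul, coeff_X_mul, coeff_derivative, h1, h2]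

theorem Ts_mem_degreeLT (s : Finset (Fin m)) {e : ℕ} {Φ : k[X]} (hΦ : Φ ∈ degreeLT k (e + 1)) :
    Ts r a s Φ ∈ degreeLT k (e + s.card) := by
  rw [Ts_apply]
  apply Submodule.sub_mem
  · exact mul_mem_degreeLT (derivative_mem_degreeLT hΦ) (natDegree_Ps r s).le
  · rcases s.eq_empty_or_nonempty with rfl | hs
    · simp [Qs]
    · have hcard := Finset.card_pos.mpr hs
      have := mul_mem_degreeLT hΦ (natDegree_Qs_le r a s)
      have he : e + 1 + (s.card - 1) = e + s.card := by omega
      rwa [he] at this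

section CharZero

variable [CharZero k]

theorem ker_Ts (s : Finset (Fin m)) :
    LinearMap.ker (Ts r a s) = Submodule.span k {Ds r a s} := by
  apply le_antisymm
  · intro Ψ hΨ
    rw [LinearMap.mem_ker] at hΨ
    rw [Submodule.mem_span_singleton]
    set A := ∑ j ∈ s, a j with hA
    refine ⟨Ψ.coeff A, ?_⟩
    by_contra hne
    have hΦ : Ψ - Ψ.coeff A • Ds r a s ≠ 0 := fun h => hne (sub_eq_zero.mp h).symm
    have hT : Ts r a s (Ψ - Ψ.coeff A • Ds r a s) = 0 := by
      rw [Ts_sub_smul_Ds, hΨ]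
    have hdeg : (Ψ - Ψ.coeff A • Ds r a s).natDegree = A := by
      by_contra hd
      exact (natDegree_Ts r a s _ hΦ hd).1 hT
    have hc : (Ψ - Ψ.coeff A • Ds r a s).coeff A = 0 := by
      have h1 : (Ds r a s).coeff A = 1 := by
        have := (Ds_monic r a s).coeff_natDegree
        rwa [natDegree_Ds] at this
      rw [coeff_sub, coeff_smul, h1, smul_eq_mul, mul_one, sub_self]
    have : (Ψ - Ψ.coeff A • Ds r a s).leadingCoeff = 0 := by
      rw [leadingCoeff, hdeg, hc]
    exact hΦ (leadingCoeff_eq_zero.mp this)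
  · rw [Submodule.span_singleton_le_iff_mem, LinearMap.mem_ker, Ts_Ds]

/-- lifting the vanishing condition at infinity -/
theorem Ts_mem_degreeLT_iff (s : Finset (Fin m)) (E : ℕ) (Ψ : k[X]) :
    Ts r a s Ψ ∈ degreeLT k E ↔ ∃ c : k, Ψ - c • Ds r a s ∈ degreeLT k (E + 1 - s.card) := by
  constructor
  · intro h
    set A := ∑ j ∈ s, a j with hA
    refine ⟨Ψ.coeff A, ?_⟩
    by_cases hΦ : Ψ - Ψ.coeff A • Ds r a s = 0
    · rw [hΦ]; exact Submodule.zero_mem _
    · have hc : (Ψ - Ψ.coeff A • Ds r a s).coeff A = 0 := by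
        have h1 : (Ds r a s).coeff A = 1 := by
          have := (Ds_monic r a s).coeff_natDegree
          rwa [natDegree_Ds] at this
        rw [coeff_sub, coeff_smul, h1, smul_eq_mul, mul_one, sub_self]
      have hdeg : (Ψ - Ψ.coeff A • Ds r a s).natDegree ≠ A := by
        intro hd
        have : (Ψ - Ψ.coeff A • Ds r a s).leadingCoeff = 0 := by
          rw [leadingCoeff, hd, hc]
        exact hΦ (leadingCoeff_eq_zero.mp this)
      obtain ⟨h0, h1⟩ := natDegree_Ts r a s _ hΦ hdeg
      rw [Ts_sub_smul_Ds] at h0 h1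
      have h2 := natDegree_lt_of_mem_degreeLT h0 h
      apply mem_degreeLT_of_natDegree_lt
      omega
  · rintro ⟨c, hc⟩
    rw [← Ts_sub_smul_Ds r a s Ψ c]
    rcases Nat.eq_zero_or_pos (E + 1 - s.card) with h0 | hpos
    · rw [h0] at hc
      have : Ψ - c • Ds r a s = 0 := by
        rw [mem_degreeLT, Nat.cast_zero] at hc
        exact degree_eq_bot.mp (Nat.WithBot.lt_zero_iff.mp hc)
      rw [this, map_zero]; exact Submodule.zero_mem _
    · obtain ⟨e, he⟩ : ∃ e, E + 1 - s.card = e + 1 := ⟨E + 1 - s.card - 1, by omega⟩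
      rw [he] at hc
      have := Ts_mem_degreeLT r a s hc
      have hE : e + s.card = E := by omega
      rwa [hE] at this

/-- lifting the vanishing condition at a marked point -/
theorem dvd_Ts_marked_iff (hr : Function.Injective r) (s : Finset (Fin m)) {i : Fin m}
    (hi : i ∈ s) (n : ℕ) (Ψ : k[X]) :
    (X - C (r i)) ^ n ∣ Ts r a s Ψ ↔ ∃ c : k, (X - C (r i)) ^ n ∣ Ψ - c • Ds r a s := by
  constructor
  · intro h
    induction n with
    | zero => exact ⟨0, by simp⟩
    | succ n ih =>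
      obtain ⟨c, G, hG⟩ := ih (dvd_trans (pow_dvd_pow _ (Nat.le_succ n)) h)
      have hDi := eval_Ds_ne_zero r a (s.erase i) (r i) (ne_of_mem_erase_inj r hr s i)
      by_cases hn : n = a i
      · -- adjust the constant
        refine ⟨c + G.eval (r i) / (Ds r a (s.erase i)).eval (r i), ?_⟩
        have : Ψ - (c + G.eval (r i) / (Ds r a (s.erase i)).eval (r i)) • Ds r a s =
            (X - C (r i)) ^ n * (G - C (G.eval (r i) / (Ds r a (s.erase i)).eval (r i)) *
              Ds r a (s.erase i)) := by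
          rw [add_smul, ← sub_sub, hG, Ds_erase r a s hi, hn, smul_eq_C_mul]
          ring
        rw [this, pow_succ]
        apply mul_dvd_mul_left
        rw [dvd_iff_isRoot, IsRoot, eval_sub, eval_mul, eval_C, div_mul_cancel₀ _ hDi, sub_self]
      · refine ⟨c, ?_⟩
        rw [hG, pow_succ]
        apply mul_dvd_mul_left
        rw [dvd_iff_isRoot]
        by_contra hGr
        apply not_dvd_Ts_marked r a hr s hi n hn G hGr
        rw [← hG, Ts_sub_smul_Ds]
        exact h
  · rintro ⟨c, G, hG⟩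
    rw [← Ts_sub_smul_Ds r a s Ψ c, hG, Ts_local r a s hi]
    exact dvd_mul_right _ _

/-- lifting the vanishing condition at an unmarked point -/
theorem dvd_Ts_unmarked_iff (s : Finset (Fin m)) (q : k) (hq : ∀ j ∈ s, q ≠ r j)
    (n : ℕ) (Ψ : k[X]) :
    (X - C q) ^ n ∣ Ts r a s Ψ ↔ ∃ c : k, (X - C q) ^ (n + 1) ∣ Ψ - c • Ds r a s := by
  constructor
  · intro h
    induction n with
    | zero =>
      have hD := eval_Ds_ne_zero r a s q hq
      refine ⟨Ψ.eval q / (Ds r a s).eval q, ?_⟩
      rw [zero_add, pow_one, dvd_iff_isRoot, IsRoot, eval_sub, eval_smul, smul_eq_mul,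
        div_mul_cancel₀ _ hD, sub_self]
    | succ n ih =>
      obtain ⟨c, G, hG⟩ := ih (dvd_trans (pow_dvd_pow _ (Nat.le_succ n)) h)
      refine ⟨c, ?_⟩
      rw [hG, pow_succ (X - C q) (n + 1)]
      apply mul_dvd_mul_left
      rw [dvd_iff_isRoot]
      by_contra hGr
      apply not_dvd_Ts_unmarked r a s q hq n G hGr
      rw [← hG, Ts_sub_smul_Ds]
      exact h
  · rintro ⟨c, G, hG⟩
    rw [← Ts_sub_smul_Ds r a s Ψ c, hG, Ts_local' r a s q n]
    exact dvd_mul_right _ _

end CharZero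

end Groth.Agent.H86.Wr
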