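import Mathlib
import Groth.Agent.H86.Wronsk4

set_option autoImplicit false

namespace Groth.Agent.H86.Wr

open Polynomial Finset

variable {k : Type*} [Field k] {m : ℕ} (r : Fin m → k) (a : Fin m → ℕ)

/-- the space `V(b)` of the statements -/
noncomputable def Vsp (b : ℕ) : Submodule k k[X] :=
  (degreeLT k b).map (LinearMap.mulLeft k (∏ j, (X - C (r j)) ^ (a j + 1))) ⊔
    ⨆ i, (degreeLT k (a i)).map
      (LinearMap.mulLeft k (∏ j ∈ Finset.univ.erase i, (X - C (r j)) ^ (a j + 1)))

instance (b : ℕ) : FiniteDimensional k (Vsp r a b) := by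
  unfold Vsp; infer_instance

theorem prod_pow_succ (s : Finset (Fin m)) :
    ∏ j ∈ s, (X - C (r j)) ^ (a j + 1) = Ds r a s * Ps r s := by
  unfold Ds Ps
  rw [← Finset.prod_mul_distrib]
  exact Finset.prod_congr rfl fun j _ => pow_succ _ _

theorem finrank_finset_sup_le {ι : Type*} (s : Finset ι) (S : ι → Submodule k k[X])
    [∀ i, FiniteDimensional k (S i)] :
    Module.finrank k (s.sup S : Submodule k k[X]) ≤ ∑ i ∈ s, Module.finrank k (S i) := by
  classical
  induction s using Finset.induction_on with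
  | empty => simp
  | insert i s hi ih =>
    rw [Finset.sup_insert, Finset.sum_insert hi]
    exact (Submodule.finrank_add_le_finrank_add_finrank _ _).trans (Nat.add_le_add_left ih _)

theorem finrank_Vsp_le (b : ℕ) : Module.finrank k (Vsp r a b) ≤ b + ∑ j, a j := by
  unfold Vsp
  refine (Submodule.finrank_add_le_finrank_add_finrank _ _).trans ?_
  apply Nat.add_le_add
  · exact (Submodule.finrank_map_le _ _).trans (finrank_degreeLT b).le
  · rw [← Finset.sup_univ_eq_iSup]
    refine (finrank_finset_sup_le _ _).trans ?_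
    apply Finset.sum_le_sum
    intro i _
    exact (Submodule.finrank_map_le _ _).trans (finrank_degreeLT (a i)).le

theorem finrank_map_injective {f : k[X] →ₗ[k] k[X]} (hf : Function.Injective f)
    (S : Submodule k k[X]) : Module.finrank k (S.map f) = Module.finrank k S :=
  (Submodule.equivMapOfInjective f hf S).finrank_eq.symm

theorem degreeLT_inf_span (g : k[X]) (hg : g.Monic) (M : ℕ) :
    degreeLT k M ⊓ (Ideal.span {g}).restrictScalars k =
      (degreeLT k (M - g.natDegree)).map (LinearMap.mulLeft k g) := by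
  ext f
  rw [Submodule.mem_inf, Submodule.restrictScalars_mem, Ideal.mem_span_singleton,
    Submodule.mem_map]
  constructor
  · rintro ⟨hf, h, rfl⟩
    refine ⟨h, ?_, rfl⟩
    by_cases h0 : h = 0
    · rw [h0]; exact Submodule.zero_mem _
    · have h1 := natDegree_lt_of_mem_degreeLT (mul_ne_zero hg.ne_zero h0) hf
      rw [natDegree_mul hg.ne_zero h0] at h1
      exact mem_degreeLT_of_natDegree_lt (by omega)
  · rintro ⟨h, hh, rfl⟩
    refine ⟨?_, dvd_mul_right _ _⟩
    rw [LinearMap.mulLeft_apply]
    by_cases h0 : h = 0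
    · rw [h0, mul_zero]; exact Submodule.zero_mem _
    · have h1 := natDegree_lt_of_mem_degreeLT h0 hh
      apply mem_degreeLT_of_natDegree_lt
      rw [natDegree_mul hg.ne_zero h0]
      omega

theorem finrank_degreeLT_inf_span (g : k[X]) (hg : g.Monic) (M : ℕ) :
    Module.finrank k ↥(degreeLT k M ⊓ (Ideal.span {g}).restrictScalars k) =
      M - g.natDegree := by
  rw [degreeLT_inf_span g hg M,
    finrank_map_injective (f := LinearMap.mulLeft k g) (mul_right_injective₀ hg.ne_zero),
    finrank_degreeLT]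

theorem degreeLT_inf_degreeLT (x y : ℕ) :
    degreeLT k x ⊓ degreeLT k y = degreeLT k (min x y) := by
  rcases le_total x y with h | h
  · rw [min_eq_left h, inf_eq_left.mpr (degreeLT_mono h)]
  · rw [min_eq_right h, inf_eq_right.mpr (degreeLT_mono h)]

theorem map_Ts_inf (s : Finset (Fin m)) (W C C' : Submodule k k[X]) (hD : Ds r a s ∈ W)
    (h : ∀ Ψ, Ts r a s Ψ ∈ C ↔ ∃ c : k, Ψ - c • Ds r a s ∈ C') :
    W.map (Ts r a s) ⊓ C = (W ⊓ C').map (Ts r a s) := by
  ext y
  rw [Submodule.mem_inf, Submodule.mem_map, Submodule.mem_map]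
  constructor
  · rintro ⟨⟨Ψ, hΨ, rfl⟩, hC⟩
    obtain ⟨c, hc⟩ := (h Ψ).mp hC
    exact ⟨Ψ - c • Ds r a s, ⟨Submodule.sub_mem _ hΨ (Submodule.smul_mem _ _ hD), hc⟩,
      Ts_sub_smul_Ds r a s Ψ c⟩
  · rintro ⟨Ψ, ⟨hΨ, hC'⟩, rfl⟩
    exact ⟨⟨Ψ, hΨ, rfl⟩, (h Ψ).mpr ⟨0, by rwa [zero_smul, sub_zero]⟩⟩

section CharZero

variable [CharZero k]

open Classical in
theorem finrank_map_Ts (s : Finset (Fin m)) (S : Submodule k k[X]) [FiniteDimensional k S] :
    Module.finrank k (S.map (Ts r a s)) + (if Ds r a s ∈ S then 1 else 0) =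
      Module.finrank k S := by
  have h := LinearMap.finrank_range_add_finrank_ker ((Ts r a s).domRestrict S)
  rw [LinearMap.range_domRestrict, LinearMap.ker_domRestrict, ker_Ts] at h
  rw [← h]
  congr 1
  split_ifs with hD
  · have : (Submodule.span k {Ds r a s}).comap S.subtype =
        Submodule.span k {(⟨Ds r a s, hD⟩ : S)} := by
      ext x
      rw [Submodule.mem_comap, Submodule.mem_span_singleton, Submodule.mem_span_singleton]
      constructor
      · rintro ⟨c, hc⟩
        exact ⟨c, Subtype.ext hc⟩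
      · rintro ⟨c, hc⟩
        exact ⟨c, congrArg Subtype.val hc⟩
    rw [this, finrank_span_singleton]
    intro h0
    exact (Ds_monic r a s).ne_zero (congrArg Subtype.val h0)
  · have : (Submodule.span k {Ds r a s}).comap S.subtype = ⊥ := by
      rw [Submodule.eq_bot_iff]
      intro x hx
      rw [Submodule.mem_comap, Submodule.mem_span_singleton] at hx
      obtain ⟨c, hc⟩ := hx
      by_cases hc0 : c = 0
      · apply Subtype.ext
        rw [hc0, zero_smul] at hc
        exact hc.symm
      · exfalso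
        apply hD
        have : Ds r a s = c⁻¹ • (x : k[X]) := by
          rw [Submodule.subtype_apply] at hc
          rw [← hc, smul_smul, inv_mul_cancel₀ hc0, one_smul]
        rw [this]
        exact Submodule.smul_mem _ _ x.2
    rw [this, finrank_bot]

end CharZero

end Groth.Agent.H86.Wr
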