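import Mathlib
import Groth.Agent.H86.Wronsk5

set_option autoImplicit false

namespace Groth.Agent.H86.Wr

open Polynomial Finset

variable {k : Type*} [Field k] {m : ℕ} (r : Fin m → k) (a : Fin m → ℕ)

theorem Ds_mem_degreeLT (s : Finset (Fin m)) (n : ℕ) (h : ∑ j ∈ s, a j < n) :
    Ds r a s ∈ degreeLT k n :=
  mem_degreeLT_of_natDegree_lt (by rw [natDegree_Ds]; exact h)

theorem Ds_mem_degreeLT_iff (s : Finset (Fin m)) (n : ℕ) :
    Ds r a s ∈ degreeLT k n ↔ ∑ j ∈ s, a j < n := by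
  constructor
  · intro h
    have := natDegree_lt_of_mem_degreeLT (Ds_monic r a s).ne_zero h
    rwa [natDegree_Ds] at this
  · exact Ds_mem_degreeLT r a s n

theorem map_Ts_le_Vsp (hr : Function.Injective r) (b : ℕ) :
    (degreeLT k ((∑ j, a j) + b + 1)).map (Ts r a univ) ≤ Vsp r a b := by
  rintro _ ⟨Ψ, hΨ, rfl⟩
  obtain ⟨q, rem, hrem, hΨeq⟩ := eq_quo_mul_prod_add_sum_rem_mul_prod (s := univ) Ψ
    (g := fun i => (X - C (r i)) ^ a i) (fun i _ => (monic_X_sub_C (r i)).pow (a i))
    (fun i _ j _ hij => (isCoprime_X_sub_C_of_isUnit_sub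
      (IsUnit.mk0 _ (sub_ne_zero.mpr (hr.ne hij)))).pow)
  have hrem' : ∀ i, rem i ∈ degreeLT k (a i) := by
    intro i
    have := hrem i (mem_univ i)
    rw [mem_degreeLT]
    rwa [degree_pow, degree_X_sub_C, nsmul_one] at this
  have hΨ' : Ψ = Ds r a univ * q + ∑ i, Ds r a (univ.erase i) * rem i := by
    rw [hΨeq]
    unfold Ds
    rw [mul_comm]
    congr 1
    exact Finset.sum_congr rfl fun i _ => mul_comm _ _
  have hT : Ts r a univ Ψ = (∏ j, (X - C (r j)) ^ (a j + 1)) * derivative q +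
      ∑ i, (∏ j ∈ univ.erase i, (X - C (r j)) ^ (a j + 1)) *
        ((X - C (r i)) * derivative (rem i) - C (a i : k) * rem i) := by
    rw [hΨ', map_add, map_sum, Ts_Ds_mul, prod_pow_succ]
    congr 1
    apply Finset.sum_congr rfl
    intro i _
    rw [Ts_Ds_erase_mul r a univ (mem_univ i), prod_pow_succ]
  rw [hT]
  unfold Vsp
  apply Submodule.add_mem
  · apply Submodule.mem_sup_left
    refine Submodule.mem_map_of_mem (f := LinearMap.mulLeft k _) ?_
    apply derivative_mem_degreeLT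
    apply mem_degreeLT_of_mul_monic (Ds_monic r a univ)
    rw [natDegree_Ds]
    have hsum : ∑ i, Ds r a (univ.erase i) * rem i ∈ degreeLT k (b + 1 + ∑ j, a j) := by
      apply Submodule.sum_mem
      intro i _
      have h1 := mul_mem_degreeLT (hrem' i) (natDegree_Ds r a (univ.erase i)).le
      rw [Finset.add_sum_erase _ _ (mem_univ i)] at h1
      exact degreeLT_mono (by omega) h1
    have hq : q * Ds r a univ = Ψ - ∑ i, Ds r a (univ.erase i) * rem i := by
      rw [hΨ']; ring
    rw [hq]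
    apply Submodule.sub_mem _ _ hsum
    have he : b + 1 + ∑ j, a j = (∑ j, a j) + b + 1 := by omega
    rw [he]
    exact hΨ
  · apply Submodule.mem_sup_right
    apply Submodule.sum_mem
    intro i _
    apply Submodule.mem_iSup_of_mem i
    refine Submodule.mem_map_of_mem (f := LinearMap.mulLeft k _) ?_
    exact Ei_mem _ _ _ _ (hrem' i)

variable [CharZero k]

theorem Vsp_eq (hr : Function.Injective r) (b : ℕ) :
    Vsp r a b = (degreeLT k ((∑ j, a j) + b + 1)).map (Ts r a univ) := by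
  symm
  apply Submodule.eq_of_le_of_finrank_le (map_Ts_le_Vsp r a hr b)
  have h := finrank_map_Ts r a univ (degreeLT k ((∑ j, a j) + b + 1))
  rw [if_pos (Ds_mem_degreeLT r a univ _ (by omega)), finrank_degreeLT] at h
  have := finrank_Vsp_le r a b
  omega

theorem finrank_Vsp (hr : Function.Injective r) (b : ℕ) :
    Module.finrank k (Vsp r a b) = (∑ j, a j) + b := by
  rw [Vsp_eq r a hr b]
  have h := finrank_map_Ts r a univ (degreeLT k ((∑ j, a j) + b + 1))
  rw [if_pos (Ds_mem_degreeLT r a univ _ (by omega)), finrank_degreeLT] at h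
  omega

theorem Vsp_inf_marked (hr : Function.Injective r) (b : ℕ) (i : Fin m) (n : ℕ) :
    Vsp r a b ⊓ (Ideal.span {(X - C (r i)) ^ n}).restrictScalars k =
      (degreeLT k ((∑ j, a j) + b + 1) ⊓
        (Ideal.span {(X - C (r i)) ^ n}).restrictScalars k).map (Ts r a univ) := by
  rw [Vsp_eq r a hr b]
  apply map_Ts_inf r a univ _ _ _ (Ds_mem_degreeLT r a univ _ (by omega))
  intro Ψ
  simp only [Submodule.restrictScalars_mem, Ideal.mem_span_singleton]
  exact dvd_Ts_marked_iff r a hr univ (mem_univ i) n Ψ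

theorem Vsp_inf_unmarked (hr : Function.Injective r) (b : ℕ) (q : k) (hq : ∀ j, q ≠ r j)
    (n : ℕ) :
    Vsp r a b ⊓ (Ideal.span {(X - C q) ^ n}).restrictScalars k =
      (degreeLT k ((∑ j, a j) + b + 1) ⊓
        (Ideal.span {(X - C q) ^ (n + 1)}).restrictScalars k).map (Ts r a univ) := by
  rw [Vsp_eq r a hr b]
  apply map_Ts_inf r a univ _ _ _ (Ds_mem_degreeLT r a univ _ (by omega))
  intro Ψ
  simp only [Submodule.restrictScalars_mem, Ideal.mem_span_singleton]
  exact dvd_Ts_unmarked_iff r a univ q (fun j _ => hq j) n Ψ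

theorem Vsp_inf_degreeLT (hr : Function.Injective r) (b : ℕ) (E : ℕ) :
    Vsp r a b ⊓ degreeLT k E =
      (degreeLT k ((∑ j, a j) + b + 1) ⊓ degreeLT k (E + 1 - m)).map (Ts r a univ) := by
  rw [Vsp_eq r a hr b]
  apply map_Ts_inf r a univ _ _ _ (Ds_mem_degreeLT r a univ _ (by omega))
  intro Ψ
  have := Ts_mem_degreeLT_iff r a univ E Ψ
  rwa [Finset.card_univ, Fintype.card_fin] at this

theorem natDegree_X_sub_C_pow' (q : k) (n : ℕ) : ((X - C q) ^ n).natDegree = n := by
  rw [natDegree_pow, natDegree_X_sub_C, mul_one]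

theorem Ds_mem_span_marked_iff (hr : Function.Injective r) (i : Fin m) (n : ℕ) :
    Ds r a univ ∈ (Ideal.span {(X - C (r i)) ^ n}).restrictScalars k ↔ n ≤ a i := by
  rw [Submodule.restrictScalars_mem, Ideal.mem_span_singleton]
  constructor
  · intro h
    by_contra hn
    have h1 : (X - C (r i)) ^ (a i + 1) ∣ Ds r a univ :=
      dvd_trans (pow_dvd_pow _ (by omega)) h
    rw [Ds_erase r a univ (mem_univ i), pow_succ,
      mul_dvd_mul_iff_left (pow_ne_zero _ (X_sub_C_ne_zero _)), dvd_iff_isRoot] at h1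
    exact eval_Ds_ne_zero r a (univ.erase i) (r i) (ne_of_mem_erase_inj r hr univ i) h1
  · intro h
    rw [Ds_erase r a univ (mem_univ i)]
    exact dvd_mul_of_dvd_left (pow_dvd_pow _ h) _

theorem Ds_not_mem_span_unmarked (q : k) (hq : ∀ j, q ≠ r j) (n : ℕ) :
    Ds r a univ ∉ (Ideal.span {(X - C q) ^ (n + 1)}).restrictScalars k := by
  rw [Submodule.restrictScalars_mem, Ideal.mem_span_singleton]
  intro h
  have h1 : (X - C q) ∣ Ds r a univ := dvd_trans (dvd_pow_self _ (Nat.succ_ne_zero n)) h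
  rw [dvd_iff_isRoot] at h1
  exact eval_Ds_ne_zero r a univ q (fun j _ => hq j) h1

theorem finrank_Vsp_inf_marked (hr : Function.Injective r) (b : ℕ) (i : Fin m) (n : ℕ) :
    Module.finrank k ↥(Vsp r a b ⊓ (Ideal.span {(X - C (r i)) ^ n}).restrictScalars k) =
      if n ≤ a i then (∑ j, a j) + b - n else (∑ j, a j) + b + 1 - n := by
  rw [Vsp_inf_marked r a hr b i n]
  have h := finrank_map_Ts r a univ (degreeLT k ((∑ j, a j) + b + 1) ⊓
    (Ideal.span {(X - C (r i)) ^ n}).restrictScalars k)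
  rw [finrank_degreeLT_inf_span _ ((monic_X_sub_C (r i)).pow n), natDegree_X_sub_C_pow'] at h
  have hai : a i ≤ ∑ j, a j := Finset.single_le_sum (fun _ _ => Nat.zero_le _) (mem_univ i)
  by_cases hn : n ≤ a i
  · rw [if_pos hn]
    rw [if_pos ⟨Ds_mem_degreeLT r a univ _ (by omega),
      (Ds_mem_span_marked_iff r a hr i n).mpr hn⟩] at h
    omega
  · rw [if_neg hn]
    rw [if_neg (fun hh => hn ((Ds_mem_span_marked_iff r a hr i n).mp hh.2))] at h
    omega

theorem finrank_Vsp_inf_unmarked (hr : Function.Injective r) (b : ℕ) (q : k)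
    (hq : ∀ j, q ≠ r j) (n : ℕ) :
    Module.finrank k ↥(Vsp r a b ⊓ (Ideal.span {(X - C q) ^ n}).restrictScalars k) =
      (∑ j, a j) + b - n := by
  rw [Vsp_inf_unmarked r a hr b q hq n]
  have h := finrank_map_Ts r a univ (degreeLT k ((∑ j, a j) + b + 1) ⊓
    (Ideal.span {(X - C q) ^ (n + 1)}).restrictScalars k)
  rw [finrank_degreeLT_inf_span _ ((monic_X_sub_C q).pow (n + 1)), natDegree_X_sub_C_pow',
    if_neg (fun hh => Ds_not_mem_span_unmarked r a q hq n hh.2)] at h
  omega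

theorem finrank_Vsp_inf_degreeLT (hr : Function.Injective r) (b : ℕ) (E : ℕ) :
    Module.finrank k ↥(Vsp r a b ⊓ degreeLT k E) + (if ∑ j, a j < E + 1 - m then 1 else 0) =
      min ((∑ j, a j) + b + 1) (E + 1 - m) := by
  rw [Vsp_inf_degreeLT r a hr b E]
  have h := finrank_map_Ts r a univ (degreeLT k ((∑ j, a j) + b + 1) ⊓ degreeLT k (E + 1 - m))
  rw [degreeLT_inf_degreeLT, finrank_degreeLT] at h
  rw [degreeLT_inf_degreeLT]
  by_cases hc : ∑ j, a j < E + 1 - m
  · rw [if_pos hc]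
    rw [if_pos ((Ds_mem_degreeLT_iff r a univ _).mpr (lt_min (by omega) hc))] at h
    exact h
  · rw [if_neg hc]
    rw [if_neg (fun hh => hc (((Ds_mem_degreeLT_iff r a univ _).mp hh).trans_le
      (min_le_right _ _)))] at h
    exact h

end Groth.Agent.H86.Wr
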