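import Mathlib
import Groth.Agent.H86.Wronsk6

set_option autoImplicit false

namespace Groth.Agent.H86.Wr

open Polynomial Finset

variable {k : Type*} [Field k] {m : ℕ} (r : Fin m → k) (a : Fin m → ℕ)

theorem degreeLT_zero : degreeLT k 0 = ⊥ := by
  rw [Submodule.eq_bot_iff]
  intro f hf
  rw [mem_degreeLT, Nat.cast_zero] at hf
  exact degree_eq_bot.mp (Nat.WithBot.lt_zero_iff.mp hf)

theorem mem_degreeLT_one {h : k[X]} (hh : h ∈ degreeLT k 1) : h = C (h.coeff 0) := by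
  by_cases h0 : h = 0
  · rw [h0]; simp
  · have := natDegree_lt_of_mem_degreeLT h0 hh
    exact eq_C_of_natDegree_eq_zero (by omega)

/-- division with remainder: `k[X]_{<M} ≤ k[X]_{<e} + (g) ∩ k[X]_{<M}` -/
theorem degreeLT_le_sup_inf_span (g : k[X]) (hg : g.Monic) (M : ℕ) (he : g.natDegree ≤ M) :
    degreeLT k M ≤ degreeLT k g.natDegree ⊔
      (degreeLT k M ⊓ (Ideal.span {g}).restrictScalars k) := by
  intro f hf
  have hmod : f %ₘ g ∈ degreeLT k g.natDegree := by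
    rw [mem_degreeLT, ← degree_eq_natDegree hg.ne_zero]
    exact degree_modByMonic_lt f hg
  have hsplit : f = f %ₘ g + g * (f /ₘ g) := (modByMonic_add_div f g).symm
  rw [hsplit]
  apply Submodule.add_mem_sup hmod
  refine ⟨?_, ?_⟩
  · have : g * (f /ₘ g) = f - f %ₘ g := by
      rw [eq_sub_iff_add_eq, add_comm]; exact hsplit.symm
    rw [this]
    exact Submodule.sub_mem _ hf (degreeLT_mono he hmod)
  · show g * (f /ₘ g) ∈ Ideal.span {g}
    exact Ideal.mem_span_singleton.mpr (dvd_mul_right _ _)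

section CharZero

variable [CharZero k]

theorem coeff_X_sub_C_pow_top (p : k) (M : ℕ) : ((X - C p) ^ M).coeff M = 1 := by
  have := ((monic_X_sub_C p).pow M).coeff_natDegree
  rwa [natDegree_X_sub_C_pow'] at this

theorem coeff_X_sub_C_pow_pred (p : k) (M : ℕ) :
    ((X - C p) ^ (M + 1)).coeff M = -((M + 1 : ℕ) : k) * p := by
  rw [sub_eq_add_neg, ← C_neg, coeff_X_add_C_pow, Nat.add_sub_cancel_left, pow_one,
    Nat.choose_succ_self_right]
  ring

theorem coeff_X_sub_C_pow_high (p : k) (M j : ℕ) (hj : M < j) :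
    ((X - C p) ^ M).coeff j = 0 :=
  coeff_eq_zero_of_natDegree_lt (by rw [natDegree_X_sub_C_pow']; exact hj)

/-- two different `N`-th powers of linear forms span `k[X]_{≤ N}` modulo `k[X]_{< N-1}` -/
theorem exists_sub_pow_mem_degreeLT (q q' : k) (hqq : q ≠ q') (M : ℕ) (f : k[X])
    (hf : f ∈ degreeLT k (M + 2)) :
    ∃ c₁ c₂ : k, f - c₁ • (X - C q) ^ (M + 1) - c₂ • (X - C q') ^ (M + 1) ∈ degreeLT k M := by
  have hN : ((M + 1 : ℕ) : k) ≠ 0 := Nat.cast_ne_zero.mpr (Nat.succ_ne_zero M)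
  have hq : q' - q ≠ 0 := sub_ne_zero.mpr hqq.symm
  refine ⟨(f.coeff M + ((M + 1 : ℕ) : k) * q' * f.coeff (M + 1)) / (((M + 1 : ℕ) : k) * (q' - q)),
    f.coeff (M + 1) -
      (f.coeff M + ((M + 1 : ℕ) : k) * q' * f.coeff (M + 1)) / (((M + 1 : ℕ) : k) * (q' - q)), ?_⟩
  rw [mem_degreeLT, degree_lt_iff_coeff_zero] at hf ⊢
  intro j hj
  rcases (by omega : j = M ∨ j = M + 1 ∨ M + 2 ≤ j) with rfl | rfl | hj2
  · simp only [coeff_sub, coeff_smul, smul_eq_mul, coeff_X_sub_C_pow_pred]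
    field_simp
    ring
  · simp only [coeff_sub, coeff_smul, smul_eq_mul, coeff_X_sub_C_pow_top]
    ring
  · rw [coeff_sub, coeff_sub, coeff_smul, coeff_smul, coeff_X_sub_C_pow_high _ _ _ (by omega),
      coeff_X_sub_C_pow_high _ _ _ (by omega), hf j hj2]
    simp

/-- no member of `V` vanishes to order `N` at an unmarked point -/
theorem Vsp_inf_unmarked_eq_bot (hr : Function.Injective r) (b : ℕ) (q : k)
    (hq : ∀ j, q ≠ r j) :
    Vsp r a b ⊓ (Ideal.span {(X - C q) ^ ((∑ j, a j) + b)}).restrictScalars k = ⊥ := by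
  rw [Vsp_inf_unmarked r a hr b q hq, degreeLT_inf_span _ ((monic_X_sub_C q).pow _),
    natDegree_X_sub_C_pow', Nat.sub_self, degreeLT_zero, Submodule.map_bot, Submodule.map_bot]

/-- members of `V` vanishing to order `n` at an unmarked point -/
theorem mem_Vsp_inf_unmarked (hr : Function.Injective r) (b : ℕ) (q : k)
    (hq : ∀ j, q ≠ r j) (n : ℕ) (y : k[X])
    (hy : y ∈ Vsp r a b ⊓ (Ideal.span {(X - C q) ^ n}).restrictScalars k) :
    ∃ h ∈ degreeLT k ((∑ j, a j) + b + 1 - (n + 1)),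
      y = Ts r a univ ((X - C q) ^ (n + 1) * h) := by
  rw [Vsp_inf_unmarked r a hr b q hq, degreeLT_inf_span _ ((monic_X_sub_C q).pow _),
    natDegree_X_sub_C_pow'] at hy
  obtain ⟨Ψ, ⟨h, hh, rfl⟩, rfl⟩ := hy
  exact ⟨h, hh, rfl⟩

/-- a nonzero member of `V₁ ≤ V` vanishing to order `N - 1` at an unmarked point `q` forces
`T((X-q)^N) ∈ V₁` -/
theorem Ts_pow_mem_of_inf_ne_bot (hr : Function.Injective r) (b : ℕ) (q : k)
    (hq : ∀ j, q ≠ r j) (hN1 : 1 ≤ (∑ j, a j) + b) (V₁ : Submodule k k[X])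
    (hV₁ : V₁ ≤ Vsp r a b)
    (h : V₁ ⊓ (Ideal.span {(X - C q) ^ ((∑ j, a j) + b - 1)}).restrictScalars k ≠ ⊥) :
    Ts r a univ ((X - C q) ^ ((∑ j, a j) + b)) ∈ V₁ := by
  obtain ⟨y, hy, hy0⟩ := Submodule.exists_mem_ne_zero_of_ne_bot h
  obtain ⟨hy1, hy2⟩ := hy
  obtain ⟨h, hh, hyT⟩ := mem_Vsp_inf_unmarked r a hr b q hq _ y ⟨hV₁ hy1, hy2⟩
  have he : (∑ j, a j) + b - 1 + 1 = (∑ j, a j) + b := by omega
  rw [he] at hh hyT
  have h1 : (∑ j, a j) + b + 1 - ((∑ j, a j) + b) = 1 := by omega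
  rw [h1] at hh
  have hC := mem_degreeLT_one hh
  have hyT' : y = h.coeff 0 • Ts r a univ ((X - C q) ^ ((∑ j, a j) + b)) := by
    rw [hyT, ← map_smul]
    congr 1
    rw [smul_eq_C_mul, mul_comm]
    congr 1
  have hc0 : h.coeff 0 ≠ 0 := by
    intro h0
    rw [h0, zero_smul] at hyT'
    exact hy0 hyT'
  have : Ts r a univ ((X - C q) ^ ((∑ j, a j) + b)) = (h.coeff 0)⁻¹ • y := by
    rw [hyT', smul_smul, inv_mul_cancel₀ hc0, one_smul]
  rw [this]
  exact Submodule.smul_mem _ _ hy1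

/-- the value of `T((X-q)^(n+1))` at a point -/
theorem eval_Ts_pow (q p : k) (n : ℕ) :
    (Ts r a univ ((X - C q) ^ (n + 1))).eval p =
      (p - q) ^ n * (((n + 1 : ℕ) : k) * (Ps r univ).eval p - (p - q) * (Qs r a univ).eval p) := by
  have := Ts_local' r a univ q n 1
  rw [mul_one] at this
  rw [this]
  simp only [eval_mul, eval_pow, eval_sub, eval_X, eval_C, eval_add, derivative_one, mul_zero,
    mul_one, zero_sub, eval_neg]
  ring

end CharZero

end Groth.Agent.H86.Wr
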