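import Mathlib
import Groth.Agent.H86.Wronsk7

set_option autoImplicit false

namespace Groth.Agent.H86.Wr

open Polynomial Finset

/-! ### hyperplanes and intersections -/

theorem finrank_hyperplane_inf {k M : Type*} [Field k] [AddCommGroup M] [Module k M]
    {V V₁ C : Submodule k M} [FiniteDimensional k V] (hV₁ : V₁ ≤ V)
    (hfin : Module.finrank k V₁ + 1 = Module.finrank k V) (hC : ¬ V ⊓ C ≤ V₁) :
    Module.finrank k ↥(V₁ ⊓ C) + 1 = Module.finrank k ↥(V ⊓ C) := by
  have hf1 : FiniteDimensional k V₁ := Submodule.finiteDimensional_of_le hV₁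
  have hf2 : FiniteDimensional k ↥(V ⊓ C) := Submodule.finiteDimensional_of_le inf_le_left
  have h1 : V₁ ⊓ C = V₁ ⊓ (V ⊓ C) := by
    rw [← inf_assoc, inf_eq_left.mpr hV₁]
  have h2 := Submodule.finrank_sup_add_finrank_inf_eq V₁ (V ⊓ C)
  have hle : V₁ ⊔ (V ⊓ C) ≤ V := sup_le hV₁ inf_le_left
  have hlt : V₁ < V₁ ⊔ (V ⊓ C) := by
    refine lt_of_le_of_ne le_sup_left ?_
    intro heq
    apply hC
    rw [heq]
    exact le_sup_right
  have hf3 : FiniteDimensional k ↥(V₁ ⊔ (V ⊓ C)) := Submodule.finiteDimensional_of_le hle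
  have h3 := Submodule.finrank_lt_finrank_of_lt hlt
  have h4 := Submodule.finrank_mono hle
  rw [h1]
  omega

theorem finrank_inf_le_of_le {k M : Type*} [Field k] [AddCommGroup M] [Module k M]
    {V V₁ C : Submodule k M} [FiniteDimensional k V] (hV₁ : V₁ ≤ V) :
    Module.finrank k ↥(V₁ ⊓ C) ≤ Module.finrank k ↥(V ⊓ C) := by
  have hf2 : FiniteDimensional k ↥(V ⊓ C) := Submodule.finiteDimensional_of_le inf_le_left
  exact Submodule.finrank_mono (inf_le_inf_right _ hV₁)

/-! ### arithmetic of weight sums -/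

theorem sum_range_sub_add_one (K : ℕ) : ∑ n ∈ range K, (K - n + 1) = (K + 1).choose 2 + K := by
  induction K with
  | zero => simp
  | succ K ih =>
    rw [Finset.sum_range_succ']
    have : ∑ n ∈ range K, (K + 1 - (n + 1) + 1) = ∑ n ∈ range K, (K - n + 1) := by
      apply Finset.sum_congr rfl
      intro n _
      omega
    rw [this, ih]
    have h1 := Nat.choose_succ_succ (K + 1) 1
    rw [Nat.choose_one_right] at h1
    have h2 : Nat.succ 1 = 2 := rfl
    rw [h2] at h1
    have h3 : (K + 1).succ = K + 1 + 1 := rfl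
    rw [h3] at h1
    omega

theorem sum_range_ind (K a : ℕ) :
    ∑ n ∈ range K, (if n + 1 ≤ a then 1 else 0) = min K a := by
  induction K with
  | zero => simp
  | succ K ih =>
    rw [Finset.sum_range_succ, ih]
    split_ifs <;> omega

/-- the shape of the dimension function of `V` at a marked point -/
def gfun (N a : ℕ) (n : ℕ) : ℕ := if n + 1 ≤ a then N - (n + 1) else N + 1 - (n + 1)

theorem sum_gfun (K a : ℕ) :
    ∑ n ∈ range K, gfun (K + 1) a n + min K a = (K + 1).choose 2 + K := by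
  rw [← sum_range_ind K a, ← Finset.sum_add_distrib, ← sum_range_sub_add_one K]
  apply Finset.sum_congr rfl
  intro n hn
  rw [Finset.mem_range] at hn
  unfold gfun
  split_ifs <;> omega

theorem sum_split (f : ℕ → ℕ) (N d : ℕ) (hN : 1 ≤ N) (hd : N ≤ d)
    (hz : ∀ n, N ≤ n → f n = 0) :
    ∑ n ∈ range d, f n = ∑ n ∈ range (N - 1), f n + f (N - 1) := by
  obtain ⟨t, rfl⟩ : ∃ t, d = (N - 1) + (t + 1) := ⟨d - N, by omega⟩
  rw [Finset.sum_range_add, Finset.sum_range_succ']
  have : ∑ x ∈ range t, f (N - 1 + (x + 1)) = 0 := by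
    apply Finset.sum_eq_zero
    intro x _
    exact hz _ (by omega)
  rw [this, zero_add, add_zero]

/-- total of `gfun` over the range -/
theorem sum_gfun_total (N a d : ℕ) (hN : 1 ≤ N)
    (hd : (N ≤ d ∧ a + 1 ≤ N) ∨ (d + 1 = N ∧ a = N)) :
    ∑ n ∈ range d, gfun N a n = N.choose 2 + (N - a) := by
  obtain ⟨K, rfl⟩ : ∃ K, N = K + 1 := ⟨N - 1, by omega⟩
  have h1 := sum_gfun K a
  have hc := Nat.choose_succ_succ K 1
  rw [Nat.choose_one_right] at hc
  have h2 : Nat.succ 1 = 2 := rfl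
  rw [h2] at hc
  have h3 : K.succ = K + 1 := rfl
  rw [h3] at hc
  rcases hd with ⟨hd1, hd2⟩ | ⟨hd1, hd2⟩
  · rw [sum_split (gfun (K + 1) a) (K + 1) d hN hd1]
    · rw [Nat.add_sub_cancel]
      have hg : gfun (K + 1) a K = 1 := by
        unfold gfun
        rw [if_neg (by omega)]
        omega
      rw [hg, min_eq_right (by omega)] at *
      omega
    · intro n hn
      unfold gfun
      split_ifs <;> omega
  · have : d = K := by omega
    rw [this]
    rw [min_eq_left (by omega)] at h1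
    omega

/-- abstract weight computation (dropped order `N` or `N - 1`) -/
theorem weight_sum_top (N a d : ℕ) (f g : ℕ → ℕ) (hN : 1 ≤ N)
    (hd : (N ≤ d ∧ a + 1 ≤ N) ∨ (d + 1 = N ∧ a = N))
    (hg : ∀ n, g n = gfun N a n) (hfg : ∀ n, f n ≤ g n)
    (hf : ∀ n, n + 1 < N → f n + 1 = g n) :
    ∃ ε : ℕ, ε ≤ 1 ∧ ∑ n ∈ range d, f n + 1 = (N - 1).choose 2 + (N - a) + ε := by
  obtain ⟨K, rfl⟩ : ∃ K, N = K + 1 := ⟨N - 1, by omega⟩
  have h1 := sum_gfun K a
  have hc := Nat.choose_succ_succ K 1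
  rw [Nat.choose_one_right] at hc
  have h2 : Nat.succ 1 = 2 := rfl
  rw [h2] at hc
  have h3 : K.succ = K + 1 := rfl
  rw [h3] at hc
  have hsumK : ∑ n ∈ range K, f n + K = ∑ n ∈ range K, gfun (K + 1) a n := by
    have : ∑ n ∈ range K, gfun (K + 1) a n = ∑ n ∈ range K, (f n + 1) := by
      apply Finset.sum_congr rfl
      intro n hn
      rw [Finset.mem_range] at hn
      rw [← hg n, hf n (by omega)]
    rw [this, Finset.sum_add_distrib]
    simp
  rw [Nat.add_sub_cancel]
  rcases hd with ⟨hd1, hd2⟩ | ⟨hd1, hd2⟩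
  · refine ⟨f K, ?_, ?_⟩
    · have := hfg K
      rw [hg K] at this
      unfold gfun at this
      rw [if_neg (by omega)] at this
      omega
    · rw [sum_split f (K + 1) d hN hd1]
      · rw [Nat.add_sub_cancel]
        rw [min_eq_right (by omega)] at h1
        omega
      · intro n hn
        have := hfg n
        rw [hg n] at this
        unfold gfun at this
        split_ifs at this <;> omega
  · refine ⟨1, le_refl _, ?_⟩
    have : d = K := by omega
    rw [this]
    rw [min_eq_left (by omega)] at h1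
    omega

/-- abstract weight computation (dropped order `0` or `1`) -/
theorem weight_sum_bot (N a d : ℕ) (f g : ℕ → ℕ) (hN : 1 ≤ N)
    (hd : (N ≤ d ∧ a + 1 ≤ N) ∨ (d + 1 = N ∧ a = N))
    (hg : ∀ n, g n = gfun N a n) (hf0 : f 0 ≤ g 0) (hf0' : g 0 ≤ f 0 + 1)
    (hf : ∀ n, 1 ≤ n → f n = g n) (ha : 1 ≤ a) :
    ∃ ε : ℕ, ε ≤ 1 ∧ ∑ n ∈ range d, f n = (N - 1).choose 2 + (N - a) + (N - 2) + ε := by
  have htot := sum_gfun_total N a d hN hd
  obtain ⟨K, rfl⟩ : ∃ K, N = K + 1 := ⟨N - 1, by omega⟩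
  have hc := Nat.choose_succ_succ K 1
  rw [Nat.choose_one_right] at hc
  have h2 : Nat.succ 1 = 2 := rfl
  rw [h2] at hc
  have h3 : K.succ = K + 1 := rfl
  rw [h3] at hc
  rw [Nat.add_sub_cancel]
  rcases Nat.eq_zero_or_pos d with rfl | hdpos
  · refine ⟨0, Nat.zero_le _, ?_⟩
    have hK : K = 0 := by omega
    subst hK
    simp
    omega
  · obtain ⟨t, rfl⟩ : ∃ t, d = t + 1 := ⟨d - 1, by omega⟩
    rw [Finset.sum_range_succ'] at htot ⊢
    have : ∑ n ∈ range t, f (n + 1) = ∑ n ∈ range t, gfun (K + 1) a (n + 1) := by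
      apply Finset.sum_congr rfl
      intro n _
      rw [hf (n + 1) (by omega), hg]
    rw [this]
    have hg0 : g 0 = K := by
      rw [hg 0]
      unfold gfun
      rw [if_pos (by omega)]
      omega
    rw [← hg 0, hg0] at htot
    refine ⟨f 0 + 1 - K, by omega, ?_⟩
    have hK1 : 1 ≤ K := by
      rcases hd with ⟨hd1, hd2⟩ | ⟨hd1, hd2⟩ <;> omega
    omega

end Groth.Agent.H86.Wr
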