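import Mathlib
import Groth.Agent.H86.FF1
import Groth.Agent.H86.Wronsk8

set_option autoImplicit false

namespace Groth.Agent.H86.FF

open FunFld Module Groth.Agent.H55

variable {k K : Type*} [Field k] [Field K] [Algebra k K]

theorem div_mul (hK : IsFunctionField k K) {x y : K} (hx : x ≠ 0) (hy : y ≠ 0) :
    div k (x * y) = div k x + div k y := by
  ext P
  rw [Finsupp.add_apply, Place.div_apply hK, Place.div_apply hK, Place.div_apply hK,
    Place.ord_mul P hx hy]

theorem div_pow (hK : IsFunctionField k K) (x : K) (n : ℕ) :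
    div k (x ^ n) = n • div k x := by
  ext P
  rw [Finsupp.smul_apply, Place.div_apply hK, Place.div_apply hK, Place.ord_pow]
  simp

theorem ell_eq_zero_of_deg_neg (hK : IsFunctionField k K) (D : Divisor k K) (h : D.deg < 0) :
    ell D = 0 := by
  unfold ell
  rw [L_eq_bot_of_deg_neg hK D h]
  exact finrank_bot k K

theorem ell_le_one_of_deg_zero (hK : IsFunctionField k K) (D : Divisor k K) (h : D.deg = 0) :
    ell D ≤ 1 := by
  by_cases hbot : L D = ⊥
  · unfold ell
    rw [hbot, finrank_bot]
    exact Nat.zero_le _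
  · obtain ⟨x, hx0, hx⟩ := exists_div_eq_of_deg_zero hK D h hbot
    have : D = 0 + div k x⁻¹ := by
      rw [div_inv hK, hx, neg_neg, zero_add]
    rw [this, ell_add_div hK _ (inv_ne_zero hx0), ell_zero hK]

theorem ell_eq_deg_of_genus_one (hK : IsFunctionField k K) (hg1 : genus k K = 1)
    (D : Divisor k K) (hD : 1 ≤ D.deg) : (ell D : ℤ) = D.deg := by
  have := ell_of_deg_ge hK D (by rw [hg1]; push_cast; omega)
  rw [hg1] at this
  push_cast at this
  linarith

theorem ell_nat_of_genus_one (hK : IsFunctionField k K) (hg1 : genus k K = 1)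
    (D : Divisor k K) (m : ℕ) (hm : 1 ≤ m) (hD : D.deg = m) : ell D = m := by
  have := ell_eq_deg_of_genus_one hK hg1 D (by rw [hD]; exact_mod_cast hm)
  rw [hD] at this
  exact_mod_cast this

theorem finrank_L_eq_ell (D : Divisor k K) : Module.finrank k (L D) = ell D := rfl

/-- sum of `K - n` over `n < K` -/
theorem sum_range_sub (K : ℕ) : ∑ n ∈ Finset.range K, (K - n) = (K + 1).choose 2 := by
  have h := Wr.sum_range_sub_add_one K
  rw [Finset.sum_add_distrib, Finset.sum_const, Finset.card_range, smul_eq_mul, mul_one] at h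
  omega

end Groth.Agent.H86.FF
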