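import Mathlib
import Groth.Agent.H86.FF2

set_option autoImplicit false

namespace Groth.Agent.H86.FF

open FunFld Module Groth.Agent.H55

variable {k K : Type*} [Field k] [Field K] [Algebra k K]

theorem L_inf_le {D₁ D₂ D₃ : Divisor k K} (hinf : ∀ P, min (D₁ P) (D₂ P) ≤ D₃ P) :
    L D₁ ⊓ L D₂ ≤ L D₃ := by
  rintro x ⟨h1, h2⟩
  rw [SetLike.mem_coe, mem_L] at h1 h2
  rw [mem_L]
  intro P
  rcases le_total (D₁ P) (D₂ P) with h | h
  · have := hinf P
    rw [min_eq_left h] at this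
    exact (h1 P).trans (WithZero.exp_le_exp.mpr this)
  · have := hinf P
    rw [min_eq_right h] at this
    exact (h2 P).trans (WithZero.exp_le_exp.mpr this)

/-- a subspace of dimension too small cannot contain both `L(D₁)` and `L(D₂)` -/
theorem not_le_of_finrank (hK : IsFunctionField k K) {D₁ D₂ D₃ : Divisor k K}
    (V₁ : Submodule k K) [FiniteDimensional k V₁]
    (hinf : ∀ P, min (D₁ P) (D₂ P) ≤ D₃ P) (h1 : L D₁ ≤ V₁)
    (hnum : Module.finrank k V₁ + ell D₃ < ell D₁ + ell D₂) : ¬ L D₂ ≤ V₁ := by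
  intro h2
  have hf1 := L_finite hK D₁
  have hf2 := L_finite hK D₂
  have hf3 := L_finite hK D₃
  have hS : L D₁ ⊔ L D₂ ≤ V₁ := sup_le h1 h2
  have hdim := Submodule.finrank_sup_add_finrank_inf_eq (L D₁) (L D₂)
  have hi := Submodule.finrank_mono (L_inf_le hinf)
  have hs := Submodule.finrank_mono hS
  unfold ell at hnum
  omega

section Torsion

variable [IsAlgClosed k]

/-- in genus one, `g(A - Q)` and `(g-2)(A - Q)` cannot both be principal for odd `g` and `Q ≠ A` -/
theorem torsion_aux (hK : IsFunctionField k K) (hg1 : genus k K = 1) (A Q : Place k K)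
    (hQ : Q ≠ A) (t : ℕ)
    (h1 : L (Finsupp.single A ((2 * t + 3 : ℕ) : ℤ) - Finsupp.single Q ((2 * t + 3 : ℕ) : ℤ) :
      Divisor k K) ≠ ⊥)
    (h2 : L (Finsupp.single A ((2 * t + 1 : ℕ) : ℤ) - Finsupp.single Q ((2 * t + 1 : ℕ) : ℤ) :
      Divisor k K) ≠ ⊥) : False := by
  classical
  have hd1 : FunFld.Divisor.deg (Finsupp.single A ((2 * t + 3 : ℕ) : ℤ) -
      Finsupp.single Q ((2 * t + 3 : ℕ) : ℤ) : Divisor k K) = 0 := by
    rw [Divisor.deg_sub, deg_single_one hK, deg_single_one hK, sub_self]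
  have hd2 : FunFld.Divisor.deg (Finsupp.single A ((2 * t + 1 : ℕ) : ℤ) -
      Finsupp.single Q ((2 * t + 1 : ℕ) : ℤ) : Divisor k K) = 0 := by
    rw [Divisor.deg_sub, deg_single_one hK, deg_single_one hK, sub_self]
  obtain ⟨y, hy0, hy⟩ := exists_div_eq_of_deg_zero hK _ hd1 h1
  obtain ⟨x, hx0, hx⟩ := exists_div_eq_of_deg_zero hK _ hd2 h2
  -- z = y * (x / y)^(t+1) has divisor Q - A
  have hz0 : y * (x * y⁻¹) ^ (t + 1) ≠ 0 :=
    mul_ne_zero hy0 (pow_ne_zero _ (mul_ne_zero hx0 (inv_ne_zero hy0)))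
  have hdivz : div k (y * (x * y⁻¹) ^ (t + 1)) =
      Finsupp.single Q (1 : ℤ) - Finsupp.single A (1 : ℤ) := by
    rw [div_mul hK hy0 (pow_ne_zero _ (mul_ne_zero hx0 (inv_ne_zero hy0))), div_pow hK,
      div_mul hK hx0 (inv_ne_zero hy0), div_inv hK, hx, hy]
    ext P
    simp only [Finsupp.add_apply, Finsupp.smul_apply, Finsupp.neg_apply, Finsupp.sub_apply,
      Finsupp.single_apply, nsmul_eq_mul]
    by_cases hPA : A = P <;> by_cases hPQ : Q = P
    · exact absurd (hPQ.trans hPA.symm) hQ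
    · simp only [hPA, hPQ, if_true, if_false]
      push_cast
      ring
    · simp only [hPA, hPQ, if_true, if_false]
      push_cast
      ring
    · simp only [hPA, hPQ, if_false]
      push_cast
      ring
  -- z ∈ L(A), which consists of constants
  have hzL : y * (x * y⁻¹) ^ (t + 1) ∈ L (Finsupp.single A (1 : ℤ) : Divisor k K) := by
    rw [mem_L_iff_div hK hz0, hdivz]
    have : (Finsupp.single A (1 : ℤ) : Divisor k K) +
        (Finsupp.single Q (1 : ℤ) - Finsupp.single A (1 : ℤ)) = Finsupp.single Q (1 : ℤ) := by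
      abel
    rw [this]
    exact Finsupp.single_nonneg.mpr (by norm_num)
  have hellA : ell (Finsupp.single A (1 : ℤ) : Divisor k K) = 1 :=
    ell_nat_of_genus_one hK hg1 _ 1 le_rfl (by rw [deg_single_one hK]; norm_num)
  obtain ⟨c, hc⟩ := mem_range_of_ell_eq_one hK
    (Finsupp.single_nonneg.mpr (by norm_num) : (0 : Divisor k K) ≤ Finsupp.single A (1 : ℤ))
    hellA hzL
  have h0 : div k (y * (x * y⁻¹) ^ (t + 1)) = 0 := by rw [← hc, div_algebraMap hK]
  rw [hdivz] at h0
  have hQ0 := DFunLike.congr_fun h0 Q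
  rw [Finsupp.sub_apply, Finsupp.single_eq_same, Finsupp.single_eq_of_ne hQ,
    Finsupp.zero_apply] at hQ0
  norm_num at hQ0

end Torsion

end Groth.Agent.H86.FF
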