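import Mathlib
import Groth.Agent.H86.FF3

set_option autoImplicit false

namespace Groth.Agent.H86.FF

open FunFld Module Groth.Agent.H55

variable {k K : Type*} [Field k] [Field K] [Algebra k K]

/-- `dim V(-nP)` -/
noncomputable def vdim (V : Submodule k K) (D : Divisor k K) (P : Place k K) (n : ℤ) : ℕ :=
  Module.finrank k ↥(V ⊓ L (D - Finsupp.single P n))

theorem sub_single_le (D : Divisor k K) (P : Place k K) {m n : ℤ} (h : m ≤ n) :
    D - Finsupp.single P n ≤ D - Finsupp.single P m := by
  classical
  intro R
  simp only [Finsupp.sub_apply, Finsupp.single_apply]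
  split_ifs <;> omega

theorem finite_inf_L (hK : IsFunctionField k K) (V : Submodule k K) (E : Divisor k K) :
    Module.Finite k ↥(V ⊓ L E) := by
  have := L_finite hK E
  exact Submodule.finiteDimensional_inf_right V (L E)

theorem vdim_zero {V : Submodule k K} {D : Divisor k K} (hV : V ≤ L D) (P : Place k K) :
    vdim V D P 0 = Module.finrank k V := by
  unfold vdim
  rw [Finsupp.single_zero, sub_zero, inf_eq_left.mpr hV]

theorem vdim_anti (hK : IsFunctionField k K) (V : Submodule k K) (D : Divisor k K)
    (P : Place k K) {m n : ℤ} (h : m ≤ n) : vdim V D P n ≤ vdim V D P m := by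
  unfold vdim
  have := finite_inf_L hK V (D - Finsupp.single P m)
  exact Submodule.finrank_mono (inf_le_inf_left V (L_mono (sub_single_le D P h)))

theorem vdim_le_finrank (hK : IsFunctionField k K) {V : Submodule k K} {D : Divisor k K}
    (hV : V ≤ L D) (P : Place k K) (n : ℤ) : vdim V D P n ≤ Module.finrank k V := by
  have := L_finite hK D
  have : Module.Finite k V := Submodule.finiteDimensional_of_le hV
  exact Submodule.finrank_mono inf_le_left

section AC
variable [IsAlgClosed k]

theorem vdim_eq_zero (hK : IsFunctionField k K) (V : Submodule k K) (D : Divisor k K)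
    (P : Place k K) {n : ℤ} (h : D.deg < n) : vdim V D P n = 0 := by
  unfold vdim
  rw [L_eq_bot_of_deg_neg hK _ (by rw [Divisor.deg_sub, deg_single_one hK]; omega), inf_bot_eq,
    finrank_bot]

theorem vdim_succ (hK : IsFunctionField k K) (V : Submodule k K) (D : Divisor k K)
    (P : Place k K) (n : ℤ) : vdim V D P n ≤ vdim V D P (n + 1) + 1 := by
  unfold vdim
  have hle : D - Finsupp.single P (n + 1) ≤ D - Finsupp.single P n :=
    sub_single_le D P (by omega)
  have hf1 := L_finite hK (D - Finsupp.single P n)
  have hf2 := L_finite hK (D - Finsupp.single P (n + 1))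
  have hf3 := finite_inf_L hK V (D - Finsupp.single P n)
  have hdim := Submodule.finrank_sup_add_finrank_inf_eq (V ⊓ L (D - Finsupp.single P n))
    (L (D - Finsupp.single P (n + 1)))
  have hinf : V ⊓ L (D - Finsupp.single P n) ⊓ L (D - Finsupp.single P (n + 1)) =
      V ⊓ L (D - Finsupp.single P (n + 1)) := by
    rw [inf_assoc, inf_eq_right.mpr (L_mono hle)]
  have hsup : V ⊓ L (D - Finsupp.single P n) ⊔ L (D - Finsupp.single P (n + 1)) ≤
      L (D - Finsupp.single P n) := sup_le inf_le_right (L_mono hle)
  have hs := Submodule.finrank_mono hsup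
  have he := ell_sub_le hK hle
  rw [Divisor.deg_sub, Divisor.deg_sub, deg_single_one hK, deg_single_one hK] at he
  rw [hinf] at hdim
  unfold ell at he
  omega

/-- two-point bound: `dim V(-mP) + dim V(-nQ) ≤ dim V` when `m + n > deg D`, `P ≠ Q`. -/
theorem vdim_add_le (hK : IsFunctionField k K) {V : Submodule k K} {D : Divisor k K}
    (hV : V ≤ L D) {P Q : Place k K} (hPQ : P ≠ Q) {m n : ℤ} (h : D.deg < m + n) :
    vdim V D P m + vdim V D Q n ≤ Module.finrank k V := by
  classical
  unfold vdim
  have hfV : Module.Finite k V := by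
    have := L_finite hK D
    exact Submodule.finiteDimensional_of_le hV
  have hf1 := finite_inf_L hK V (D - Finsupp.single P m)
  have hf2 := finite_inf_L hK V (D - Finsupp.single Q n)
  have hdim := Submodule.finrank_sup_add_finrank_inf_eq (V ⊓ L (D - Finsupp.single P m))
    (V ⊓ L (D - Finsupp.single Q n))
  have hinf : V ⊓ L (D - Finsupp.single P m) ⊓ (V ⊓ L (D - Finsupp.single Q n)) = ⊥ := by
    rw [eq_bot_iff]
    have h1 : L (D - Finsupp.single P m) ⊓ L (D - Finsupp.single Q n) ≤
        L (D - Finsupp.single P m - Finsupp.single Q n) := by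
      apply L_inf_le
      intro R
      simp only [Finsupp.sub_apply, Finsupp.single_apply]
      by_cases h1 : P = R <;> by_cases h2 : Q = R
      · exact absurd (h1.trans h2.symm) hPQ
      · simp [h1, h2]
      · simp [h1, h2]
      · simp [h1, h2]
    have h2 : L (D - Finsupp.single P m - Finsupp.single Q n) = ⊥ :=
      L_eq_bot_of_deg_neg hK _ (by
        rw [Divisor.deg_sub, Divisor.deg_sub, deg_single_one hK, deg_single_one hK]; omega)
    rw [← h2]
    exact le_trans (inf_le_inf inf_le_right inf_le_right) h1
  have hsup : V ⊓ L (D - Finsupp.single P m) ⊔ V ⊓ L (D - Finsupp.single Q n) ≤ V :=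
    sup_le inf_le_left inf_le_left
  have hs := Submodule.finrank_mono hsup
  rw [hinf, finrank_bot] at hdim
  omega

end AC

end Groth.Agent.H86.FF
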