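import Mathlib
import Groth.Agent.H86.LLS1

set_option autoImplicit false

namespace Groth.Agent.H86.FF

open FunFld Module Groth.Agent.H55

/-- abstract vanishing-dimension function of a `g^r_d` at a point -/
structure IsVan (a : ℕ → ℕ) (r d : ℕ) : Prop where
  zero : a 0 = r + 1
  anti : ∀ n, a (n + 1) ≤ a n
  succ : ∀ n, a n ≤ a (n + 1) + 1
  top : a (d + 1) = 0

/-- triangular number -/
def tri (r : ℕ) : ℕ := r * (r + 1) / 2

theorem two_mul_tri (r : ℕ) : 2 * tri r = r * (r + 1) := by
  unfold tri
  have := Nat.even_mul_succ_self r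
  exact Nat.two_mul_div_two_of_even this

theorem tri_succ (r : ℕ) : tri (r + 1) = tri r + (r + 1) := by
  have h1 := two_mul_tri r
  have h2 := two_mul_tri (r + 1)
  have : (r + 1) * (r + 1 + 1) = r * (r + 1) + 2 * (r + 1) := by ring
  omega

theorem sum_range_trunc_sub (r d : ℕ) (h : r ≤ d) :
    ∑ n ∈ Finset.range d, (r - n) = tri r := by
  obtain ⟨e, rfl⟩ := Nat.exists_eq_add_of_le h
  induction e with
  | zero =>
    rw [Nat.add_zero]
    clear h
    induction r with
    | zero => simp [tri]
    | succ r ih =>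
      rw [Finset.sum_range_succ']
      have : ∀ n, r + 1 - (n + 1) = r - n := fun n => by omega
      simp only [this]
      rw [ih, tri_succ]
      omega
  | succ e ih =>
    rw [← Nat.add_assoc, Finset.sum_range_succ, ih (by omega)]
    omega

namespace IsVan

variable {a : ℕ → ℕ} {r d : ℕ}

theorem lower (h : IsVan a r d) (n : ℕ) : r + 1 ≤ a n + n := by
  induction n with
  | zero => rw [h.zero]
  | succ n ih => have := h.succ n; omega

theorem le_top (h : IsVan a r d) (n : ℕ) : a n ≤ r + 1 := by
  induction n with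
  | zero => rw [h.zero]
  | succ n ih => have := h.anti n; omega

theorem anti' (h : IsVan a r d) {m n : ℕ} (hmn : m ≤ n) : a n ≤ a m := by
  induction hmn with
  | refl => exact le_rfl
  | step _ ih => exact (h.anti _).trans ih

theorem upper_aux (h : IsVan a r d) (j : ℕ) (hj : j ≤ d + 1) : a (d + 1 - j) ≤ j := by
  induction j with
  | zero => rw [Nat.sub_zero, h.top]
  | succ j ih =>
    have := ih (by omega)
    have h2 := h.succ (d + 1 - (j + 1))
    have : d + 1 - (j + 1) + 1 = d + 1 - j := by omega
    rw [this] at h2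
    omega

theorem upper (h : IsVan a r d) (n : ℕ) (hn : n ≤ d + 1) : a n + n ≤ d + 1 := by
  have := h.upper_aux (d + 1 - n) (by omega)
  have h2 : d + 1 - (d + 1 - n) = n := by omega
  rw [h2] at this
  omega

theorem eq_zero_of_lt (h : IsVan a r d) {n : ℕ} (hn : d < n) : a n = 0 := by
  have := h.anti' (show d + 1 ≤ n by omega)
  rw [h.top] at this
  omega

theorem r_le_d (h : IsVan a r d) : r ≤ d := by
  have := h.upper 0 (by omega)
  rw [h.zero] at this
  omega

theorem tri_le_sum (h : IsVan a r d) : tri r ≤ ∑ n ∈ Finset.range d, a (n + 1) := by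
  rw [← sum_range_trunc_sub r d h.r_le_d]
  apply Finset.sum_le_sum
  intro n _
  have := h.lower (n + 1)
  omega

theorem sum_add_tri_le (h : IsVan a r d) :
    (∑ n ∈ Finset.range d, a (n + 1)) + tri r ≤ (r + 1) * d := by
  rw [← sum_range_trunc_sub r d h.r_le_d, ← Finset.sum_range_reflect (fun n => r - n) d,
    ← Finset.sum_add_distrib]
  calc ∑ n ∈ Finset.range d, (a (n + 1) + (r - (d - 1 - n)))
      ≤ ∑ n ∈ Finset.range d, (r + 1) := by
        apply Finset.sum_le_sum
        intro n hn
        rw [Finset.mem_range] at hn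
        have h1 := h.upper (n + 1) (by omega)
        have h2 := h.le_top (n + 1)
        omega
    _ = (r + 1) * d := by rw [Finset.sum_const, Finset.card_range, smul_eq_mul, mul_comm]

/-- a cusp (`a 2 ≥ r`) forces weight at least `r` -/
theorem cusp (h : IsVan a r d) (hc : r ≤ a 2) : tri r + r ≤ ∑ n ∈ Finset.range d, a (n + 1) := by
  rcases Nat.eq_zero_or_pos r with h0 | hr
  · subst h0
    simp [tri]
  -- `d ≥ r + 1`
  have hd : r + 1 ≤ d := by
    by_contra hlt
    have hlt : d ≤ r := by omega
    have hrd := h.r_le_d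
    have hdr : d = r := by omega
    have := h.upper 2 (by omega)
    omega
  obtain ⟨d', rfl⟩ : ∃ d', d = d' + 1 := ⟨d - 1, by omega⟩
  rw [Finset.sum_range_succ']
  have h1 : r ≤ a (0 + 1) := hc.trans (h.anti 1)
  have h2 : tri r ≤ ∑ n ∈ Finset.range d', a (n + 1 + 1) := by
    rw [← sum_range_trunc_sub r d' (by omega)]
    apply Finset.sum_le_sum
    intro n _
    -- a (n+2) ≥ a 2 - n
    have : ∀ n, r ≤ a (n + 2) + n := by
      intro n
      induction n with
      | zero => simpa using hc
      | succ n ih =>
        have := h.succ (n + 2)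
        have e : n + 1 + 2 = n + 2 + 1 := by omega
        rw [e]
        omega
    have := this n
    show r - n ≤ a (n + 2)
    omega
  omega

end IsVan

/-- pairing of sums -/
theorem sum_pair_le {a b : ℕ → ℕ} {d C : ℕ}
    (h : ∀ m, 1 ≤ m → m ≤ d → a m + b (d + 1 - m) ≤ C) :
    (∑ n ∈ Finset.range d, a (n + 1)) + (∑ n ∈ Finset.range d, b (n + 1)) ≤ C * d := by
  rw [← Finset.sum_range_reflect (fun n => b (n + 1)) d, ← Finset.sum_add_distrib]
  calc ∑ n ∈ Finset.range d, (a (n + 1) + b (d - 1 - n + 1))
      ≤ ∑ n ∈ Finset.range d, C := by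
        apply Finset.sum_le_sum
        intro n hn
        rw [Finset.mem_range] at hn
        have := h (n + 1) (by omega) (by omega)
        have e : d + 1 - (n + 1) = d - 1 - n + 1 := by omega
        rw [e] at this
        exact this
    _ = C * d := by rw [Finset.sum_const, Finset.card_range, smul_eq_mul, mul_comm]

theorem sum_pair_eq {a b : ℕ → ℕ} {d C : ℕ}
    (h : ∀ m, 1 ≤ m → m ≤ d → a m + b (d + 1 - m) = C) :
    (∑ n ∈ Finset.range d, a (n + 1)) + (∑ n ∈ Finset.range d, b (n + 1)) = C * d := by
  rw [← Finset.sum_range_reflect (fun n => b (n + 1)) d, ← Finset.sum_add_distrib]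
  calc ∑ n ∈ Finset.range d, (a (n + 1) + b (d - 1 - n + 1))
      = ∑ n ∈ Finset.range d, C := by
        apply Finset.sum_congr rfl
        intro n hn
        rw [Finset.mem_range] at hn
        have := h (n + 1) (by omega) (by omega)
        have e : d + 1 - (n + 1) = d - 1 - n + 1 := by omega
        rw [e] at this
        exact this
    _ = C * d := by rw [Finset.sum_const, Finset.card_range, smul_eq_mul, mul_comm]

end Groth.Agent.H86.FF
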