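import Mathlib
import Groth.Agent.H86.LLS2

set_option autoImplicit false

namespace Groth.Agent.H86.FF

open FunFld Module Groth.Agent.H55

variable {k K : Type*} [Field k] [Field K] [Algebra k K]

/-- sum of the vanishing orders of `V` at `P`: `∑_{n=1}^{d} dim V(-nP)` -/
noncomputable def vsum (V : Submodule k K) (D : Divisor k K) (P : Place k K) (d : ℕ) : ℕ :=
  ∑ n ∈ Finset.range d, vdim V D P ((n : ℤ) + 1)

theorem vsum_eq (V : Submodule k K) (D : Divisor k K) (P : Place k K) (d : ℕ) :
    vsum V D P d = ∑ n ∈ Finset.range d, (fun m : ℕ => vdim V D P (m : ℤ)) (n + 1) := by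
  unfold vsum
  apply Finset.sum_congr rfl
  intro n _
  simp only [Nat.cast_add, Nat.cast_one]

variable [IsAlgClosed k]

theorem isVan_vdim (hK : IsFunctionField k K) {V : Submodule k K} {D : Divisor k K}
    (hV : V ≤ L D) {r d : ℕ} (hVr : Module.finrank k V = r + 1) (hD : D.deg = d)
    (P : Place k K) : IsVan (fun n : ℕ => vdim V D P (n : ℤ)) r d where
  zero := by
    simp only [Nat.cast_zero]
    rw [vdim_zero hV, hVr]
  anti n := vdim_anti hK V D P (by push_cast; omega)
  succ n := by
    have := vdim_succ hK V D P (n : ℤ)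
    simpa only [Nat.cast_add, Nat.cast_one] using this
  top := vdim_eq_zero hK V D P (by rw [hD]; push_cast; omega)

section
variable (hK : IsFunctionField k K) {V : Submodule k K} {D : Divisor k K}
    (hV : V ≤ L D) {r d : ℕ} (hVr : Module.finrank k V = r + 1) (hD : D.deg = d)
include hK hV hVr hD

theorem r_le_d : r ≤ d := by
  classical
  by_cases h : Nonempty (Place k K)
  · obtain ⟨P⟩ := h
    exact (isVan_vdim hK hV hVr hD P).r_le_d
  · -- no places: `D = 0`
    have : D = 0 := by
      ext P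
      exact absurd ⟨P⟩ h
    subst this
    have h1 := ell_zero hK (k := k) (K := K)
    have h2 : Module.finrank k V ≤ ell (0 : Divisor k K) := by
      have := L_finite hK (0 : Divisor k K)
      exact Submodule.finrank_mono hV
    rw [Divisor.deg_zero] at hD
    omega

theorem tri_le_vsum (P : Place k K) : tri r ≤ vsum V D P d := by
  rw [vsum_eq]
  exact (isVan_vdim hK hV hVr hD P).tri_le_sum

theorem vsum_add_tri_le (P : Place k K) : vsum V D P d + tri r ≤ (r + 1) * d := by
  rw [vsum_eq]
  exact (isVan_vdim hK hV hVr hD P).sum_add_tri_le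

theorem vsum_cusp (Q : Place k K) (hc : r ≤ vdim V D Q 2) : tri r + r ≤ vsum V D Q d := by
  rw [vsum_eq]
  exact (isVan_vdim hK hV hVr hD Q).cusp (by simpa using hc)

/-- two-point bound, in the form of the statements -/
theorem vdim_add_le' {P Q : Place k K} (hPQ : P ≠ Q) (n : ℕ) :
    vdim V D P (n : ℤ) + vdim V D Q ((d : ℤ) + 1 - n) ≤ r + 1 := by
  rw [← hVr]
  exact vdim_add_le hK hV hPQ (by rw [hD]; omega)

theorem vsum_add_vsum_le {P Q : Place k K} (hPQ : P ≠ Q) :
    vsum V D P d + vsum V D Q d ≤ (r + 1) * d := by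
  rw [vsum_eq, vsum_eq]
  refine sum_pair_le (a := fun m : ℕ => vdim V D P (m : ℤ)) (b := fun m : ℕ => vdim V D Q (m : ℤ))
    (C := r + 1) ?_
  intro m _ hm
  have := vdim_add_le' hK hV hVr hD hPQ m
  have e : ((d : ℤ) + 1 - m) = ((d + 1 - m : ℕ) : ℤ) := by omega
  rw [e] at this
  exact this

end

omit [IsAlgClosed k] in
/-- compatible aspects at a node: the sums of vanishing orders add up to `(r+1)d` -/
theorem vsum_compat {K' : Type*} [Field K'] [Algebra k K']
    {V : Submodule k K} {D : Divisor k K} {V' : Submodule k K'} {D' : Divisor k K'}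
    {r d : ℕ} (P : Place k K) (Q : Place k K')
    (hcomp : ∀ m : ℕ, m ≤ d + 1 → vdim V D P (m : ℤ) + vdim V' D' Q ((d : ℤ) + 1 - m) = r + 1) :
    vsum V D P d + vsum V' D' Q d = (r + 1) * d := by
  rw [vsum_eq, vsum_eq]
  refine sum_pair_eq (a := fun m : ℕ => vdim V D P (m : ℤ))
    (b := fun m : ℕ => vdim V' D' Q (m : ℤ)) (C := r + 1) ?_
  intro m _ hm
  have := hcomp m (by omega)
  have e : ((d : ℤ) + 1 - m) = ((d + 1 - m : ℕ) : ℤ) := by omega
  rw [e] at this
  exact this

end Groth.Agent.H86.FF
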