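import Mathlib
import Groth.Agent.H86.LLS3

set_option autoImplicit false

namespace Groth.Agent.H86.FF

open FunFld Module Groth.Agent.H55

/-- along a chain of components with compatible aspects, the weight at the upper node of every
component after the first is at least `c` once the weight of the first component at its lower
node is at most `(r+1)(d-r) - c`. -/
theorem chain_lower (k : Type*) [Field k] [IsAlgClosed k]
    (n : ℕ) (U : Fin (n + 1) → Type*) [∀ l, Field (U l)] [∀ l, Algebra k (U l)]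
    (hU : ∀ l, IsFunctionField k (U l))
    (d r : ℕ) (D : ∀ l, Divisor k (U l)) (hD : ∀ l, (D l).deg = d)
    (V : ∀ l, Submodule k (U l)) (hV : ∀ l, V l ≤ L (D l))
    (hVr : ∀ l, Module.finrank k ↥(V l) = r + 1)
    (A B : ∀ l, Place k (U l))
    (hAB : ∀ l : Fin (n + 1), 0 < (l : ℕ) → (l : ℕ) < n → A l ≠ B l)
    (hcomp : ∀ (l : Fin n) (m : ℕ), m ≤ d + 1 →
      vdim (V l.castSucc) (D l.castSucc) (B l.castSucc) (m : ℤ) +
        vdim (V l.succ) (D l.succ) (A l.succ) ((d : ℤ) + 1 - m) = r + 1)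
    (c : ℕ) (hc : vsum (V 0) (D 0) (B 0) d + c + tri r ≤ (r + 1) * d)
    (l : Fin (n + 1)) (hl : 0 < (l : ℕ)) :
    c + tri r ≤ vsum (V l) (D l) (A l) d := by
  have key : ∀ j : ℕ, ∀ l : Fin (n + 1), (l : ℕ) = j + 1 →
      c + tri r ≤ vsum (V l) (D l) (A l) d := by
    intro j
    induction j with
    | zero =>
      intro l hl
      have hn : 0 < n := by have := l.2; omega
      obtain rfl : l = (⟨0, hn⟩ : Fin n).succ := Fin.ext (by simp [hl])
      have h1 := vsum_compat (B (⟨0, hn⟩ : Fin n).castSucc) (A (⟨0, hn⟩ : Fin n).succ)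
        (hcomp ⟨0, hn⟩)
      have h2 : vsum (V 0) (D 0) (B 0) d +
          vsum (V (⟨0, hn⟩ : Fin n).succ) (D (⟨0, hn⟩ : Fin n).succ)
            (A (⟨0, hn⟩ : Fin n).succ) d = (r + 1) * d := h1
      omega
    | succ j ih =>
      intro l hl
      have hjn : j + 1 < n := by have := l.2; omega
      obtain rfl : l = (⟨j + 1, hjn⟩ : Fin n).succ := Fin.ext (by simp [hl])
      have ih' := ih (⟨j + 1, hjn⟩ : Fin n).castSucc rfl
      have hcmp := vsum_compat (B (⟨j + 1, hjn⟩ : Fin n).castSucc)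
        (A (⟨j + 1, hjn⟩ : Fin n).succ) (hcomp ⟨j + 1, hjn⟩)
      have hA := vsum_add_vsum_le (hU _) (hV _) (hVr _) (hD _)
        (hAB (⟨j + 1, hjn⟩ : Fin n).castSucc (by simp) (by simpa using hjn))
      omega
  obtain ⟨j, hj⟩ : ∃ j, (l : ℕ) = j + 1 := ⟨(l : ℕ) - 1, by omega⟩
  exact key j l hj

end Groth.Agent.H86.FF
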