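import Mathlib
import Groth.Agent.H86.LLS4

set_option autoImplicit false

namespace Groth.Agent.H86.FF

open FunFld Module Groth.Agent.H55

variable {k K : Type*} [Field k] [Field K] [Algebra k K] [IsAlgClosed k]

/-- on a curve of positive genus a divisor of degree one has `ℓ ≤ 1` -/
theorem ell_le_one_of_deg_one (hK : IsFunctionField k K) (hg : 0 < genus k K)
    (E : Divisor k K) (hE : E.deg = 1) : ell E ≤ 1 := by
  classical
  by_contra hlt
  push_neg at hlt
  have hne : L E ≠ ⊥ := (ell_pos_iff hK E).mp (by omega)
  obtain ⟨x, hx0, hx⟩ := (L_ne_bot_iff hK E).mp hne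
  obtain ⟨E', hE'⟩ : ∃ E', E' = E + div k x := ⟨_, rfl⟩
  have hE'0 : 0 ≤ E' := hE' ▸ hx
  have hE'deg : E'.deg = 1 := by rw [hE', deg_add_div hK, hE]
  have hE'ell : ell E' = ell E := by rw [hE']; exact ell_add_div hK E hx0
  have hfin := L_finite hK E'
  have hfin0 := L_finite hK (0 : Divisor k K)
  -- a nonconstant element
  have hex : ∃ y ∈ L E', y ∉ L (0 : Divisor k K) := by
    by_contra hall
    push_neg at hall
    have hle : L E' ≤ L 0 := hall
    have := Submodule.finrank_mono hle
    have h0 := ell_zero hK (k := k) (K := K)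
    unfold ell at h0 hE'ell hlt
    omega
  obtain ⟨y, hyL, hy0⟩ := hex
  have hyne : y ≠ 0 := fun h => hy0 (h ▸ Submodule.zero_mem _)
  rw [mem_L_iff_ord hyne] at hy0 hyL
  push_neg at hy0
  obtain ⟨P, hP⟩ := hy0
  rw [Finsupp.zero_apply, neg_zero] at hP
  have hP1 := hyL P
  have hEP : E' P ≤ 1 := by
    have hle : (Finsupp.single P (E' P) : Divisor k K) ≤ E' := by
      intro R
      rw [Finsupp.single_apply]
      split_ifs with h
      · rw [h]
      · exact hE'0 R
    have := Divisor.deg_mono hle
    rw [deg_single_one hK, hE'deg] at this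
    exact this
  have hordP : P.ord y = -1 := by omega
  have hEP1 : E' P = 1 := by omega
  -- `ℓ(nE') ≥ n + 1`
  have hgrow : ∀ n : ℕ, n + 1 ≤ ell (n • E') := by
    intro n
    induction n with
    | zero => rw [zero_smul, ell_zero hK]
    | succ n ih =>
      have hle : n • E' ≤ (n + 1) • E' := by
        rw [succ_nsmul]
        exact le_add_of_nonneg_right hE'0
      have hfin' := L_finite hK ((n + 1) • E')
      have hlt : L (n • E') < L ((n + 1) • E') := by
        refine lt_of_le_of_ne (L_mono hle) ?_
        intro heq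
        have hmem : y ^ (n + 1) ∈ L ((n + 1) • E') := by
          rw [mem_L_iff_ord (pow_ne_zero _ hyne)]
          intro R
          rw [Place.ord_pow, Finsupp.smul_apply, nsmul_eq_mul]
          have := hyL R
          push_cast
          nlinarith
        rw [← heq, mem_L_iff_ord (pow_ne_zero _ hyne)] at hmem
        have := hmem P
        rw [Place.ord_pow, Finsupp.smul_apply, nsmul_eq_mul, hordP, hEP1] at this
        push_cast at this
        omega
      have := Submodule.finrank_lt_finrank_of_lt hlt
      unfold ell at ih ⊢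
      omega
  have h1 := hgrow (2 * genus k K)
  have h2 := ell_of_deg_ge hK ((2 * genus k K) • E') (by
    rw [Divisor.deg_nsmul, hE'deg]; push_cast; omega)
  rw [Divisor.deg_nsmul, hE'deg] at h2
  push_cast at h2
  omega

end Groth.Agent.H86.FF
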