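import Mathlib
import Groth.Agent.H86.LLS5

set_option autoImplicit false

namespace Groth.Agent.H86.FF

open FunFld Module Groth.Agent.H55

variable {k K : Type*} [Field k] [Field K] [Algebra k K]

/-- refined two-point bound -/
theorem vdim_add_le_exact (hK : IsFunctionField k K) {V : Submodule k K} {D : Divisor k K}
    (hV : V ≤ L D) {P Q : Place k K} (hPQ : P ≠ Q) (m n : ℤ) :
    vdim V D P m + vdim V D Q n ≤ Module.finrank k V +
      Module.finrank k ↥(V ⊓ L (D - Finsupp.single P m - Finsupp.single Q n)) := by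
  classical
  unfold vdim
  have hfV : Module.Finite k V := by
    have := L_finite hK D
    exact Submodule.finiteDimensional_of_le hV
  have hf1 := finite_inf_L hK V (D - Finsupp.single P m)
  have hf2 := finite_inf_L hK V (D - Finsupp.single Q n)
  have hf3 := finite_inf_L hK V (D - Finsupp.single P m - Finsupp.single Q n)
  have hdim := Submodule.finrank_sup_add_finrank_inf_eq (V ⊓ L (D - Finsupp.single P m))
    (V ⊓ L (D - Finsupp.single Q n))
  have hinf : V ⊓ L (D - Finsupp.single P m) ⊓ (V ⊓ L (D - Finsupp.single Q n)) ≤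
      V ⊓ L (D - Finsupp.single P m - Finsupp.single Q n) := by
    have h1 : L (D - Finsupp.single P m) ⊓ L (D - Finsupp.single Q n) ≤
        L (D - Finsupp.single P m - Finsupp.single Q n) := by
      apply L_inf_le
      intro R
      simp only [Finsupp.sub_apply, Finsupp.single_apply]
      by_cases h1 : P = R <;> by_cases h2 : Q = R
      · exact absurd (h1.trans h2.symm) hPQ
      · simp [h1, h2]
      · simp [h1, h2]
      · simp [h1, h2]
    exact le_inf (inf_le_left.trans inf_le_left)
      (le_trans (inf_le_inf inf_le_right inf_le_right) h1)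
  have hsup : V ⊓ L (D - Finsupp.single P m) ⊔ V ⊓ L (D - Finsupp.single Q n) ≤ V :=
    sup_le inf_le_left inf_le_left
  have hs := Submodule.finrank_mono hsup
  have hi := Submodule.finrank_mono hinf
  omega

theorem finrank_inf_L_le_one (hK : IsFunctionField k K) (V : Submodule k K) {E : Divisor k K}
    (hE : E.deg = 0) : Module.finrank k ↥(V ⊓ L E) ≤ 1 := by
  have := L_finite hK E
  have h1 : Module.finrank k ↥(V ⊓ L E) ≤ Module.finrank k (L E) :=
    Submodule.finrank_mono inf_le_right
  have h2 := ell_le_one_of_deg_zero hK E hE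
  unfold ell at h2
  omega

theorem exists_div_eq_of_inf_ne_bot (hK : IsFunctionField k K) (V : Submodule k K)
    {E : Divisor k K} (hE : E.deg = 0) (hne : V ⊓ L E ≠ ⊥) :
    ∃ f ∈ V, f ≠ 0 ∧ div k f = -E := by
  obtain ⟨f, hf, hf0⟩ := Submodule.exists_mem_ne_zero_of_ne_bot hne
  refine ⟨f, hf.1, hf0, ?_⟩
  have h1 : 0 ≤ E + div k f := (mem_L_iff_div hK hf0).mp hf.2
  have h := Divisor.eq_of_le_of_deg_eq hK h1 (by rw [Divisor.deg_zero, deg_add_div hK, hE])
  have : div k f = (E + div k f) - E := by abel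
  rw [this, ← h, zero_sub]

/-- counting: large weights force two exact indices -/
theorem exists_two_exact {a b e : ℕ → ℕ} {r d : ℕ} (ha0 : a 0 = r + 1) (hb0 : b 0 = r + 1)
    (he : ∀ n, e n ≤ 1) (h : ∀ n, n ≤ d → a n + b (d - n) ≤ r + 1 + e n)
    (hw : (r + 1) * d + 1 ≤ (∑ n ∈ Finset.range d, a (n + 1)) +
      (∑ n ∈ Finset.range d, b (n + 1)) + r) :
    ∃ n1 n2, n1 < n2 ∧ n2 ≤ d ∧ e n1 = 1 ∧ e n2 = 1 := by
  have h1 : ∑ n ∈ Finset.range (d + 1), (a n + b (d - n)) ≤
      ∑ n ∈ Finset.range (d + 1), (r + 1 + e n) := by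
    apply Finset.sum_le_sum
    intro n hn
    rw [Finset.mem_range] at hn
    exact h n (by omega)
  rw [Finset.sum_add_distrib, Finset.sum_add_distrib, Finset.sum_const, Finset.card_range,
    smul_eq_mul] at h1
  have h2 : ∑ n ∈ Finset.range (d + 1), b (d - n) = ∑ n ∈ Finset.range (d + 1), b n := by
    have := Finset.sum_range_reflect b (d + 1)
    simpa using this
  rw [h2, Finset.sum_range_succ' a, Finset.sum_range_succ' b, ha0, hb0] at h1
  have h3 : 2 ≤ ∑ n ∈ Finset.range (d + 1), e n := by
    have : (d + 1) * (r + 1) = (r + 1) * d + (r + 1) := by ring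
    omega
  -- the set of exact indices
  have h4 : ∑ n ∈ Finset.range (d + 1), e n =
      ((Finset.range (d + 1)).filter (fun n => e n = 1)).card := by
    rw [Finset.card_filter]
    apply Finset.sum_congr rfl
    intro n _
    have := he n
    split_ifs with h' <;> omega
  rw [h4] at h3
  obtain ⟨x, hx, y, hy, hxy⟩ := Finset.one_lt_card.mp (by omega : 1 <
    ((Finset.range (d + 1)).filter (fun n => e n = 1)).card)
  rw [Finset.mem_filter, Finset.mem_range] at hx hy
  rcases Nat.lt_or_gt_of_ne hxy with hlt | hlt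
  · exact ⟨x, y, hlt, by omega, hx.2, hy.2⟩
  · exact ⟨y, x, hlt, by omega, hy.2, hx.2⟩

end Groth.Agent.H86.FF
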