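import Mathlib
import Groth.Agent.H86.LLS6

set_option autoImplicit false

namespace Groth.Agent.H86.FF

open FunFld Module Groth.Agent.H55

variable {k K : Type*} [Field k] [Field K] [Algebra k K] [IsAlgClosed k]

theorem ell_genus_zero (hK : IsFunctionField k K) (hg : genus k K = 0) (E : Divisor k K)
    (hE : -1 ≤ E.deg) : (ell E : ℤ) = E.deg + 1 := by
  have := ell_of_deg_ge hK E (by rw [hg]; push_cast; omega)
  rw [hg] at this
  push_cast at this
  linarith

/-- the value of a function regular at `P` -/
theorem exists_tau (hK : IsFunctionField k K) (P : Place k K) {x : K} (hx : P.1 x ≤ 1) :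
    ∃ τ : k, P.1 (x - algebraMap k K τ) < 1 := by
  have hfd := Place.finiteDimensional_residue hK P
  rw [← toModule_eq P] at hfd
  have hint : Algebra.IsIntegral k (IsLocalRing.ResidueField P.O) :=
    Algebra.IsIntegral.of_finite k _
  have hbij : Function.Bijective (algebraMap k (IsLocalRing.ResidueField P.O)) :=
    IsAlgClosed.algebraMap_bijective_of_isIntegral
  have hxO : x ∈ P.O := (Valuation.mem_valuationSubring_iff _ _).mpr hx
  obtain ⟨τ, hτ⟩ := hbij.2 (IsLocalRing.residue P.O ⟨x, hxO⟩)
  refine ⟨τ, ?_⟩
  have h0 : IsLocalRing.residue P.O (⟨x, hxO⟩ - algebraMap k P.O τ) = 0 := by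
    rw [map_sub, ← hτ]
    exact sub_eq_zero.mpr rfl
  rw [Place.residue_eq_zero_iff] at h0
  exact h0

/-- a coordinate at `P0`: a nonconstant element of `L(P0)` -/
structure IsCoord (P0 : Place k K) (t : K) : Prop where
  mem : t ∈ L (Finsupp.single P0 (1 : ℤ) : Divisor k K)
  nonconst : t ∉ Set.range (algebraMap k K)

theorem exists_coord (hK : IsFunctionField k K) (hg : genus k K = 0) (P0 : Place k K) :
    ∃ t, IsCoord P0 t := by
  classical
  have h2 : ell (Finsupp.single P0 (1 : ℤ) : Divisor k K) = 2 := by
    have := ell_genus_zero hK hg (Finsupp.single P0 (1 : ℤ) : Divisor k K)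
      (by rw [deg_single_one hK]; omega)
    rw [deg_single_one hK] at this
    omega
  have hle : L (0 : Divisor k K) ≤ L (Finsupp.single P0 (1 : ℤ) : Divisor k K) := by
    apply L_mono
    intro R
    rw [Finsupp.zero_apply, Finsupp.single_apply]
    split_ifs <;> omega
  have hfin := L_finite hK (Finsupp.single P0 (1 : ℤ) : Divisor k K)
  have hlt : L (0 : Divisor k K) < L (Finsupp.single P0 (1 : ℤ) : Divisor k K) := by
    refine lt_of_le_of_ne hle ?_
    intro heq
    have h1 := ell_zero hK (k := k) (K := K)
    unfold ell at h1 h2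
    rw [heq] at h1
    omega
  obtain ⟨t, ht1, ht0⟩ := SetLike.exists_of_lt hlt
  refine ⟨t, ht1, ?_⟩
  rw [L_zero hK] at ht0
  intro hmem
  exact ht0 (Submodule.mem_one.mpr hmem)

namespace IsCoord

variable {P0 : Place k K} {t : K}

theorem ne_zero (ht : IsCoord P0 t) : t ≠ 0 := by
  intro h
  exact ht.nonconst ⟨0, by rw [h, map_zero]⟩

theorem transcendental (hK : IsFunctionField k K) (ht : IsCoord P0 t) : Transcendental k t :=
  transcendental_of_notMem_range hK ht.nonconst

theorem val_le_one (ht : IsCoord P0 t) {R : Place k K} (hR : R ≠ P0) : R.1 t ≤ 1 := by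
  classical
  have := (mem_L.mp ht.mem) R
  rwa [Finsupp.single_apply, if_neg (Ne.symm hR), WithZero.exp_zero] at this

theorem val_P0 (hK : IsFunctionField k K) (ht : IsCoord P0 t) : P0.1 t = WithZero.exp (1 : ℤ) := by
  classical
  have h1 := (mem_L.mp ht.mem) P0
  rw [Finsupp.single_apply, if_pos rfl] at h1
  have h2 : 1 < P0.1 t := by
    by_contra hle
    push_neg at hle
    apply ht.nonconst
    have : t ∈ L (0 : Divisor k K) := by
      rw [mem_L]
      intro R
      rw [Finsupp.zero_apply, WithZero.exp_zero]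
      by_cases hR : R = P0
      · rw [hR]; exact hle
      · exact ht.val_le_one hR
    rw [L_zero hK] at this
    exact Submodule.mem_one.mp this
  exact le_antisymm h1 (exp_one_le_of_one_lt h2)

theorem sub_const (ht : IsCoord P0 t) (τ : k) : IsCoord P0 (t - algebraMap k K τ) := by
  refine ⟨?_, ?_⟩
  · apply Submodule.sub_mem _ ht.mem
    rw [mem_L]
    intro R
    refine (R.2.1 τ).trans ?_
    classical
    rw [Finsupp.single_apply]
    split_ifs
    · exact le_of_lt (by
        rw [← WithZero.exp_zero]
        exact WithZero.exp_lt_exp.mpr (by omega))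
    · rw [WithZero.exp_zero]
  · rintro ⟨c, hc⟩
    apply ht.nonconst
    refine ⟨c + τ, ?_⟩
    rw [map_add, hc]
    ring

/-- the divisor of `t - τ` when `τ` is the value of `t` at `P` -/
theorem div_sub (hK : IsFunctionField k K) (ht : IsCoord P0 t) {P : Place k K} (hP : P ≠ P0)
    {τ : k} (hτ : P.1 (t - algebraMap k K τ) < 1) :
    div k (t - algebraMap k K τ) = Finsupp.single P (1 : ℤ) - Finsupp.single P0 (1 : ℤ) := by
  classical
  have hs := ht.sub_const τ
  have hs0 := hs.ne_zero
  have hF : 0 ≤ (Finsupp.single P0 (1 : ℤ) : Divisor k K) + div k (t - algebraMap k K τ) :=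
    (mem_L_iff_div hK hs0).mp hs.mem
  have hle : (Finsupp.single P (1 : ℤ) : Divisor k K) ≤
      Finsupp.single P0 (1 : ℤ) + div k (t - algebraMap k K τ) := by
    intro R
    by_cases hR : R = P
    · subst hR
      rw [Finsupp.single_apply, if_pos rfl, Finsupp.add_apply, Finsupp.single_apply,
        if_neg (Ne.symm hP), Place.div_apply hK, zero_add]
      have := (Place.ord_pos_iff R hs0).mpr hτ
      omega
    · rw [Finsupp.single_apply, if_neg (Ne.symm hR)]
      exact hF R
  have heq := Divisor.eq_of_le_of_deg_eq hK hle (by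
    rw [deg_single_one hK, deg_add_div hK, deg_single_one hK])
  rw [heq]
  abel

end IsCoord

end Groth.Agent.H86.FF
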