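import Mathlib
import Groth.Agent.H86.TR1
import Groth.Prelude.Def_W4c6gradedringsgwSect

set_option autoImplicit false
set_option linter.unusedSectionVars false

namespace Groth.Agent.H86.FF

open FunFld Module Groth.Agent.H55 Polynomial

variable {k K : Type*} [Field k] [Field K] [Algebra k K] [IsAlgClosed k]

theorem algebraMap_res_bijective (hK : IsFunctionField k K) (P : Place k K) :
    Function.Bijective (algebraMap k (IsLocalRing.ResidueField P.O)) := by
  have hfd := Place.finiteDimensional_residue hK P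
  rw [← toModule_eq P] at hfd
  have hint : Algebra.IsIntegral k (IsLocalRing.ResidueField P.O) :=
    Algebra.IsIntegral.of_finite k _
  exact IsAlgClosed.algebraMap_bijective_of_isIntegral

/-- evaluation at a place (k algebraically closed) -/
noncomputable def ev (hK : IsFunctionField k K) (P : Place k K) : P.O →+* k :=
  ((RingEquiv.ofBijective (algebraMap k (IsLocalRing.ResidueField P.O))
    (algebraMap_res_bijective hK P)).symm : IsLocalRing.ResidueField P.O →+* k).comp
    (IsLocalRing.residue P.O)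

theorem ev_eq_zero_iff (hK : IsFunctionField k K) (P : Place k K) (z : P.O) :
    ev hK P z = 0 ↔ P.1 (z : K) < 1 := by
  rw [← Place.residue_eq_zero_iff]
  unfold ev
  simp

theorem ev_algebraMap (hK : IsFunctionField k K) (P : Place k K) (c : k) :
    ev hK P (algebraMap k P.O c) = c := by
  unfold ev
  rw [RingHom.comp_apply]
  have : IsLocalRing.residue P.O (algebraMap k P.O c) =
      RingEquiv.ofBijective (algebraMap k (IsLocalRing.ResidueField P.O))
        (algebraMap_res_bijective hK P) c := rfl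
  rw [this]
  exact RingEquiv.symm_apply_apply _ c

theorem mem_L_smul_single (P : Place k K) (m : ℤ) (x : K) :
    x ∈ L (m • (Finsupp.single P 1 : Divisor k K)) ↔
      P.1 x ≤ WithZero.exp m ∧ ∀ Q : Place k K, Q ≠ P → Q.1 x ≤ 1 := by
  classical
  rw [mem_L]
  constructor
  · intro h
    refine ⟨by simpa using h P, fun Q hQ => ?_⟩
    have := h Q
    rwa [Finsupp.smul_apply, Finsupp.single_apply, if_neg (Ne.symm hQ), smul_zero,
      WithZero.exp_zero] at this
  · rintro ⟨h1, h2⟩ Q
    by_cases hQ : Q = P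
    · subst hQ; simpa using h1
    · have := h2 Q hQ
      rwa [Finsupp.smul_apply, Finsupp.single_apply, if_neg (Ne.symm hQ), smul_zero,
        WithZero.exp_zero]

theorem val_mul_pow (P : Place k K) {π : K} (hπ : P.1 π = WithZero.exp (-1 : ℤ)) (x : K) (n : ℕ) :
    P.1 (x * π ^ n) = P.1 x * WithZero.exp (-(n : ℤ)) := by
  rw [map_mul, map_pow, hπ, ← WithZero.exp_nsmul]
  congr 2
  simp

theorem val_mul_pow_le_one_iff (P : Place k K) {π : K} (hπ : P.1 π = WithZero.exp (-1 : ℤ))
    (x : K) (n : ℕ) : P.1 (x * π ^ n) ≤ 1 ↔ P.1 x ≤ WithZero.exp (n : ℤ) := by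
  rw [val_mul_pow P hπ, WithZero.exp_neg, mul_inv_le_iff₀ (by simp), one_mul]

theorem val_mul_pow_lt_one_iff (P : Place k K) {π : K} (hπ : P.1 π = WithZero.exp (-1 : ℤ))
    (x : K) (n : ℕ) : P.1 (x * π ^ n) < 1 ↔ P.1 x ≤ WithZero.exp ((n : ℤ) - 1) := by
  rw [val_mul_pow P hπ, WithZero.exp_neg, mul_inv_lt_iff₀ (by simp), one_mul,
    Place.lt_exp_iff_le_exp_sub_one]


/-- abbreviation for the section ring at a place -/
noncomputable abbrev SR (P : Place k K) : Subalgebra k K[X] :=
  W4c6gradedringsgw.sectRing (Finsupp.single P 1 : Divisor k K)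

theorem mem_SR (P : Place k K) (p : K[X]) :
    p ∈ SR P ↔ ∀ n : ℕ, p.coeff n ∈ L ((n : ℤ) • (Finsupp.single P 1 : Divisor k K)) := Iff.rfl

theorem scale_mem_lifts (P : Place k K) {π : K} (hπ : P.1 π = WithZero.exp (-1 : ℤ))
    (p : K[X]) (hp : p ∈ SR P) :
    p.comp (C π * X) ∈ Polynomial.lifts P.O.subtype := by
  rw [Polynomial.lifts_iff_coeff_lifts]
  intro n
  rw [Polynomial.comp_C_mul_X_coeff]
  have h1 := ((mem_L_smul_single P n _).mp (hp n)).1
  refine ⟨⟨p.coeff n * π ^ n, ?_⟩, rfl⟩
  rw [Valuation.mem_valuationSubring_iff]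
  exact (val_mul_pow_le_one_iff P hπ _ n).mpr h1

/-- the scaled polynomial, with coefficients in the valuation ring -/
noncomputable def Psi0fun (P : Place k K) {π : K} (hπ : P.1 π = WithZero.exp (-1 : ℤ))
    (p : SR P) : P.O[X] :=
  Classical.choose ((Polynomial.mem_lifts _).mp (scale_mem_lifts P hπ p.1 p.2))

theorem Psi0fun_spec (P : Place k K) {π : K} (hπ : P.1 π = WithZero.exp (-1 : ℤ))
    (p : SR P) : (Psi0fun P hπ p).map P.O.subtype = (p : K[X]).comp (C π * X) :=
  Classical.choose_spec ((Polynomial.mem_lifts _).mp (scale_mem_lifts P hπ p.1 p.2))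

theorem map_subtype_injective (P : Place k K) :
    Function.Injective (Polynomial.map (P.O.subtype)) :=
  Polynomial.map_injective _ Subtype.val_injective

noncomputable def Psi0 (P : Place k K) {π : K} (hπ : P.1 π = WithZero.exp (-1 : ℤ)) :
    SR P →+* P.O[X] where
  toFun := Psi0fun P hπ
  map_one' := by
    apply map_subtype_injective P
    rw [Psi0fun_spec]
    simp
  map_mul' p q := by
    apply map_subtype_injective P
    rw [Polynomial.map_mul, Psi0fun_spec, Psi0fun_spec, Psi0fun_spec]
    simp
  map_zero' := by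
    apply map_subtype_injective P
    rw [Psi0fun_spec]
    simp
  map_add' p q := by
    apply map_subtype_injective P
    rw [Polynomial.map_add, Psi0fun_spec, Psi0fun_spec, Psi0fun_spec]
    simp

theorem Psi0_coeff (P : Place k K) {π : K} (hπ : P.1 π = WithZero.exp (-1 : ℤ)) (p : SR P)
    (n : ℕ) : (((Psi0 P hπ p).coeff n : P.O) : K) = (p : K[X]).coeff n * π ^ n := by
  have h := congrArg (fun q => q.coeff n) (Psi0fun_spec P hπ p)
  simp only [Polynomial.coeff_map, Polynomial.comp_C_mul_X_coeff] at h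
  exact h

/-- the leading-coefficient map from the section ring to `k[X]` -/
noncomputable def Psi (hK : IsFunctionField k K) (P : Place k K) {π : K}
    (hπ : P.1 π = WithZero.exp (-1 : ℤ)) : SR P →ₐ[k] k[X] :=
  { (Polynomial.mapRingHom (ev hK P)).comp (Psi0 P hπ) with
    commutes' := by
      intro c
      change ((Psi0 P hπ) (algebraMap k (SR P) c)).map (ev hK P) = _
      have h1 : Psi0 P hπ (algebraMap k (SR P) c) = C (algebraMap k P.O c) := by
        apply map_subtype_injective P
        change (Psi0fun P hπ _).map _ = _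
        rw [Psi0fun_spec]
        simp only [Polynomial.map_C]
        change (C (algebraMap k K c)).comp _ = _
        rw [Polynomial.C_comp]
        rfl
      rw [h1, Polynomial.map_C, ev_algebraMap]
      rfl }

theorem Psi_coeff (hK : IsFunctionField k K) (P : Place k K) {π : K}
    (hπ : P.1 π = WithZero.exp (-1 : ℤ)) (p : SR P) (n : ℕ) :
    (Psi hK P hπ p).coeff n = ev hK P ((Psi0 P hπ p).coeff n) := by
  change ((Psi0 P hπ p).map (ev hK P)).coeff n = _
  rw [Polynomial.coeff_map]

/-- key lemma: the `n`-th leading coefficient vanishes iff the coefficient lies in `L((n-1)P)` -/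
theorem Psi_coeff_eq_zero_iff (hK : IsFunctionField k K) (P : Place k K) {π : K}
    (hπ : P.1 π = WithZero.exp (-1 : ℤ)) (p : SR P) (n : ℕ) :
    (Psi hK P hπ p).coeff n = 0 ↔
      (p : K[X]).coeff n ∈ L (((n : ℤ) - 1) • (Finsupp.single P 1 : Divisor k K)) := by
  rw [Psi_coeff, ev_eq_zero_iff, Psi0_coeff, val_mul_pow_lt_one_iff P hπ, mem_L_smul_single]
  have h2 := ((mem_L_smul_single P n _).mp (p.2 n)).2
  exact ⟨fun h => ⟨h, h2⟩, fun h => h.1⟩

end Groth.Agent.H86.FF
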