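import Mathlib
import Groth.Agent.H86.SR1

set_option autoImplicit false
set_option linter.unusedSectionVars false

namespace Groth.Agent.H86.FF

open FunFld Module Groth.Agent.H55 Polynomial

variable {k K : Type*} [Field k] [Field K] [Algebra k K] [IsAlgClosed k]

theorem smul_single_one (P : Place k K) (m : ℤ) :
    m • (Finsupp.single P 1 : Divisor k K) = Finsupp.single P m := by
  rw [Finsupp.smul_single, smul_eq_mul, mul_one]

/-- in genus `≥ 1`, `L(P) = k` -/
theorem const_of_mem_L_single (hK : IsFunctionField k K) (hg : 1 ≤ genus k K) (P : Place k K)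
    {a : K} (ha : a ∈ L (Finsupp.single P (1 : ℤ) : Divisor k K)) :
    ∃ c : k, algebraMap k K c = a := by
  classical
  have h1 : ell (Finsupp.single P (1 : ℤ) : Divisor k K) ≤ 1 :=
    ell_le_one_of_deg_one hK (by omega) _ (deg_single_one hK P 1)
  have hle : L (0 : Divisor k K) ≤ L (Finsupp.single P (1 : ℤ) : Divisor k K) := by
    apply L_mono
    intro R
    rw [Finsupp.zero_apply, Finsupp.single_apply]
    split_ifs <;> omega
  have hfin := L_finite hK (Finsupp.single P (1 : ℤ) : Divisor k K)
  have heq : L (0 : Divisor k K) = L (Finsupp.single P (1 : ℤ) : Divisor k K) := by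
    apply Submodule.eq_of_le_of_finrank_le hle
    have h0 := ell_zero hK (k := k) (K := K)
    unfold ell at h0 h1
    omega
  rw [← heq, L_zero hK] at ha
  exact Submodule.mem_one.mp ha

theorem L_neg_single_eq_bot (hK : IsFunctionField k K) (P : Place k K) :
    L ((((0 : ℕ) : ℤ) - 1) • (Finsupp.single P 1 : Divisor k K)) = ⊥ := by
  apply L_eq_bot_of_deg_neg hK
  rw [smul_single_one, deg_single_one hK]
  norm_num

/-- `ℓ(nP) ≤ ℓ((n-1)P) + 1` -/
theorem ell_smul_le (hK : IsFunctionField k K) (P : Place k K) (n : ℕ) :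
    ell ((n : ℤ) • (Finsupp.single P 1 : Divisor k K)) ≤
      ell (((n : ℤ) - 1) • (Finsupp.single P 1 : Divisor k K)) + 1 := by
  classical
  have hle : ((n : ℤ) - 1) • (Finsupp.single P 1 : Divisor k K) ≤
      (n : ℤ) • (Finsupp.single P 1 : Divisor k K) := by
    rw [smul_single_one, smul_single_one]
    intro R
    rw [Finsupp.single_apply, Finsupp.single_apply]
    split_ifs <;> omega
  have := ell_sub_le hK hle
  rw [smul_single_one, smul_single_one, deg_single_one hK, deg_single_one hK] at this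
  rw [smul_single_one, smul_single_one]
  omega

theorem L_pred_le (P : Place k K) (n : ℕ) :
    L (((n : ℤ) - 1) • (Finsupp.single P 1 : Divisor k K)) ≤
      L ((n : ℤ) • (Finsupp.single P 1 : Divisor k K)) := by
  classical
  apply L_mono
  rw [smul_single_one, smul_single_one]
  intro R
  rw [Finsupp.single_apply, Finsupp.single_apply]
  split_ifs <;> omega

/-- `n` is a pole order iff `L((n-1)P) ≠ L(nP)` -/
theorem mem_poleOrders_iff (hK : IsFunctionField k K) (P : Place k K) (n : ℕ) :
    n ∈ W4c6gradedringsgw.poleOrders P ↔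
      ∃ f ∈ L ((n : ℤ) • (Finsupp.single P 1 : Divisor k K)),
        f ∉ L (((n : ℤ) - 1) • (Finsupp.single P 1 : Divisor k K)) := by
  have hfin := L_finite hK ((n : ℤ) • (Finsupp.single P 1 : Divisor k K))
  have hle := L_pred_le P n
  have h1 := ell_smul_le hK P n
  constructor
  · intro h
    have h' : ell ((n : ℤ) • (Finsupp.single P 1 : Divisor k K)) =
      ell (((n : ℤ) - 1) • (Finsupp.single P 1 : Divisor k K)) + 1 := h
    by_contra hcon
    push_neg at hcon
    have : L ((n : ℤ) • (Finsupp.single P 1 : Divisor k K)) =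
        L (((n : ℤ) - 1) • (Finsupp.single P 1 : Divisor k K)) :=
      le_antisymm (fun f hf => hcon f hf) hle
    unfold ell at h'
    rw [this] at h'
    omega
  · rintro ⟨f, hf, hnf⟩
    have hlt : L (((n : ℤ) - 1) • (Finsupp.single P 1 : Divisor k K)) <
        L ((n : ℤ) • (Finsupp.single P 1 : Divisor k K)) := by
      refine lt_of_le_of_ne hle ?_
      intro heq
      rw [heq] at hnf
      exact hnf hf
    have := Submodule.finrank_lt_finrank_of_lt hlt
    change ell _ = ell _ + 1
    unfold ell at h1 ⊢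
    omega


section main

variable (hK : IsFunctionField k K) (P : Place k K) {π : K} (hπ : P.1 π = WithZero.exp (-1 : ℤ))

include hK hπ in
/-- (B): the support of `Psi p` consists of pole orders -/
theorem mem_poleOrders_of_Psi_coeff_ne_zero (p : SR P) (n : ℕ)
    (h : (Psi hK P hπ p).coeff n ≠ 0) : n ∈ W4c6gradedringsgw.poleOrders P := by
  rw [mem_poleOrders_iff hK]
  exact ⟨_, p.2 n, fun hmem => h ((Psi_coeff_eq_zero_iff hK P hπ p n).mpr hmem)⟩

/-- monomials `f X^n` in the section ring -/
noncomputable def mono (n : ℕ) (f : K)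
    (hf : f ∈ L ((n : ℤ) • (Finsupp.single P 1 : Divisor k K))) : SR P :=
  ⟨C f * X ^ n, by
    intro m
    rw [Polynomial.coeff_C_mul_X_pow]
    split_ifs with h
    · subst h; exact hf
    · exact zero_mem _⟩

theorem mono_coe (n : ℕ) (f : K)
    (hf : f ∈ L ((n : ℤ) • (Finsupp.single P 1 : Divisor k K))) :
    ((mono P n f hf : SR P) : K[X]) = C f * X ^ n := rfl

include hK hπ in
/-- (A), basic case -/
theorem X_pow_mem_range_of_mem_poleOrders (n : ℕ) (hn : n ∈ W4c6gradedringsgw.poleOrders P) :
    (X : k[X]) ^ n ∈ (Psi hK P hπ).range := by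
  obtain ⟨f, hf, hnf⟩ := (mem_poleOrders_iff hK P n).mp hn
  have hc : (Psi hK P hπ (mono P n f hf)).coeff n ≠ 0 := by
    intro h0
    rw [Psi_coeff_eq_zero_iff, mono_coe, Polynomial.coeff_C_mul_X_pow, if_pos rfl] at h0
    exact hnf h0
  obtain ⟨c, hcdef⟩ : ∃ c, c = (Psi hK P hπ (mono P n f hf)).coeff n := ⟨_, rfl⟩
  have hP : Psi hK P hπ (mono P n f hf) = C c * X ^ n := by
    ext m
    rw [Polynomial.coeff_C_mul_X_pow]
    split_ifs with h
    · rw [h, hcdef]
    · rw [Psi_coeff_eq_zero_iff, mono_coe, Polynomial.coeff_C_mul_X_pow, if_neg h]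
      exact zero_mem _
  rw [← hcdef] at hc
  rw [AlgHom.mem_range]
  refine ⟨c⁻¹ • mono P n f hf, ?_⟩
  rw [map_smul, hP, Polynomial.smul_eq_C_mul, ← mul_assoc, ← Polynomial.C_mul, inv_mul_cancel₀ hc,
    Polynomial.C_1, one_mul]

include hK hπ in
/-- (A) -/
theorem X_pow_mem_range (n : ℕ)
    (hn : n ∈ AddSubmonoid.closure (W4c6gradedringsgw.poleOrders P)) :
    (X : k[X]) ^ n ∈ (Psi hK P hπ).range := by
  induction hn using AddSubmonoid.closure_induction with
  | mem x hx => exact X_pow_mem_range_of_mem_poleOrders hK P hπ x hx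
  | zero => rw [pow_zero]; exact one_mem _
  | add x y _ _ hx hy => rw [pow_add]; exact mul_mem hx hy

include hK hπ in
theorem ker_Psi (hg : 1 ≤ genus k K) (t : SR P) (a : K) (ha : a ≠ 0)
    (ht : (t : K[X]) = C a * X) :
    RingHom.ker (Psi hK P hπ) = Ideal.span {t} := by
  have ha1 : a ∈ L (Finsupp.single P (1 : ℤ) : Divisor k K) := by
    have := t.2 1
    rw [ht, Polynomial.coeff_C_mul_X, if_pos rfl, Nat.cast_one, one_smul] at this
    exact this
  obtain ⟨c, hc⟩ := const_of_mem_L_single hK hg P ha1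
  have hc0 : c ≠ 0 := by
    rintro rfl
    rw [map_zero] at hc
    exact ha hc.symm
  apply le_antisymm
  · intro p hp
    rw [RingHom.mem_ker] at hp
    have hcoef : ∀ n : ℕ, (p : K[X]).coeff n ∈
        L (((n : ℤ) - 1) • (Finsupp.single P 1 : Divisor k K)) := by
      intro n
      rw [← Psi_coeff_eq_zero_iff hK P hπ, hp, Polynomial.coeff_zero]
    have h0 : (p : K[X]).coeff 0 = 0 := by
      have := hcoef 0
      rw [L_neg_single_eq_bot hK P] at this
      exact (Submodule.mem_bot k).mp this
    rw [Ideal.mem_span_singleton']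
    refine ⟨⟨C a⁻¹ * (p : K[X]).divX, ?_⟩, ?_⟩
    · intro n
      rw [Polynomial.coeff_C_mul, Polynomial.coeff_divX]
      have h1 := hcoef (n + 1)
      have h2 : (((n + 1 : ℕ) : ℤ) - 1) = (n : ℤ) := by push_cast; ring
      rw [h2] at h1
      have h3 : a⁻¹ * (p : K[X]).coeff (n + 1) = c⁻¹ • (p : K[X]).coeff (n + 1) := by
        rw [Algebra.smul_def, map_inv₀, hc]
      rw [h3]
      exact Submodule.smul_mem _ _ h1
    · apply Subtype.ext
      change C a⁻¹ * (p : K[X]).divX * (t : K[X]) = (p : K[X])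
      rw [ht]
      have h4 : C a⁻¹ * (p : K[X]).divX * (C a * X) = (p : K[X]).divX * X := by
        have : C a⁻¹ * C a = (1 : K[X]) := by
          rw [← Polynomial.C_mul, inv_mul_cancel₀ ha, Polynomial.C_1]
        calc C a⁻¹ * (p : K[X]).divX * (C a * X) = (C a⁻¹ * C a) * ((p : K[X]).divX * X) := by ring
          _ = _ := by rw [this, one_mul]
      rw [h4]
      conv_rhs => rw [← Polynomial.divX_mul_X_add (p : K[X]), h0, Polynomial.C_0, add_zero]
  · rw [Ideal.span_singleton_le_iff_mem, RingHom.mem_ker]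
    ext n
    rw [Polynomial.coeff_zero, Psi_coeff_eq_zero_iff, ht, Polynomial.coeff_C_mul_X]
    split_ifs with h
    · subst h
      rw [← hc]
      have : (((1 : ℕ) : ℤ) - 1) • (Finsupp.single P 1 : Divisor k K) = 0 := by simp
      rw [this]
      exact W4c6gradedringsgw.algebraMap_mem_L_zero c
    · exact zero_mem _

end main

end Groth.Agent.H86.FF
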