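import Mathlib
import Groth.Agent.H86.SR2

set_option autoImplicit false
set_option linter.unusedSectionVars false

namespace Groth.Agent.H86.FF

open FunFld Module Groth.Agent.H55 Polynomial

variable {k K : Type*} [Field k] [Field K] [Algebra k K] [IsAlgClosed k]

/-- the comparison map from a semigroup algebra of a submonoid of `ℕ` to `k[X]` -/
noncomputable def SPhi (M : AddSubmonoid ℕ) : AddMonoidAlgebra k ↥M →ₐ[k] k[X] :=
  ((Polynomial.toFinsuppIsoAlg k).symm : AddMonoidAlgebra k ℕ →ₐ[k] k[X]).comp
    (AddMonoidAlgebra.mapDomainAlgHom k k M.subtype)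

theorem SPhi_injective (M : AddSubmonoid ℕ) : Function.Injective (SPhi (k := k) M) := by
  unfold SPhi
  rw [AlgHom.coe_comp]
  refine Function.Injective.comp (Polynomial.toFinsuppIsoAlg k).symm.injective ?_
  exact AddMonoidAlgebra.mapDomain_injective Subtype.val_injective

theorem SPhi_single (M : AddSubmonoid ℕ) (m : M) (c : k) :
    SPhi M (AddMonoidAlgebra.single m c) = Polynomial.monomial (m : ℕ) c := by
  unfold SPhi
  rw [AlgHom.comp_apply]
  have : AddMonoidAlgebra.mapDomainAlgHom k k M.subtype (AddMonoidAlgebra.single m c) =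
      AddMonoidAlgebra.single (m : ℕ) c := by
    change AddMonoidAlgebra.mapDomain _ _ = _
    rw [AddMonoidAlgebra.mapDomain_single]
    rfl
  rw [this]
  apply (Polynomial.toFinsuppIsoAlg k).injective
  change (Polynomial.toFinsuppIsoAlg k) ((Polynomial.toFinsuppIsoAlg k).symm _) = _
  rw [AlgEquiv.apply_symm_apply]
  simp

theorem range_eq (hK : IsFunctionField k K) (P : Place k K) {π : K}
    (hπ : P.1 π = WithZero.exp (-1 : ℤ)) :
    (Psi hK P hπ).range =
      (SPhi (k := k) (AddSubmonoid.closure (W4c6gradedringsgw.poleOrders P))).range := by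
  apply le_antisymm
  · rintro y ⟨p, rfl⟩
    change (Psi hK P hπ) p ∈ _
    rw [Polynomial.as_sum_support ((Psi hK P hπ) p)]
    refine Subalgebra.sum_mem _ fun n hn => ?_
    have hn' : n ∈ AddSubmonoid.closure (W4c6gradedringsgw.poleOrders P) :=
      AddSubmonoid.subset_closure
        (mem_poleOrders_of_Psi_coeff_ne_zero hK P hπ p n (Polynomial.mem_support_iff.mp hn))
    rw [AlgHom.mem_range]
    exact ⟨AddMonoidAlgebra.single ⟨n, hn'⟩ _, SPhi_single _ _ _⟩
  · rintro y ⟨x, rfl⟩
    change SPhi _ x ∈ _
    induction x using AddMonoidAlgebra.induction_linear with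
    | zero => rw [map_zero]; exact zero_mem _
    | add x y hx hy => rw [map_add]; exact add_mem hx hy
    | single m c =>
      rw [SPhi_single, ← Polynomial.C_mul_X_pow_eq_monomial, ← Polynomial.smul_eq_C_mul]
      exact Subalgebra.smul_mem _ (X_pow_mem_range hK P hπ m m.2) c

end Groth.Agent.H86.FF
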