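import Mathlib
import Groth.Agent.H86.SR3

set_option autoImplicit false
set_option linter.unusedSectionVars false

namespace Groth.Agent.H86.FF

open FunFld Module Groth.Agent.H55 Polynomial

variable {k K : Type*} [Field k] [Field K] [Algebra k K] [IsAlgClosed k]

theorem one_notMem_poleOrders (hK : IsFunctionField k K) (hg : 1 ≤ genus k K) (P : Place k K) :
    (1 : ℕ) ∉ W4c6gradedringsgw.poleOrders P := by
  intro h
  have h' : ell (((1 : ℕ) : ℤ) • (Finsupp.single P 1 : Divisor k K)) =
      ell ((((1 : ℕ) : ℤ) - 1) • (Finsupp.single P 1 : Divisor k K)) + 1 := h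
  have h1 : ell (Finsupp.single P (1 : ℤ) : Divisor k K) ≤ 1 :=
    ell_le_one_of_deg_one hK (by omega) _ (deg_single_one hK P 1)
  have h0 := ell_zero hK (k := k) (K := K)
  have e1 : ((1 : ℕ) : ℤ) • (Finsupp.single P 1 : Divisor k K) = Finsupp.single P 1 := by simp
  have e2 : (((1 : ℕ) : ℤ) - 1) • (Finsupp.single P 1 : Divisor k K) = 0 := by simp
  rw [e1, e2] at h'
  omega

theorem mem_poleOrders_of_ge (hK : IsFunctionField k K) (P : Place k K) (n : ℕ)
    (hn : 2 * genus k K ≤ n) : n ∈ W4c6gradedringsgw.poleOrders P := by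
  change ell _ = ell _ + 1
  have h1 := ell_of_deg_ge hK ((n : ℤ) • (Finsupp.single P 1 : Divisor k K))
    (by rw [smul_single_one, deg_single_one hK]; omega)
  have h2 := ell_of_deg_ge hK (((n : ℤ) - 1) • (Finsupp.single P 1 : Divisor k K))
    (by rw [smul_single_one, deg_single_one hK]; omega)
  rw [smul_single_one, deg_single_one hK] at h1 h2
  rw [smul_single_one, smul_single_one]
  omega

theorem minGens_finite (hK : IsFunctionField k K) (hg : 1 ≤ genus k K) (P : Place k K) :
    (W4c6gradedringsgw.minGens (W4c6gradedringsgw.poleOrders P)).Finite := by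
  apply Set.Finite.subset (Finset.range (4 * genus k K + 1)).finite_toSet
  intro n hn
  rw [Finset.mem_coe, Finset.mem_range]
  by_contra hlt
  push_neg at hlt
  obtain ⟨-, -, h3⟩ := hn
  exact h3 (2 * genus k K) (mem_poleOrders_of_ge hK P _ le_rfl) (n - 2 * genus k K)
    (mem_poleOrders_of_ge hK P _ (by omega)) (by omega) (by omega) (by omega)

theorem one_notMem_minGens (hK : IsFunctionField k K) (hg : 1 ≤ genus k K) (P : Place k K) :
    (1 : ℕ) ∉ W4c6gradedringsgw.minGens (W4c6gradedringsgw.poleOrders P) :=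
  fun h => one_notMem_poleOrders hK hg P h.1


section main

variable (hK : IsFunctionField k K) (P : Place k K) {π : K} (hπ : P.1 π = WithZero.exp (-1 : ℤ))

include hK in
/-- the constant coefficient of an element of the section ring is a constant -/
theorem coeff_zero_const (p : SR P) : ∃ c : k, algebraMap k K c = (p : K[X]).coeff 0 := by
  have := p.2 0
  rw [Nat.cast_zero, zero_smul, L_zero hK] at this
  exact Submodule.mem_one.mp this

theorem Psi_coeff_zero (p : SR P) (c : k) (hc : algebraMap k K c = (p : K[X]).coeff 0) :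
    (Psi hK P hπ p).coeff 0 = c := by
  rw [Psi_coeff]
  have : (Psi0 P hπ p).coeff 0 = algebraMap k P.O c := by
    apply Subtype.ext
    rw [Psi0_coeff, pow_zero, mul_one, ← hc]
    rfl
  rw [this, ev_algebraMap]

theorem Psi_mul_coeff_of_minGens (r x : SR P) (hx : (x : K[X]).coeff 0 = 0) (n : ℕ)
    (hn : n ∈ W4c6gradedringsgw.minGens (W4c6gradedringsgw.poleOrders P)) :
    (Psi hK P hπ (r * x)).coeff n = (Psi hK P hπ r).coeff 0 * (Psi hK P hπ x).coeff n := by
  rw [map_mul, Polynomial.coeff_mul]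
  rw [Finset.sum_eq_single (0, n)]
  · rintro ⟨i, j⟩ hij hne
    rw [Finset.HasAntidiagonal.mem_antidiagonal] at hij
    simp only at hij
    by_contra hprod
    have hi : (Psi hK P hπ r).coeff i ≠ 0 := left_ne_zero_of_mul hprod
    have hj : (Psi hK P hπ x).coeff j ≠ 0 := right_ne_zero_of_mul hprod
    have hiH := mem_poleOrders_of_Psi_coeff_ne_zero hK P hπ r i hi
    have hjH := mem_poleOrders_of_Psi_coeff_ne_zero hK P hπ x j hj
    have hj0 : j ≠ 0 := by
      rintro rfl
      apply hj
      rw [Psi_coeff_eq_zero_iff, hx]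
      exact zero_mem _
    have hi0 : i ≠ 0 := by
      rintro rfl
      apply hne
      rw [zero_add] at hij
      rw [hij]
    exact hn.2.2 i hiH j hjH hi0 hj0 hij
  · intro h
    exact absurd (Finset.HasAntidiagonal.mem_antidiagonal.mpr (zero_add n)) h

/-- the functional detecting the minimal generators -/
noncomputable def phi (ρ : K →ₗ[k] k) (S : Finset ℕ) : SR P →ₗ[k] (↥S → k) :=
  LinearMap.pi fun n =>
    if n.1 = 1 then
      ρ ∘ₗ ((Polynomial.lcoeff K 1).restrictScalars k) ∘ₗ (SR P).val.toLinearMap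
    else (Polynomial.lcoeff k n.1) ∘ₗ (Psi hK P hπ).toLinearMap

theorem phi_apply (ρ : K →ₗ[k] k) (S : Finset ℕ) (p : SR P) (n : S) :
    phi hK P hπ ρ S p n =
      if n.1 = 1 then ρ ((p : K[X]).coeff 1) else (Psi hK P hπ p).coeff n.1 := by
  unfold phi
  rw [LinearMap.pi_apply]
  split_ifs <;> rfl

theorem phi_mul (ρ : K →ₗ[k] k) (S : Finset ℕ)
    (hS : ∀ n ∈ S, n ≠ 1 → n ∈ W4c6gradedringsgw.minGens (W4c6gradedringsgw.poleOrders P))
    (r x : SR P) (hx : (x : K[X]).coeff 0 = 0) :
    phi hK P hπ ρ S (r * x) = (Psi hK P hπ r).coeff 0 • phi hK P hπ ρ S x := by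
  obtain ⟨c, hc⟩ := coeff_zero_const hK P r
  ext n
  rw [Pi.smul_apply, phi_apply, phi_apply, smul_eq_mul]
  split_ifs with h1
  · have : ((r * x : SR P) : K[X]).coeff 1 = c • (x : K[X]).coeff 1 := by
      change ((r : K[X]) * (x : K[X])).coeff 1 = _
      rw [Polynomial.mul_coeff_one, hx, mul_zero, add_zero, ← hc, Algebra.smul_def]
    rw [this, map_smul, smul_eq_mul, Psi_coeff_zero hK P hπ r c hc]
  · exact Psi_mul_coeff_of_minGens hK P hπ r x hx n.1 (hS n.1 n.2 h1)

end main

end Groth.Agent.H86.FF
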