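import Mathlib
import Groth.Agent.H86.SR4

set_option autoImplicit false
set_option linter.unusedSectionVars false

namespace Groth.Agent.H86.FF

open FunFld Module Groth.Agent.H55 Polynomial

variable {k K : Type*} [Field k] [Field K] [Algebra k K] [IsAlgClosed k]

/-- the irrelevant ideal of the section ring -/
noncomputable abbrev irr (P : Place k K) : Ideal (SR P) :=
  RingHom.ker (Polynomial.constantCoeff.comp (SR P).val.toRingHom)

theorem mem_irr (P : Place k K) (p : SR P) : p ∈ irr P ↔ (p : K[X]).coeff 0 = 0 := by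
  rw [RingHom.mem_ker]
  rfl

theorem one_mem_L_smul (P : Place k K) (n : ℕ) :
    (1 : K) ∈ L ((n : ℤ) • (Finsupp.single P 1 : Divisor k K)) := by
  rw [mem_L_smul_single]
  refine ⟨?_, fun Q _ => by rw [map_one]⟩
  rw [map_one, ← WithZero.exp_zero, WithZero.exp_le_exp]
  omega

/-- the degree one element `T` -/
noncomputable def Tel (P : Place k K) : SR P := mono P 1 1 (one_mem_L_smul P 1)

theorem Tel_coe (P : Place k K) : ((Tel P : SR P) : K[X]) = X := by
  unfold Tel
  rw [mono_coe, Polynomial.C_1, one_mul, pow_one]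

section main

variable (hK : IsFunctionField k K) (P : Place k K) {π : K} (hπ : P.1 π = WithZero.exp (-1 : ℤ))

theorem Psi_mono (n : ℕ) (f : K) (hf : f ∈ L ((n : ℤ) • (Finsupp.single P 1 : Divisor k K))) :
    Psi hK P hπ (mono P n f hf) = C ((Psi hK P hπ (mono P n f hf)).coeff n) * X ^ n := by
  ext m
  rw [Polynomial.coeff_C_mul_X_pow]
  split_ifs with h
  · rw [h]
  · rw [Psi_coeff_eq_zero_iff, mono_coe, Polynomial.coeff_C_mul_X_pow, if_neg h]
    exact zero_mem _

theorem Psi_mono_coeff_ne_zero (n : ℕ) (f : K)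
    (hf : f ∈ L ((n : ℤ) • (Finsupp.single P 1 : Divisor k K)))
    (hnf : f ∉ L (((n : ℤ) - 1) • (Finsupp.single P 1 : Divisor k K))) :
    (Psi hK P hπ (mono P n f hf)).coeff n ≠ 0 := by
  intro h0
  rw [Psi_coeff_eq_zero_iff, mono_coe, Polynomial.coeff_C_mul_X_pow, if_pos rfl] at h0
  exact hnf h0

/-- case A: homogeneous elements with coefficient in `L((n-1)P)` are multiples of `T` -/
theorem mem_of_coeff_mem_pred (I : Ideal (SR P)) (hT : Tel P ∈ I) (n : ℕ) (hn : 1 ≤ n) (q : SR P)
    (g : K) (hq : (q : K[X]) = C g * X ^ n)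
    (hg : g ∈ L (((n : ℤ) - 1) • (Finsupp.single P 1 : Divisor k K))) : q ∈ I := by
  obtain ⟨m, rfl⟩ : ∃ m, n = m + 1 := ⟨n - 1, by omega⟩
  have hg' : g ∈ L ((m : ℤ) • (Finsupp.single P 1 : Divisor k K)) := by
    have h2 : (((m + 1 : ℕ) : ℤ) - 1) = (m : ℤ) := by push_cast; ring
    rwa [h2] at hg
  have : q = Tel P * mono P m g hg' := by
    apply Subtype.ext
    change (q : K[X]) = (Tel P : K[X]) * (mono P m g hg' : K[X])
    rw [hq, Tel_coe, mono_coe]
    ring
  rw [this]
  exact Ideal.mul_mem_right _ _ hT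

/-- case B: one homogeneous element of exact order `n` in `I` gives all of degree `n` -/
theorem mem_of_exists (I : Ideal (SR P)) (hT : Tel P ∈ I) (n : ℕ) (hn : 1 ≤ n) (w : SR P)
    (hwI : w ∈ I) (wn : K) (hw : (w : K[X]) = C wn * X ^ n)
    (hΨ : (Psi hK P hπ w).coeff n ≠ 0) (q : SR P) (g : K) (hq : (q : K[X]) = C g * X ^ n) :
    q ∈ I := by
  obtain ⟨c, hc⟩ : ∃ c : k, c = (Psi hK P hπ q).coeff n / (Psi hK P hπ w).coeff n := ⟨_, rfl⟩
  have h1 : (Psi hK P hπ (q - c • w)).coeff n = 0 := by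
    rw [map_sub, map_smul, Polynomial.coeff_sub, Polynomial.coeff_smul, smul_eq_mul, hc,
      div_mul_cancel₀ _ hΨ, sub_self]
  have h2 : ((q - c • w : SR P) : K[X]) = C (g - algebraMap k K c * wn) * X ^ n := by
    change (q : K[X]) - c • (w : K[X]) = _
    rw [hq, hw, Polynomial.C_sub, Polynomial.C_mul, sub_mul, Algebra.smul_def,
      Polynomial.algebraMap_apply, mul_assoc]
  have h3 : q - c • w ∈ I := by
    apply mem_of_coeff_mem_pred P I hT n hn _ _ h2
    rw [Psi_coeff_eq_zero_iff, h2, Polynomial.coeff_C_mul_X_pow, if_pos rfl] at h1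
    exact h1
  have h4 : c • w ∈ I := by
    rw [Algebra.smul_def]
    exact Ideal.mul_mem_left _ _ hwI
  have := add_mem h3 h4
  rwa [sub_add_cancel] at this

include hK hπ in
/-- all homogeneous elements of positive degree lie in an ideal containing `T` and elements of
exact order `n` for every minimal generator `n` -/
theorem hom_mem (I : Ideal (SR P)) (hT : Tel P ∈ I)
    (hG : ∀ n ∈ W4c6gradedringsgw.minGens (W4c6gradedringsgw.poleOrders P),
      ∃ w ∈ I, ∃ wn : K, (w : K[X]) = C wn * X ^ n ∧ (Psi hK P hπ w).coeff n ≠ 0)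
    (n : ℕ) (hn : 1 ≤ n) (q : SR P) (g : K) (hq : (q : K[X]) = C g * X ^ n) : q ∈ I := by
  induction n using Nat.strong_induction_on generalizing q g with
  | _ n ih =>
    by_cases hgm : g ∈ L (((n : ℤ) - 1) • (Finsupp.single P 1 : Divisor k K))
    · exact mem_of_coeff_mem_pred P I hT n hn q g hq hgm
    · have hgn : g ∈ L ((n : ℤ) • (Finsupp.single P 1 : Divisor k K)) := by
        have := q.2 n
        rwa [hq, Polynomial.coeff_C_mul_X_pow, if_pos rfl] at this
      have hnH : n ∈ W4c6gradedringsgw.poleOrders P :=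
        (mem_poleOrders_iff hK P n).mpr ⟨g, hgn, hgm⟩
      by_cases hnG : n ∈ W4c6gradedringsgw.minGens (W4c6gradedringsgw.poleOrders P)
      · obtain ⟨w, hwI, wn, hw, hΨ⟩ := hG n hnG
        exact mem_of_exists hK P hπ I hT n hn w hwI wn hw hΨ q g hq
      · have : ∃ i ∈ W4c6gradedringsgw.poleOrders P, ∃ j ∈ W4c6gradedringsgw.poleOrders P,
            i ≠ 0 ∧ j ≠ 0 ∧ i + j = n := by
          by_contra hcon
          apply hnG
          refine ⟨hnH, by omega, fun i hi j hj hi0 hj0 hij => ?_⟩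
          exact hcon ⟨i, hi, j, hj, hi0, hj0, hij⟩
        obtain ⟨i, hi, j, hj, hi0, hj0, hij⟩ := this
        obtain ⟨u, hu, hnu⟩ := (mem_poleOrders_iff hK P i).mp hi
        obtain ⟨v, hv, hnv⟩ := (mem_poleOrders_iff hK P j).mp hj
        have hwI : mono P i u hu * mono P j v hv ∈ I :=
          Ideal.mul_mem_right _ _ (ih i (by omega) (by omega) _ u (mono_coe P i u hu))
        have hw : ((mono P i u hu * mono P j v hv : SR P) : K[X]) = C (u * v) * X ^ n := by
          change (mono P i u hu : K[X]) * (mono P j v hv : K[X]) = _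
          rw [mono_coe, mono_coe, ← hij, Polynomial.C_mul, pow_add]
          ring
        have hΨ : (Psi hK P hπ (mono P i u hu * mono P j v hv)).coeff n ≠ 0 := by
          rw [map_mul, Psi_mono hK P hπ i, Psi_mono hK P hπ j]
          have : C ((Psi hK P hπ (mono P i u hu)).coeff i) * X ^ i *
              (C ((Psi hK P hπ (mono P j v hv)).coeff j) * X ^ j) =
              C ((Psi hK P hπ (mono P i u hu)).coeff i * (Psi hK P hπ (mono P j v hv)).coeff j) *
                X ^ n := by
            rw [← hij, Polynomial.C_mul, pow_add]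
            ring
          rw [this, Polynomial.coeff_C_mul_X_pow, if_pos rfl]
          exact mul_ne_zero (Psi_mono_coeff_ne_zero hK P hπ i u hu hnu)
            (Psi_mono_coeff_ne_zero hK P hπ j v hv hnv)
        exact mem_of_exists hK P hπ I hT n hn _ hwI _ hw hΨ q g hq

include hK hπ in
theorem irr_le (I : Ideal (SR P)) (hT : Tel P ∈ I)
    (hG : ∀ n ∈ W4c6gradedringsgw.minGens (W4c6gradedringsgw.poleOrders P),
      ∃ w ∈ I, ∃ wn : K, (w : K[X]) = C wn * X ^ n ∧ (Psi hK P hπ w).coeff n ≠ 0) :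
    irr P ≤ I := by
  intro p hp
  rw [mem_irr] at hp
  have hsum : p = ∑ n ∈ (p : K[X]).support, mono P n ((p : K[X]).coeff n) (p.2 n) := by
    apply Subtype.ext
    rw [AddSubmonoidClass.coe_finset_sum]
    conv_lhs => rw [Polynomial.as_sum_support_C_mul_X_pow (p : K[X])]
    rfl
  rw [hsum]
  refine Ideal.sum_mem _ fun n hn => ?_
  have hn0 : n ≠ 0 := by
    rintro rfl
    exact (Polynomial.mem_support_iff.mp hn) hp
  exact hom_mem hK P hπ I hT hG n (by omega) _ _ (mono_coe P n _ _)

end main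

end Groth.Agent.H86.FF
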