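import Mathlib
import Groth.Agent.H86.SR5

set_option autoImplicit false
set_option linter.unusedSectionVars false

namespace Groth.Agent.H86.FF

open FunFld Module Groth.Agent.H55 Polynomial

variable {k K : Type*} [Field k] [Field K] [Algebra k K] [IsAlgClosed k]

section main

variable (hK : IsFunctionField k K) (P : Place k K) {π : K} (hπ : P.1 π = WithZero.exp (-1 : ℤ))

/-- `phi` at `T` -/
theorem phi_Tel (ρ : K →ₗ[k] k) (hρ : ∀ c, ρ (algebraMap k K c) = c) (S : Finset ℕ) (n : S)
    (hn : n.1 = 1) : phi hK P hπ ρ S (Tel P) = Pi.single n 1 := by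
  classical
  ext m
  rw [phi_apply, Pi.single_apply]
  by_cases hm : m.1 = 1
  · rw [if_pos hm, if_pos (Subtype.ext (hm.trans hn.symm)), Tel_coe, Polynomial.coeff_X_one]
    have := hρ 1
    rwa [map_one] at this
  · rw [if_neg hm, if_neg (fun h => hm (by rw [h, hn]))]
    rw [Psi_coeff_eq_zero_iff, Tel_coe, Polynomial.coeff_X, if_neg (fun h => hm h.symm)]
    exact zero_mem _

/-- `phi` at a homogeneous element of degree `n ≠ 1` -/
theorem phi_hom (ρ : K →ₗ[k] k) (S : Finset ℕ) (n : S) (hn : n.1 ≠ 1) (w : SR P) (wn : K)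
    (hw : (w : K[X]) = C wn * X ^ n.1) :
    phi hK P hπ ρ S w = (Psi hK P hπ w).coeff n.1 • Pi.single n 1 := by
  classical
  ext m
  rw [phi_apply, Pi.smul_apply, Pi.single_apply, smul_eq_mul]
  by_cases hm : m.1 = 1
  · rw [if_pos hm, if_neg (fun h => hn (by rw [← h, hm])), mul_zero, hw,
      Polynomial.coeff_C_mul_X_pow, if_neg (fun h => hn h.symm), map_zero]
  · rw [if_neg hm]
    by_cases hmn : m = n
    · rw [if_pos hmn, mul_one, hmn]
    · rw [if_neg hmn, mul_zero, Psi_coeff_eq_zero_iff, hw, Polynomial.coeff_C_mul_X_pow,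
        if_neg (fun h => hmn (Subtype.ext h))]
      exact zero_mem _

end main

theorem spanFinrank_irr (hK : IsFunctionField k K) (hg : 1 ≤ genus k K) (P : Place k K) :
    (irr P).spanFinrank =
      Set.ncard (W4c6gradedringsgw.minGens (W4c6gradedringsgw.poleOrders P)) + 1 := by
  classical
  obtain ⟨π, hπ⟩ := Place.exists_uniformizer P
  obtain ⟨G, hGdef⟩ : ∃ G, G = W4c6gradedringsgw.minGens (W4c6gradedringsgw.poleOrders P) :=
    ⟨_, rfl⟩
  rw [← hGdef]
  have hfin : G.Finite := hGdef ▸ minGens_finite hK hg P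
  have h1G : (1 : ℕ) ∉ G := hGdef ▸ one_notMem_minGens hK hg P
  have hex : ∀ n : ℕ, ∃ w : SR P, n ∈ G →
      (∃ wn : K, (w : K[X]) = C wn * X ^ n) ∧ (Psi hK P hπ w).coeff n ≠ 0 := by
    intro n
    by_cases hn : n ∈ G
    · rw [hGdef] at hn
      obtain ⟨f, hf, hnf⟩ := (mem_poleOrders_iff hK P n).mp hn.1
      exact ⟨mono P n f hf, fun _ =>
        ⟨⟨f, mono_coe P n f hf⟩, Psi_mono_coeff_ne_zero hK P hπ n f hf hnf⟩⟩
    · exact ⟨0, fun h => absurd h hn⟩
  choose F hF using hex
  obtain ⟨Gf, hGf⟩ : ∃ Gf : Finset ℕ, ∀ n, n ∈ Gf ↔ n ∈ G :=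
    ⟨hfin.toFinset, fun n => hfin.mem_toFinset⟩
  have hGfcard : Gf.card = G.ncard := by
    rw [Set.ncard_eq_toFinset_card G hfin]
    congr 1
    ext n
    rw [hGf, hfin.mem_toFinset]
  obtain ⟨S, hSdef⟩ : ∃ S : Finset (SR P), S = insert (Tel P) (Gf.image F) := ⟨_, rfl⟩
  have hS : irr P = Ideal.span (S : Set (SR P)) := by
    apply le_antisymm
    · apply irr_le hK P hπ
      · apply Ideal.subset_span
        rw [hSdef, Finset.mem_coe]
        exact Finset.mem_insert_self _ _
      · intro n hn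
        rw [← hGdef] at hn
        obtain ⟨⟨wn, hw⟩, hΨ⟩ := hF n hn
        refine ⟨F n, Ideal.subset_span ?_, wn, hw, hΨ⟩
        rw [hSdef, Finset.mem_coe]
        exact Finset.mem_insert_of_mem (Finset.mem_image_of_mem F ((hGf n).mpr hn))
    · rw [Ideal.span_le]
      intro x hx
      rw [hSdef, Finset.mem_coe, Finset.mem_insert, Finset.mem_image] at hx
      rcases hx with rfl | ⟨n, hn, rfl⟩
      · rw [SetLike.mem_coe, mem_irr, Tel_coe, Polynomial.coeff_X_zero]
      · have hn' : n ∈ G := (hGf n).mp hn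
        obtain ⟨⟨wn, hw⟩, -⟩ := hF n hn'
        rw [SetLike.mem_coe, mem_irr, hw, Polynomial.coeff_C_mul_X_pow, if_neg]
        intro h
        rw [hGdef] at hn'
        exact hn'.2.1 h.symm
  have hcard : S.card ≤ G.ncard + 1 := by
    calc S.card ≤ (Gf.image F).card + 1 := by rw [hSdef]; exact Finset.card_insert_le _ _
      _ ≤ Gf.card + 1 := by gcongr; exact Finset.card_image_le
      _ = G.ncard + 1 := by rw [hGfcard]
  apply le_antisymm
  · rw [hS]
    calc _ ≤ (S : Set (SR P)).ncard :=
          Submodule.spanFinrank_span_le_ncard_of_finite S.finite_toSet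
      _ = S.card := Set.ncard_coe_finset S
      _ ≤ _ := hcard
  · have hFG : (irr P).FG := by rw [hS]; exact ⟨S, rfl⟩
    obtain ⟨s, hscard, hs⟩ := Submodule.FG.exists_span_finset_card_eq_spanFinrank hFG
    rw [← hscard]
    obtain ⟨ρ, hρ⟩ := LinearMap.exists_leftInverse_of_injective (Algebra.linearMap k K)
      (LinearMap.ker_eq_bot.mpr (algebraMap k K).injective)
    have hρ' : ∀ c, ρ (algebraMap k K c) = c := fun c => LinearMap.congr_fun hρ c
    obtain ⟨S', hS'def⟩ : ∃ S' : Finset ℕ, S' = insert 1 Gf := ⟨_, rfl⟩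
    have hS' : ∀ n ∈ S', n ≠ 1 →
        n ∈ W4c6gradedringsgw.minGens (W4c6gradedringsgw.poleOrders P) := by
      intro n hn h1
      rw [hS'def, Finset.mem_insert] at hn
      rcases hn with rfl | hn
      · exact absurd rfl h1
      · rw [← hGdef]; exact (hGf n).mp hn
    have hclaim : ∀ x ∈ Ideal.span (s : Set (SR P)),
        phi hK P hπ ρ S' x ∈ Submodule.span k (phi hK P hπ ρ S' '' (s : Set (SR P))) := by
      intro x hx
      have hxs : ∀ y ∈ Ideal.span (s : Set (SR P)), (y : K[X]).coeff 0 = 0 := by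
        intro y hy
        change y ∈ Submodule.span (SR P) (s : Set (SR P)) at hy
        rw [hs] at hy
        exact (mem_irr P y).mp hy
      induction hx using Submodule.span_induction with
      | mem x hx => exact Submodule.subset_span ⟨x, hx, rfl⟩
      | zero => rw [map_zero]; exact zero_mem _
      | add x y hx hy ihx ihy => rw [map_add]; exact add_mem ihx ihy
      | smul r x hx ih =>
        rw [smul_eq_mul, phi_mul hK P hπ ρ S' hS' r x (hxs x hx)]
        exact Submodule.smul_mem _ _ ih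
    have hirr : ∀ x ∈ irr P,
        phi hK P hπ ρ S' x ∈ Submodule.span k (phi hK P hπ ρ S' '' (s : Set (SR P))) := by
      intro x hx
      apply hclaim
      change x ∈ Submodule.span (SR P) (s : Set (SR P))
      rw [hs]
      exact hx
    have htop : Submodule.span k (phi hK P hπ ρ S' '' (s : Set (SR P))) = ⊤ := by
      rw [eq_top_iff, ← (Pi.basisFun k ↥S').span_eq, Submodule.span_le]
      rintro _ ⟨n, rfl⟩
      rw [Pi.basisFun_apply, SetLike.mem_coe]
      by_cases hn : n.1 = 1
      · rw [← phi_Tel hK P hπ ρ hρ' S' n hn]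
        apply hirr
        rw [mem_irr, Tel_coe, Polynomial.coeff_X_zero]
      · have hnG : n.1 ∈ G := by
          have := hS' n.1 n.2 hn
          rwa [← hGdef] at this
        obtain ⟨⟨wn, hw⟩, hΨ⟩ := hF n.1 hnG
        have h1 := phi_hom hK P hπ ρ S' n hn (F n.1) wn hw
        have h2 : (Pi.single n 1 : ↥S' → k) =
            ((Psi hK P hπ (F n.1)).coeff n.1)⁻¹ • phi hK P hπ ρ S' (F n.1) := by
          rw [h1, smul_smul, inv_mul_cancel₀ hΨ, one_smul]
        rw [h2]
        apply Submodule.smul_mem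
        apply hirr
        rw [mem_irr, hw, Polynomial.coeff_C_mul_X_pow, if_neg]
        intro h
        rw [hGdef] at hnG
        exact hnG.2.1 h.symm
    have h1 : finrank k (↥S' → k) = G.ncard + 1 := by
      rw [Module.finrank_fintype_fun_eq_card, Fintype.card_coe, hS'def,
        Finset.card_insert_of_notMem (fun h => h1G ((hGf 1).mp h)), hGfcard]
    calc G.ncard + 1 = finrank k (↥S' → k) := h1.symm
      _ = finrank k (⊤ : Submodule k (↥S' → k)) := (finrank_top k _).symm
      _ = finrank k (Submodule.span k (phi hK P hπ ρ S' '' (s : Set (SR P)))) := by rw [htop]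
      _ ≤ (s.image (phi hK P hπ ρ S')).card := by
          rw [← Finset.coe_image]
          exact finrank_span_finset_le_card _
      _ ≤ s.card := Finset.card_image_le

end Groth.Agent.H86.FF
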