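import Mathlib
import Groth.Agent.H86.SR6

set_option autoImplicit false
set_option linter.unusedSectionVars false

namespace Groth.Agent.H86.FF

open FunFld Module Groth.Agent.H55 Polynomial

variable {k K : Type*} [Field k] [Field K] [Algebra k K] [IsAlgClosed k]

/-- functions regular away from `P` -/
def AP (P : Place k K) : Subalgebra k K where
  carrier := {f | ∀ R : Place k K, R ≠ P → R.1 f ≤ 1}
  mul_mem' {a b} ha hb R hR := by
    rw [map_mul]
    exact mul_le_one' (ha R hR) (hb R hR)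
  add_mem' {a b} ha hb R hR := (R.1.map_add a b).trans (max_le (ha R hR) (hb R hR))
  algebraMap_mem' c R _ := R.2.1 c

theorem mem_AP (P : Place k K) (f : K) : f ∈ AP P ↔ ∀ R : Place k K, R ≠ P → R.1 f ≤ 1 := Iff.rfl

theorem mem_AP_of_mem_L (P : Place k K) {n : ℕ} {f : K}
    (hf : f ∈ L ((n : ℤ) • (Finsupp.single P 1 : Divisor k K))) : f ∈ AP P :=
  ((mem_L_smul_single P n f).mp hf).2

theorem exists_mem_L_of_mem_AP (P : Place k K) {f : K} (hf : f ∈ AP P) :
    ∃ n : ℕ, f ∈ L ((n : ℤ) • (Finsupp.single P 1 : Divisor k K)) := by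
  by_cases h0 : f = 0
  · exact ⟨0, h0 ▸ zero_mem _⟩
  · refine ⟨(-(P.ord f)).toNat, ?_⟩
    rw [mem_L_smul_single]
    refine ⟨?_, hf⟩
    rw [Place.val_eq_exp_neg_ord P h0, WithZero.exp_le_exp]
    omega

/-- division with remainder in the filtration by pole order -/
theorem exists_sub_smul_mem (hK : IsFunctionField k K) (P : Place k K) (n : ℕ) {f g : K}
    (hf : f ∈ L ((n : ℤ) • (Finsupp.single P 1 : Divisor k K)))
    (hg : g ∈ L ((n : ℤ) • (Finsupp.single P 1 : Divisor k K)))
    (hng : g ∉ L (((n : ℤ) - 1) • (Finsupp.single P 1 : Divisor k K))) :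
    ∃ c : k, f - c • g ∈ L (((n : ℤ) - 1) • (Finsupp.single P 1 : Divisor k K)) := by
  obtain ⟨π, hπ⟩ := Place.exists_uniformizer P
  have hΨ := Psi_mono_coeff_ne_zero hK P hπ n g hg hng
  refine ⟨(Psi hK P hπ (mono P n f hf)).coeff n / (Psi hK P hπ (mono P n g hg)).coeff n, ?_⟩
  obtain ⟨c, hc⟩ : ∃ c : k, c = (Psi hK P hπ (mono P n f hf)).coeff n /
      (Psi hK P hπ (mono P n g hg)).coeff n := ⟨_, rfl⟩
  rw [← hc]
  have h1 : (Psi hK P hπ (mono P n f hf - c • mono P n g hg)).coeff n = 0 := by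
    rw [map_sub, map_smul, Polynomial.coeff_sub, Polynomial.coeff_smul, smul_eq_mul, hc,
      div_mul_cancel₀ _ hΨ, sub_self]
  rw [Psi_coeff_eq_zero_iff] at h1
  have h2 : ((mono P n f hf - c • mono P n g hg : SR P) : K[X]).coeff n = f - c • g := by
    change ((mono P n f hf : K[X]) - c • (mono P n g hg : K[X])).coeff n = _
    rw [mono_coe, mono_coe, Polynomial.coeff_sub, Polynomial.coeff_smul,
      Polynomial.coeff_C_mul_X_pow, Polynomial.coeff_C_mul_X_pow, if_pos rfl, if_pos rfl]
  rwa [h2] at h1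

/-- exact pole order from membership -/
theorem val_eq_of_mem_of_notMem (P : Place k K) (n : ℕ) {g : K}
    (hg : g ∈ L ((n : ℤ) • (Finsupp.single P 1 : Divisor k K)))
    (hng : g ∉ L (((n : ℤ) - 1) • (Finsupp.single P 1 : Divisor k K))) :
    P.1 g = WithZero.exp (n : ℤ) := by
  rw [mem_L_smul_single] at hg hng
  apply le_antisymm hg.1
  by_contra hlt
  push Not at hlt
  exact hng ⟨Place.lt_exp_iff_le_exp_sub_one.mp hlt, hg.2⟩

theorem notMem_of_val_eq (P : Place k K) (n : ℕ) {g : K} (hg : P.1 g = WithZero.exp (n : ℤ)) :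
    g ∉ L (((n : ℤ) - 1) • (Finsupp.single P 1 : Divisor k K)) := by
  rw [mem_L_smul_single]
  rintro ⟨h, -⟩
  rw [hg, WithZero.exp_le_exp] at h
  omega

/-- in genus one, `⋃ L(nP)` is generated by `x ∈ L(2P)` and `y ∈ L(3P)` -/
theorem L_le_adjoin (hK : IsFunctionField k K) (hg : genus k K = 1) (P : Place k K) {x y : K}
    (hx : x ∈ L (((2 : ℕ) : ℤ) • (Finsupp.single P 1 : Divisor k K)))
    (hx' : P.1 x = WithZero.exp (2 : ℤ))
    (hy : y ∈ L (((3 : ℕ) : ℤ) • (Finsupp.single P 1 : Divisor k K)))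
    (hy' : P.1 y = WithZero.exp (3 : ℤ)) (n : ℕ) (f : K)
    (hf : f ∈ L ((n : ℤ) • (Finsupp.single P 1 : Divisor k K))) :
    f ∈ Algebra.adjoin k ({x, y} : Set K) := by
  induction n using Nat.strong_induction_on generalizing f with
  | _ n ih =>
    rcases Nat.lt_or_ge n 2 with hn | hn
    · -- constants
      have hf1 : f ∈ L (Finsupp.single P (1 : ℤ) : Divisor k K) := by
        have hle : (n : ℤ) • (Finsupp.single P 1 : Divisor k K) ≤ Finsupp.single P (1 : ℤ) := by
          classical
          rw [smul_single_one]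
          intro R
          rw [Finsupp.single_apply, Finsupp.single_apply]
          split_ifs <;> omega
        exact L_mono hle hf
      obtain ⟨c, hc⟩ := const_of_mem_L_single hK (by omega) P hf1
      rw [← hc]
      exact Subalgebra.algebraMap_mem _ c
    · -- a monomial of exact pole order n
      obtain ⟨i, j, hij⟩ : ∃ i j : ℕ, 2 * i + 3 * j = n := by
        rcases Nat.even_or_odd' n with ⟨m, hm | hm⟩
        · exact ⟨m, 0, by omega⟩
        · exact ⟨m - 1, 1, by omega⟩
      have hxA : x ∈ Algebra.adjoin k ({x, y} : Set K) :=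
        Algebra.subset_adjoin (Set.mem_insert _ _)
      have hyA : y ∈ Algebra.adjoin k ({x, y} : Set K) :=
        Algebra.subset_adjoin (Set.mem_insert_of_mem _ rfl)
      have hgA : x ^ i * y ^ j ∈ Algebra.adjoin k ({x, y} : Set K) :=
        mul_mem (pow_mem hxA i) (pow_mem hyA j)
      have hgval : P.1 (x ^ i * y ^ j) = WithZero.exp (n : ℤ) := by
        rw [map_mul, map_pow, map_pow, hx', hy', ← WithZero.exp_nsmul, ← WithZero.exp_nsmul,
          ← WithZero.exp_add, ← hij]
        congr 1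
        push_cast
        simp only [nsmul_eq_mul]
        ring
      have hgL : x ^ i * y ^ j ∈ L ((n : ℤ) • (Finsupp.single P 1 : Divisor k K)) := by
        rw [mem_L_smul_single]
        refine ⟨hgval.le, fun R hR => ?_⟩
        rw [map_mul, map_pow, map_pow]
        exact mul_le_one' (pow_le_one' (((mem_L_smul_single P _ x).mp hx).2 R hR) i)
          (pow_le_one' (((mem_L_smul_single P _ y).mp hy).2 R hR) j)
      obtain ⟨c, hc⟩ := exists_sub_smul_mem hK P n hf hgL (notMem_of_val_eq P n hgval)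
      have e : ((n : ℤ) - 1) = ((n - 1 : ℕ) : ℤ) := by omega
      rw [e] at hc
      have := ih (n - 1) (by omega) _ hc
      have h2 : f = (f - c • (x ^ i * y ^ j)) + c • (x ^ i * y ^ j) := by ring
      rw [h2]
      exact add_mem this (Subalgebra.smul_mem _ hgA c)

end Groth.Agent.H86.FF
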