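import Mathlib
import Groth.Agent.H86.DV1

set_option autoImplicit false
set_option linter.unusedSectionVars false

namespace Groth.Agent.H86.FF

open FunFld Module Groth.Agent.H55 Polynomial

variable {k K : Type*} [Field k] [Field K] [Algebra k K] [IsAlgClosed k]

/-- every function regular at `Q ≠ P` is a quotient of functions regular away from `P`,
with denominator a unit at `Q` -/
theorem exists_frac (hK : IsFunctionField k K) (P Q : Place k K) (hQP : Q ≠ P) (f : K)
    (hf : Q.1 f ≤ 1) : ∃ b : K, b ∈ AP P ∧ Q.1 b = 1 ∧ f * b ∈ AP P := by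
  classical
  by_cases h0 : f = 0
  · exact ⟨1, one_mem _, map_one _, by rw [h0, zero_mul]; exact zero_mem _⟩
  obtain ⟨E, hE⟩ : ∃ E : Divisor k K, E = (poleDiv k f).erase P := ⟨_, rfl⟩
  have hEP : E P = 0 := by rw [hE, Finsupp.erase_same]
  have hER : ∀ R : Place k K, R ≠ P → E R = max (-R.ord f) 0 := by
    intro R hR
    rw [hE, Finsupp.erase_ne hR, poleDiv_apply hK]
  have hE0 : 0 ≤ E := by
    intro R
    by_cases hR : R = P
    · rw [hR, hEP]; rfl
    · rw [hER R hR]; exact le_max_right _ _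
  have hEQ : E Q = 0 := by
    rw [hER Q hQP]
    have := (Place.ord_nonneg_iff Q h0).mpr hf
    omega
  have hdegE := Divisor.deg_nonneg hE0
  obtain ⟨N, hN⟩ : ∃ N : ℕ, (N : ℤ) = E.deg + 2 * genus k K + 1 :=
    ⟨(E.deg + 2 * genus k K + 1).toNat, by omega⟩
  obtain ⟨D₁, hD₁⟩ : ∃ D₁ : Divisor k K, D₁ = (N : ℤ) • (Finsupp.single P 1 : Divisor k K) - E :=
    ⟨_, rfl⟩
  have hdeg1 : D₁.deg = 2 * genus k K + 1 := by
    rw [hD₁, Divisor.deg_sub, smul_single_one, deg_single_one hK, hN]
    ring
  have hle : D₁ - Finsupp.single Q 1 ≤ D₁ := by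
    intro R
    rw [Finsupp.sub_apply, Finsupp.single_apply]
    split_ifs <;> omega
  have hell1 := ell_of_deg_ge hK D₁ (by rw [hdeg1]; omega)
  have hell2 := ell_of_deg_ge hK (D₁ - Finsupp.single Q 1)
    (by rw [Divisor.deg_sub, deg_single_one hK, hdeg1]; omega)
  rw [Divisor.deg_sub, deg_single_one hK] at hell2
  have hlt : L (D₁ - Finsupp.single Q 1) < L D₁ := by
    refine lt_of_le_of_ne (L_mono hle) ?_
    intro heq
    unfold ell at hell1 hell2
    rw [heq] at hell2
    omega
  obtain ⟨b, hb1, hb2⟩ := SetLike.exists_of_lt hlt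
  have hD₁R : ∀ R : Place k K, R ≠ P → D₁ R = - E R := by
    intro R hR
    rw [hD₁, Finsupp.sub_apply, smul_single_one, Finsupp.single_apply, if_neg (Ne.symm hR),
      zero_sub]
  refine ⟨b, ?_, ?_, ?_⟩
  · intro R hR
    refine ((mem_L.mp hb1) R).trans ?_
    rw [hD₁R R hR, ← WithZero.exp_zero, WithZero.exp_le_exp]
    have := hE0 R
    simp only [Finsupp.coe_zero, Pi.zero_apply] at this
    omega
  · apply le_antisymm
    · have := (mem_L.mp hb1) Q
      rwa [hD₁R Q hQP, hEQ, neg_zero, WithZero.exp_zero] at this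
    · by_contra hlt1
      push Not at hlt1
      apply hb2
      rw [mem_L]
      intro R
      by_cases hR : R = Q
      · rw [hR, Finsupp.sub_apply, Finsupp.single_apply, if_pos rfl, hD₁R Q hQP, hEQ, neg_zero]
        have hlt2 : Q.1 b < WithZero.exp (0 : ℤ) := by rw [WithZero.exp_zero]; exact hlt1
        exact Place.lt_exp_iff_le_exp_sub_one.mp hlt2
      · rw [Finsupp.sub_apply, Finsupp.single_apply, if_neg (Ne.symm hR), sub_zero]
        exact (mem_L.mp hb1) R
  · intro R hR
    rw [map_mul]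
    have h1 := (mem_L.mp hb1) R
    rw [hD₁R R hR, hER R hR] at h1
    rw [Place.val_eq_exp_neg_ord R h0]
    calc WithZero.exp (-R.ord f) * R.1 b
        ≤ WithZero.exp (-R.ord f) * WithZero.exp (-max (-R.ord f) 0) := by gcongr
      _ = WithZero.exp (-R.ord f + -max (-R.ord f) 0) := (WithZero.exp_add _ _).symm
      _ ≤ 1 := by
        rw [← WithZero.exp_zero, WithZero.exp_le_exp]
        have := le_max_left (-R.ord f) 0
        omega

end Groth.Agent.H86.FF
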