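import Mathlib
import Groth.Agent.H86.DV2

set_option autoImplicit false
set_option linter.unusedSectionVars false

namespace Groth.Agent.H86.FF

open FunFld Module Groth.Agent.H55 Polynomial

variable {k K : Type*} [Field k] [Field K] [Algebra k K]

theorem essFiniteType_of_isFunctionField (hK : IsFunctionField k K) : Algebra.EssFiniteType k K := by
  obtain ⟨x, -, hfin⟩ := hK.1
  have h1 : Algebra.EssFiniteType k (IntermediateField.adjoin k ({x} : Set K)) := by
    rw [IntermediateField.essFiniteType_iff]
    exact IntermediateField.fg_adjoin_of_finite (Set.finite_singleton x)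
  exact Algebra.EssFiniteType.comp k (IntermediateField.adjoin k ({x} : Set K)) K

/-- a function field of one variable has a nonzero derivation -/
theorem exists_derivation_ne_zero (hK : IsFunctionField k K) :
    ∃ δ : Derivation k K K, δ ≠ 0 := by
  have hess := essFiniteType_of_isFunctionField hK
  have hnon : ¬ Subsingleton (Ω[K⁄k]) := by
    intro hsub
    have hfu : Algebra.FormallyUnramified k K := ⟨hsub⟩
    have hsep : Algebra.IsSeparable k K := Algebra.FormallyUnramified.isSeparable k K
    obtain ⟨x, hx, -⟩ := hK.1
    exact hx (Algebra.IsAlgebraic.isAlgebraic x)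
  rw [not_subsingleton_iff_nontrivial] at hnon
  obtain ⟨ω, hω⟩ := exists_ne (0 : Ω[K⁄k])
  obtain ⟨φ, hφ⟩ := Module.Projective.exists_dual_ne_zero K hω
  refine ⟨φ.compDer (KaehlerDifferential.D k K), ?_⟩
  intro h0
  apply hφ
  have : φ = 0 := by
    apply Derivation.liftKaehlerDifferential_unique
    rw [h0]
    ext x
    simp
  rw [this]
  rfl

end Groth.Agent.H86.FF
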