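import Groth.Agent.H86.KS1
import Mathlib.CategoryTheory.Abelian.SerreClass.Localization

/-! # H86/KS2: `K₀(P) → K₀(A) → K₀(A/P) → 0` is exact. -/

set_option autoImplicit false
universe v v' u u'
open CategoryTheory CategoryTheory.Limits ZeroObject

namespace Groth.Agent.H86.KS

open KZero

variable {A : Type u} [Category.{v} A] [Abelian A] (P : ObjectProperty A) [P.IsSerreClass]
  {Q : Type u'} [Category.{v'} Q] [Abelian Q]
  (L : A ⥤ Q) [L.IsLocalization P.isoModSerre] [L.Additive]
  [PreservesFiniteLimits L] [PreservesFiniteColimits L]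

theorem sub_mem_range_of_isoModSerre {X X' : A} (f : X ⟶ X') (hf : P.isoModSerre f) :
    cl X - cl X' ∈ (iotaHom P).range := by
  rw [cl_sub_cl f]
  exact ⟨clSub P (kernel f) - clSub P (cokernel f), by
    rw [map_sub, iotaHom_clSub P hf.1, iotaHom_clSub P hf.2]⟩

include L in
theorem sub_mem_range_of_iso {X X' : A} (e : L.obj X ≅ L.obj X') :
    cl X - cl X' ∈ (iotaHom P).range := by
  obtain ⟨φ, hφ⟩ := Localization.exists_leftFraction L P.isoModSerre e.hom
  have h1 : L.map φ.f = e.hom ≫ L.map φ.s := by rw [hφ]; simp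
  have : IsIso (L.map φ.s) := Localization.inverts L _ _ φ.hs
  have h2 : IsIso (L.map φ.f) := by rw [h1]; infer_instance
  have h3 : P.isoModSerre φ.f := (ObjectProperty.SerreClassLocalization.isIso_map_iff L P _).1 h2
  have a := sub_mem_range_of_isoModSerre P φ.f h3
  have b := sub_mem_range_of_isoModSerre P φ.s φ.hs
  have := (iotaHom P).range.sub_mem a b
  simpa using this

theorem lamHom_comp_iotaHom (x : K0sub P) : lamHom L (iotaHom P x) = 0 := by
  induction x using K0sub_induction P with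
  | zero => simp
  | cl X hX =>
    rw [iotaHom_clSub P hX, lamHom_cl]
    exact cl_isZero ((ObjectProperty.SerreClassLocalization.isZero_obj_iff L P X).2 hX)
  | neg x h => rw [map_neg, map_neg, h, neg_zero]
  | add x y hx hy => rw [map_add, map_add, hx, hy, add_zero]

include P in
theorem lamHom_surjective : Function.Surjective (lamHom L) := by
  have := Localization.essSurj L P.isoModSerre
  intro y
  induction y using K0_induction with
  | zero => exact ⟨0, map_zero _⟩
  | cl Y =>
    refine ⟨cl (L.objPreimage Y), ?_⟩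
    rw [lamHom_cl]
    exact cl_iso (L.objObjPreimageIso Y)
  | neg x h => obtain ⟨a, rfl⟩ := h; exact ⟨-a, map_neg _ _⟩
  | add x y hx hy =>
    obtain ⟨a, rfl⟩ := hx; obtain ⟨b, rfl⟩ := hy; exact ⟨a + b, map_add _ _ _⟩

/-- Key: for a short exact sequence in `Q` and objects of `A` lifting its terms,
the alternating sum of classes lies in the image of `K₀(P)`. -/
theorem shortExact_lift_mem (S : ShortComplex Q) (hS : S.ShortExact)
    (X₁ X₂ X₃ : A) (e₁ : L.obj X₁ ≅ S.X₁) (e₂ : L.obj X₂ ≅ S.X₂) (e₃ : L.obj X₃ ≅ S.X₃) :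
    cl X₂ - cl X₁ - cl X₃ ∈ (iotaHom P).range := by
  have := hS.mono_f
  have := hS.epi_g
  obtain ⟨φ, hφ⟩ := Localization.exists_rightFraction L P.isoModSerre (e₁.hom ≫ S.f ≫ e₂.inv)
  have : IsIso (L.map φ.s) := Localization.inverts L _ _ φ.hs
  have h1 : L.map φ.f = L.map φ.s ≫ e₁.hom ≫ S.f ≫ e₂.inv := by rw [hφ]; simp
  have hmono : Mono (L.map φ.f) := by
    rw [h1]
    infer_instance
  have hker : P (kernel φ.f) := (ObjectProperty.SerreClassLocalization.mono_map_iff L P _).1 hmono
  -- the short complex `L X' → L X₂ → S.X₃`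
  have w : L.map φ.f ≫ e₂.hom ≫ S.g = 0 := by
    rw [h1]; simp
  let T : ShortComplex Q := ShortComplex.mk (L.map φ.f) (e₂.hom ≫ S.g) w
  let eT : T ≅ S := ShortComplex.isoMk (asIso (L.map φ.s) ≪≫ e₁) e₂ (Iso.refl _)
    (by dsimp [T]; rw [h1]; simp) (by dsimp [T]; simp)
  have hT : T.ShortExact := ShortComplex.shortExact_of_iso eT.symm hS
  have := hT.epi_g
  have hc := hT.exact.gIsCokernel
  let i1 : L.obj (cokernel φ.f) ≅ cokernel (L.map φ.f) := PreservesCokernel.iso L φ.f
  let i2 : cokernel (L.map φ.f) ≅ S.X₃ :=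
    IsColimit.coconePointUniqueUpToIso (cokernelIsCokernel (L.map φ.f)) hc
  have hcok := sub_mem_range_of_iso P L (i1 ≪≫ i2 ≪≫ e₃.symm)
  have hs := sub_mem_range_of_isoModSerre P φ.s φ.hs
  have hk : cl (kernel φ.f) ∈ (iotaHom P).range := ⟨clSub P _, iotaHom_clSub P hker⟩
  have e1 := cl_ker_im φ.f
  have e2 := cl_im_coker φ.f
  have : cl X₂ - cl X₁ - cl X₃ =
      (cl (cokernel φ.f) - cl X₃) + (cl φ.X' - cl X₁) - cl (kernel φ.f) := by
    rw [e1, e2]; abel
  rw [this]
  exact (iotaHom P).range.sub_mem ((iotaHom P).range.add_mem hcok hs) hk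

/-- The map `K₀(Q) → K₀(A)/im K₀(P)`. -/
noncomputable def sigmaHom : K0 Q →+ K0 A ⧸ (iotaHom P).range :=
  have := Localization.essSurj L P.isoModSerre
  QuotientAddGroup.lift (relAb Q)
    (FreeAbelianGroup.lift (fun Y => (QuotientAddGroup.mk (cl (L.objPreimage Y)) :
      K0 A ⧸ (iotaHom P).range))) (by
    rw [relAb, AddSubgroup.closure_le]
    rintro x ⟨S, hS, rfl⟩
    simp only [SetLike.mem_coe, AddMonoidHom.mem_ker, map_sub, FreeAbelianGroup.lift_apply_of]
    rw [← QuotientAddGroup.mk_sub, ← QuotientAddGroup.mk_sub, QuotientAddGroup.eq_zero_iff]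
    exact shortExact_lift_mem P L S hS _ _ _ (L.objObjPreimageIso _) (L.objObjPreimageIso _)
      (L.objObjPreimageIso _))

theorem sigmaHom_lamHom (x : K0 A) :
    sigmaHom P L (lamHom L x) = QuotientAddGroup.mk x := by
  have := Localization.essSurj L P.isoModSerre
  induction x using K0_induction with
  | zero => simp
  | cl X =>
    rw [lamHom_cl]
    change (QuotientAddGroup.mk (cl (L.objPreimage (L.obj X))) : K0 A ⧸ (iotaHom P).range) = _
    rw [QuotientAddGroup.eq_iff_sub_mem]
    exact sub_mem_range_of_iso P L (L.objObjPreimageIso (L.obj X))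
  | neg x h => rw [map_neg, map_neg, h, QuotientAddGroup.mk_neg]
  | add x y hx hy => rw [map_add, map_add, hx, hy, QuotientAddGroup.mk_add]

theorem lamHom_ker : (lamHom L).ker = (iotaHom P).range := by
  apply le_antisymm
  · intro x hx
    rw [AddMonoidHom.mem_ker] at hx
    have := sigmaHom_lamHom P L x
    rw [hx, map_zero] at this
    exact (QuotientAddGroup.eq_zero_iff _).1 this.symm
  · rintro _ ⟨x, rfl⟩
    exact lamHom_comp_iotaHom P L x

end Groth.Agent.H86.KS
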