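import Mathlib
import Groth.Agent.H55.FFRR

/-!
# GM1: the constant field extension of a function field is a function field (abstract form)
-/

set_option autoImplicit false

namespace Groth.Agent.H86.GeoModel

open FunFld Module IntermediateField

variable {k K kb Kb : Type*} [Field k] [Field K] [Algebra k K] [Field kb] [Algebra k kb]
  [Field Kb] [Algebra K Kb] [Algebra kb Kb] [Algebra k Kb]
  [IsScalarTower k K Kb] [IsScalarTower k kb Kb]

/-- transcendental elements stay transcendental over an algebraic extension of the constants -/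
theorem transcendental_algebraMap_of_isAlgebraic [Algebra.IsAlgebraic k kb] {x : K}
    (hx : Transcendental k x) : Transcendental kb (algebraMap K Kb x) := by
  intro h
  have h1 : IsAlgebraic k (algebraMap K Kb x) := h.restrictScalars k
  exact hx ((isAlgebraic_algebraMap_iff (algebraMap K Kb).injective).mp h1)

/-- the image of `k(x)` lies in `kb(x)` -/
theorem algebraMap_mem_adjoin {x : K} {c : K} (hc : c ∈ k⟮x⟯) :
    algebraMap K Kb c ∈ kb⟮algebraMap K Kb x⟯ := by
  let M : IntermediateField k K :=
    ((kb⟮algebraMap K Kb x⟯).restrictScalars k).comap (IsScalarTower.toAlgHom k K Kb)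
  have hle : k⟮x⟯ ≤ M := by
    rw [adjoin_le_iff]
    intro z hz
    rw [Set.mem_singleton_iff] at hz
    subst hz
    show algebraMap K Kb z ∈ kb⟮algebraMap K Kb z⟯
    exact mem_adjoin_simple_self kb _
  exact hle hc

/-- algebraic elements over an algebraically closed field are constants -/
theorem mem_range_of_isAlgebraic [IsAlgClosed kb] {y : Kb} (hy : IsAlgebraic kb y) :
    y ∈ Set.range (algebraMap kb Kb) := by
  have hint : IsIntegral kb y := hy.isIntegral
  have h1 := IsAlgClosed.degree_eq_one_of_irreducible kb (minpoly.irreducible hint)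
  exact minpoly.mem_range_of_degree_eq_one kb y h1

/-- finite generation over `kb(x)` -/
theorem finiteDimensional_adjoin {x : K} [FiniteDimensional k⟮x⟯ K]
    (hgen : Algebra.adjoin K (Set.range (algebraMap kb Kb)) = ⊤) :
    FiniteDimensional kb⟮algebraMap K Kb x⟯ Kb := by
  classical
  set L := kb⟮algebraMap K Kb x⟯ with hL
  let b := Module.finBasis k⟮x⟯ K
  let e : Fin (finrank k⟮x⟯ K) → Kb := fun i => algebraMap K Kb (b i)
  set S : Submodule L Kb := Submodule.span L (Set.range e) with hS
  -- Step 1: the image of `K` lies in `S`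
  have h1 : ∀ z : K, algebraMap K Kb z ∈ S := by
    intro z
    have hz := b.sum_repr z
    rw [← hz, map_sum]
    apply Submodule.sum_mem
    intro i _
    have hci : algebraMap K Kb ((b.repr z i : k⟮x⟯) : K) ∈ L := algebraMap_mem_adjoin (b.repr z i).2
    have : algebraMap K Kb (b.repr z i • b i) =
        (⟨_, hci⟩ : L) • e i := by
      rw [IntermediateField.smul_def, smul_eq_mul, map_mul]
      rfl
    rw [this]
    exact Submodule.smul_mem _ _ (Submodule.subset_span ⟨i, rfl⟩)
  -- Step 2: `S` is stable under multiplication by `K`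
  have h2 : ∀ (z : K) (s : Kb), s ∈ S → algebraMap K Kb z * s ∈ S := by
    intro z s hs
    induction hs using Submodule.span_induction with
    | mem s hs =>
      obtain ⟨i, rfl⟩ := hs
      show algebraMap K Kb z * algebraMap K Kb (b i) ∈ S
      rw [← map_mul]
      exact h1 _
    | zero => rw [mul_zero]; exact Submodule.zero_mem _
    | add s t _ _ hs ht => rw [mul_add]; exact Submodule.add_mem _ hs ht
    | smul l s _ hs =>
      rw [mul_smul_comm]
      exact Submodule.smul_mem _ _ hs
  -- Step 3: stable under multiplication by `kb`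
  have h3 : ∀ (c : kb) (s : Kb), s ∈ S → algebraMap kb Kb c * s ∈ S := by
    intro c s hs
    have : algebraMap kb Kb c * s = (algebraMap kb L c) • s := by
      rw [IntermediateField.smul_def, smul_eq_mul]
      rfl
    rw [this]
    exact Submodule.smul_mem _ _ hs
  have h4 : ∀ w ∈ Algebra.adjoin K (Set.range (algebraMap kb Kb)), ∀ s ∈ S, w * s ∈ S := by
    intro w hw
    induction hw using Algebra.adjoin_induction with
    | mem w hw =>
      obtain ⟨c, rfl⟩ := hw
      exact h3 c
    | algebraMap z => exact h2 z
    | add w w' _ _ hw hw' =>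
      intro s hs
      rw [add_mul]
      exact Submodule.add_mem _ (hw s hs) (hw' s hs)
    | mul w w' _ _ hw hw' =>
      intro s hs
      rw [mul_assoc]
      exact hw _ (hw' s hs)
  have htop : S = ⊤ := by
    rw [eq_top_iff]
    intro w _
    have hw : w ∈ Algebra.adjoin K (Set.range (algebraMap kb Kb)) := by
      rw [hgen]
      trivial
    have := h4 w hw 1 (by simpa using h1 1)
    rwa [mul_one] at this
  have hfg : (⊤ : Submodule L Kb).FG :=
    ⟨Finset.univ.image e, by rw [Finset.coe_image, Finset.coe_univ, Set.image_univ]; exact htop⟩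
  exact ⟨hfg⟩

/-- **the constant field extension is a function field** -/
theorem isFunctionField_of_adjoin [IsAlgClosed kb] [Algebra.IsAlgebraic k kb]
    (hK : IsFunctionField k K)
    (hgen : Algebra.adjoin K (Set.range (algebraMap kb Kb)) = ⊤) :
    IsFunctionField kb Kb := by
  obtain ⟨⟨x, hx, hfin⟩, -⟩ := hK
  refine ⟨⟨algebraMap K Kb x, transcendental_algebraMap_of_isAlgebraic hx, ?_⟩, ?_⟩
  · haveI := hfin
    exact finiteDimensional_adjoin (k := k) hgen
  · intro y hy
    exact mem_range_of_isAlgebraic hy

end Groth.Agent.H86.GeoModel
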