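import Mathlib

/-!
# ZT18: a bound on power sums bounds the summands (endgame of the Riemann hypothesis)
-/

set_option autoImplicit false

namespace Groth.Agent.H86.Zeta

open Filter Topology

theorem strictMono_add_le {φ : ℕ → ℕ} (hφ : StrictMono φ) (n k : ℕ) : φ n + k ≤ φ (n + k) := by
  induction k with
  | zero => simp
  | succ k ih =>
    have := hφ (show n + k < n + (k + 1) by omega)
    omega

/-- simultaneous recurrence of the powers of finitely many complex numbers of norm one. -/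
theorem exists_pow_near_one {m : ℕ} (u : Fin m → ℂ) (hu : ∀ j, ‖u j‖ = 1) (ε : ℝ) (hε : 0 < ε)
    (N : ℕ) : ∃ r, N ≤ r ∧ 0 < r ∧ ∀ j, ‖u j ^ r - 1‖ < ε := by
  let x : ℕ → (Fin m → ℂ) := fun r j => u j ^ r
  have hx : ∀ r, x r ∈ Metric.closedBall (0 : Fin m → ℂ) 1 := by
    intro r
    rw [mem_closedBall_zero_iff, pi_norm_le_iff_of_nonneg zero_le_one]
    intro j
    simp [x, hu j]
  obtain ⟨a, -, φ, hφ, hlim⟩ := (isCompact_closedBall (0 : Fin m → ℂ) 1).tendsto_subseq hx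
  have hc := hlim.cauchySeq
  rw [Metric.cauchySeq_iff] at hc
  obtain ⟨n₁, hn₁⟩ := hc ε hε
  have h1 : φ n₁ + (N + 1) ≤ φ (n₁ + (N + 1)) := strictMono_add_le hφ _ _
  refine ⟨φ (n₁ + (N + 1)) - φ n₁, by omega, by omega, fun j => ?_⟩
  have hd := hn₁ (n₁ + (N + 1)) (by omega) n₁ le_rfl
  have hj : ‖u j ^ φ (n₁ + (N + 1)) - u j ^ φ n₁‖ < ε := by
    have := (dist_pi_lt_iff hε).mp hd j
    rwa [dist_eq_norm] at this
  have hfac : u j ^ φ (n₁ + (N + 1)) - u j ^ φ n₁ =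
      u j ^ φ n₁ * (u j ^ (φ (n₁ + (N + 1)) - φ n₁) - 1) := by
    rw [mul_sub, mul_one, ← pow_add]
    congr 2
    omega
  rw [hfac, norm_mul, norm_pow, hu j, one_pow, one_mul] at hj
  exact hj

/-- if the power sums of `β₁, …, β_m` are `O(B^r)` then every `|βᵢ| ≤ B`. -/
theorem norm_le_of_powerSum_le {m : ℕ} (β : Fin m → ℂ) (B C : ℝ) (hB : 0 < B) (r₀ : ℕ)
    (h : ∀ r, r₀ ≤ r → ‖∑ i, β i ^ r‖ ≤ C * B ^ r) : ∀ i, ‖β i‖ ≤ B := by
  intro i₀
  by_contra hlt
  push Not at hlt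
  set ρ := ‖β i₀‖ with hρ
  let u : Fin m → ℂ := fun j => if β j = 0 then 1 else β j / (‖β j‖ : ℂ)
  have hu : ∀ j, ‖u j‖ = 1 := by
    intro j
    by_cases hj : β j = 0
    · simp [u, hj]
    · have : ‖β j‖ ≠ 0 := norm_ne_zero_iff.mpr hj
      simp [u, hj, this]
  have hβu : ∀ j r, 0 < r → β j ^ r = ((‖β j‖ : ℝ) : ℂ) ^ r * u j ^ r := by
    intro j r hr
    by_cases hj : β j = 0
    · simp [hj, hr.ne']
    · have : (‖β j‖ : ℂ) ≠ 0 := by
        exact_mod_cast norm_ne_zero_iff.mpr hj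
      simp only [u, hj, if_false]
      rw [← mul_pow, mul_div_cancel₀ _ this]
  have hgrow : Tendsto (fun r : ℕ => (ρ / B) ^ r) atTop atTop :=
    tendsto_pow_atTop_atTop_of_one_lt (by rw [one_lt_div hB]; exact hlt)
  obtain ⟨N, hN⟩ := eventually_atTop.mp (hgrow.eventually_gt_atTop (2 * C))
  obtain ⟨r, hr1, hr2, hr3⟩ := exists_pow_near_one u hu (1 / 2) (by norm_num) (max N r₀)
  have hre : ∀ j, ‖β j‖ ^ r / 2 ≤ (β j ^ r).re := by
    intro j
    rw [hβu j r hr2]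
    have hhalf : (1 / 2 : ℝ) ≤ (u j ^ r).re := by
      have h1 := hr3 j
      have h2 : |(u j ^ r - 1).re| ≤ ‖u j ^ r - 1‖ := Complex.abs_re_le_norm _
      rw [Complex.sub_re, Complex.one_re] at h2
      have := abs_lt.mp (lt_of_le_of_lt h2 h1)
      linarith [this.1]
    rw [← Complex.ofReal_pow, Complex.re_ofReal_mul]
    nlinarith [pow_nonneg (norm_nonneg (β j)) r]
  have hsum : ρ ^ r / 2 ≤ ‖∑ i, β i ^ r‖ := by
    calc ρ ^ r / 2 ≤ ∑ j, ‖β j‖ ^ r / 2 :=
          Finset.single_le_sum (f := fun j => ‖β j‖ ^ r / 2) (fun j _ => by positivity)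
            (Finset.mem_univ i₀)
      _ ≤ ∑ j, (β j ^ r).re := Finset.sum_le_sum fun j _ => hre j
      _ = (∑ j, β j ^ r).re := (Complex.re_sum _ _).symm
      _ ≤ ‖∑ j, β j ^ r‖ := Complex.re_le_norm _
  have hle := h r (le_trans (le_max_right _ _) hr1)
  have hN' := hN r (le_trans (le_max_left _ _) hr1)
  rw [div_pow] at hN'
  have hBr : 0 < B ^ r := pow_pos hB r
  rw [lt_div_iff₀ hBr] at hN'
  linarith

/-- The endgame of the Riemann hypothesis: reciprocal roots pairing to `q` whose power sums along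
an arithmetic progression are `O(q^{r/2})` all have absolute value `√q`. -/
theorem norm_sq_eq_of_powerSum_bounds {m : ℕ} (α : Fin m → ℂ) (q : ℝ) (hq : 0 < q)
    (hpair : ∀ i, ∃ j, α i * α j = (q : ℂ)) (a : ℕ) (ha : 0 < a) (C : ℝ) (r₀ : ℕ)
    (h : ∀ r, r₀ ≤ r → ‖∑ i, α i ^ (a * r)‖ ≤ C * (Real.sqrt q) ^ (a * r)) :
    ∀ i, ‖α i‖ ^ 2 = q := by
  have hs : 0 < Real.sqrt q := Real.sqrt_pos.mpr hq
  have hle : ∀ i, ‖α i‖ ≤ Real.sqrt q := by
    have h1 := norm_le_of_powerSum_le (fun i => α i ^ a) (Real.sqrt q ^ a) C (pow_pos hs a) r₀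
      (by
        intro r hr
        have := h r hr
        simpa only [← pow_mul] using this)
    intro i
    have h2 := h1 i
    rw [norm_pow] at h2
    exact (pow_le_pow_iff_left₀ (norm_nonneg _) hs.le ha.ne').mp h2
  intro i
  obtain ⟨j, hj⟩ := hpair i
  have hn : ‖α i‖ * ‖α j‖ = q := by
    rw [← norm_mul, hj, Complex.norm_real, Real.norm_of_nonneg hq.le]
  have hsq : Real.sqrt q * Real.sqrt q = q := Real.mul_self_sqrt hq.le
  have heq : ‖α i‖ = Real.sqrt q := by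
    apply le_antisymm (hle i)
    by_contra hlt
    push Not at hlt
    have : ‖α i‖ * ‖α j‖ < Real.sqrt q * Real.sqrt q := by
      calc ‖α i‖ * ‖α j‖ ≤ ‖α i‖ * Real.sqrt q :=
            mul_le_mul_of_nonneg_left (hle j) (norm_nonneg _)
        _ < Real.sqrt q * Real.sqrt q := mul_lt_mul_of_pos_right hlt hs
    rw [hn, hsq] at this
    exact lt_irrefl _ this
  rw [heq, Real.sq_sqrt hq.le]

end Groth.Agent.H86.Zeta
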