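import Groth.Agent.H86.ZT17
import Groth.Agent.H86.ZT18

/-!
# ZT19: the endgame of the Riemann hypothesis and the Hasse–Weil bound
-/

set_option autoImplicit false

namespace Groth.Agent.H86.Zeta

open FunFld Module Groth.Agent.H55 Polynomial

variable {k K : Type*} [Field k] [Field K] [Algebra k K]

/-- effective divisors of degree one are places of degree one. -/
theorem effDivCount_one (hK : IsFunctionField k K) :
    effDivCount k K 1 = Nat.card {P : Place k K // P.deg = 1} := by
  classical
  rw [effDivCount_eq]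
  symm
  let f : {P : Place k K // P.deg = 1} → Eff k K 1 := fun P =>
    ⟨Finsupp.single P.1 1, by
      intro Q
      rw [Finsupp.single_apply]
      split_ifs <;> simp, by
      rw [Divisor.deg_single, P.2]
      rfl⟩
  have hinj : Function.Injective f := by
    intro P P' h
    have h1 : (Finsupp.single P.1 (1 : ℤ) : Divisor k K) = Finsupp.single P'.1 1 :=
      congrArg Subtype.val h
    exact Subtype.ext (Finsupp.single_left_injective one_ne_zero h1)
  have hsurj : Function.Surjective f := by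
    rintro ⟨D, hD0, hDd⟩
    have hDne : D ≠ 0 := by
      rintro rfl
      rw [Divisor.deg_zero] at hDd
      exact absurd hDd (by norm_num)
    obtain ⟨P, hP⟩ : ∃ P, D P ≠ 0 := by
      by_contra hcon
      push Not at hcon
      exact hDne (Finsupp.ext hcon)
    have hDP : 1 ≤ D P := by
      have := hD0 P
      rw [Finsupp.zero_apply] at this
      omega
    have hle : (Finsupp.single P 1 : Divisor k K) ≤ D := by
      intro Q
      rw [Finsupp.single_apply]
      split_ifs with h
      · subst h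
        exact hDP
      · exact hD0 Q
    have hdeg1 := Divisor.deg_mono hle
    rw [Divisor.deg_single, hDd, one_mul] at hdeg1
    have hPpos := Place.deg_pos hK P
    have hPdeg : P.deg = 1 := by
      have : (P.deg : ℤ) ≤ 1 := by exact_mod_cast hdeg1
      omega
    refine ⟨⟨P, hPdeg⟩, Subtype.ext ?_⟩
    show (Finsupp.single P 1 : Divisor k K) = D
    apply Divisor.eq_of_le_of_deg_eq hK hle
    rw [Divisor.deg_single, hDd, hPdeg]
    rfl
  exact Nat.card_congr (Equiv.ofBijective f ⟨hinj, hsurj⟩)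

/-- the two lowest coefficients of `∏ (1 - αᵢ X)`. -/
theorem coeff_prod_one_sub {ι : Type*} (s : Finset ι) (α : ι → ℂ) :
    (∏ i ∈ s, (1 - C (α i) * X) : ℂ[X]).coeff 0 = 1 ∧
      (∏ i ∈ s, (1 - C (α i) * X) : ℂ[X]).coeff 1 = - ∑ i ∈ s, α i := by
  classical
  induction s using Finset.induction_on with
  | empty => simp [Polynomial.coeff_one]
  | insert a s ha ih =>
    rw [Finset.prod_insert ha, Finset.sum_insert ha]
    constructor
    · rw [mul_coeff_zero, ih.1]
      simp
    · rw [mul_coeff_one, ih.1, ih.2]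
      simp [Polynomial.coeff_one]

/-- the number of places of degree one in terms of the reciprocal roots. -/
theorem card_places_deg_one_eq [Finite k] (hK : IsFunctionField k K)
    (α : Fin (2 * genus k K) → ℂ)
    (hα : PowerSeries.map (Int.castRingHom ℂ) (numerZ k K) =
      ((∏ i, (1 - Polynomial.C (α i) * Polynomial.X) : Polynomial ℂ) : PowerSeries ℂ)) :
    (Nat.card {P : Place k K // P.deg = 1} : ℂ) = (Nat.card k : ℂ) + 1 - ∑ i, α i := by
  have h1 := congrArg (PowerSeries.coeff 1) hα
  rw [PowerSeries.coeff_map, coeff_numerZ_one, effDivCount_zero hK, effDivCount_one hK,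
    Polynomial.coeff_coe, (coeff_prod_one_sub Finset.univ α).2] at h1
  rw [eq_intCast] at h1
  push_cast at h1
  linear_combination h1

/-- the Hasse–Weil bound follows from the Riemann hypothesis. -/
theorem hasse_weil_of_norm [Finite k] (hK : IsFunctionField k K)
    (α : Fin (2 * genus k K) → ℂ)
    (hα : PowerSeries.map (Int.castRingHom ℂ) (numerZ k K) =
      ((∏ i, (1 - Polynomial.C (α i) * Polynomial.X) : Polynomial ℂ) : PowerSeries ℂ))
    (hnorm : ∀ i, ‖α i‖ ^ 2 = (Nat.card k : ℝ)) :
    |(Nat.card {P : Place k K // P.deg = 1} : ℝ) - (Nat.card k : ℝ) - 1| ≤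
      2 * (genus k K : ℝ) * Real.sqrt (Nat.card k : ℝ) := by
  have h1 := card_places_deg_one_eq hK α hα
  have h2 : (((Nat.card {P : Place k K // P.deg = 1} : ℝ) - (Nat.card k : ℝ) - 1 : ℝ) : ℂ) =
      - ∑ i, α i := by
    push_cast
    rw [h1]
    ring
  have h3 : |(Nat.card {P : Place k K // P.deg = 1} : ℝ) - (Nat.card k : ℝ) - 1| =
      ‖∑ i, α i‖ := by
    rw [← norm_neg (∑ i, α i), ← h2, Complex.norm_real, Real.norm_eq_abs]
  rw [h3]
  have h4 : ∀ i, ‖α i‖ = Real.sqrt (Nat.card k : ℝ) := by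
    intro i
    rw [← hnorm i, Real.sqrt_sq (norm_nonneg _)]
  calc ‖∑ i, α i‖ ≤ ∑ i, ‖α i‖ := norm_sum_le _ _
    _ = ∑ _i : Fin (2 * genus k K), Real.sqrt (Nat.card k : ℝ) := by simp only [h4]
    _ = 2 * (genus k K : ℝ) * Real.sqrt (Nat.card k : ℝ) := by
        rw [Finset.sum_const, Finset.card_univ, Fintype.card_fin, nsmul_eq_mul]
        push_cast
        ring

/-- the roots of the numerator have `|z|² q = 1` once the reciprocal roots have `|α|² = q`. -/
theorem norm_root_of_norm [Finite k]
    (α : Fin (2 * genus k K) → ℂ)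
    (hα : PowerSeries.map (Int.castRingHom ℂ) (numerZ k K) =
      ((∏ i, (1 - Polynomial.C (α i) * Polynomial.X) : Polynomial ℂ) : PowerSeries ℂ))
    (hnorm : ∀ i, ‖α i‖ ^ 2 = (Nat.card k : ℝ))
    (p : Polynomial ℤ) (hp : (p : PowerSeries ℤ) = numerZ k K) (z : ℂ)
    (hz : (p.map (Int.castRingHom ℂ)).IsRoot z) :
    ‖z‖ ^ 2 * (Nat.card k : ℝ) = 1 := by
  have h1 : p.map (Int.castRingHom ℂ) = ∏ i, (1 - Polynomial.C (α i) * Polynomial.X) := by
    apply Polynomial.coe_injective
    rw [← hα, ← hp]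
    ext n
    simp [Polynomial.coeff_coe]
  rw [h1, Polynomial.isRoot_prod] at hz
  obtain ⟨i, -, hi⟩ := hz
  rw [IsRoot.def, eval_sub, eval_one, eval_mul, eval_C, eval_X, sub_eq_zero] at hi
  have h2 : ‖α i‖ * ‖z‖ = 1 := by
    rw [← norm_mul, ← hi, norm_one]
  rw [← hnorm i]
  calc ‖z‖ ^ 2 * ‖α i‖ ^ 2 = (‖α i‖ * ‖z‖) ^ 2 := by ring
    _ = 1 := by rw [h2, one_pow]

end Groth.Agent.H86.Zeta
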