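import Mathlib
import Groth.Agent.H86.GM1
import Groth.Agent.H55.Geom1

/-!
# GM2: the geometric model `k̄ ⊗[k] K` of a function field over a finite field
-/

set_option autoImplicit false

open FunFld Module IntermediateField
open scoped TensorProduct

universe u v

namespace Groth.Agent.H86.GeoModel

/-- a commutative ring which is a field, with its given ring structure -/
@[reducible] noncomputable def fieldOfIsField {R : Type*} [CommRing R] (h : IsField R) : Field R :=
  { ‹CommRing R›, h.toField with }

variable (k : Type u) (K : Type v) [Field k] [Finite k] [Field K] [Algebra k K]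

/-- the model `k̄ ⊗[k] K` -/
abbrev Model : Type (max u v) := AlgebraicClosure k ⊗[k] K

theorem isField_model (hK : IsFunctionField k K) : IsField (Model k K) := by
  have h1 : IsField (K ⊗[k] AlgebraicClosure k) :=
    Groth.Agent.H80.isField_tensor_of_isAlgebraic (Groth.Agent.H55.algebraicClosure_eq_bot hK)
  exact (Algebra.TensorProduct.comm k (AlgebraicClosure k) K).toMulEquiv.isField h1

/-- `K`-algebra structure -/
@[reducible] noncomputable def algK : Algebra K (Model k K) :=
  (Algebra.TensorProduct.includeRight : K →ₐ[k] AlgebraicClosure k ⊗[k] K).toRingHom.toAlgebra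

/-- **the geometric model**: the constant field extension `k̄ K` with its Frobenius -/
theorem exists_geometric_model (hK : IsFunctionField k K) :
    ∃ (Kb : Type (max u v)) (_ : Field Kb) (_ : Algebra K Kb) (_ : Algebra (AlgebraicClosure k) Kb)
      (_ : Algebra k Kb) (_ : IsScalarTower k K Kb) (_ : IsScalarTower k (AlgebraicClosure k) Kb),
      Algebra.adjoin K (Set.range (algebraMap (AlgebraicClosure k) Kb)) = ⊤ ∧
      IsFunctionField (AlgebraicClosure k) Kb ∧
      ∃ F : Kb →ₐ[AlgebraicClosure k] Kb,
        ∀ x : K, F (algebraMap K Kb x) = algebraMap K Kb x ^ Nat.card k := by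
  letI : Fintype k := Fintype.ofFinite k
  letI iF : Field (Model k K) := fieldOfIsField (isField_model k K hK)
  letI iK : Algebra K (Model k K) := algK k K
  have hmapK : ∀ x : K, algebraMap K (Model k K) x = (1 : AlgebraicClosure k) ⊗ₜ[k] x := fun _ => rfl
  have hmapkb : ∀ c : AlgebraicClosure k,
      algebraMap (AlgebraicClosure k) (Model k K) c = c ⊗ₜ[k] (1 : K) := fun _ => rfl
  have iT : IsScalarTower k K (Model k K) := by
    apply IsScalarTower.of_algebraMap_eq
    intro c
    exact ((Algebra.TensorProduct.includeRight :
      K →ₐ[k] AlgebraicClosure k ⊗[k] K).commutes c).symm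
  have hgen : Algebra.adjoin K (Set.range (algebraMap (AlgebraicClosure k) (Model k K))) = ⊤ := by
    rw [eq_top_iff]
    intro t ht
    clear ht
    induction t using TensorProduct.induction_on with
    | zero => exact Subalgebra.zero_mem _
    | tmul c x =>
      have : (c ⊗ₜ[k] x : Model k K) =
          algebraMap (AlgebraicClosure k) (Model k K) c * algebraMap K (Model k K) x := by
        rw [hmapK, hmapkb, Algebra.TensorProduct.tmul_mul_tmul, mul_one, one_mul]
      rw [this]
      exact Subalgebra.mul_mem _ (Algebra.subset_adjoin ⟨c, rfl⟩) (Subalgebra.algebraMap_mem _ x)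
    | add s t hs ht => exact Subalgebra.add_mem _ hs ht
  have hKb : IsFunctionField (AlgebraicClosure k) (Model k K) :=
    isFunctionField_of_adjoin (k := k) (K := K) hK hgen
  refine ⟨Model k K, iF, iK, inferInstance, inferInstance, iT, inferInstance, hgen, hKb, ?_⟩
  refine ⟨Algebra.TensorProduct.map (AlgHom.id (AlgebraicClosure k) (AlgebraicClosure k))
    (FiniteField.frobeniusAlgHom k K), ?_⟩
  intro x
  rw [hmapK, Algebra.TensorProduct.map_tmul, AlgHom.id_apply, Nat.card_eq_fintype_card,
    Algebra.TensorProduct.tmul_pow, one_pow]
  rfl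

end Groth.Agent.H86.GeoModel
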