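import Groth.Agent.H86.ZT15

/-!
# ZT16: factorisation of `q`-self-reciprocal polynomials over `ℂ`
-/

set_option autoImplicit false

namespace Groth.Agent.H86.Zeta

open Polynomial

/-- A polynomial `L` over `ℂ` with `L(0) = 1`, degree `≤ 2g` and functional equation
`c_{2g-i} q^i = q^g c_i` factors as `∏ (1 - αᵢ X)` with `αᵢ α_{2g+1-i} = q`. -/
theorem exists_list_of_selfReciprocal (q : ℂ) (hq : q ≠ 0) (g : ℕ) (L : ℂ[X])
    (hdeg : L.natDegree ≤ 2 * g) (h0 : L.coeff 0 = 1)
    (hsr : ∀ i ≤ 2 * g, L.coeff (2 * g - i) * q ^ i = q ^ g * L.coeff i) :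
    ∃ l : List ℂ, l.length = 2 * g ∧ L = (l.map fun a => 1 - C a * X).prod ∧
      List.Forall₂ (fun a b => a * b = q) l l.reverse := by
  obtain ⟨s, hs⟩ := IsAlgClosed.exists_pow_nat_eq q (n := 2) (by norm_num)
  have hs0 : s ≠ 0 := by
    rintro rfl
    rw [zero_pow (by norm_num)] at hs
    exact hq hs.symm
  set t : ℂ := s⁻¹ with ht
  have hst : s * t = 1 := mul_inv_cancel₀ hs0
  set M : ℂ[X] := L.comp (C t * X) with hM
  have hMc : ∀ i, M.coeff i = L.coeff i * t ^ i := fun i => comp_C_mul_X_coeff
  have hMdeg : M.natDegree ≤ 2 * g := by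
    rw [natDegree_le_iff_coeff_eq_zero]
    intro N hN
    rw [hMc, coeff_eq_zero_of_natDegree_lt (lt_of_le_of_lt hdeg hN), zero_mul]
  have hMrefl : reflect (2 * g) M = M := by
    ext i
    rw [coeff_reflect]
    by_cases hi : i ≤ 2 * g
    · rw [revAt_le hi, hMc, hMc]
      have h1 := hsr i hi
      rw [← hs] at h1
      have h2 : t ^ (2 * g + i) = t ^ (2 * i) * t ^ (2 * g - i) := by
        rw [← pow_add]
        congr 1
        omega
      have h3 : t ^ (2 * g + i) = t ^ (2 * g) * t ^ i := pow_add _ _ _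
      have h4 : ∀ n : ℕ, (s ^ 2) ^ n * t ^ (2 * n) = 1 := by
        intro n
        rw [← pow_mul, ← mul_pow, hst, one_pow]
      calc L.coeff (2 * g - i) * t ^ (2 * g - i)
          = (L.coeff (2 * g - i) * (s ^ 2) ^ i) * t ^ (2 * g + i) := by
            rw [h2]
            linear_combination (-(L.coeff (2 * g - i) * t ^ (2 * g - i))) * h4 i
        _ = ((s ^ 2) ^ g * L.coeff i) * t ^ (2 * g + i) := by rw [h1]
        _ = L.coeff i * t ^ i := by
            rw [h3]
            linear_combination (L.coeff i * t ^ i) * h4 g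
    · rw [revAt_eq_self_of_lt (not_le.mp hi)]
  have hM0 : M.coeff 0 = 1 := by rw [hMc, h0, pow_zero, mul_one]
  obtain ⟨l₀, hlen, hl0, hl⟩ := exists_list_of_palindromic g M hMdeg hMrefl hM0
  have hLM : L = M.comp (C s * X) := by
    rw [hM, comp_assoc, mul_comp, C_comp, X_comp, ← mul_assoc, ← C_mul, mul_comm t s, hst, C_1,
      one_mul, comp_X]
  refine ⟨(l₀.map fun γ => s * γ) ++ (l₀.map fun γ => s * γ⁻¹).reverse, ?_, ?_, ?_⟩
  · simp [hlen, two_mul]
  · rw [hLM, hl, list_prod_comp, List.map_map, List.map_append, List.prod_append, List.map_reverse,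
      List.prod_reverse, List.map_map, List.map_map, ← List.prod_map_mul]
    congr 1
    apply List.map_congr_left
    intro γ _
    simp only [Function.comp_apply, mul_comp, sub_comp, one_comp, C_comp, X_comp, C_mul]
    ring
  · rw [List.reverse_append, List.reverse_reverse]
    refine List.rel_append ?_ ?_
    · rw [List.forall₂_map_left_iff, List.forall₂_map_right_iff, List.forall₂_same]
      intro γ hγ
      have := hl0 γ hγ
      rw [← hs]
      field_simp
    · rw [← List.map_reverse, ← List.map_reverse, List.forall₂_map_left_iff,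
        List.forall₂_map_right_iff, List.forall₂_same]
      intro γ hγ
      have := hl0 γ (List.mem_reverse.mp hγ)
      rw [← hs]
      field_simp

/-- turning a list of reciprocal roots into a function on `Fin n`. -/
theorem exists_fin_of_list (q : ℂ) (l : List ℂ) (n : ℕ) (hn : l.length = n)
    (h : List.Forall₂ (fun a b => a * b = q) l l.reverse) :
    ∃ α : Fin n → ℂ, (∏ i, (1 - C (α i) * X) : ℂ[X]) = (l.map fun a => 1 - C a * X).prod ∧
      (∀ i, α i * α (Fin.rev i) = q) ∧ ∀ i, α i ∈ l := by
  subst hn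
  refine ⟨fun i => l[i], ?_, ?_, fun i => List.getElem_mem _⟩
  · rw [← List.prod_ofFn]
    congr 1
    apply List.ext_getElem
    · simp
    · intro i h1 h2
      simp
  · intro i
    rw [List.forall₂_iff_get] at h
    have := h.2 i i.isLt (by rw [List.length_reverse]; exact i.isLt)
    simp only [List.get_eq_getElem, List.getElem_reverse] at this
    convert this using 2
    · rfl
    · show l[(Fin.rev i : ℕ)] = _
      congr 1
      rw [Fin.val_rev]
      omega

end Groth.Agent.H86.Zeta
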