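import Groth.Agent.H86.ZT14
import Groth.Agent.H86.ZT16

/-!
# ZT17: the reciprocal roots of the numerator of the zeta function
-/

set_option autoImplicit false

namespace Groth.Agent.H86.Zeta

open FunFld Module Groth.Agent.H55 Polynomial

variable {k K : Type*} [Field k] [Field K] [Algebra k K]

/-- the only effective divisor of degree `0` is `0`. -/
theorem effDivCount_zero [Finite k] (hK : IsFunctionField k K) : effDivCount k K 0 = 1 := by
  rw [effDivCount_eq]
  haveI : Nonempty (Eff k K 0) := ⟨⟨0, le_rfl, by rw [Divisor.deg_zero]; rfl⟩⟩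
  haveI : Subsingleton (Eff k K 0) := by
    constructor
    rintro ⟨A, hA0, hAd⟩ ⟨B, hB0, hBd⟩
    have hA : (0 : Divisor k K) = A :=
      Divisor.eq_of_le_of_deg_eq hK hA0 (by rw [Divisor.deg_zero, hAd]; rfl)
    have hB : (0 : Divisor k K) = B :=
      Divisor.eq_of_le_of_deg_eq hK hB0 (by rw [Divisor.deg_zero, hBd]; rfl)
    exact Subtype.ext (hA.symm.trans hB)
  exact Nat.card_unique

theorem exists_reciprocal_roots [Finite k] (hK : IsFunctionField k K) :
    ∃ α : Fin (2 * genus k K) → ℂ, (∀ i, IsIntegral ℤ (α i)) ∧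
      PowerSeries.map (Int.castRingHom ℂ) (numerZ k K) =
        ((∏ i, (1 - Polynomial.C (α i) * Polynomial.X) : Polynomial ℂ) : PowerSeries ℂ) ∧
      ∀ i, α i * α (Fin.rev i) = (Nat.card k : ℂ) := by
  obtain ⟨p, hp⟩ := exists_polynomial_eq_numerZ hK
  obtain ⟨hvan, -, hfe⟩ := numerZ_functional_equation hK
  have hpc : ∀ n, p.coeff n = PowerSeries.coeff n (numerZ k K) := by
    intro n
    rw [← hp, Polynomial.coeff_coe]
  set g := genus k K with hg
  have hqpos : 0 < Nat.card k := Nat.card_pos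
  have hq0 : (Nat.card k : ℂ) ≠ 0 := by
    exact_mod_cast hqpos.ne'
  have hq0' : (Nat.card k : ℚ) ≠ 0 := by
    exact_mod_cast hqpos.ne'
  set L : ℂ[X] := p.map (Int.castRingHom ℂ) with hL
  have hLc : ∀ n, L.coeff n = ((p.coeff n : ℤ) : ℂ) := by
    intro n
    rw [hL, coeff_map]
    rfl
  have hpdeg : p.natDegree ≤ 2 * g := by
    rw [natDegree_le_iff_coeff_eq_zero]
    intro N hN
    rw [hpc]
    exact hvan N hN
  have hLdeg : L.natDegree ≤ 2 * g := le_trans (natDegree_map_le) hpdeg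
  have hp0 : p.coeff 0 = 1 := by
    rw [hpc, coeff_numerZ_zero, effDivCount_zero hK]
    rfl
  have hL0 : L.coeff 0 = 1 := by
    rw [hLc, hp0]
    simp
  have hsr : ∀ i ≤ 2 * g, L.coeff (2 * g - i) * (Nat.card k : ℂ) ^ i =
      (Nat.card k : ℂ) ^ g * L.coeff i := by
    intro i hi
    have h1 := hfe i hi
    rw [← hpc, ← hpc] at h1
    have h2 : ((p.coeff (2 * g - i) : ℤ) : ℚ) * (Nat.card k : ℚ) ^ i =
        (Nat.card k : ℚ) ^ g * ((p.coeff i : ℤ) : ℚ) := by
      rw [h1]
      have : (Nat.card k : ℚ) ^ ((g : ℤ) - i) * (Nat.card k : ℚ) ^ i = (Nat.card k : ℚ) ^ g := by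
        rw [← zpow_natCast, ← zpow_natCast, ← zpow_add₀ hq0']
        congr 1
        ring
      linear_combination ((p.coeff i : ℤ) : ℚ) * this
    rw [hLc, hLc]
    have h3 := congrArg (Rat.cast : ℚ → ℂ) h2
    push_cast at h3
    exact h3
  obtain ⟨l, hlen, hLl, hl2⟩ :=
    exists_list_of_selfReciprocal (Nat.card k : ℂ) hq0 g L hLdeg hL0 hsr
  obtain ⟨α, hα1, hα2, hα3⟩ := exists_fin_of_list (Nat.card k : ℂ) l (2 * g) hlen hl2
  refine ⟨α, ?_, ?_, hα2⟩
  · intro i
    have hαi0 : α i ≠ 0 := by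
      intro h
      have := hα2 i
      rw [h, zero_mul] at this
      exact hq0 this.symm
    have hdvd : (1 - C (α i) * X : ℂ[X]) ∣ L := by
      rw [hLl]
      exact List.dvd_prod (List.mem_map.mpr ⟨α i, hα3 i, rfl⟩)
    have hroot : eval (α i)⁻¹ L = 0 := by
      obtain ⟨R, hR⟩ := hdvd
      rw [hR, eval_mul, eval_sub, eval_one, eval_mul, eval_C, eval_X, mul_inv_cancel₀ hαi0,
        sub_self, zero_mul]
    rw [hL, eval_map] at hroot
    letI : Invertible (α i)⁻¹ := invertibleOfNonzero (inv_ne_zero hαi0)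
    have hinv : ⅟((α i)⁻¹) = α i := by rw [invOf_eq_inv, inv_inv]
    have h4 := (eval₂_reverse_eq_zero_iff (Int.castRingHom ℂ) (α i)⁻¹ p).mpr hroot
    rw [hinv] at h4
    refine ⟨p.reverse, ?_, ?_⟩
    · rw [Monic, reverse_leadingCoeff]
      have : p.natTrailingDegree = 0 :=
        natTrailingDegree_eq_zero.mpr (Or.inr (by rw [hp0]; exact one_ne_zero))
      rw [trailingCoeff, this, hp0]
    · rw [algebraMap_int_eq]
      exact h4
  · rw [hα1, ← hLl, hL, ← hp]
    ext n
    simp [Polynomial.coeff_coe]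

end Groth.Agent.H86.Zeta
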