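import Mathlib
import Groth.Agent.H86.DV3

set_option autoImplicit false
set_option linter.unusedSectionVars false

namespace Groth.Agent.H86.FF

open FunFld Module Groth.Agent.H55 Polynomial

variable {k K : Type*} [Field k] [Field K] [Algebra k K] [IsAlgClosed k]

/-- the place `Q` is good for the derivation `δ` w.r.t. generators `x, y` of `AP P` -/
structure IsGoodAt (δ : Derivation k K K) (P : Place k K) (x y : K) (Q : Place k K) : Prop where
  ne : Q ≠ P
  dx : Q.1 (δ x) ≤ 1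
  dy : Q.1 (δ y) ≤ 1

section good

variable (hK : IsFunctionField k K) {δ : Derivation k K K} {P : Place k K} {x y : K}
  (hxA : x ∈ AP P) (hyA : y ∈ AP P)
  (hgen : ∀ f ∈ AP P, f ∈ Algebra.adjoin k ({x, y} : Set K))
  {Q : Place k K} (hQ : IsGoodAt δ P x y Q)

include hxA hyA hQ in
theorem val_adjoin_le (a : K) (ha : a ∈ Algebra.adjoin k ({x, y} : Set K)) :
    Q.1 a ≤ 1 ∧ Q.1 (δ a) ≤ 1 := by
  induction ha using Algebra.adjoin_induction with
  | mem a ha =>
    rcases ha with rfl | ha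
    · exact ⟨hxA Q hQ.ne, hQ.dx⟩
    · rw [Set.mem_singleton_iff] at ha
      subst ha
      exact ⟨hyA Q hQ.ne, hQ.dy⟩
  | algebraMap c =>
    refine ⟨Q.2.1 c, ?_⟩
    rw [Derivation.map_algebraMap, map_zero]
    exact zero_le_one
  | add a b _ _ iha ihb =>
    refine ⟨Q.1.map_add_le iha.1 ihb.1, ?_⟩
    rw [map_add]
    exact Q.1.map_add_le iha.2 ihb.2
  | mul a b _ _ iha ihb =>
    refine ⟨by rw [map_mul]; exact mul_le_one' iha.1 ihb.1, ?_⟩
    rw [Derivation.leibniz, smul_eq_mul, smul_eq_mul]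
    apply Q.1.map_add_le
    · rw [map_mul]; exact mul_le_one' iha.1 ihb.2
    · rw [map_mul]; exact mul_le_one' ihb.1 iha.2

include hK hxA hyA hgen hQ in
/-- the derivation preserves the valuation ring at a good place -/
theorem val_der_le_one (f : K) (hf : Q.1 f ≤ 1) : Q.1 (δ f) ≤ 1 := by
  obtain ⟨b, hbA, hb1, haA⟩ := exists_frac hK P Q hQ.ne f hf
  have hb0 : b ≠ 0 := by
    rintro rfl
    rw [map_zero] at hb1
    exact zero_ne_one hb1
  have hfe : f = (f * b) / b := by field_simp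
  have h1 := val_adjoin_le hxA hyA hQ b (hgen b hbA)
  have h2 := val_adjoin_le hxA hyA hQ (f * b) (hgen _ haA)
  rw [hfe, Derivation.leibniz_div, smul_eq_mul, smul_eq_mul, smul_eq_mul, map_mul, map_pow,
    map_inv₀, hb1, inv_one, one_pow, one_mul]
  apply Q.1.map_sub_le
  · rw [map_mul, hb1, one_mul]; exact h2.2
  · rw [map_mul]; exact mul_le_one' h2.1 h1.2

include hK hxA hyA hgen hQ in
/-- a function with unit derivative is a local coordinate -/
theorem val_sub_eq (z : K) (τ : k) (hτ : Q.1 (z - algebraMap k K τ) < 1)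
    (hu : Q.1 (δ z) = 1) : Q.1 (z - algebraMap k K τ) = WithZero.exp (-1 : ℤ) := by
  apply le_antisymm (le_exp_neg_one_of_lt_one hτ)
  by_contra hlt
  push Not at hlt
  have h2 : Q.1 (z - algebraMap k K τ) ≤ WithZero.exp (-2 : ℤ) := by
    have := Place.lt_exp_iff_le_exp_sub_one.mp hlt
    exact this
  obtain ⟨π, hπ⟩ := Place.exists_uniformizer Q
  have hπ0 : π ≠ 0 := Place.ne_zero_of_val_eq_exp Q hπ
  obtain ⟨g, hg⟩ : ∃ g, g = (z - algebraMap k K τ) / π ^ 2 := ⟨_, rfl⟩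
  have hg1 : Q.1 g ≤ 1 := by
    have hpos : (0 : WithZero (Multiplicative ℤ)) < WithZero.exp (-1 : ℤ) ^ 2 :=
      pow_pos (zero_lt_iff.mpr WithZero.exp_ne_zero) 2
    rw [hg, map_div₀, map_pow, hπ, div_le_iff₀ hpos, one_mul, ← WithZero.exp_nsmul]
    exact h2
  have ht : z - algebraMap k K τ = π ^ 2 * g := by rw [hg]; field_simp
  have hd : δ z = δ (π ^ 2 * g) := by
    rw [← ht, map_sub, Derivation.map_algebraMap, sub_zero]
  rw [Derivation.leibniz, Derivation.leibniz_pow, smul_eq_mul, smul_eq_mul] at hd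
  have hdπ := val_der_le_one hK hxA hyA hgen hQ π (by rw [hπ]; exact Place.exp_neg_one_lt_one.le)
  have hdg := val_der_le_one hK hxA hyA hgen hQ g hg1
  have hlt1 : Q.1 (δ z) < 1 := by
    rw [hd]
    apply Q.1.map_add_lt
    · rw [map_mul, map_pow, hπ]
      calc WithZero.exp (-1 : ℤ) ^ 2 * Q.1 (δ g) ≤ WithZero.exp (-1 : ℤ) ^ 2 * 1 := by gcongr
        _ < 1 := by
          rw [mul_one, ← WithZero.exp_nsmul, ← WithZero.exp_zero, WithZero.exp_lt_exp]
          norm_num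
    · rw [map_mul]
      have h3 : Q.1 ((2 : ℕ) • (π ^ (2 - 1) • δ π)) < 1 := by
        rw [nsmul_eq_mul, smul_eq_mul, map_mul, map_mul, map_pow, hπ]
        have h4 : Q.1 ((2 : ℕ) : K) ≤ 1 := by
          have := Q.2.1 (2 : k)
          rwa [map_ofNat] at this
        calc Q.1 ((2 : ℕ) : K) * (WithZero.exp (-1 : ℤ) ^ (2 - 1) * Q.1 (δ π))
            ≤ 1 * (WithZero.exp (-1 : ℤ) ^ (2 - 1) * 1) := by gcongr
          _ < 1 := by
            rw [one_mul, mul_one, ← WithZero.exp_nsmul, ← WithZero.exp_zero, WithZero.exp_lt_exp]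
            norm_num
      calc Q.1 g * Q.1 ((2 : ℕ) • (π ^ (2 - 1) • δ π)) ≤ 1 * Q.1 ((2 : ℕ) • (π ^ (2 - 1) • δ π)) := by
            gcongr
        _ < 1 := by rw [one_mul]; exact h3
  rw [hu] at hlt1
  exact lt_irrefl _ hlt1


theorem exp_neg_one_pow (n : ℕ) :
    (WithZero.exp (-1 : ℤ) : WithZero (Multiplicative ℤ)) ^ n = WithZero.exp (-(n : ℤ)) := by
  rw [← WithZero.exp_nsmul]
  congr 1
  simp

include hK hxA hyA hgen hQ in
/-- differentiation lowers the order of vanishing by at most one -/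
theorem val_der_le (t : K) (ht : Q.1 t = WithZero.exp (-1 : ℤ)) (n : ℕ) (f : K)
    (hf : Q.1 f ≤ WithZero.exp (-((n : ℤ) + 1))) : Q.1 (δ f) ≤ WithZero.exp (-(n : ℤ)) := by
  have ht0 : t ≠ 0 := Place.ne_zero_of_val_eq_exp Q ht
  obtain ⟨g, hg⟩ : ∃ g, g = f / t ^ (n + 1) := ⟨_, rfl⟩
  have hpos : (0 : WithZero (Multiplicative ℤ)) < WithZero.exp (-1 : ℤ) ^ (n + 1) :=
    pow_pos (zero_lt_iff.mpr WithZero.exp_ne_zero) _
  have hg1 : Q.1 g ≤ 1 := by
    rw [hg, map_div₀, map_pow, ht, div_le_iff₀ hpos, one_mul, exp_neg_one_pow]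
    push_cast
    exact hf
  have hfe : f = t ^ (n + 1) * g := by rw [hg]; field_simp
  have hdt := val_der_le_one hK hxA hyA hgen hQ t (by rw [ht]; exact Place.exp_neg_one_lt_one.le)
  have hdg := val_der_le_one hK hxA hyA hgen hQ g hg1
  rw [hfe, Derivation.leibniz, Derivation.leibniz_pow, smul_eq_mul, smul_eq_mul, nsmul_eq_mul,
    smul_eq_mul, Nat.add_sub_cancel]
  have hn1 : Q.1 ((n + 1 : ℕ) : K) ≤ 1 := by
    have := Q.2.1 ((n + 1 : ℕ) : k)
    rwa [map_natCast] at this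
  apply Q.1.map_add_le
  · rw [map_mul, map_pow, ht, exp_neg_one_pow]
    calc WithZero.exp (-((n + 1 : ℕ) : ℤ)) * Q.1 (δ g) ≤ WithZero.exp (-((n + 1 : ℕ) : ℤ)) * 1 := by
          gcongr
      _ ≤ WithZero.exp (-(n : ℤ)) := by
          rw [mul_one, WithZero.exp_le_exp]
          push_cast
          omega
  · rw [map_mul, map_mul, map_mul, map_pow, ht, exp_neg_one_pow]
    calc Q.1 g * (Q.1 ((n + 1 : ℕ) : K) * (WithZero.exp (-(n : ℤ)) * Q.1 (δ t)))
        ≤ 1 * (1 * (WithZero.exp (-(n : ℤ)) * 1)) := by gcongr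
      _ = WithZero.exp (-(n : ℤ)) := by rw [one_mul, one_mul, mul_one]

include hK hxA hyA hgen hQ in
/-- in characteristic zero, a function vanishing at a good place with a coordinate of unit
derivative has nonzero derivative -/
theorem der_ne_zero [CharZero k] (t : K) (ht : Q.1 t = WithZero.exp (-1 : ℤ))
    (hdt : Q.1 (δ t) = 1) (c : K) (hc0 : c ≠ 0) (hc : Q.1 c < 1) : δ c ≠ 0 := by
  have ht0 : t ≠ 0 := Place.ne_zero_of_val_eq_exp Q ht
  have hord : 0 < Q.ord c := (Place.ord_pos_iff Q hc0).mpr hc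
  obtain ⟨m, hm⟩ : ∃ m : ℕ, (m : ℤ) + 1 = Q.ord c := ⟨(Q.ord c - 1).toNat, by omega⟩
  have hval : Q.1 c = WithZero.exp (-((m : ℤ) + 1)) := by
    rw [Place.val_eq_exp_neg_ord Q hc0, hm]
  obtain ⟨g, hg⟩ : ∃ g, g = c / t ^ (m + 1) := ⟨_, rfl⟩
  have hg1 : Q.1 g = 1 := by
    rw [hg, map_div₀, map_pow, ht, exp_neg_one_pow, hval]
    push_cast
    exact div_self WithZero.exp_ne_zero
  have hce : c = t ^ (m + 1) * g := by rw [hg]; field_simp
  have hdg := val_der_le_one hK hxA hyA hgen hQ g hg1.le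
  have hm1 : Q.1 ((m + 1 : ℕ) : K) = 1 := by
    have h0 : ((m + 1 : ℕ) : k) ≠ 0 := Nat.cast_ne_zero.mpr (Nat.succ_ne_zero m)
    have := Place.val_algebraMap_eq_one Q h0
    rwa [map_natCast] at this
  intro hzero
  have hd : δ c = t ^ (m + 1) * δ g + g * (((m + 1 : ℕ) : K) * (t ^ m * δ t)) := by
    conv_lhs => rw [hce]
    rw [Derivation.leibniz, Derivation.leibniz_pow, smul_eq_mul, smul_eq_mul, nsmul_eq_mul,
      smul_eq_mul, Nat.add_sub_cancel]
  have h1 : Q.1 (t ^ (m + 1) * δ g) ≤ WithZero.exp (-((m : ℤ) + 1)) := by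
    rw [map_mul, map_pow, ht, exp_neg_one_pow]
    push_cast
    calc WithZero.exp (-((m : ℤ) + 1)) * Q.1 (δ g) ≤ WithZero.exp (-((m : ℤ) + 1)) * 1 := by gcongr
      _ = _ := mul_one _
  have h2 : Q.1 (g * (((m + 1 : ℕ) : K) * (t ^ m * δ t))) = WithZero.exp (-(m : ℤ)) := by
    rw [map_mul, map_mul, map_mul, map_pow, ht, exp_neg_one_pow, hg1, hm1, hdt, one_mul, one_mul,
      mul_one]
  have hlt : Q.1 (t ^ (m + 1) * δ g) < Q.1 (g * (((m + 1 : ℕ) : K) * (t ^ m * δ t))) := by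
    rw [h2]
    refine lt_of_le_of_lt h1 ?_
    rw [WithZero.exp_lt_exp]
    omega
  have h3 := Q.1.map_add_eq_of_lt_right hlt
  rw [← hd, hzero, map_zero, h2] at h3
  exact WithZero.exp_ne_zero h3.symm

end good

end Groth.Agent.H86.FF
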