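import Mathlib
import Groth.Agent.H86.LLS2
import Groth.Agent.H86.Wronsk5

set_option autoImplicit false

namespace Groth.Agent.H86.PP

open Polynomial Module

/-- rank-nullity for the restriction of a linear map to a finite-dimensional subspace -/
theorem finrank_map_add_finrank_inf_ker {k M M' : Type*} [Field k] [AddCommGroup M] [Module k M]
    [AddCommGroup M'] [Module k M'] (φ : M →ₗ[k] M') (U : Submodule k M)
    [FiniteDimensional k U] :
    finrank k ↥(U.map φ) + finrank k ↥(U ⊓ LinearMap.ker φ) = finrank k U := by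
  have h := LinearMap.finrank_range_add_finrank_ker (φ.domRestrict U)
  rw [LinearMap.range_domRestrict, LinearMap.ker_domRestrict] at h
  have e : (LinearMap.ker φ).comap U.subtype = (U ⊓ LinearMap.ker φ).comap U.subtype := by
    ext x
    simp only [Submodule.mem_comap, Submodule.subtype_apply, Submodule.mem_inf]
    exact ⟨fun h => ⟨x.2, h⟩, fun h => h.2⟩
  rw [e, LinearEquiv.finrank_eq (Submodule.comapSubtypeEquivOfLe
    (inf_le_left : U ⊓ LinearMap.ker φ ≤ U))] at h
  exact h

theorem finrank_le_inf_ker_add_one {k M : Type*} [Field k] [AddCommGroup M] [Module k M]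
    (ℓ : M →ₗ[k] k) (U : Submodule k M) [FiniteDimensional k U] :
    finrank k U ≤ finrank k ↥(U ⊓ LinearMap.ker ℓ) + 1 := by
  have h := finrank_map_add_finrank_inf_ker ℓ U
  have h1 : finrank k ↥(U.map ℓ) ≤ 1 := by
    have := Submodule.finrank_le (U.map ℓ)
    rwa [finrank_self] at this
  omega

variable {k : Type*} [Field k]

/-- polynomials divisible by `(X - q)^m` -/
def dvdSub (q : k) (m : ℕ) : Submodule k k[X] where
  carrier := {f | (X - C q) ^ m ∣ f}
  add_mem' := fun ha hb => dvd_add ha hb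
  zero_mem' := dvd_zero _
  smul_mem' := fun c f hf => by
    rw [Set.mem_setOf_eq, smul_eq_C_mul]
    exact Dvd.dvd.mul_left hf _

theorem mem_dvdSub {q : k} {m : ℕ} {f : k[X]} : f ∈ dvdSub q m ↔ (X - C q) ^ m ∣ f := Iff.rfl

theorem dvdSub_zero (q : k) : dvdSub q 0 = ⊤ := by
  ext f
  simp [mem_dvdSub]

theorem dvdSub_anti (q : k) {m n : ℕ} (h : m ≤ n) : dvdSub q n ≤ dvdSub q m :=
  fun _ hf => (pow_dvd_pow _ h).trans hf

/-- the `m`-th Taylor coefficient at `q` -/
noncomputable def tcoeff (q : k) (m : ℕ) : k[X] →ₗ[k] k := (lcoeff k m) ∘ₗ (taylor q)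

theorem mem_dvdSub_iff_tcoeff {q : k} {m : ℕ} {f : k[X]} :
    f ∈ dvdSub q m ↔ ∀ i < m, tcoeff q i f = 0 := by
  rw [mem_dvdSub, X_sub_C_pow_dvd_iff, X_pow_dvd_iff]
  rfl

theorem dvdSub_succ (q : k) (m : ℕ) :
    dvdSub q (m + 1) = dvdSub q m ⊓ LinearMap.ker (tcoeff q m) := by
  ext f
  rw [Submodule.mem_inf, LinearMap.mem_ker, mem_dvdSub_iff_tcoeff, mem_dvdSub_iff_tcoeff]
  constructor
  · intro h
    exact ⟨fun i hi => h i (by omega), h m (by omega)⟩
  · rintro ⟨h1, h2⟩ i hi
    rcases Nat.lt_succ_iff_lt_or_eq.mp hi with h | h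
    · exact h1 i h
    · rw [h]; exact h2

/-- `dim V(-m q)` -/
noncomputable def pd (V : Submodule k k[X]) (q : k) (m : ℕ) : ℕ :=
  finrank k ↥(V ⊓ dvdSub q m)

/-- sum of vanishing orders at `q` -/
noncomputable def psum (V : Submodule k k[X]) (q : k) (M : ℕ) : ℕ :=
  ∑ n ∈ Finset.range M, pd V q (n + 1)

theorem pd_le (V : Submodule k k[X]) [FiniteDimensional k V] (q : k) (m : ℕ) :
    pd V q m ≤ finrank k V := Submodule.finrank_mono inf_le_left

theorem inf_dvdSub_eq_bot {V : Submodule k k[X]} {d : ℕ} (hV : V ≤ degreeLT k (d + 1)) (q : k)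
    {m : ℕ} (hm : d < m) : V ⊓ dvdSub q m = ⊥ := by
  rw [eq_bot_iff]
  rintro f ⟨hf1, hf2⟩
  rw [Submodule.mem_bot]
  by_contra hf0
  have h1 := Wr.natDegree_lt_of_mem_degreeLT hf0 (hV hf1)
  have h2 := natDegree_le_of_dvd (mem_dvdSub.mp hf2) hf0
  rw [natDegree_pow, natDegree_X_sub_C, mul_one] at h2
  omega

theorem finite_of_le_degreeLT {V : Submodule k k[X]} {d : ℕ} (hV : V ≤ degreeLT k d) :
    FiniteDimensional k V := Submodule.finiteDimensional_of_le hV

theorem isVan_pd {V : Submodule k k[X]} {r d : ℕ} (hV : V ≤ degreeLT k (d + 1))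
    (hVr : finrank k V = r + 1) (q : k) : FF.IsVan (pd V q) r d where
  zero := by
    unfold pd
    rw [dvdSub_zero, inf_top_eq, hVr]
  anti n := by
    have := finite_of_le_degreeLT hV
    have : FiniteDimensional k ↥(V ⊓ dvdSub q n) := Submodule.finiteDimensional_inf_left _ _
    exact Submodule.finrank_mono (inf_le_inf_left V (dvdSub_anti q (Nat.le_succ n)))
  succ n := by
    have := finite_of_le_degreeLT hV
    have : FiniteDimensional k ↥(V ⊓ dvdSub q n) := Submodule.finiteDimensional_inf_left _ _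
    have h := finrank_le_inf_ker_add_one (tcoeff q n) (V ⊓ dvdSub q n)
    unfold pd
    rw [dvdSub_succ, ← inf_assoc]
    exact h
  top := by
    unfold pd
    rw [inf_dvdSub_eq_bot hV q (Nat.lt_succ_self d), finrank_bot]

end Groth.Agent.H86.PP
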