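import Mathlib
import Groth.Agent.H86.DV4
import Groth.Agent.H86.PP1

set_option autoImplicit false
set_option linter.unusedSectionVars false

namespace Groth.Agent.H86.FF

open FunFld Module Groth.Agent.H55 Polynomial

variable {k K : Type*} [Field k] [Field K] [Algebra k K] [IsAlgClosed k]

/-- the "Wronskian with `f₀`" map -/
noncomputable def wrMap (δ : Derivation k K K) (f₀ : K) : K →ₗ[k] K :=
  LinearMap.mulLeft k f₀ ∘ₗ (δ : K →ₗ[k] K) - LinearMap.mulRight k (δ f₀)

theorem wrMap_apply (δ : Derivation k K K) (f₀ g : K) :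
    wrMap δ f₀ g = f₀ * δ g - g * δ f₀ := by
  unfold wrMap
  simp

section good

variable (hK : IsFunctionField k K) {δ : Derivation k K K} {P : Place k K} {x y : K}
  (hxA : x ∈ AP P) (hyA : y ∈ AP P)
  (hgen : ∀ f ∈ AP P, f ∈ Algebra.adjoin k ({x, y} : Set K))

include hK hxA hyA hgen in
/-- finiteness of the places where a finite-dimensional space of functions has a member vanishing
to order at least its dimension -/
theorem finite_inflection [CharZero k] (z : K) (hz : z ∈ AP P) (n : ℕ) :
    ∀ V : Submodule k K, Module.Finite k V → finrank k V ≤ n →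
      {Q : Place k K | (IsGoodAt δ P x y Q ∧ Q.1 (δ z) = 1) ∧
        ∃ g ∈ V, g ≠ 0 ∧ Q.1 g ≤ WithZero.exp (-(n : ℤ))}.Finite := by
  induction n with
  | zero =>
    intro V hfin hV
    have hbot : V = ⊥ := by
      have : finrank k V = 0 := by omega
      exact Submodule.finrank_eq_zero.mp this
    have : {Q : Place k K | (IsGoodAt δ P x y Q ∧ Q.1 (δ z) = 1) ∧
        ∃ g ∈ V, g ≠ 0 ∧ Q.1 g ≤ WithZero.exp (-((0 : ℕ) : ℤ))} = ∅ := by
      ext Q
      simp only [Set.mem_ofPred_eq, Set.mem_empty_iff_false, iff_false, not_and, not_exists]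
      intro _ g hg hg0
      rw [hbot, Submodule.mem_bot] at hg
      exact absurd hg hg0
    rw [this]
    exact Set.finite_empty
  | succ n ih =>
    intro V hfin hV
    by_cases hbot : V = ⊥
    · have : {Q : Place k K | (IsGoodAt δ P x y Q ∧ Q.1 (δ z) = 1) ∧
          ∃ g ∈ V, g ≠ 0 ∧ Q.1 g ≤ WithZero.exp (-((n + 1 : ℕ) : ℤ))} = ∅ := by
        ext Q
        simp only [Set.mem_ofPred_eq, Set.mem_empty_iff_false, iff_false, not_and, not_exists]
        intro _ g hg hg0
        rw [hbot, Submodule.mem_bot] at hg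
        exact absurd hg hg0
      rw [this]
      exact Set.finite_empty
    · obtain ⟨f₀, hf₀V, hf₀⟩ := Submodule.exists_mem_ne_zero_of_ne_bot hbot
      have hfinV' : Module.Finite k (V.map (wrMap δ f₀)) := inferInstance
      have hker : f₀ ∈ V ⊓ LinearMap.ker (wrMap δ f₀) := by
        refine ⟨hf₀V, ?_⟩
        change f₀ ∈ LinearMap.ker (wrMap δ f₀)
        rw [LinearMap.mem_ker, wrMap_apply, sub_self]
      have hrn := PP.finrank_map_add_finrank_inf_ker (wrMap δ f₀) V
      have hkpos : 0 < finrank k ↥(V ⊓ LinearMap.ker (wrMap δ f₀)) := by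
        rw [Module.finrank_pos_iff_exists_ne_zero]
        exact ⟨⟨f₀, hker⟩, fun h => hf₀ (congrArg Subtype.val h)⟩
      have hV' : finrank k (V.map (wrMap δ f₀)) ≤ n := by omega
      have hfin' := ih (V.map (wrMap δ f₀)) hfinV' hV'
      refine ((Place.finite_zeros hK hf₀).union
        ((Place.finite_poles hK hf₀).union hfin')).subset ?_
      rintro Q ⟨⟨hQ, hu⟩, g, hgV, hg0, hgval⟩
      by_cases h1 : Q.1 f₀ < 1
      · left; exact h1
      by_cases h2 : 1 < Q.1 f₀
      · right; left; exact h2
      right; right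
      have hf₀1 : Q.1 f₀ = 1 := le_antisymm (not_lt.mp h2) (not_lt.mp h1)
      refine ⟨⟨hQ, hu⟩, wrMap δ f₀ g, Submodule.mem_map_of_mem hgV, ?_, ?_⟩
      · -- nonvanishing
        obtain ⟨τ, hτ⟩ := exists_tau hK Q (hz Q hQ.ne)
        have ht := val_sub_eq hK hxA hyA hgen hQ z τ hτ hu
        have hdt : Q.1 (δ (z - algebraMap k K τ)) = 1 := by
          rw [map_sub, Derivation.map_algebraMap, sub_zero]; exact hu
        have hc0 : g / f₀ ≠ 0 := div_ne_zero hg0 hf₀
        have hclt : Q.1 (g / f₀) < 1 := by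
          rw [map_div₀, hf₀1, div_one]
          refine lt_of_le_of_lt hgval ?_
          rw [← WithZero.exp_zero, WithZero.exp_lt_exp]
          push_cast
          omega
        have hdc := der_ne_zero hK hxA hyA hgen hQ _ ht hdt (g / f₀) hc0 hclt
        intro hw
        apply hdc
        rw [Derivation.leibniz_div, smul_eq_mul, smul_eq_mul, smul_eq_mul]
        rw [wrMap_apply] at hw
        rw [hw, mul_zero]
      · -- vanishing order
        obtain ⟨τ, hτ⟩ := exists_tau hK Q (hz Q hQ.ne)
        have ht := val_sub_eq hK hxA hyA hgen hQ z τ hτ hu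
        have hgval' : Q.1 g ≤ WithZero.exp (-((n : ℤ) + 1)) := by
          have e : (-((n + 1 : ℕ) : ℤ)) = -((n : ℤ) + 1) := by push_cast; ring
          rwa [e] at hgval
        have hdg := val_der_le hK hxA hyA hgen hQ _ ht n g hgval'
        have hdf := val_der_le_one hK hxA hyA hgen hQ f₀ hf₀1.le
        rw [wrMap_apply]
        apply Q.1.map_sub_le
        · rw [map_mul, hf₀1, one_mul]; exact hdg
        · rw [map_mul]
          calc Q.1 g * Q.1 (δ f₀) ≤ WithZero.exp (-((n : ℤ) + 1)) * 1 := by gcongr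
            _ ≤ WithZero.exp (-(n : ℤ)) := by
              rw [mul_one, WithZero.exp_le_exp]
              omega

end good

end Groth.Agent.H86.FF
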