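import Mathlib
import Groth.Agent.H86.DV5

set_option autoImplicit false
set_option linter.unusedSectionVars false

namespace Groth.Agent.H86.FF

open FunFld Module Groth.Agent.H55 Polynomial

variable {k K : Type*} [Field k] [Field K] [Algebra k K] [IsAlgClosed k]

theorem finite_poles' (hK : IsFunctionField k K) (w : K) : {Q : Place k K | 1 < Q.1 w}.Finite := by
  by_cases hw : w = 0
  · have : {Q : Place k K | 1 < Q.1 w} = ∅ := by
      ext Q
      simp only [Set.mem_ofPred_eq, Set.mem_empty_iff_false, iff_false, not_lt]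
      rw [hw, map_zero]
      exact zero_le_one
    rw [this]
    exact Set.finite_empty
  · exact Place.finite_poles hK hw

/-- `ℓ(mP) ≤ m` for `m ≥ 1` in genus `≥ 1` -/
theorem ell_smul_single_le (hK : IsFunctionField k K) (hg : 1 ≤ genus k K) (P : Place k K)
    (m : ℕ) (hm : 1 ≤ m) : ell ((m : ℤ) • (Finsupp.single P 1 : Divisor k K)) ≤ m := by
  induction m, hm using Nat.le_induction with
  | base =>
    rw [Nat.cast_one, one_smul]
    exact ell_le_one_of_deg_one hK (by omega) _ (deg_single_one hK P 1)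
  | succ n hn ih =>
    have := ell_smul_le hK P (n + 1)
    have e : (((n + 1 : ℕ) : ℤ) - 1) = (n : ℤ) := by push_cast; ring
    rw [e] at this
    omega

/-- a derivation killing `AP P` is zero -/
theorem der_eq_zero_of_AP (hK : IsFunctionField k K) (P : Place k K) (δ : Derivation k K K)
    (hδ : ∀ a ∈ AP P, δ a = 0) (Q : Place k K) (hQP : Q ≠ P) : δ = 0 := by
  have key : ∀ f : K, Q.1 f ≤ 1 → δ f = 0 := by
    intro f hf
    obtain ⟨b, hbA, hb1, haA⟩ := exists_frac hK P Q hQP f hf
    have hb0 : b ≠ 0 := by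
      rintro rfl
      rw [map_zero] at hb1
      exact zero_ne_one hb1
    have hfe : f = (f * b) / b := by field_simp
    rw [hfe, Derivation.leibniz_div, hδ b hbA, hδ _ haA, smul_zero, smul_zero, sub_zero, smul_zero]
  ext f
  rw [Derivation.zero_apply]
  by_cases hf : Q.1 f ≤ 1
  · exact key f hf
  · push Not at hf
    have hf0 : f ≠ 0 := by
      rintro rfl
      rw [map_zero] at hf
      exact absurd hf (not_lt.mpr zero_le_one)
    have h1 : Q.1 f⁻¹ ≤ 1 := by
      rw [map_inv₀]
      exact (inv_lt_one_of_one_lt₀ hf).le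
    have h2 := key f⁻¹ h1
    have h3 : δ f = δ (f⁻¹)⁻¹ := by rw [inv_inv]
    rw [h3, Derivation.leibniz_inv, h2, smul_zero]

/-- finiteness of `m`-torsion points on a function field of genus one (characteristic zero) -/
theorem finite_torsion [CharZero k] (hK : IsFunctionField k K) (hg : genus k K = 1)
    (P : Place k K) (m : ℕ) (hm : 1 ≤ m) :
    {Q : Place k K | ∃ h : K, h ≠ 0 ∧
      div k h = Finsupp.single Q (m : ℤ) - Finsupp.single P (m : ℤ)}.Finite := by
  classical
  -- generators
  obtain ⟨x, hx, hnx⟩ := (mem_poleOrders_iff hK P 2).mp (mem_poleOrders_of_ge hK P 2 (by omega))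
  obtain ⟨y, hy, hny⟩ := (mem_poleOrders_iff hK P 3).mp (mem_poleOrders_of_ge hK P 3 (by omega))
  have hx' := val_eq_of_mem_of_notMem P 2 hx hnx
  have hy' := val_eq_of_mem_of_notMem P 3 hy hny
  have hxA : x ∈ AP P := mem_AP_of_mem_L P hx
  have hyA : y ∈ AP P := mem_AP_of_mem_L P hy
  have hgen : ∀ f ∈ AP P, f ∈ Algebra.adjoin k ({x, y} : Set K) := by
    intro f hf
    obtain ⟨n, hn⟩ := exists_mem_L_of_mem_AP P hf
    exact L_le_adjoin hK hg P hx hx' hy hy' n f hn
  -- a second place
  have hx0 : x ≠ 0 := by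
    rintro rfl
    rw [map_zero] at hx'
    exact WithZero.exp_ne_zero hx'.symm
  have hxtr : Transcendental k x := by
    apply transcendental_of_notMem_range hK
    apply Place.notMem_range_of_val_ne_one P hx0
    rw [hx', ← WithZero.exp_zero]
    intro h
    have := WithZero.exp_injective h
    omega
  obtain ⟨Q₀, hQ₀⟩ := exists_zero hK hxtr
  have hQ₀P : Q₀ ≠ P := by
    rintro rfl
    rw [hx', ← WithZero.exp_zero, WithZero.exp_lt_exp] at hQ₀
    omega
  -- the derivation
  obtain ⟨δ, hδ⟩ := exists_derivation_ne_zero hK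
  have hz : ∃ z ∈ AP P, δ z ≠ 0 := by
    by_contra hcon
    push Not at hcon
    exact hδ (der_eq_zero_of_AP hK P δ hcon Q₀ hQ₀P)
  obtain ⟨z, hzA, hdz⟩ := hz
  have hfinL := L_finite hK ((m : ℤ) • (Finsupp.single P 1 : Divisor k K))
  have hbad := finite_inflection hK (δ := δ) hxA hyA hgen z hzA m
    (L ((m : ℤ) • (Finsupp.single P 1 : Divisor k K))) hfinL
    (ell_smul_single_le hK (by omega) P m hm)
  refine ((Set.finite_singleton P).union ((finite_poles' hK (δ x)).union
    ((finite_poles' hK (δ y)).union ((Place.finite_zeros hK hdz).union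
      ((Place.finite_poles hK hdz).union hbad))))).subset ?_
  rintro Q ⟨h, hh0, hdiv⟩
  by_cases hQP : Q = P
  · left; exact hQP
  right
  by_cases h1 : 1 < Q.1 (δ x)
  · left; exact h1
  right
  by_cases h2 : 1 < Q.1 (δ y)
  · left; exact h2
  right
  by_cases h3 : Q.1 (δ z) < 1
  · left; exact h3
  right
  by_cases h4 : 1 < Q.1 (δ z)
  · left; exact h4
  right
  refine ⟨⟨⟨hQP, not_lt.mp h1, not_lt.mp h2⟩, le_antisymm (not_lt.mp h4) (not_lt.mp h3)⟩,
    h, ?_, hh0, ?_⟩
  · rw [mem_L_iff_div hK hh0, hdiv, smul_single_one]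
    intro R
    simp only [Finsupp.coe_zero, Pi.zero_apply, Finsupp.add_apply, Finsupp.sub_apply,
      Finsupp.single_apply]
    split_ifs <;> omega
  · have hord : Q.ord h = m := by
      rw [← Place.div_apply hK, hdiv, Finsupp.sub_apply, Finsupp.single_apply, if_pos rfl,
        Finsupp.single_apply, if_neg (Ne.symm hQP), sub_zero]
    rw [Place.val_eq_exp_neg_ord Q hh0, hord]

end Groth.Agent.H86.FF
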