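import Mathlib
import Groth.Agent.H86.DV6

set_option autoImplicit false
set_option linter.unusedSectionVars false

namespace Groth.Agent.H86.FF

open FunFld Module Groth.Agent.H55 Polynomial

variable {k K : Type*} [Field k] [Field K] [Algebra k K] [IsAlgClosed k]

/-- `L(0 · P) = k` -/
theorem const_of_mem_L_zero_smul (hK : IsFunctionField k K) (P : Place k K) {f : K}
    (hf : f ∈ L (((0 : ℕ) : ℤ) • (Finsupp.single P 1 : Divisor k K))) :
    ∃ c : k, algebraMap k K c = f := by
  rw [Nat.cast_zero, zero_smul, L_zero hK] at hf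
  exact Submodule.mem_one.mp hf

/-- the ring of functions regular away from a place is a finitely generated `k`-algebra -/
theorem exists_finset_AP_le_adjoin (hK : IsFunctionField k K) (P : Place k K) :
    ∃ s : Finset K, (∀ x ∈ s, x ∈ AP P) ∧ ∀ f ∈ AP P, f ∈ Algebra.adjoin k (s : Set K) := by
  classical
  obtain ⟨g, hg⟩ : ∃ g, g = genus k K := ⟨_, rfl⟩
  -- choose elements of exact pole order
  have hex : ∀ n : ℕ, ∃ w : K, n ∈ W4c6gradedringsgw.poleOrders P →
      w ∈ L ((n : ℤ) • (Finsupp.single P 1 : Divisor k K)) ∧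
      w ∉ L (((n : ℤ) - 1) • (Finsupp.single P 1 : Divisor k K)) := by
    intro n
    by_cases hn : n ∈ W4c6gradedringsgw.poleOrders P
    · obtain ⟨f, hf, hnf⟩ := (mem_poleOrders_iff hK P n).mp hn
      exact ⟨f, fun _ => ⟨hf, hnf⟩⟩
    · exact ⟨0, fun h => absurd h hn⟩
  choose F hF using hex
  refine ⟨((Finset.range (4 * g + 2)).filter
    (fun n => n ∈ W4c6gradedringsgw.poleOrders P)).image F, ?_, ?_⟩
  · intro x hx
    rw [Finset.mem_image] at hx
    obtain ⟨n, hn, rfl⟩ := hx
    rw [Finset.mem_filter] at hn
    exact mem_AP_of_mem_L P (hF n hn.2).1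
  · intro f hf
    obtain ⟨n, hn⟩ := exists_mem_L_of_mem_AP P hf
    obtain ⟨S, hS⟩ : ∃ S : Set K, S = ↑(((Finset.range (4 * g + 2)).filter
      (fun n => n ∈ W4c6gradedringsgw.poleOrders P)).image F) := ⟨_, rfl⟩
    rw [← hS]
    have hFS : ∀ m, m < 4 * g + 2 → m ∈ W4c6gradedringsgw.poleOrders P →
        F m ∈ Algebra.adjoin k S := by
      intro m hm hmH
      apply Algebra.subset_adjoin
      rw [hS, Finset.mem_coe, Finset.mem_image]
      exact ⟨m, Finset.mem_filter.mpr ⟨Finset.mem_range.mpr hm, hmH⟩, rfl⟩
    clear hf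
    induction n using Nat.strong_induction_on generalizing f with
    | _ n ih =>
      rcases Nat.eq_zero_or_pos n with rfl | hnpos
      · obtain ⟨c, hc⟩ := const_of_mem_L_zero_smul hK P hn
        rw [← hc]
        exact Subalgebra.algebraMap_mem _ c
      have e : ((n : ℤ) - 1) = ((n - 1 : ℕ) : ℤ) := by omega
      by_cases hnH : n ∈ W4c6gradedringsgw.poleOrders P
      · -- find an element of exact order n in the adjoin
        have hw : ∃ w ∈ Algebra.adjoin k S,
            w ∈ L ((n : ℤ) • (Finsupp.single P 1 : Divisor k K)) ∧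
            w ∉ L (((n : ℤ) - 1) • (Finsupp.single P 1 : Divisor k K)) := by
          rcases Nat.lt_or_ge n (4 * g + 2) with hlt | hge
          · exact ⟨F n, hFS n hlt hnH, hF n hnH⟩
          · have haH : (2 * g + 1) ∈ W4c6gradedringsgw.poleOrders P :=
              mem_poleOrders_of_ge hK P _ (by rw [← hg]; omega)
            have hbH : (n - (2 * g + 1)) ∈ W4c6gradedringsgw.poleOrders P :=
              mem_poleOrders_of_ge hK P _ (by rw [← hg]; omega)
            have hFa := hF _ haH
            have hFb := hF _ hbH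
            have hva := val_eq_of_mem_of_notMem P _ hFa.1 hFa.2
            have hvb := val_eq_of_mem_of_notMem P _ hFb.1 hFb.2
            have hFaA : F (2 * g + 1) ∈ Algebra.adjoin k S := hFS _ (by omega) haH
            have hFbA : F (n - (2 * g + 1)) ∈ Algebra.adjoin k S :=
              ih (n - (2 * g + 1)) (by omega) _ hFb.1
            have hval : P.1 (F (2 * g + 1) * F (n - (2 * g + 1))) = WithZero.exp (n : ℤ) := by
              rw [map_mul, hva, hvb, ← WithZero.exp_add]
              congr 1
              omega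
            refine ⟨_, mul_mem hFaA hFbA, ?_, notMem_of_val_eq P n hval⟩
            rw [mem_L_smul_single]
            refine ⟨hval.le, fun R hR => ?_⟩
            rw [map_mul]
            exact mul_le_one' (((mem_L_smul_single P _ _).mp hFa.1).2 R hR)
              (((mem_L_smul_single P _ _).mp hFb.1).2 R hR)
        obtain ⟨w, hwA, hwL, hwn⟩ := hw
        obtain ⟨c, hc⟩ := exists_sub_smul_mem hK P n hn hwL hwn
        rw [e] at hc
        have := ih (n - 1) (by omega) _ hc
        have h2 : f = (f - c • w) + c • w := by ring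
        rw [h2]
        exact add_mem this (Subalgebra.smul_mem _ hwA c)
      · -- n is a gap: L(nP) = L((n-1)P)
        have : f ∈ L (((n : ℤ) - 1) • (Finsupp.single P 1 : Divisor k K)) := by
          by_contra hcon
          exact hnH ((mem_poleOrders_iff hK P n).mpr ⟨f, hn, hcon⟩)
        rw [e] at this
        exact ih (n - 1) (by omega) _ this

end Groth.Agent.H86.FF
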