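import Mathlib
import Groth.Agent.H63.Jumps
import Groth.Prelude.Def_W4bk4goldsch45p2

set_option autoImplicit false
set_option linter.unusedSectionVars false

namespace Groth.Agent.H86.FF

open FunFld Module Polynomial

variable {k : Type*} [Field k]

/-- rows `(C(e r, j))_{j ≤ N}` of binomial coefficients are linearly independent once
`N ≥ e (last) - e 0` -/
theorem binom_rows_indep {m : ℕ} (e : Fin (m + 1) → ℕ) (he : StrictMono e) (N : ℕ)
    (hN : e (Fin.last m) ≤ e 0 + N) (a : Fin (m + 1) → k)
    (ha : ∀ j ≤ N, ∑ r, a r * (((e r).choose j : ℕ) : k) = 0) : a = 0 := by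
  classical
  have he0 : ∀ r, e 0 ≤ e r := fun r => he.monotone (Fin.zero_le r)
  have hel : ∀ r, e r ≤ e (Fin.last m) := fun r => he.monotone (Fin.le_last r)
  obtain ⟨d, hd⟩ : ∃ d : Fin (m + 1) → ℕ, ∀ r, e r = e 0 + d r :=
    ⟨fun r => e r - e 0, fun r => by have := he0 r; show e r = e 0 + (e r - e 0); omega⟩
  have hdN : ∀ r, d r ≤ N := fun r => by have := hd r; have := hel r; omega
  have hdinj : Function.Injective d := by
    intro r r' h
    apply he.injective
    rw [hd r, hd r', h]
  obtain ⟨Q, hQ⟩ : ∃ Q : k[X], Q = ∑ r, C (a r) * (1 + X) ^ d r := ⟨_, rfl⟩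
  have hP1 : (1 + X : k[X]) ^ e 0 * Q = ∑ r, C (a r) * (1 + X) ^ e r := by
    rw [hQ, Finset.mul_sum]
    apply Finset.sum_congr rfl
    intro r _
    rw [hd r, pow_add]
    ring
  have hdvd1 : (X : k[X]) ^ (N + 1) ∣ (1 + X : k[X]) ^ e 0 * Q := by
    rw [hP1, X_pow_dvd_iff]
    intro j hj
    rw [finsetSum_coeff]
    simp_rw [coeff_C_mul, coeff_one_add_X_pow]
    exact ha j (by omega)
  have hcop : IsCoprime ((X : k[X]) ^ (N + 1)) ((1 + X : k[X]) ^ e 0) := by
    apply IsCoprime.pow
    exact ⟨-1, 1, by ring⟩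
  have hdvd2 : (X : k[X]) ^ (N + 1) ∣ Q := hcop.dvd_of_dvd_mul_left hdvd1
  have hdeg : Q.natDegree ≤ N := by
    rw [hQ]
    apply natDegree_sum_le_of_forall_le
    intro r _
    refine (natDegree_C_mul_le _ _).trans ((natDegree_pow_le).trans ?_)
    have h1 : (1 + X : k[X]).natDegree ≤ 1 := by
      rw [add_comm]
      exact (natDegree_X_add_C (1 : k)).le
    calc d r * (1 + X : k[X]).natDegree ≤ d r * 1 := Nat.mul_le_mul_left _ h1
      _ ≤ N := by rw [mul_one]; exact hdN r
  have hQ0 : Q = 0 := by
    apply eq_zero_of_dvd_of_natDegree_lt hdvd2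
    rw [natDegree_X_pow]
    omega
  have hcomp : ∑ r, C (a r) * (X : k[X]) ^ d r = 0 := by
    have h2 := congrArg (aeval (X - 1 : k[X])) hQ0
    rw [hQ, map_zero, map_sum] at h2
    rw [← h2]
    apply Finset.sum_congr rfl
    intro r _
    rw [map_mul, map_pow, map_add, map_one, aeval_X, aeval_C]
    congr 2
    ring
  funext r₀
  have h3 := congrArg (fun p : k[X] => p.coeff (d r₀)) hcomp
  simp only [finsetSum_coeff, coeff_C_mul, coeff_X_pow, coeff_zero] at h3
  rw [Finset.sum_eq_single r₀] at h3
  · simpa using h3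
  · intro r _ hne
    rw [if_neg (fun h => hne (hdinj h.symm)), mul_zero]
  · intro h
    exact absurd (Finset.mem_univ r₀) h

/-- vectors whose coordinate rows are linearly independent span everything -/
theorem span_eq_top_of_rows_indep {m : ℕ} (c : ℕ → (Fin m → k)) (N : ℕ)
    (h : ∀ a : Fin m → k, (∀ j < N, ∑ r, a r * c j r = 0) → a = 0) :
    Submodule.span k (c '' Set.Iio N) = ⊤ := by
  classical
  by_contra hne
  obtain ⟨f, hf0, hf⟩ := Submodule.exists_le_ker_of_lt_top _ (lt_top_iff_ne_top.mpr hne)
  apply hf0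
  have ha := h (fun r => f (fun j => if r = j then 1 else 0)) (by
    intro j hj
    have hmem : c j ∈ LinearMap.ker f := hf (Submodule.subset_span ⟨j, hj, rfl⟩)
    rw [LinearMap.mem_ker, LinearMap.pi_apply_eq_sum_univ f (c j)] at hmem
    refine Eq.trans ?_ hmem
    apply Finset.sum_congr rfl
    intro r _
    rw [smul_eq_mul, mul_comm])
  apply LinearMap.ext
  intro v
  rw [LinearMap.pi_apply_eq_sum_univ f v, LinearMap.zero_apply]
  apply Finset.sum_eq_zero
  intro r _
  have := congrFun ha r
  simp only [Pi.zero_apply] at this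
  rw [this, smul_zero]

/-- the sequence of binomial columns -/
def binomCol (k : Type*) [Field k] {n : ℕ} (J : Fin n → ℕ) (j : ℕ) : Fin n → k :=
  fun r => (((J r).choose j : ℕ) : k)

theorem span_binomCol_eq_top {n : ℕ} (J : Fin (n + 1) → ℕ) (hJ : StrictMono J) (N : ℕ)
    (hN : J (Fin.last n) ≤ J 0 + N) :
    Submodule.span k (binomCol k J '' Set.Iio (N + 1)) = ⊤ := by
  apply span_eq_top_of_rows_indep
  intro a ha
  exact binom_rows_indep J hJ N hN a (fun j hj => ha j (by omega))

/-- existence of an index sequence with non-vanishing binomial determinant and a shift bound -/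
theorem exists_binom_index {n : ℕ} (J : Fin n → ℕ) (hJ : StrictMono J) :
    ∃ I : Fin n → ℕ, StrictMono I ∧ (binomMat k J I).det ≠ 0 ∧
      ∀ (l : Fin n) (z : Fin n), z.val = 0 → I l + J z ≤ J l := by
  classical
  rcases Nat.eq_zero_or_pos n with hn0 | hnpos
  · subst hn0
    refine ⟨fun i => i.elim0, fun i => i.elim0, ?_, fun l => l.elim0⟩
    rw [Matrix.det_isEmpty]
    exact one_ne_zero
  obtain ⟨n', rfl⟩ : ∃ n', n = n' + 1 := ⟨n - 1, by omega⟩
  -- the jumps of the binomial columns
  obtain ⟨B, hB⟩ : ∃ B, B = J (Fin.last n') + 1 := ⟨_, rfl⟩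
  have htop : Submodule.span k (binomCol k J '' Set.Iio B) = ⊤ := by
    rw [hB]
    exact span_binomCol_eq_top J hJ _ (by omega)
  obtain ⟨S, hS⟩ : ∃ S, S = (Finset.range B).filter (IsJump k (binomCol k J)) := ⟨_, rfl⟩
  have hcard : S.card = n' + 1 := by
    rw [hS, ← Groth.Agent.H63.finrank_span_Iio, htop, finrank_top, Module.finrank_fin_fun]
  obtain ⟨I, hI⟩ : ∃ I, I = S.orderEmbOfFin hcard := ⟨_, rfl⟩
  have hImem : ∀ s, I s ∈ S := fun s => hI ▸ Finset.orderEmbOfFin_mem S hcard s
  have hIrange : Set.range I = ↑S := hI ▸ Finset.range_orderEmbOfFin S hcard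
  have hImono : StrictMono I := hI ▸ (S.orderEmbOfFin hcard).strictMono
  refine ⟨I, hImono, ?_, ?_⟩
  · -- columns at the jumps span
    have hspan : ⊤ ≤ Submodule.span k (Set.range fun s => binomCol k J (I s)) := by
      rw [← htop]
      refine (Groth.Agent.H63.span_Iio_le_span_jumps (binomCol k J) B).trans ?_
      apply Submodule.span_mono
      rintro _ ⟨j, ⟨hjB, hjump⟩, rfl⟩
      have hjS : j ∈ S := by
        rw [hS, Finset.mem_filter, Finset.mem_range]
        exact ⟨hjB, hjump⟩
      have : j ∈ Set.range I := by rw [hIrange]; exact hjS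
      obtain ⟨s, rfl⟩ := this
      exact ⟨s, rfl⟩
    have hli : LinearIndependent k (fun s => binomCol k J (I s)) :=
      linearIndependent_of_top_le_span_of_card_eq_finrank hspan (by
        rw [Module.finrank_fin_fun, Fintype.card_fin])
    have hcol : (binomMat k J I).col = fun s => binomCol k J (I s) := by
      funext s r
      rfl
    rw [← hcol, Matrix.linearIndependent_cols_iff_isUnit, Matrix.isUnit_iff_isUnit_det] at hli
    exact hli.ne_zero
  · intro l z hz
    have hz0 : z = 0 := Fin.ext hz
    subst hz0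
    have hJl : J 0 ≤ J l := hJ.monotone (Fin.zero_le l)
    obtain ⟨Nl, hNl⟩ : ∃ Nl, Nl = J l - J 0 := ⟨_, rfl⟩
    suffices h : I l ≤ Nl by omega
    by_contra hcon
    push Not at hcon
    -- count the jumps up to `Nl`
    have hlast : J l ≤ J (Fin.last n') := hJ.monotone (Fin.le_last l)
    obtain ⟨T, hT⟩ : ∃ T, T = (Finset.range (Nl + 1)).filter (IsJump k (binomCol k J)) :=
      ⟨_, rfl⟩
    have hTcard : l.val + 1 ≤ T.card := by
      rw [hT, ← Groth.Agent.H63.finrank_span_Iio]
      -- project to the first `l + 1` coordinates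
      let emb : Fin (l.val + 1) → Fin (n' + 1) := fun r => ⟨r.val, by have := r.2; have := l.2; omega⟩
      have hembmono : StrictMono emb := fun r r' h => h
      let π : (Fin (n' + 1) → k) →ₗ[k] (Fin (l.val + 1) → k) := LinearMap.funLeft k k emb
      have hπ : (Submodule.span k (binomCol k J '' Set.Iio (Nl + 1))).map π = ⊤ := by
        rw [Submodule.map_span, Set.image_image]
        have h1 : (fun j => π (binomCol k J j)) = binomCol k (J ∘ emb) := by
          funext j r
          rfl
        rw [h1]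
        apply span_binomCol_eq_top (J ∘ emb) (hJ.comp hembmono)
        have e1 : emb (Fin.last l.val) = l := Fin.ext rfl
        have e0 : emb 0 = 0 := Fin.ext rfl
        rw [Function.comp_apply, Function.comp_apply, e1, e0]
        omega
      have h2 := Submodule.finrank_map_le π (Submodule.span k (binomCol k J '' Set.Iio (Nl + 1)))
      rw [hπ, finrank_top, Module.finrank_fin_fun] at h2
      exact h2
    have hTsub : T ⊆ (Finset.Iio l).image I := by
      intro x hx
      rw [hT, Finset.mem_filter, Finset.mem_range] at hx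
      have hxS : x ∈ S := by
        rw [hS, Finset.mem_filter, Finset.mem_range]
        exact ⟨by omega, hx.2⟩
      have : x ∈ Set.range I := by rw [hIrange]; exact hxS
      obtain ⟨s, rfl⟩ := this
      rw [Finset.mem_image]
      refine ⟨s, ?_, rfl⟩
      rw [Finset.mem_Iio]
      apply hImono.lt_iff_lt.mp
      omega
    have h3 := (Finset.card_le_card hTsub).trans Finset.card_image_le
    rw [Fin.card_Iio] at h3
    omega

end Groth.Agent.H86.FF
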