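import Mathlib
import Groth.Agent.H86.HS1
import Groth.Prelude.Def_LocRes

set_option autoImplicit false
set_option linter.unusedSectionVars false

namespace Groth.Agent.H86.FF

open FunFld Module Groth.Agent.H55

variable {k K : Type*} [Field k] [Field K] [Algebra k K]

section basics

variable {t : K} {H : K →ₐ[k] PowerSeries K}

theorem hasseD_zero (hH : LocRes.IsHasseFamily t H) (f : K) : LocRes.hasseD H 0 f = f := by
  rw [LocRes.hasseD_apply, PowerSeries.coeff_zero_eq_constantCoeff_apply]
  exact hH.2 f

theorem hasseD_mul (H : K →ₐ[k] PowerSeries K) (j : ℕ) (f g : K) :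
    LocRes.hasseD H j (f * g) =
      ∑ p ∈ Finset.HasAntidiagonal.antidiagonal j, LocRes.hasseD H p.1 f * LocRes.hasseD H p.2 g := by
  simp only [LocRes.hasseD_apply, map_mul, PowerSeries.coeff_mul]

theorem hasseD_add (H : K →ₐ[k] PowerSeries K) (j : ℕ) (f g : K) :
    LocRes.hasseD H j (f + g) = LocRes.hasseD H j f + LocRes.hasseD H j g := by
  simp only [LocRes.hasseD_apply, map_add]

theorem hasseD_sub (H : K →ₐ[k] PowerSeries K) (j : ℕ) (f g : K) :
    LocRes.hasseD H j (f - g) = LocRes.hasseD H j f - LocRes.hasseD H j g := by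
  simp only [LocRes.hasseD_apply, map_sub]

theorem hasseD_smul (H : K →ₐ[k] PowerSeries K) (j : ℕ) (c : k) (f : K) :
    LocRes.hasseD H j (c • f) = c • LocRes.hasseD H j f := by
  rw [Algebra.smul_def, Algebra.smul_def, LocRes.hasseD_apply, LocRes.hasseD_apply, map_mul,
    AlgHom.commutes, PowerSeries.algebraMap_apply, PowerSeries.coeff_C_mul]

theorem hasseD_algebraMap (H : K →ₐ[k] PowerSeries K) (j : ℕ) (c : k) :
    LocRes.hasseD H j (algebraMap k K c) = if j = 0 then algebraMap k K c else 0 := by
  rw [LocRes.hasseD_apply, AlgHom.commutes, PowerSeries.algebraMap_apply, PowerSeries.coeff_C]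

theorem hasseD_t (hH : LocRes.IsHasseFamily t H) (j : ℕ) :
    LocRes.hasseD H j t = if j = 0 then t else if j = 1 then 1 else 0 := by
  rw [LocRes.hasseD_apply, hH.1, map_add, PowerSeries.coeff_C, PowerSeries.coeff_X]
  split_ifs with h0 h1 <;> simp_all

end basics

/-- elements all of whose Hasse derivatives are integral at `P` -/
def hasseInt (P : Place k K) (H : K →ₐ[k] PowerSeries K) : Subalgebra k K where
  carrier := {a | ∀ i, P.1 (LocRes.hasseD H i a) ≤ 1}
  mul_mem' {a b} ha hb i := by
    rw [hasseD_mul]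
    apply Valuation.map_sum_le
    intro p _
    rw [map_mul]
    exact mul_le_one' (ha _) (hb _)
  add_mem' {a b} ha hb i := by
    rw [hasseD_add]
    exact P.1.map_add_le (ha i) (hb i)
  algebraMap_mem' c i := by
    rw [hasseD_algebraMap]
    split_ifs
    · exact P.2.1 c
    · rw [map_zero]; exact zero_le_one

theorem mem_hasseInt (P : Place k K) (H : K →ₐ[k] PowerSeries K) (a : K) :
    a ∈ hasseInt P H ↔ ∀ i, P.1 (LocRes.hasseD H i a) ≤ 1 := Iff.rfl

section bound

variable {t : K} {H : K →ₐ[k] PowerSeries K} (P : Place k K)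

/-- weighted bound on a finitely generated subalgebra -/
theorem hasse_bound_adjoin (s : Set K) (i M : ℕ)
    (hs : ∀ x ∈ s, ∀ l ≤ i, P.1 (LocRes.hasseD H l x) ≤ WithZero.exp ((M : ℤ) * l))
    (a : K) (ha : a ∈ Algebra.adjoin k s) :
    ∀ l ≤ i, P.1 (LocRes.hasseD H l a) ≤ WithZero.exp ((M : ℤ) * l) := by
  induction ha using Algebra.adjoin_induction with
  | mem x hx => exact hs x hx
  | algebraMap c =>
    intro l _
    rw [hasseD_algebraMap]
    split_ifs
    · refine (P.2.1 c).trans ?_
      rw [← WithZero.exp_zero, WithZero.exp_le_exp]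
      positivity
    · rw [map_zero]; exact zero_le
  | add a b _ _ iha ihb =>
    intro l hl
    rw [hasseD_add]
    exact P.1.map_add_le (iha l hl) (ihb l hl)
  | mul a b _ _ iha ihb =>
    intro l hl
    rw [hasseD_mul]
    apply Valuation.map_sum_le
    intro p hp
    rw [Finset.HasAntidiagonal.mem_antidiagonal] at hp
    rw [map_mul]
    calc P.1 (LocRes.hasseD H p.1 a) * P.1 (LocRes.hasseD H p.2 b)
        ≤ WithZero.exp ((M : ℤ) * p.1) * WithZero.exp ((M : ℤ) * p.2) :=
          mul_le_mul' (iha p.1 (by omega)) (ihb p.2 (by omega))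
      _ = WithZero.exp ((M : ℤ) * l) := by
          rw [← WithZero.exp_add, ← hp]
          congr 1
          push_cast
          ring

/-- weighted bound for quotients with unit denominator -/
theorem hasse_bound_frac (hH : LocRes.IsHasseFamily t H) (i M : ℕ) (f b : K) (hb1 : P.1 b = 1)
    (hb : ∀ l ≤ i, P.1 (LocRes.hasseD H l b) ≤ WithZero.exp ((M : ℤ) * l))
    (ha : ∀ l ≤ i, P.1 (LocRes.hasseD H l (f * b)) ≤ WithZero.exp ((M : ℤ) * l)) :
    ∀ l ≤ i, P.1 (LocRes.hasseD H l f) ≤ WithZero.exp ((M : ℤ) * l) := by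
  intro l
  induction l using Nat.strong_induction_on with
  | _ l ih =>
    intro hl
    have hmem : (l, 0) ∈ Finset.HasAntidiagonal.antidiagonal l := by
      rw [Finset.HasAntidiagonal.mem_antidiagonal]
      exact add_zero l
    have h1 := hasseD_mul H l f b
    rw [← Finset.add_sum_erase _ _ hmem, hasseD_zero hH] at h1
    have h2 : LocRes.hasseD H l f * b = LocRes.hasseD H l (f * b) -
        ∑ p ∈ (Finset.HasAntidiagonal.antidiagonal l).erase (l, 0),
          LocRes.hasseD H p.1 f * LocRes.hasseD H p.2 b := by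
      rw [h1]; ring
    have h3 : P.1 (LocRes.hasseD H l f) = P.1 (LocRes.hasseD H l f * b) := by
      rw [map_mul, hb1, mul_one]
    rw [h3, h2]
    apply P.1.map_sub_le (ha l hl)
    apply Valuation.map_sum_le
    intro p hp
    rw [Finset.mem_erase, Finset.HasAntidiagonal.mem_antidiagonal] at hp
    obtain ⟨hne, hsum⟩ := hp
    have hp2 : p.2 ≠ 0 := by
      intro h0
      apply hne
      ext
      · simp only; omega
      · exact h0
    rw [map_mul]
    calc P.1 (LocRes.hasseD H p.1 f) * P.1 (LocRes.hasseD H p.2 b)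
        ≤ WithZero.exp ((M : ℤ) * p.1) * WithZero.exp ((M : ℤ) * p.2) :=
          mul_le_mul' (ih p.1 (by omega) (by omega)) (hb p.2 (by omega))
      _ = WithZero.exp ((M : ℤ) * l) := by
          rw [← WithZero.exp_add, ← hsum]
          congr 1
          push_cast
          ring

/-- Hasse derivatives of powers of the local parameter -/
theorem hasse_pow_bound (hH : LocRes.IsHasseFamily t H) (ht : P.1 t = WithZero.exp (-1 : ℤ))
    (N l : ℕ) : P.1 (LocRes.hasseD H l (t ^ N)) ≤ WithZero.exp ((l : ℤ) - N) := by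
  induction N generalizing l with
  | zero =>
    have : (t ^ 0 : K) = algebraMap k K 1 := by rw [pow_zero, map_one]
    rw [this, hasseD_algebraMap]
    split_ifs with h
    · rw [map_one, map_one, ← WithZero.exp_zero, WithZero.exp_le_exp]
      push_cast
      omega
    · rw [map_zero]; exact zero_le
  | succ N ih =>
    rw [pow_succ, hasseD_mul]
    apply Valuation.map_sum_le
    intro p hp
    rw [Finset.HasAntidiagonal.mem_antidiagonal] at hp
    rw [map_mul, hasseD_t hH]
    split_ifs with h0 h1
    · calc P.1 (LocRes.hasseD H p.1 (t ^ N)) * P.1 t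
          ≤ WithZero.exp ((p.1 : ℤ) - N) * WithZero.exp (-1 : ℤ) := by
            rw [ht]; exact mul_le_mul' (ih p.1) le_rfl
        _ = WithZero.exp ((p.1 : ℤ) - N + -1) := (WithZero.exp_add _ _).symm
        _ ≤ _ := by
            rw [WithZero.exp_le_exp]
            push_cast
            omega
    · calc P.1 (LocRes.hasseD H p.1 (t ^ N)) * P.1 (1 : K)
          ≤ WithZero.exp ((p.1 : ℤ) - N) * 1 := by
            rw [map_one]; exact mul_le_mul' (ih p.1) le_rfl
        _ ≤ _ := by
            rw [mul_one, WithZero.exp_le_exp]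
            push_cast
            omega
    · rw [map_zero, mul_zero]; exact zero_le

end bound

end Groth.Agent.H86.FF
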