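import Mathlib
import Groth.Agent.H86.HS2

set_option autoImplicit false
set_option linter.unusedSectionVars false

namespace Groth.Agent.H86.FF

open FunFld Module Groth.Agent.H55

variable {k K : Type*} [Field k] [Field K] [Algebra k K] [IsAlgClosed k]

/-- Taylor approximation at a place with respect to a local parameter -/
theorem exists_taylor (hK : IsFunctionField k K) (P : Place k K) {t : K}
    (ht : P.1 t = WithZero.exp (-1 : ℤ)) (N : ℕ) (f : K) (hf : P.1 f ≤ 1) :
    ∃ q : Polynomial k, ∃ g : K, P.1 g ≤ 1 ∧ f = Polynomial.aeval t q + t ^ N * g := by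
  have ht0 : t ≠ 0 := Place.ne_zero_of_val_eq_exp P ht
  induction N with
  | zero => exact ⟨0, f, hf, by simp⟩
  | succ N ih =>
    obtain ⟨q, g, hg, hfe⟩ := ih
    obtain ⟨c, hc⟩ := exists_tau hK P hg
    refine ⟨q + Polynomial.C c * Polynomial.X ^ N, (g - algebraMap k K c) / t, ?_, ?_⟩
    · rw [map_div₀, ht, div_le_iff₀ (zero_lt_iff.mpr WithZero.exp_ne_zero), one_mul]
      exact le_exp_neg_one_of_lt_one hc
    · rw [hfe, map_add, map_mul, Polynomial.aeval_C, map_pow, Polynomial.aeval_X]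
      field_simp
      ring

/-- a place different from `P` -/
theorem exists_place_ne (hK : IsFunctionField k K) (P : Place k K) : ∃ Q : Place k K, Q ≠ P := by
  obtain ⟨t, ht⟩ := Place.exists_uniformizer P
  have ht0 : t ≠ 0 := Place.ne_zero_of_val_eq_exp P ht
  have htr : Transcendental k t := by
    apply transcendental_of_notMem_range hK
    apply Place.notMem_range_of_val_ne_one P ht0
    rw [ht]
    exact Place.exp_neg_one_lt_one.ne
  obtain ⟨Q, hQ⟩ := exists_pole hK htr
  refine ⟨Q, ?_⟩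
  rintro rfl
  rw [ht] at hQ
  exact absurd hQ (not_lt.mpr Place.exp_neg_one_lt_one.le)

theorem exists_nat_le_exp (y : WithZero (Multiplicative ℤ)) : ∃ m : ℕ, y ≤ WithZero.exp (m : ℤ) := by
  by_cases hy : y = 0
  · exact ⟨0, hy ▸ zero_le⟩
  · refine ⟨(WithZero.log y).toNat, ?_⟩
    rw [← WithZero.exp_log hy, WithZero.exp_le_exp, WithZero.exp_log hy]
    omega

/-- the Hasse derivatives with respect to a local parameter preserve the valuation ring -/
theorem hasse_integral (hK : IsFunctionField k K) (P : Place k K) {t : K}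
    {H : K →ₐ[k] PowerSeries K} (hH : LocRes.IsHasseFamily t H)
    (ht : P.1 t = WithZero.exp (-1 : ℤ)) (f : K) (hf : P.1 f ≤ 1) : f ∈ hasseInt P H := by
  classical
  intro i
  obtain ⟨Q₀, hQ₀⟩ := exists_place_ne hK P
  obtain ⟨s, hsA, hgen⟩ := exists_finset_AP_le_adjoin hK Q₀
  -- the bound M
  have hex : ∀ p : K × ℕ, ∃ m : ℕ, P.1 (LocRes.hasseD H p.2 p.1) ≤ WithZero.exp (m : ℤ) :=
    fun p => exists_nat_le_exp _
  choose mf hmf using hex
  obtain ⟨M, hM⟩ : ∃ M : ℕ, ∀ p ∈ s ×ˢ Finset.range (i + 1), mf p ≤ M :=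
    ⟨(s ×ˢ Finset.range (i + 1)).sup mf, fun p hp => Finset.le_sup hp⟩
  have hs : ∀ x ∈ (s : Set K), ∀ l ≤ i,
      P.1 (LocRes.hasseD H l x) ≤ WithZero.exp ((M : ℤ) * l) := by
    intro x hx l hl
    rcases Nat.eq_zero_or_pos l with rfl | hlpos
    · rw [hasseD_zero hH, Nat.cast_zero, mul_zero, WithZero.exp_zero]
      exact hsA x hx P (Ne.symm hQ₀)
    · refine (hmf (x, l)).trans ?_
      rw [WithZero.exp_le_exp]
      have h1 := hM (x, l) (Finset.mem_product.mpr ⟨hx, Finset.mem_range.mpr (by omega)⟩)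
      have h2 : (mf (x, l) : ℤ) ≤ M := by exact_mod_cast h1
      have h3 : (1 : ℤ) ≤ l := by exact_mod_cast hlpos
      nlinarith
  obtain ⟨q, g, hg, hfe⟩ := exists_taylor hK P ht (i + M * i) f hf
  obtain ⟨b, hbA, hb1, haA⟩ := exists_frac hK Q₀ P (Ne.symm hQ₀) g hg
  have hb := hasse_bound_adjoin P (s : Set K) i M hs b (hgen b hbA)
  have ha := hasse_bound_adjoin P (s : Set K) i M hs (g * b) (hgen _ haA)
  have hgb := hasse_bound_frac P hH i M g b hb1 hb ha
  rw [hfe, hasseD_add]
  apply P.1.map_add_le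
  · have htmem : t ∈ hasseInt P H := by
      intro j
      rw [hasseD_t hH]
      split_ifs
      · rw [ht]; exact Place.exp_neg_one_lt_one.le
      · rw [map_one]
      · rw [map_zero]; exact zero_le_one
    have hle : Algebra.adjoin k ({t} : Set K) ≤ hasseInt P H :=
      Algebra.adjoin_le (Set.singleton_subset_iff.mpr htmem)
    exact hle (Polynomial.aeval_mem_adjoin_singleton k t) i
  · rw [hasseD_mul]
    apply Valuation.map_sum_le
    intro p hp
    rw [Finset.HasAntidiagonal.mem_antidiagonal] at hp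
    rw [map_mul]
    calc P.1 (LocRes.hasseD H p.1 (t ^ (i + M * i))) * P.1 (LocRes.hasseD H p.2 g)
        ≤ WithZero.exp ((p.1 : ℤ) - ((i + M * i : ℕ) : ℤ)) * WithZero.exp ((M : ℤ) * p.2) :=
          mul_le_mul' (hasse_pow_bound P hH ht _ _) (hgb p.2 (by omega))
      _ = WithZero.exp ((p.1 : ℤ) - ((i + M * i : ℕ) : ℤ) + (M : ℤ) * p.2) :=
          (WithZero.exp_add _ _).symm
      _ ≤ 1 := by
          rw [← WithZero.exp_zero, WithZero.exp_le_exp]
          have h1 : (p.1 : ℤ) ≤ i := by exact_mod_cast (by omega : p.1 ≤ i)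
          have h2 : (p.2 : ℤ) ≤ i := by exact_mod_cast (by omega : p.2 ≤ i)
          have h3 : (0 : ℤ) ≤ M := by positivity
          push_cast
          nlinarith

end Groth.Agent.H86.FF
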