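import Mathlib
import Groth.Agent.H86.HS3
import Groth.Prelude.Def_W4bk4goldsch45p2

set_option autoImplicit false
set_option linter.unusedSectionVars false

namespace Groth.Agent.H86.FF

open FunFld Module Groth.Agent.H55

variable {k K : Type*} [Field k] [Field K] [Algebra k K]

/-- Hasse derivatives of powers of `t` -/
theorem hasseD_pow {t : K} {H : K →ₐ[k] PowerSeries K} (hH : LocRes.IsHasseFamily t H)
    (N l : ℕ) : LocRes.hasseD H l (t ^ N) = t ^ (N - l) * (N.choose l : K) := by
  rw [LocRes.hasseD_apply, map_pow, hH.1]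
  have : (PowerSeries.C t + PowerSeries.X : PowerSeries K) =
      ((Polynomial.X + Polynomial.C t : Polynomial K) : PowerSeries K) := by
    rw [Polynomial.coe_add, Polynomial.coe_X, Polynomial.coe_C, add_comm]
  rw [this, ← Polynomial.coe_pow, Polynomial.coeff_coe, Polynomial.coeff_X_add_C_pow]

section evalP

theorem evalP_of_le (P : Place k K) {z : K} (hz : P.1 z ≤ 1) :
    evalP P z = IsLocalRing.residue P.O ⟨z, (Valuation.mem_valuationSubring_iff P.1 z).mpr hz⟩ := by
  unfold evalP
  rw [dif_pos hz]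

theorem evalP_eq_zero_iff (P : Place k K) {z : K} (hz : P.1 z ≤ 1) :
    evalP P z = 0 ↔ P.1 z < 1 := by
  rw [evalP_of_le P hz, Place.residue_eq_zero_iff]

theorem evalP_add (P : Place k K) {x y : K} (hx : P.1 x ≤ 1) (hy : P.1 y ≤ 1) :
    evalP P (x + y) = evalP P x + evalP P y := by
  rw [evalP_of_le P hx, evalP_of_le P hy, evalP_of_le P (P.1.map_add_le hx hy), ← map_add]
  rfl

theorem evalP_mul (P : Place k K) {x y : K} (hx : P.1 x ≤ 1) (hy : P.1 y ≤ 1) :
    evalP P (x * y) = evalP P x * evalP P y := by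
  have hxy : P.1 (x * y) ≤ 1 := by rw [map_mul]; exact mul_le_one' hx hy
  rw [evalP_of_le P hx, evalP_of_le P hy, evalP_of_le P hxy, ← map_mul]
  rfl

theorem evalP_algebraMap (P : Place k K) (c : k) :
    evalP P (algebraMap k K c) = algebraMap k (IsLocalRing.ResidueField P.O) c := by
  rw [evalP_of_le P (P.2.1 c)]
  rfl

theorem evalP_zero (P : Place k K) : evalP P (0 : K) = 0 := by
  rw [evalP_eq_zero_iff P (by rw [map_zero]; exact zero_le_one), map_zero]
  exact zero_lt_one

theorem evalP_sum (P : Place k K) {ι : Type*} (s : Finset ι) (f : ι → K)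
    (hf : ∀ i ∈ s, P.1 (f i) ≤ 1) : evalP P (∑ i ∈ s, f i) = ∑ i ∈ s, evalP P (f i) := by
  classical
  induction s using Finset.induction_on with
  | empty => rw [Finset.sum_empty, Finset.sum_empty, evalP_zero]
  | insert a s ha ih =>
    rw [Finset.sum_insert ha, Finset.sum_insert ha,
      evalP_add P (hf a (Finset.mem_insert_self a s))
        (Valuation.map_sum_le _ fun i hi => hf i (Finset.mem_insert_of_mem hi)),
      ih fun i hi => hf i (Finset.mem_insert_of_mem hi)]

end evalP

variable [IsAlgClosed k]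

/-- the Hasse derivative of order `m` of a function of order exactly `m` is a unit -/
theorem hasse_order (hK : IsFunctionField k K) (P : Place k K) {t : K}
    {H : K →ₐ[k] PowerSeries K} (hH : LocRes.IsHasseFamily t H)
    (ht : P.1 t = WithZero.exp (-1 : ℤ)) (m : ℕ) (f : K)
    (hf : P.1 f = WithZero.exp (-(m : ℤ))) : P.1 (LocRes.hasseD H m f) = 1 := by
  have ht0 : t ≠ 0 := Place.ne_zero_of_val_eq_exp P ht
  obtain ⟨g, hg⟩ : ∃ g, g = f / t ^ m := ⟨_, rfl⟩
  have hg1 : P.1 g = 1 := by
    rw [hg, map_div₀, map_pow, ht, exp_neg_one_pow, hf]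
    exact div_self WithZero.exp_ne_zero
  have hfe : f = t ^ m * g := by rw [hg]; field_simp
  have hgint := hasse_integral hK P hH ht g hg1.le
  have hmem : (m, 0) ∈ Finset.HasAntidiagonal.antidiagonal m := by
    rw [Finset.HasAntidiagonal.mem_antidiagonal]
    exact add_zero m
  rw [hfe, hasseD_mul, ← Finset.add_sum_erase _ _ hmem, hasseD_zero hH, hasseD_pow hH,
    Nat.sub_self, pow_zero, Nat.choose_self, Nat.cast_one, one_mul, one_mul]
  have hlt : P.1 (∑ p ∈ (Finset.HasAntidiagonal.antidiagonal m).erase (m, 0),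
      LocRes.hasseD H p.1 (t ^ m) * LocRes.hasseD H p.2 g) < P.1 g := by
    rw [hg1]
    apply Valuation.map_sum_lt _ one_ne_zero
    intro p hp
    rw [Finset.mem_erase, Finset.HasAntidiagonal.mem_antidiagonal] at hp
    obtain ⟨hne, hsum⟩ := hp
    have hp2 : p.2 ≠ 0 := by
      intro h0
      apply hne
      ext
      · simp only; omega
      · exact h0
    rw [map_mul]
    calc P.1 (LocRes.hasseD H p.1 (t ^ m)) * P.1 (LocRes.hasseD H p.2 g)
        ≤ WithZero.exp ((p.1 : ℤ) - m) * 1 :=
          mul_le_mul' (hasse_pow_bound P hH ht _ _) (hgint p.2)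
      _ < 1 := by
          rw [mul_one, ← WithZero.exp_zero, WithZero.exp_lt_exp]
          omega
  rw [P.1.map_add_eq_of_lt_left hlt, hg1]

/-- a function integral at `P` all of whose Taylor coefficients vanish is zero -/
theorem eq_zero_of_hasse_lt_one (hK : IsFunctionField k K) (P : Place k K) {t : K}
    {H : K →ₐ[k] PowerSeries K} (hH : LocRes.IsHasseFamily t H)
    (ht : P.1 t = WithZero.exp (-1 : ℤ)) (f : K) (hf : P.1 f ≤ 1)
    (hall : ∀ j, P.1 (LocRes.hasseD H j f) < 1) : f = 0 := by
  by_contra hf0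
  have hord : 0 ≤ P.ord f := (Place.ord_nonneg_iff P hf0).mpr hf
  obtain ⟨m, hm⟩ : ∃ m : ℕ, (m : ℤ) = P.ord f := ⟨(P.ord f).toNat, by omega⟩
  have hval : P.1 f = WithZero.exp (-(m : ℤ)) := by
    rw [Place.val_eq_exp_neg_ord P hf0, hm]
  have := hasse_order hK P hH ht m f hval
  exact absurd this (hall m).ne

end Groth.Agent.H86.FF
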