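import Mathlib
import Groth.Agent.H86.HS4

set_option autoImplicit false
set_option linter.unusedSectionVars false

namespace Groth.Agent.H86.FF

open FunFld Module Groth.Agent.H55

variable {k K : Type*} [Field k] [Field K] [Algebra k K] [IsAlgClosed k]

section local_

variable (hK : IsFunctionField k K) (P : Place k K) {t : K} {H : K →ₐ[k] PowerSeries K}
  (hH : LocRes.IsHasseFamily t H) (ht : P.1 t = WithZero.exp (-1 : ℤ))

include hK hH ht in
/-- vanishing order in terms of Taylor coefficients -/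
theorem val_le_iff_hasse (f : K) (hf : P.1 f ≤ 1) (m : ℕ) :
    P.1 f ≤ WithZero.exp (-(m : ℤ)) ↔ ∀ j < m, P.1 (LocRes.hasseD H j f) < 1 := by
  have ht0 : t ≠ 0 := Place.ne_zero_of_val_eq_exp P ht
  constructor
  · intro hfm j hj
    obtain ⟨g, hg⟩ : ∃ g, g = f / t ^ m := ⟨_, rfl⟩
    have hpos : (0 : WithZero (Multiplicative ℤ)) < WithZero.exp (-1 : ℤ) ^ m :=
      pow_pos (zero_lt_iff.mpr WithZero.exp_ne_zero) _
    have hg1 : P.1 g ≤ 1 := by
      rw [hg, map_div₀, map_pow, ht, div_le_iff₀ hpos, one_mul, exp_neg_one_pow]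
      exact hfm
    have hfe : f = t ^ m * g := by rw [hg]; field_simp
    have hgint := hasse_integral hK P hH ht g hg1
    rw [hfe, hasseD_mul]
    apply Valuation.map_sum_lt _ one_ne_zero
    intro p hp
    rw [Finset.HasAntidiagonal.mem_antidiagonal] at hp
    rw [map_mul]
    calc P.1 (LocRes.hasseD H p.1 (t ^ m)) * P.1 (LocRes.hasseD H p.2 g)
        ≤ WithZero.exp ((p.1 : ℤ) - m) * 1 :=
          mul_le_mul' (hasse_pow_bound P hH ht _ _) (hgint p.2)
      _ < 1 := by
          rw [mul_one, ← WithZero.exp_zero, WithZero.exp_lt_exp]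
          omega
  · intro hall
    by_contra hcon
    push Not at hcon
    have hf0 : f ≠ 0 := by
      rintro rfl
      rw [map_zero] at hcon
      exact absurd hcon (not_lt.mpr zero_le)
    have hord : 0 ≤ P.ord f := (Place.ord_nonneg_iff P hf0).mpr hf
    obtain ⟨m', hm'⟩ : ∃ m' : ℕ, (m' : ℤ) = P.ord f := ⟨(P.ord f).toNat, by omega⟩
    have hval : P.1 f = WithZero.exp (-(m' : ℤ)) := by
      rw [Place.val_eq_exp_neg_ord P hf0, hm']
    have hlt : m' < m := by
      rw [hval, WithZero.exp_lt_exp] at hcon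
      omega
    have := hasse_order hK P hH ht m' f hval
    exact absurd this (hall m' hlt).ne

include hK hH ht in
theorem val_eq_iff_hasse (f : K) (hf : P.1 f ≤ 1) (m : ℕ) :
    P.1 f = WithZero.exp (-(m : ℤ)) ↔
      (∀ j < m, P.1 (LocRes.hasseD H j f) < 1) ∧ ¬ P.1 (LocRes.hasseD H m f) < 1 := by
  constructor
  · intro hval
    refine ⟨(val_le_iff_hasse hK P hH ht f hf m).mp hval.le, ?_⟩
    rw [hasse_order hK P hH ht m f hval]
    exact lt_irrefl _
  · rintro ⟨h1, h2⟩
    have hle := (val_le_iff_hasse hK P hH ht f hf m).mpr h1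
    apply le_antisymm hle
    by_contra hcon
    push Not at hcon
    have h3 : P.1 f ≤ WithZero.exp (-((m + 1 : ℕ) : ℤ)) := by
      have := Place.lt_exp_iff_le_exp_sub_one.mp hcon
      have e : (-(m : ℤ) - 1) = -((m + 1 : ℕ) : ℤ) := by push_cast; ring
      rwa [e] at this
    exact h2 ((val_le_iff_hasse hK P hH ht f hf (m + 1)).mp h3 m (Nat.lt_succ_self m))

end local_

section cols

variable (hK : IsFunctionField k K) (P : Place k K) {t : K} {H : K →ₐ[k] PowerSeries K}
  (hH : LocRes.IsHasseFamily t H) (ht : P.1 t = WithZero.exp (-1 : ℤ))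
  {n : ℕ} (φ : Fin (n + 1) → K) (hint : ∀ i, P.1 (φ i) ≤ 1)

/-- pairing of a coefficient vector with a column of values -/
noncomputable def dotK (P : Place k K) (γ : Fin (n + 1) → k)
    (w : Fin (n + 1) → IsLocalRing.ResidueField P.O) : IsLocalRing.ResidueField P.O :=
  ∑ i, algebraMap k (IsLocalRing.ResidueField P.O) (γ i) * w i

include hH in
theorem hcolAt_zero_eq_one : hcolAt P H φ 0 = hcolAt P H φ 1 := by
  funext i
  change evalP P (φ i) = evalP P (LocRes.hasseD H 0 (φ i))
  rw [hasseD_zero hH]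

include hK hH ht hint in
theorem comb_int (γ : Fin (n + 1) → k) : P.1 (∑ i, γ i • φ i) ≤ 1 := by
  apply Valuation.map_sum_le
  intro i _
  rw [Algebra.smul_def, map_mul]
  exact mul_le_one' (P.2.1 _) (hint i)

include hK hH ht hint in
theorem evalP_hasseD_comb (γ : Fin (n + 1) → k) (j : ℕ) :
    evalP P (LocRes.hasseD H j (∑ i, γ i • φ i)) = dotK P γ (hcolAt P H φ (j + 1)) := by
  have hDint : ∀ i, P.1 (LocRes.hasseD H j (φ i)) ≤ 1 :=
    fun i => hasse_integral hK P hH ht (φ i) (hint i) j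
  have hDj : LocRes.hasseD H j (∑ i, γ i • φ i) =
      ∑ i, algebraMap k K (γ i) * LocRes.hasseD H j (φ i) := by
    simp only [LocRes.hasseD_apply, map_sum, Algebra.smul_def]
    apply Finset.sum_congr rfl
    intro i _
    rw [map_mul, AlgHom.commutes, PowerSeries.algebraMap_apply, PowerSeries.coeff_C_mul]
  have hle : ∀ i ∈ (Finset.univ : Finset (Fin (n + 1))),
      P.1 (algebraMap k K (γ i) * LocRes.hasseD H j (φ i)) ≤ 1 := by
    intro i _
    rw [map_mul]
    exact mul_le_one' (P.2.1 _) (hDint i)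
  rw [hDj, evalP_sum P _ _ hle]
  unfold dotK
  apply Finset.sum_congr rfl
  intro i _
  rw [evalP_mul P (P.2.1 _) (hDint i), evalP_algebraMap]
  rfl

include hK hH ht hint in
/-- the order of a combination in terms of the columns of values -/
theorem val_comb_eq_iff (γ : Fin (n + 1) → k) (m : ℕ) :
    P.1 (∑ i, γ i • φ i) = WithZero.exp (-(m : ℤ)) ↔
      (∀ j < m, dotK P γ (hcolAt P H φ (j + 1)) = 0) ∧ dotK P γ (hcolAt P H φ (m + 1)) ≠ 0 := by
  have hf := comb_int hK P hH ht φ hint γ
  have hD : ∀ j, P.1 (LocRes.hasseD H j (∑ i, γ i • φ i)) ≤ 1 :=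
    fun j => hasse_integral hK P hH ht _ hf j
  rw [val_eq_iff_hasse hK P hH ht _ hf m]
  constructor
  · rintro ⟨h1, h2⟩
    refine ⟨fun j hj => ?_, ?_⟩
    · rw [← evalP_hasseD_comb hK P hH ht φ hint, evalP_eq_zero_iff P (hD j)]
      exact h1 j hj
    · rw [← evalP_hasseD_comb hK P hH ht φ hint, Ne, evalP_eq_zero_iff P (hD m)]
      exact h2
  · rintro ⟨h1, h2⟩
    refine ⟨fun j hj => ?_, ?_⟩
    · rw [← evalP_eq_zero_iff P (hD j), evalP_hasseD_comb hK P hH ht φ hint]
      exact h1 j hj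
    · rw [← evalP_eq_zero_iff P (hD m), evalP_hasseD_comb hK P hH ht φ hint]
      exact h2

/-- the linear functional given by a coefficient vector -/
noncomputable def dotLin (P : Place k K) (γ : Fin (n + 1) → k) :
    (Fin (n + 1) → IsLocalRing.ResidueField P.O) →ₗ[IsLocalRing.ResidueField P.O]
      IsLocalRing.ResidueField P.O where
  toFun w := dotK P γ w
  map_add' w w' := by
    unfold dotK
    rw [← Finset.sum_add_distrib]
    apply Finset.sum_congr rfl
    intro i _
    rw [Pi.add_apply, mul_add]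
  map_smul' c w := by
    unfold dotK
    rw [RingHom.id_apply, Finset.smul_sum]
    apply Finset.sum_congr rfl
    intro i _
    rw [Pi.smul_apply, smul_eq_mul, smul_eq_mul]
    ring

theorem dotLin_apply (γ : Fin (n + 1) → k) (w : Fin (n + 1) → IsLocalRing.ResidueField P.O) :
    dotLin P γ w = dotK P γ w := rfl

include hK in
/-- every functional is given by a coefficient vector from `k` -/
theorem exists_dotLin_eq (ψ : (Fin (n + 1) → IsLocalRing.ResidueField P.O) →ₗ[IsLocalRing.ResidueField P.O]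
      IsLocalRing.ResidueField P.O) : ∃ γ : Fin (n + 1) → k, dotLin P γ = ψ := by
  classical
  have hbij := algebraMap_res_bijective hK P
  have hex : ∀ i : Fin (n + 1), ∃ c : k, algebraMap k (IsLocalRing.ResidueField P.O) c =
      ψ (fun j => if i = j then 1 else 0) := fun i => hbij.2 _
  choose γ hγ using hex
  refine ⟨γ, ?_⟩
  apply LinearMap.ext
  intro w
  rw [dotLin_apply, LinearMap.pi_apply_eq_sum_univ ψ w]
  unfold dotK
  apply Finset.sum_congr rfl
  intro i _
  rw [hγ, smul_eq_mul, mul_comm]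

include hK hH ht hint in
/-- jumps of the columns of values are the orders of the span at `P` -/
theorem isJump_hcolAt_iff (j : ℕ) (hj : 1 ≤ j) :
    IsJump (IsLocalRing.ResidueField P.O) (hcolAt P H φ) (j + 1) ↔
      ∃ γ : Fin (n + 1) → k, P.1 (∑ i, γ i • φ i) = WithZero.exp (-(j : ℤ)) := by
  unfold IsJump
  constructor
  · intro hjump
    obtain ⟨ψ, hψ1, hψ2⟩ := Submodule.exists_le_ker_of_notMem hjump
    obtain ⟨γ, hγ⟩ := exists_dotLin_eq hK P ψ
    refine ⟨γ, ?_⟩
    rw [val_comb_eq_iff hK P hH ht φ hint]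
    refine ⟨fun j' hj' => ?_, ?_⟩
    · rw [← dotLin_apply, hγ]
      have : hcolAt P H φ (j' + 1) ∈ Submodule.span (IsLocalRing.ResidueField P.O)
          (hcolAt P H φ '' Set.Iio (j + 1)) :=
        Submodule.subset_span ⟨j' + 1, by rw [Set.mem_Iio]; omega, rfl⟩
      exact LinearMap.mem_ker.mp (hψ2 this)
    · rw [← dotLin_apply, hγ]
      exact hψ1
  · rintro ⟨γ, hγ⟩
    rw [val_comb_eq_iff hK P hH ht φ hint] at hγ
    obtain ⟨h1, h2⟩ := hγ
    intro hmem
    have hle : Submodule.span (IsLocalRing.ResidueField P.O) (hcolAt P H φ '' Set.Iio (j + 1)) ≤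
        LinearMap.ker (dotLin P γ) := by
      rw [Submodule.span_le]
      rintro _ ⟨m, hm, rfl⟩
      rw [Set.mem_Iio] at hm
      rw [SetLike.mem_coe, LinearMap.mem_ker, dotLin_apply]
      rcases Nat.eq_zero_or_pos m with rfl | hmpos
      · rw [hcolAt_zero_eq_one P hH φ]
        exact h1 0 (by omega)
      · obtain ⟨m', rfl⟩ : ∃ m', m = m' + 1 := ⟨m - 1, by omega⟩
        exact h1 m' (by omega)
    exact h2 (LinearMap.mem_ker.mp (hle hmem))

include hH in
theorem not_isJump_one : ¬ IsJump (IsLocalRing.ResidueField P.O) (hcolAt P H φ) 1 := by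
  unfold IsJump
  rw [not_not]
  apply Submodule.subset_span
  exact ⟨0, by rw [Set.mem_Iio]; omega, hcolAt_zero_eq_one P hH φ⟩

end cols

end Groth.Agent.H86.FF
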