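import Mathlib
import Groth.Agent.H86.HS5

set_option autoImplicit false
set_option linter.unusedSectionVars false

namespace Groth.Agent.H86.FF

open FunFld Module Groth.Agent.H55

variable {k K : Type*} [Field k] [Field K] [Algebra k K]

/-- functions with pairwise distinct (strictly decreasing) valuations are linearly independent -/
theorem linearIndependent_of_strictAnti_val (P : Place k K) {m : ℕ} (w : Fin m → K)
    (hw : ∀ i, w i ≠ 0) (h : StrictAnti (fun i => P.1 (w i))) : LinearIndependent k w := by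
  classical
  rw [Fintype.linearIndependent_iff]
  intro a ha
  by_contra hne
  push Not at hne
  obtain ⟨i₁, hi₁⟩ := hne
  obtain ⟨S, hSdef⟩ : ∃ S : Finset (Fin m), S = Finset.univ.filter (fun i : Fin m => a i ≠ 0) :=
    ⟨_, rfl⟩
  have hmemS : ∀ i : Fin m, i ∈ S ↔ a i ≠ 0 := by
    intro i
    rw [hSdef, Finset.mem_filter]
    exact ⟨fun h => h.2, fun h => ⟨Finset.mem_univ _, h⟩⟩
  have hS : S.Nonempty := ⟨i₁, (hmemS i₁).mpr hi₁⟩
  obtain ⟨i₀, hi₀⟩ : ∃ i₀, i₀ = S.min' hS := ⟨_, rfl⟩
  have hi₀mem : i₀ ∈ S := hi₀ ▸ Finset.min'_mem _ hS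
  have ha₀ : a i₀ ≠ 0 := (hmemS i₀).mp hi₀mem
  have hv0 : P.1 (a i₀ • w i₀) = P.1 (w i₀) := by
    rw [Algebra.smul_def, map_mul, Place.val_algebraMap_eq_one P ha₀, one_mul]
  have hvne : P.1 (w i₀) ≠ 0 := (map_ne_zero P.1).mpr (hw i₀)
  rw [← Finset.add_sum_erase _ _ (Finset.mem_univ i₀)] at ha
  have hlt : P.1 (∑ i ∈ Finset.univ.erase i₀, a i • w i) < P.1 (a i₀ • w i₀) := by
    rw [hv0]
    apply Valuation.map_sum_lt _ hvne
    intro i hi
    rw [Finset.mem_erase] at hi
    by_cases hai : a i = 0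
    · rw [hai, zero_smul, map_zero]
      exact zero_lt_iff.mpr hvne
    · rw [Algebra.smul_def, map_mul, Place.val_algebraMap_eq_one P hai, one_mul]
      have hle : i₀ ≤ i := by
        rw [hi₀]
        exact Finset.min'_le S i ((hmemS i).mpr hai)
      exact h (lt_of_le_of_ne hle (Ne.symm hi.1))
  have := P.1.map_add_eq_of_lt_left hlt
  rw [ha, map_zero, hv0] at this
  exact hvne this.symm

variable [IsAlgClosed k]

section adapted

variable (hK : IsFunctionField k K) (P : Place k K) {t : K} {H : K →ₐ[k] PowerSeries K}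
  (hH : LocRes.IsHasseFamily t H) (ht : P.1 t = WithZero.exp (-1 : ℤ))
  {n : ℕ} (φ : Fin (n + 1) → K) (hint : ∀ i, P.1 (φ i) ≤ 1)

include hH in
theorem orders_pos {J' : Fin n → ℕ}
    (hJ' : IsOrders (IsLocalRing.ResidueField P.O) (hcolAt P H φ) J') (l : Fin n) : 1 ≤ J' l := by
  by_contra hlt
  have h0 : J' l = 0 := by omega
  have := (hJ'.2 (J' l)).mp ⟨l, rfl⟩
  rw [h0] at this
  exact not_isJump_one P hH φ this

include hK hH ht hint in
/-- normalized element of given order in the span -/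
theorem exists_normalized {J' : Fin n → ℕ}
    (hJ' : IsOrders (IsLocalRing.ResidueField P.O) (hcolAt P H φ) J') (l : Fin n) :
    ∃ f ∈ Submodule.span k (Set.range φ), P.1 f = WithZero.exp (-(J' l : ℤ)) ∧
      evalP P (f / t ^ J' l) = 1 := by
  have ht0 : t ≠ 0 := Place.ne_zero_of_val_eq_exp P ht
  have hjump := (hJ'.2 (J' l)).mp ⟨l, rfl⟩
  obtain ⟨γ, hγ⟩ := (isJump_hcolAt_iff hK P hH ht φ hint (J' l) (orders_pos P hH φ hJ' l)).mp hjump
  obtain ⟨f₀, hf₀⟩ : ∃ f₀, f₀ = ∑ i, γ i • φ i := ⟨_, rfl⟩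
  rw [← hf₀] at hγ
  have hf₀mem : f₀ ∈ Submodule.span k (Set.range φ) := by
    rw [hf₀]
    exact Submodule.sum_mem _ fun i _ =>
      Submodule.smul_mem _ _ (Submodule.subset_span ⟨i, rfl⟩)
  have hu1 : P.1 (f₀ / t ^ J' l) = 1 := by
    rw [map_div₀, map_pow, ht, exp_neg_one_pow, hγ]
    exact div_self WithZero.exp_ne_zero
  have hune : evalP P (f₀ / t ^ J' l) ≠ 0 := by
    rw [Ne, evalP_eq_zero_iff P hu1.le, hu1]
    exact lt_irrefl _
  obtain ⟨a, ha⟩ := (algebraMap_res_bijective hK P).2 (evalP P (f₀ / t ^ J' l))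
  have ha0 : a ≠ 0 := by
    rintro rfl
    rw [map_zero] at ha
    exact hune ha.symm
  refine ⟨a⁻¹ • f₀, Submodule.smul_mem _ _ hf₀mem, ?_, ?_⟩
  · rw [Algebra.smul_def, map_mul, Place.val_algebraMap_eq_one P (inv_ne_zero ha0), one_mul, hγ]
  · have : a⁻¹ • f₀ / t ^ J' l = algebraMap k K a⁻¹ * (f₀ / t ^ J' l) := by
      rw [Algebra.smul_def]; ring
    rw [this, evalP_mul P (P.2.1 _) hu1.le, evalP_algebraMap, ← ha, ← map_mul,
      inv_mul_cancel₀ ha0, map_one]

include hK hH ht hint in
/-- adapted basis of the span at `P` -/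
theorem exists_adapted (hφ : LinearIndependent k φ)
    (heff : (1 : K) ∈ Submodule.span k (Set.range φ)) {J' : Fin n → ℕ}
    (hJ' : IsOrders (IsLocalRing.ResidueField P.O) (hcolAt P H φ) J') :
    ∃ φ' : Fin (n + 1) → K,
      Submodule.span k (Set.range φ') = Submodule.span k (Set.range φ) ∧
      P.1 (φ' 0) = 1 ∧ evalP P (φ' 0) = 1 ∧
      ∀ l : Fin n, P.1 (φ' l.succ) = WithZero.exp (-(J' l : ℤ)) ∧
        evalP P (φ' l.succ / t ^ J' l) = 1 := by
  have hex := fun l => exists_normalized hK P hH ht φ hint hJ' l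
  choose F hF using hex
  obtain ⟨G, hG0, hGs⟩ : ∃ G : Fin (n + 1) → K, G 0 = 1 ∧ ∀ l : Fin n, G l.succ = F l :=
    ⟨Fin.cases 1 F, rfl, fun l => rfl⟩
  obtain ⟨JJ, hJ0, hJs⟩ : ∃ JJ : Fin (n + 1) → ℕ, JJ 0 = 0 ∧ ∀ l : Fin n, JJ l.succ = J' l :=
    ⟨Fin.cases 0 J', rfl, fun l => rfl⟩
  refine ⟨G, ?_, ?_, ?_, ?_⟩
  · have hle : Submodule.span k (Set.range G) ≤ Submodule.span k (Set.range φ) := by
      rw [Submodule.span_le]
      rintro _ ⟨i, rfl⟩
      refine Fin.cases ?_ (fun l => ?_) i
      · rw [hG0]; exact heff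
      · rw [hGs]; exact (hF l).1
    have hval : ∀ i : Fin (n + 1), P.1 (G i) = WithZero.exp (-(JJ i : ℤ)) := by
      intro i
      refine Fin.cases ?_ (fun l => ?_) i
      · rw [hG0, hJ0]; simp
      · rw [hGs, hJs]
        exact (hF l).2.1
    have hmono : StrictMono JJ := by
      intro i i' hii'
      induction i using Fin.cases with
      | zero =>
        induction i' using Fin.cases with
        | zero => exact absurd hii' (lt_irrefl _)
        | succ l' =>
          rw [hJ0, hJs]
          exact orders_pos P hH φ hJ' l'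
      | succ l =>
        induction i' using Fin.cases with
        | zero => exact absurd hii' (Fin.not_lt_zero _)
        | succ l' =>
          rw [hJs, hJs]
          exact hJ'.1 (Fin.succ_lt_succ_iff.mp hii')
    have hli : LinearIndependent k G := by
      apply linearIndependent_of_strictAnti_val P
      · intro i h0
        have := hval i
        rw [h0, map_zero] at this
        exact WithZero.exp_ne_zero this.symm
      · intro i i' hii'
        have h1 := hval i
        have h2 := hval i'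
        have h3 := hmono hii'
        change P.1 (G i') < P.1 (G i)
        rw [h1, h2, WithZero.exp_lt_exp]
        omega
    have hfin : FiniteDimensional k (Submodule.span k (Set.range φ)) :=
      FiniteDimensional.span_of_finite k (Set.finite_range φ)
    apply Submodule.eq_of_le_of_finrank_eq hle
    rw [finrank_span_eq_card hli, finrank_span_eq_card hφ]
  · rw [hG0]; simp
  · rw [hG0]
    have : (1 : K) = algebraMap k K 1 := (map_one _).symm
    rw [this, evalP_algebraMap, map_one]
  · intro l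
    rw [hGs]
    exact (hF l).2

end adapted

end Groth.Agent.H86.FF
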