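import Mathlib
import Groth.Agent.H86.HS6

set_option autoImplicit false
set_option linter.unusedSectionVars false

namespace Groth.Agent.H86.FF

open FunFld Module Groth.Agent.H55

variable {k K : Type*} [Field k] [Field K] [Algebra k K]

section basis_change

variable {n : ℕ}

theorem hasseD_comb (H : K →ₐ[k] PowerSeries K) (m : ℕ) {ι : Type*} (s : Finset ι)
    (a : ι → k) (φ : ι → K) :
    LocRes.hasseD H m (∑ j ∈ s, a j • φ j) = ∑ j ∈ s, algebraMap k K (a j) * LocRes.hasseD H m (φ j) := by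
  simp only [LocRes.hasseD_apply, map_sum, Algebra.smul_def]
  apply Finset.sum_congr rfl
  intro i _
  rw [map_mul, AlgHom.commutes, PowerSeries.algebraMap_apply, PowerSeries.coeff_C_mul]

theorem wrMat_comb (τ : K →ₐ[k] K) (H : K →ₐ[k] PowerSeries K)
    (A : Matrix (Fin (n + 1)) (Fin (n + 1)) k) (φ : Fin (n + 1) → K) (I : Fin n → ℕ) :
    wrMat τ H (fun i => ∑ j, A i j • φ j) I = A.map (algebraMap k K) * wrMat τ H φ I := by
  ext i c
  rw [Matrix.mul_apply]
  refine Fin.cases ?_ (fun l => ?_) c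
  · change τ (∑ j, A i j • φ j) = ∑ j, algebraMap k K (A i j) * τ (φ j)
    rw [map_sum]
    apply Finset.sum_congr rfl
    intro j _
    rw [Algebra.smul_def, map_mul, AlgHom.commutes]
  · change LocRes.hasseD H (I l) (∑ j, A i j • φ j) =
      ∑ j, algebraMap k K (A i j) * LocRes.hasseD H (I l) (φ j)
    exact hasseD_comb H (I l) _ _ _

theorem det_wrMat_comb (τ : K →ₐ[k] K) (H : K →ₐ[k] PowerSeries K)
    (A : Matrix (Fin (n + 1)) (Fin (n + 1)) k) (φ : Fin (n + 1) → K) (I : Fin n → ℕ) :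
    (wrMat τ H (fun i => ∑ j, A i j • φ j) I).det =
      algebraMap k K A.det * (wrMat τ H φ I).det := by
  rw [wrMat_comb, Matrix.det_mul, RingHom.map_det, RingHom.mapMatrix_apply]

/-- two linearly independent tuples with the same span differ by an invertible matrix -/
theorem exists_matrix_of_span_eq (φ φ' : Fin (n + 1) → K) (hφ : LinearIndependent k φ)
    (hspan : Submodule.span k (Set.range φ') = Submodule.span k (Set.range φ)) :
    ∃ A : Matrix (Fin (n + 1)) (Fin (n + 1)) k, A.det ≠ 0 ∧ φ' = fun i => ∑ j, A i j • φ j := by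
  classical
  have h1 : ∀ i, ∃ a : Fin (n + 1) → k, ∑ j, a j • φ j = φ' i := by
    intro i
    apply (Submodule.mem_span_range_iff_exists_fun k).mp
    rw [← hspan]
    exact Submodule.subset_span ⟨i, rfl⟩
  have h2 : ∀ i, ∃ b : Fin (n + 1) → k, ∑ j, b j • φ' j = φ i := by
    intro i
    apply (Submodule.mem_span_range_iff_exists_fun k).mp
    rw [hspan]
    exact Submodule.subset_span ⟨i, rfl⟩
  choose A hA using h1
  choose B hB using h2
  refine ⟨Matrix.of A, ?_, ?_⟩
  · have hBA : Matrix.of B * Matrix.of A = 1 := by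
      ext i l
      rw [Matrix.mul_apply]
      have hrel : ∑ l, (∑ j, B i j * A j l) • φ l = φ i := by
        rw [← hB i]
        simp_rw [← hA, Finset.smul_sum, Finset.sum_smul, smul_smul]
        rw [Finset.sum_comm]
      have hzero : ∑ l, ((∑ j, B i j * A j l) - (if i = l then 1 else 0)) • φ l = 0 := by
        simp_rw [sub_smul]
        rw [Finset.sum_sub_distrib, hrel]
        simp
      have := Fintype.linearIndependent_iff.mp hφ _ hzero l
      rw [sub_eq_zero] at this
      simp only [Matrix.of_apply]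
      rw [this, Matrix.one_apply]
    intro h0
    have := congrArg Matrix.det hBA
    rw [Matrix.det_mul, h0, mul_zero, Matrix.det_one] at this
    exact zero_ne_one this
  · funext i
    exact (hA i).symm

theorem val_det_wrMat_eq_of_span_eq (P : Place k K) (τ : K →ₐ[k] K) (H : K →ₐ[k] PowerSeries K)
    (φ φ' : Fin (n + 1) → K) (hφ : LinearIndependent k φ)
    (hspan : Submodule.span k (Set.range φ') = Submodule.span k (Set.range φ)) (I : Fin n → ℕ) :
    P.1 (wrMat τ H φ' I).det = P.1 (wrMat τ H φ I).det := by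
  obtain ⟨A, hA, rfl⟩ := exists_matrix_of_span_eq φ φ' hφ hspan
  rw [det_wrMat_comb, map_mul, Place.val_algebraMap_eq_one P hA, one_mul]

end basis_change

variable [IsAlgClosed k]

section tau

variable (hK : IsFunctionField k K) (P : Place k K) (τ : K →ₐ[k] K)

include hK in
/-- an endomorphism fixing `P` preserves integrality and values at `P` -/
theorem tau_int (hP : IsFixedPt τ P) (u : K) (hu : P.1 u ≤ 1) :
    P.1 (τ u) ≤ 1 ∧ evalP P (τ u) = evalP P u := by
  obtain ⟨c, hc⟩ := (algebraMap_res_bijective hK P).2 (evalP P u)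
  have hc1 : P.1 (algebraMap k K c) ≤ 1 := P.2.1 c
  have hd1 : P.1 (u - algebraMap k K c) ≤ 1 := P.1.map_sub_le hu hc1
  have hd : P.1 (u - algebraMap k K c) < 1 := by
    rw [← evalP_eq_zero_iff P hd1]
    have : u = (u - algebraMap k K c) + algebraMap k K c := by ring
    have h2 := evalP_add P hd1 hc1
    rw [← this, evalP_algebraMap, hc] at h2
    exact (add_eq_right.mp h2.symm)
  have hτd := hP _ hd
  have hτ : τ u = τ (u - algebraMap k K c) + algebraMap k K c := by
    rw [map_sub, AlgHom.commutes]; ring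
  refine ⟨?_, ?_⟩
  · rw [hτ]
    exact P.1.map_add_le hτd.le hc1
  · rw [hτ, evalP_add P hτd.le hc1, (evalP_eq_zero_iff P hτd.le).mpr hτd, zero_add,
      evalP_algebraMap, hc]

include hK in
theorem tau_val_le (hP : IsFixedPt τ P) {t : K} (ht : P.1 t = WithZero.exp (-1 : ℤ))
    (z : K) (j : ℕ) (hz : P.1 z ≤ WithZero.exp (-(j : ℤ))) :
    P.1 (τ z) ≤ WithZero.exp (-(j : ℤ)) := by
  have ht0 : t ≠ 0 := Place.ne_zero_of_val_eq_exp P ht
  obtain ⟨u, hu⟩ : ∃ u, u = z / t ^ j := ⟨_, rfl⟩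
  have hpos : (0 : WithZero (Multiplicative ℤ)) < WithZero.exp (-1 : ℤ) ^ j :=
    pow_pos (zero_lt_iff.mpr WithZero.exp_ne_zero) _
  have hu1 : P.1 u ≤ 1 := by
    rw [hu, map_div₀, map_pow, ht, div_le_iff₀ hpos, one_mul, exp_neg_one_pow]
    exact hz
  have hze : z = t ^ j * u := by rw [hu]; field_simp
  have hτt : P.1 (τ t) ≤ WithZero.exp (-1 : ℤ) := by
    apply le_exp_neg_one_of_lt_one
    apply hP
    rw [ht]
    exact Place.exp_neg_one_lt_one
  rw [hze, map_mul, map_pow, map_mul, map_pow]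
  calc P.1 (τ t) ^ j * P.1 (τ u) ≤ WithZero.exp (-1 : ℤ) ^ j * 1 :=
        mul_le_mul' (pow_le_pow_left' hτt j) (tau_int hK P τ hP u hu1).1
    _ = WithZero.exp (-(j : ℤ)) := by rw [mul_one, exp_neg_one_pow]

include hK in
theorem tau_val_lt_of_strong (hP : IsStrongFixedPt τ P) (hP' : IsFixedPt τ P) {t : K}
    (ht : P.1 t = WithZero.exp (-1 : ℤ))
    (z : K) (j : ℕ) (hj : 1 ≤ j) (hz : P.1 z ≤ WithZero.exp (-(j : ℤ))) :
    P.1 (τ z) < WithZero.exp (-(j : ℤ)) := by
  have ht0 : t ≠ 0 := Place.ne_zero_of_val_eq_exp P ht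
  obtain ⟨u, hu⟩ : ∃ u, u = z / t ^ j := ⟨_, rfl⟩
  have hpos : (0 : WithZero (Multiplicative ℤ)) < WithZero.exp (-1 : ℤ) ^ j :=
    pow_pos (zero_lt_iff.mpr WithZero.exp_ne_zero) _
  have hu1 : P.1 u ≤ 1 := by
    rw [hu, map_div₀, map_pow, ht, div_le_iff₀ hpos, one_mul, exp_neg_one_pow]
    exact hz
  have hze : z = t ^ j * u := by rw [hu]; field_simp
  have hτt : P.1 (τ t) ≤ WithZero.exp (-2 : ℤ) := by
    apply hP
    rw [ht]
    exact Place.exp_neg_one_lt_one
  rw [hze, map_mul, map_pow, map_mul, map_pow]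
  calc P.1 (τ t) ^ j * P.1 (τ u) ≤ WithZero.exp (-2 : ℤ) ^ j * 1 :=
        mul_le_mul' (pow_le_pow_left' hτt j) (tau_int hK P τ hP' u hu1).1
    _ = WithZero.exp (-(2 * j : ℤ)) := by
        rw [mul_one, ← WithZero.exp_nsmul]
        congr 1
        simp only [nsmul_eq_mul, mul_neg, neg_inj]
        ring
    _ < WithZero.exp (-(j : ℤ)) := by
        rw [WithZero.exp_lt_exp]
        omega

theorem isFixedPt_of_strong (hP : IsStrongFixedPt τ P) : IsFixedPt τ P := by
  intro z hz
  refine lt_of_le_of_lt (hP z hz) ?_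
  rw [← WithZero.exp_zero, WithZero.exp_lt_exp]
  omega

end tau

end Groth.Agent.H86.FF
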