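import Mathlib
import Groth.Agent.H86.HS7

set_option autoImplicit false
set_option linter.unusedSectionVars false

namespace Groth.Agent.H86.FF

open FunFld Module Groth.Agent.H55

variable {k K : Type*} [Field k] [Field K] [Algebra k K]

theorem evalP_natCast (P : Place k K) (m : ℕ) :
    evalP P (m : K) = (m : IsLocalRing.ResidueField P.O) := by
  have : (m : K) = algebraMap k K (m : k) := (map_natCast _ m).symm
  rw [this, evalP_algebraMap, map_natCast]

theorem val_natCast_le (P : Place k K) (m : ℕ) : P.1 (m : K) ≤ 1 := by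
  have : (m : K) = algebraMap k K (m : k) := (map_natCast _ m).symm
  rw [this]
  exact P.2.1 _

/-- determinants of matrices integral at `P` -/
theorem evalP_det (P : Place k K) {m : Type*} [Fintype m] [DecidableEq m] (N : Matrix m m K)
    (hN : ∀ r c, P.1 (N r c) ≤ 1) :
    P.1 N.det ≤ 1 ∧ evalP P N.det = (N.map (evalP P)).det := by
  obtain ⟨N', hN'⟩ : ∃ N' : Matrix m m P.O, N' = Matrix.of fun r c =>
      (⟨N r c, (Valuation.mem_valuationSubring_iff P.1 _).mpr (hN r c)⟩ : P.O) := ⟨_, rfl⟩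
  have h1 : N = N'.map P.O.subtype := by
    ext r c
    rw [hN']
    rfl
  have h2 : N.det = P.O.subtype N'.det := by
    rw [h1, RingHom.map_det, RingHom.mapMatrix_apply]
  have h3 : P.1 N.det ≤ 1 := by
    rw [h2]
    exact (Valuation.mem_valuationSubring_iff P.1 _).mp N'.det.2
  refine ⟨h3, ?_⟩
  rw [evalP_of_le P h3]
  have h4 : (⟨N.det, (Valuation.mem_valuationSubring_iff P.1 _).mpr h3⟩ : P.O) = N'.det := by
    apply Subtype.ext
    exact h2
  rw [h4, RingHom.map_det, RingHom.mapMatrix_apply]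
  congr 1
  ext r c
  rw [Matrix.map_apply, Matrix.map_apply, evalP_of_le P (hN r c), hN']
  rfl

variable [IsAlgClosed k]

section lead

variable (hK : IsFunctionField k K) (P : Place k K) {t : K} {H : K →ₐ[k] PowerSeries K}
  (hH : LocRes.IsHasseFamily t H) (ht : P.1 t = WithZero.exp (-1 : ℤ))

include hK hH ht in
/-- leading term of the Hasse derivatives of `t ^ j * u` -/
theorem evalP_hasseD_lead (u : K) (hu : P.1 u ≤ 1) (j i : ℕ) :
    P.1 (LocRes.hasseD H i (t ^ j * u) * t ^ i / t ^ j) ≤ 1 ∧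
    evalP P (LocRes.hasseD H i (t ^ j * u) * t ^ i / t ^ j) =
      ((j.choose i : ℕ) : IsLocalRing.ResidueField P.O) * evalP P u := by
  have ht0 : t ≠ 0 := Place.ne_zero_of_val_eq_exp P ht
  have huint := hasse_integral hK P hH ht u hu
  have ht1 : P.1 t ≤ 1 := by rw [ht]; exact Place.exp_neg_one_lt_one.le
  have hexp : LocRes.hasseD H i (t ^ j * u) * t ^ i / t ^ j =
      ∑ p ∈ Finset.HasAntidiagonal.antidiagonal i,
        ((j.choose p.1 : ℕ) : K) * (t ^ p.2 * LocRes.hasseD H p.2 u) := by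
    rw [hasseD_mul, Finset.sum_mul, Finset.sum_div]
    apply Finset.sum_congr rfl
    intro p hp
    rw [Finset.HasAntidiagonal.mem_antidiagonal] at hp
    rw [hasseD_pow hH]
    by_cases hpj : p.1 ≤ j
    · have e1 : t ^ j = t ^ (j - p.1) * t ^ p.1 := by rw [← pow_add]; congr 1; omega
      have e2 : t ^ i = t ^ p.1 * t ^ p.2 := by rw [← pow_add, hp]
      rw [e1, e2]
      field_simp
    · rw [Nat.choose_eq_zero_of_lt (by omega)]
      simp
  have hterm : ∀ p ∈ Finset.HasAntidiagonal.antidiagonal i,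
      P.1 (((j.choose p.1 : ℕ) : K) * (t ^ p.2 * LocRes.hasseD H p.2 u)) ≤ 1 := by
    intro p _
    rw [map_mul, map_mul, map_pow]
    exact mul_le_one' (val_natCast_le P _) (mul_le_one' (pow_le_one' ht1 _) (huint _))
  rw [hexp]
  refine ⟨Valuation.map_sum_le _ hterm, ?_⟩
  rw [evalP_sum P _ _ hterm]
  have hmem : (i, 0) ∈ Finset.HasAntidiagonal.antidiagonal i := by
    rw [Finset.HasAntidiagonal.mem_antidiagonal]
    exact add_zero i
  rw [← Finset.add_sum_erase _ _ hmem]
  have hrest : ∑ p ∈ (Finset.HasAntidiagonal.antidiagonal i).erase (i, 0),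
      evalP P (((j.choose p.1 : ℕ) : K) * (t ^ p.2 * LocRes.hasseD H p.2 u)) = 0 := by
    apply Finset.sum_eq_zero
    intro p hp
    rw [Finset.mem_erase, Finset.HasAntidiagonal.mem_antidiagonal] at hp
    obtain ⟨hne, hsum⟩ := hp
    have hp2 : p.2 ≠ 0 := by
      intro h0
      apply hne
      ext
      · simp only; omega
      · exact h0
    have hle : P.1 (((j.choose p.1 : ℕ) : K) * (t ^ p.2 * LocRes.hasseD H p.2 u)) ≤ 1 :=
      hterm p (by rw [Finset.HasAntidiagonal.mem_antidiagonal]; exact hsum)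
    rw [evalP_eq_zero_iff P hle, map_mul, map_mul, map_pow, ht]
    calc P.1 ((j.choose p.1 : ℕ) : K) * (WithZero.exp (-1 : ℤ) ^ p.2 * P.1 (LocRes.hasseD H p.2 u))
        ≤ 1 * (WithZero.exp (-1 : ℤ) ^ p.2 * 1) :=
          mul_le_mul' (val_natCast_le P _) (mul_le_mul' le_rfl (huint _))
      _ < 1 := by
          rw [one_mul, mul_one, exp_neg_one_pow, ← WithZero.exp_zero, WithZero.exp_lt_exp]
          omega
  rw [hrest, add_zero, pow_zero, one_mul, hasseD_zero hH,
    evalP_mul P (val_natCast_le P _) hu, evalP_natCast]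

end lead

end Groth.Agent.H86.FF
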