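import Mathlib
import Groth.Agent.H86.HS8

set_option autoImplicit false
set_option linter.unusedSectionVars false

namespace Groth.Agent.H86.FF

open FunFld Module Groth.Agent.H55

variable {k K : Type*} [Field k] [Field K] [Algebra k K]

section scaling

variable {n : ℕ}

/-- extend an index sequence by a leading `0` -/
def ext0 (J : Fin n → ℕ) : Fin (n + 1) → ℕ := Fin.cases 0 J

@[simp] theorem ext0_zero (J : Fin n → ℕ) : ext0 J 0 = 0 := rfl

@[simp] theorem ext0_succ (J : Fin n → ℕ) (l : Fin n) : ext0 J l.succ = J l := rfl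

theorem sum_ext0 (J : Fin n → ℕ) : ∑ r, ext0 J r = ∑ l, J l := by
  rw [Fin.sum_univ_succ, ext0_zero, zero_add]
  rfl

/-- the matrix rescaled by powers of `t` along rows and columns -/
noncomputable def scMat (t : K) {m : Type*} (M : Matrix m m K) (jj ii : m → ℕ) : Matrix m m K :=
  Matrix.of fun r c => M r c * t ^ ii c / t ^ jj r

theorem scMat_apply (t : K) {m : Type*} (M : Matrix m m K) (jj ii : m → ℕ) (r c : m) :
    scMat t M jj ii r c = M r c * t ^ ii c / t ^ jj r := rfl

theorem det_scMat {t : K} (ht0 : t ≠ 0) {m : Type*} [Fintype m] [DecidableEq m]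
    (M : Matrix m m K) (jj ii : m → ℕ) :
    M.det = t ^ (∑ r, jj r) * (scMat t M jj ii).det * (t ^ (∑ c, ii c))⁻¹ := by
  have e : M = Matrix.of fun r c => t ^ jj r *
      (Matrix.of fun r c => (t ^ ii c)⁻¹ * scMat t M jj ii r c) r c := by
    ext r c
    simp only [Matrix.of_apply, scMat_apply]
    field_simp
  calc M.det = (Matrix.of fun r c => t ^ jj r *
      (Matrix.of fun r c => (t ^ ii c)⁻¹ * scMat t M jj ii r c) r c).det := congrArg Matrix.det e
    _ = t ^ (∑ r, jj r) * (scMat t M jj ii).det * (t ^ (∑ c, ii c))⁻¹ := by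
      rw [Matrix.det_mul_column, Matrix.det_mul_row, Finset.prod_pow_eq_pow_sum,
        Finset.prod_inv_distrib, Finset.prod_pow_eq_pow_sum]
      ring

theorem val_det_scMat (P : Place k K) {t : K} (ht : P.1 t = WithZero.exp (-1 : ℤ))
    (M : Matrix (Fin (n + 1)) (Fin (n + 1)) K) (J I : Fin n → ℕ) :
    P.1 M.det = WithZero.exp (-(∑ l, ((J l : ℤ) - I l))) *
      P.1 (scMat t M (ext0 J) (ext0 I)).det := by
  have ht0 : t ≠ 0 := Place.ne_zero_of_val_eq_exp P ht
  rw [det_scMat ht0 M (ext0 J) (ext0 I), map_mul, map_mul, map_inv₀, map_pow, map_pow, ht,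
    exp_neg_one_pow, exp_neg_one_pow, sum_ext0, sum_ext0, ← WithZero.exp_neg, neg_neg,
    mul_right_comm, ← WithZero.exp_add]
  congr 2
  rw [Finset.sum_sub_distrib]
  push_cast
  ring

end scaling

theorem binomMat_map {n : ℕ} (κ : Type*) [Field κ] [Algebra k κ] (J I : Fin n → ℕ) :
    binomMat κ J I = (binomMat k J I).map (algebraMap k κ) := by
  ext r s
  simp [binomMat]

theorem det_binomMat_ne_zero_iff {n : ℕ} (κ : Type*) [Field κ] [Algebra k κ] (J I : Fin n → ℕ) :
    (binomMat κ J I).det ≠ 0 ↔ (binomMat k J I).det ≠ 0 := by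
  rw [binomMat_map (k := k) κ, ← RingHom.mapMatrix_apply, ← RingHom.map_det]
  exact (map_ne_zero_iff _ (algebraMap k κ).injective)

variable [IsAlgClosed k]

section main

variable (hK : IsFunctionField k K) (P : Place k K) (τ : K →ₐ[k] K) {t : K}
  {H : K →ₐ[k] PowerSeries K}
  (hH : LocRes.IsHasseFamily t H) (ht : P.1 t = WithZero.exp (-1 : ℤ))
  {n : ℕ} (φ' : Fin (n + 1) → K) (J I : Fin n → ℕ)

include hK hH ht in
theorem adapted_local (hP : IsFixedPt τ P)
    (h0 : P.1 (φ' 0) = 1 ∧ evalP P (φ' 0) = 1)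
    (hs : ∀ l : Fin n, P.1 (φ' l.succ) = WithZero.exp (-(J l : ℤ)) ∧
        evalP P (φ' l.succ / t ^ J l) = 1)
    (hJpos : ∀ l, 1 ≤ J l) :
    P.1 (scMat t (wrMat τ H φ' I) (ext0 J) (ext0 I)).det ≤ 1 ∧
    (((∀ l, 0 < I l) ∨ IsStrongFixedPt τ P) →
      (P.1 (scMat t (wrMat τ H φ' I) (ext0 J) (ext0 I)).det = 1 ↔ (binomMat k J I).det ≠ 0)) := by
  have ht0 : t ≠ 0 := Place.ne_zero_of_val_eq_exp P ht
  obtain ⟨N, hN⟩ : ∃ N, N = scMat t (wrMat τ H φ' I) (ext0 J) (ext0 I) := ⟨_, rfl⟩
  rw [← hN]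
  -- row facts
  have hrow : ∀ r, P.1 (φ' r) = WithZero.exp (-(ext0 J r : ℤ)) ∧
      evalP P (φ' r / t ^ ext0 J r) = 1 := by
    intro r
    refine Fin.cases ?_ (fun l => ?_) r
    · rw [ext0_zero, pow_zero, div_one]
      refine ⟨?_, h0.2⟩
      rw [h0.1]; simp
    · rw [ext0_succ]
      exact hs l
  have hu1 : ∀ r, P.1 (φ' r / t ^ ext0 J r) = 1 := by
    intro r
    rw [map_div₀, map_pow, ht, exp_neg_one_pow, (hrow r).1]
    exact div_self WithZero.exp_ne_zero
  have hφe : ∀ r, φ' r = t ^ ext0 J r * (φ' r / t ^ ext0 J r) := by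
    intro r; field_simp
  -- entries
  have hNs : ∀ r (s : Fin n), N r s.succ =
      LocRes.hasseD H (I s) (t ^ ext0 J r * (φ' r / t ^ ext0 J r)) * t ^ I s / t ^ ext0 J r := by
    intro r s
    rw [hN, scMat_apply, ← hφe r]
    rfl
  have hN0 : ∀ r, N r 0 = τ (φ' r) / t ^ ext0 J r := by
    intro r
    rw [hN, scMat_apply, ext0_zero, pow_zero, mul_one]
    rfl
  have hE1 : ∀ r c, P.1 (N r c) ≤ 1 := by
    intro r c
    refine Fin.cases ?_ (fun s => ?_) c
    · rw [hN0, map_div₀, map_pow, ht, exp_neg_one_pow]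
      have hpos : (0 : WithZero (Multiplicative ℤ)) < WithZero.exp (-(ext0 J r : ℤ)) :=
        zero_lt_iff.mpr WithZero.exp_ne_zero
      rw [div_le_iff₀ hpos, one_mul]
      exact tau_val_le hK P τ hP ht _ _ (hrow r).1.le
    · rw [hNs]
      exact (evalP_hasseD_lead hK P hH ht _ (hu1 r).le _ _).1
  have hE2 : ∀ r (s : Fin n), evalP P (N r s.succ) =
      (((ext0 J r).choose (I s) : ℕ) : IsLocalRing.ResidueField P.O) := by
    intro r s
    rw [hNs, (evalP_hasseD_lead hK P hH ht _ (hu1 r).le _ _).2, (hrow r).2, mul_one]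
  have hE3 : evalP P (N 0 0) = 1 := by
    rw [hN0, ext0_zero, pow_zero, div_one, (tau_int hK P τ hP _ h0.1.le).2, h0.2]
  have hdet := evalP_det P N hE1
  refine ⟨hdet.1, ?_⟩
  intro hcase
  have hminor : ((N.map (evalP P)).submatrix Fin.succ Fin.succ) =
      binomMat (IsLocalRing.ResidueField P.O) J I := by
    ext r s
    rw [Matrix.submatrix_apply, Matrix.map_apply, hE2, ext0_succ]
    rfl
  have hdetbar : (N.map (evalP P)).det = (binomMat (IsLocalRing.ResidueField P.O) J I).det := by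
    rcases hcase with hI | hstrong
    · rw [Matrix.det_succ_row_zero, Fin.sum_univ_succ]
      have hz : ∀ s : Fin n, (N.map (evalP P)) 0 s.succ = 0 := by
        intro s
        rw [Matrix.map_apply, hE2, ext0_zero, Nat.choose_eq_zero_of_lt (hI s), Nat.cast_zero]
      rw [Finset.sum_eq_zero (fun s _ => by rw [hz s, mul_zero, zero_mul]), add_zero,
        Matrix.map_apply, hE3, Fin.succAbove_zero, hminor]
      simp
    · rw [Matrix.det_succ_column_zero, Fin.sum_univ_succ]
      have hz : ∀ l : Fin n, (N.map (evalP P)) l.succ 0 = 0 := by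
        intro l
        rw [Matrix.map_apply, evalP_eq_zero_iff P (hE1 _ _), hN0, map_div₀, map_pow, ht,
          exp_neg_one_pow, ext0_succ]
        have hpos : (0 : WithZero (Multiplicative ℤ)) < WithZero.exp (-(J l : ℤ)) :=
          zero_lt_iff.mpr WithZero.exp_ne_zero
        rw [div_lt_iff₀ hpos, one_mul]
        exact tau_val_lt_of_strong hK P τ hstrong hP ht _ _ (hJpos l) (hs l).1.le
      rw [Finset.sum_eq_zero (fun s _ => by rw [hz s, mul_zero, zero_mul]), add_zero,
        Matrix.map_apply, hE3, Fin.succAbove_zero, hminor]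
      simp
  rw [← det_binomMat_ne_zero_iff (k := k) (IsLocalRing.ResidueField P.O), ← hdetbar, ← hdet.2,
    Ne, evalP_eq_zero_iff P hdet.1]
  constructor
  · intro h; rw [h]; exact lt_irrefl _
  · intro h
    exact le_antisymm hdet.1 (not_lt.mp h)

end main

end Groth.Agent.H86.FF
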