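import Mathlib
import Groth.Agent.H86.HS9
import Groth.Agent.H86.HS10
import Groth.Prelude.Def_W4bk4goldsch45

set_option autoImplicit false
set_option linter.unusedSectionVars false

namespace Groth.Agent.H86.FF

open FunFld Module Groth.Agent.H55

section jumps

variable {K V : Type*} [Field K] [AddCommGroup V] [Module K V]

/-- jump vectors are linearly independent -/
theorem linearIndependent_of_jumps (c : ℕ → V) :
    ∀ {m : ℕ} (idx : Fin m → ℕ), StrictMono idx → (∀ a, IsJump K c (idx a)) →
      LinearIndependent K (fun a => c (idx a)) := by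
  intro m
  induction m with
  | zero =>
    intro idx _ _
    exact linearIndependent_empty_type
  | succ m ih =>
    intro idx hmono hjump
    have h1 := ih (fun a : Fin m => idx a.castSucc)
      (fun a b hab => hmono (Fin.castSucc_lt_castSucc_iff.mpr hab)) (fun a => hjump _)
    have h2 : c (idx (Fin.last m)) ∉
        Submodule.span K (Set.range fun a : Fin m => c (idx a.castSucc)) := by
      intro hmem
      apply hjump (Fin.last m)
      refine Submodule.span_mono ?_ hmem
      rintro _ ⟨a, rfl⟩
      exact ⟨idx a.castSucc, hmono (Fin.castSucc_lt_last a), rfl⟩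
    have h3 := (linearIndependent_fin_snoc (v := fun a : Fin m => c (idx a.castSucc))
      (x := c (idx (Fin.last m)))).mpr ⟨h1, h2⟩
    convert h3 using 1
    funext a
    refine Fin.lastCases ?_ (fun b => ?_) a
    · rw [Fin.snoc_last]
    · rw [Fin.snoc_castSucc]

end jumps

variable {k K : Type*} [Field k] [Field K] [Algebra k K]

/-- the Wronskian at the order sequence does not vanish -/
theorem det_wrMat_ne_zero_of_isOrders (τ : K →ₐ[k] K) (H : K →ₐ[k] PowerSeries K) {n : ℕ}
    (φ : Fin (n + 1) → K) (h0 : ∃ i, φ i ≠ 0) (J : Fin n → ℕ)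
    (hJ : IsOrders K (hcol τ H φ) J) : (wrMat τ H φ J).det ≠ 0 := by
  classical
  obtain ⟨idx, hidx⟩ : ∃ idx : Fin (n + 1) → ℕ, idx = Fin.cases 0 (fun l => J l + 1) := ⟨_, rfl⟩
  have hidx0 : idx 0 = 0 := by rw [hidx]; rfl
  have hidxs : ∀ l : Fin n, idx l.succ = J l + 1 := fun l => by rw [hidx]; rfl
  have hmono : StrictMono idx := by
    intro a b hab
    induction a using Fin.cases with
    | zero =>
      induction b using Fin.cases with
      | zero => exact absurd hab (lt_irrefl _)
      | succ l => rw [hidx0, hidxs]; omega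
    | succ l =>
      induction b using Fin.cases with
      | zero => exact absurd hab (Fin.not_lt_zero _)
      | succ l' =>
        rw [hidxs, hidxs]
        have := hJ.1 (Fin.succ_lt_succ_iff.mp hab)
        omega
  have hjump : ∀ a, IsJump K (hcol τ H φ) (idx a) := by
    intro a
    refine Fin.cases ?_ (fun l => ?_) a
    · rw [hidx0]
      unfold IsJump
      have : hcol τ H φ '' Set.Iio 0 = ∅ := by
        ext x; simp
      rw [this, Submodule.span_empty, Submodule.mem_bot]
      obtain ⟨i, hi⟩ := h0
      intro h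
      have := congrFun h i
      change τ (φ i) = 0 at this
      exact hi ((map_eq_zero τ).mp this)
    · rw [hidxs]
      exact (hJ.2 (J l)).mp ⟨l, rfl⟩
  have hli := linearIndependent_of_jumps (K := K) (hcol τ H φ) idx hmono hjump
  have hcol : (wrMat τ H φ J).col = fun a => hcol τ H φ (idx a) := by
    funext a
    refine Fin.cases ?_ (fun l => ?_) a
    · rw [hidx0]; rfl
    · rw [hidxs]; rfl
  rw [← hcol, Matrix.linearIndependent_cols_iff_isUnit, Matrix.isUnit_iff_isUnit_det] at hli
  exact hli.ne_zero

/-- the binomial matrix of a sequence against itself is unitriangular -/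
theorem det_binomMat_self (R : Type*) [CommRing R] {n : ℕ} (J : Fin n → ℕ) (hJ : StrictMono J) :
    (binomMat R J J).det = 1 := by
  have htri : (binomMat R J J).BlockTriangular OrderDual.toDual := by
    intro r s hrs
    have hlt : r < s := hrs
    change (((J r).choose (J s) : ℕ) : R) = 0
    rw [Nat.choose_eq_zero_of_lt (hJ hlt), Nat.cast_zero]
  rw [Matrix.det_of_lowerTriangular _ htri]
  apply Finset.prod_eq_one
  intro r _
  change (((J r).choose (J r) : ℕ) : R) = 1
  rw [Nat.choose_self, Nat.cast_one]

section divisors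

/-- the divisor of a tuple integral at `P` with a unit entry has coefficient `0` at `P` -/
theorem mapDiv_apply_eq_zero (P : Place k K) {n : ℕ} (ψ : Fin (n + 1) → K)
    (hint : ∀ i, P.1 (ψ i) ≤ 1) (hunit : ∃ i, P.1 (ψ i) = 1) : mapDiv k ψ P = 0 := by
  classical
  have hmin : Finset.univ.inf' Finset.univ_nonempty (fun i => P.ord (ψ i)) = 0 := by
    apply le_antisymm
    · obtain ⟨i, hi⟩ := hunit
      refine (Finset.inf'_le _ (Finset.mem_univ i)).trans ?_
      unfold Place.ord
      rw [hi]
      simp
    · apply Finset.le_inf'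
      intro i _
      unfold Place.ord
      by_cases h0 : P.1 (ψ i) = 0
      · rw [h0]; simp
      · have := (WithZero.log_le_log h0 one_ne_zero).mpr (hint i)
        rw [WithZero.log_one] at this
        omega
  unfold mapDiv
  split_ifs with h
  · change -Finset.univ.inf' Finset.univ_nonempty (fun i => P.ord (ψ i)) = 0
    rw [hmin, neg_zero]
  · rfl

open LaurentSeries in
/-- the differential of a local parameter has order `0` -/
theorem ordDiff_param (P : Place k K) (Φ : K →ₐ[k] LaurentSeries k)
    (hΦ : LocRes.IsExpansionAt P.1 Φ) (t : K) (ht : P.1 t = WithZero.exp (-1 : ℤ)) :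
    LocRes.ordDiff Φ 1 t = 0 := by
  unfold LocRes.ordDiff LocRes.vDiff
  rw [map_one, one_mul]
  have hv : Valued.v (Φ t) = WithZero.exp (-(1 : ℤ)) := by rw [hΦ.1 t, ht]
  have hcoef := (valuation_le_iff_coeff_lt_eq_zero k).mp hv.le
  have hc1 : (Φ t).coeff 1 ≠ 0 := by
    intro h1
    have : Valued.v (Φ t) ≤ WithZero.exp (-(2 : ℤ)) := by
      rw [valuation_le_iff_coeff_lt_eq_zero]
      intro m hm
      rcases lt_or_eq_of_le (show m ≤ 1 by omega) with h | h
      · exact hcoef m h
      · rw [h]; exact h1
    rw [hv, WithZero.exp_le_exp] at this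
    omega
  have hle : Valued.v (LocRes.D k (Φ t)) ≤ WithZero.exp (-(0 : ℤ)) := by
    rw [valuation_le_iff_coeff_lt_eq_zero]
    intro m hm
    rw [LocRes.D_coeff, hcoef (m + 1) (by omega), smul_zero]
  have hnle : ¬ Valued.v (LocRes.D k (Φ t)) ≤ WithZero.exp (-(1 : ℤ)) := by
    rw [valuation_le_iff_coeff_lt_eq_zero]
    intro hall
    have := hall 0 (by omega)
    rw [LocRes.D_coeff] at this
    simp only [zero_add, one_smul] at this
    exact hc1 this
  have heq : Valued.v (LocRes.D k (Φ t)) = 1 := by
    rw [neg_zero, WithZero.exp_zero] at hle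
    apply le_antisymm hle
    by_contra hlt
    push Not at hlt
    exact hnle (le_exp_neg_one_of_lt_one hlt)
  rw [heq]
  simp

theorem divDiff_param (P : Place k K) (Φ : Place k K → (K →ₐ[k] LaurentSeries k))
    (hΦ : LocRes.IsExpansionAt P.1 (Φ P)) (t : K) (ht : P.1 t = WithZero.exp (-1 : ℤ)) :
    divDiff Φ 1 t P = 0 := by
  classical
  unfold divDiff
  split_ifs with h
  · change LocRes.ordDiff (Φ P) 1 t = 0
    exact ordDiff_param P (Φ P) hΦ t ht
  · rfl

end divisors

end Groth.Agent.H86.FF
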