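import Mathlib

/-!
# Trace of finite-rank endomorphisms of a vector space

`trF T` is the trace of `T` restricted to its own range; it is the usual trace whenever the range
is finite-dimensional.  Main facts: it can be computed on any finite-dimensional subspace containing
the range (`trF_eq_trace_restrict`), it is additive on finite-rank maps, and it is cyclic:
`trF (X ∘ Y) = trF (Y ∘ X)` when `X` has finite rank.
-/

set_option autoImplicit false
set_option linter.style.haveILetI false

namespace Groth.Agent.H86.Tate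

open Module

variable {k : Type*} [Field k]
variable {V W : Type*} [AddCommGroup V] [Module k V] [AddCommGroup W] [Module k W]

/-- a linear map of finite rank -/
def FinRank (T : V →ₗ[k] W) : Prop := FiniteDimensional k (LinearMap.range T)

theorem FinRank.of_range_le {T : V →ₗ[k] W} {R : Submodule k W} [FiniteDimensional k R]
    (h : LinearMap.range T ≤ R) : FinRank T :=
  Submodule.finiteDimensional_of_le h

theorem FinRank.comp_right {T : V →ₗ[k] W} (hT : FinRank T) {U : Type*} [AddCommGroup U]
    [Module k U] (Y : U →ₗ[k] V) : FinRank (T ∘ₗ Y) := by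
  haveI : FiniteDimensional k (LinearMap.range T) := hT
  exact FinRank.of_range_le (LinearMap.range_comp_le_range Y T)

theorem FinRank.comp_left {T : V →ₗ[k] W} (hT : FinRank T) {U : Type*} [AddCommGroup U]
    [Module k U] (Y : W →ₗ[k] U) : FinRank (Y ∘ₗ T) := by
  haveI : FiniteDimensional k (LinearMap.range T) := hT
  unfold FinRank
  rw [LinearMap.range_comp]
  infer_instance

theorem FinRank.add {S T : V →ₗ[k] W} (hS : FinRank S) (hT : FinRank T) : FinRank (S + T) := by
  haveI : FiniteDimensional k (LinearMap.range S) := hS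
  haveI : FiniteDimensional k (LinearMap.range T) := hT
  refine FinRank.of_range_le (R := LinearMap.range S ⊔ LinearMap.range T) ?_
  rintro _ ⟨x, rfl⟩
  exact Submodule.add_mem_sup ⟨x, rfl⟩ ⟨x, rfl⟩

theorem FinRank.smul {T : V →ₗ[k] W} (hT : FinRank T) (c : k) : FinRank (c • T) := by
  haveI : FiniteDimensional k (LinearMap.range T) := hT
  refine FinRank.of_range_le (R := LinearMap.range T) ?_
  rintro _ ⟨x, rfl⟩
  exact Submodule.smul_mem _ c ⟨x, rfl⟩

theorem FinRank.neg {T : V →ₗ[k] W} (hT : FinRank T) : FinRank (-T) := by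
  have := hT.smul (-1 : k)
  rwa [neg_one_smul] at this

theorem FinRank.sub {S T : V →ₗ[k] W} (hS : FinRank S) (hT : FinRank T) : FinRank (S - T) := by
  rw [sub_eq_add_neg]
  exact hS.add hT.neg

theorem FinRank.zero : FinRank (0 : V →ₗ[k] W) := by
  unfold FinRank
  rw [LinearMap.range_zero]
  infer_instance

theorem FinRank.of_finiteDimensional_left [FiniteDimensional k V] (T : V →ₗ[k] W) : FinRank T := by
  unfold FinRank
  infer_instance

theorem FinRank.of_finiteDimensional_right [FiniteDimensional k W] (T : V →ₗ[k] W) : FinRank T := by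
  unfold FinRank
  infer_instance

/-- the trace of a finite-rank endomorphism (junk value otherwise) -/
noncomputable def trF (T : V →ₗ[k] V) : k :=
  LinearMap.trace k (LinearMap.range T)
    (T.restrict (p := LinearMap.range T) (q := LinearMap.range T) fun x _ => ⟨x, rfl⟩)

/-- the trace can be computed on any finite-dimensional subspace containing the range -/
theorem trF_eq_trace_restrict (T : V →ₗ[k] V) (R : Submodule k V) [FiniteDimensional k R]
    (h : LinearMap.range T ≤ R) :
    trF T = LinearMap.trace k R (T.restrict (p := R) (q := R) fun x _ => h ⟨x, rfl⟩) := by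
  haveI : FiniteDimensional k (LinearMap.range T) := Submodule.finiteDimensional_of_le h
  let f : R →ₗ[k] LinearMap.range T :=
    T.restrict (p := R) (q := LinearMap.range T) fun x _ => ⟨x, rfl⟩
  let g : LinearMap.range T →ₗ[k] R := Submodule.inclusion h
  have h1 : g ∘ₗ f = T.restrict (p := R) (q := R) fun x _ => h ⟨x, rfl⟩ := by
    ext x
    rfl
  have h2 : f ∘ₗ g =
      T.restrict (p := LinearMap.range T) (q := LinearMap.range T) fun x _ => ⟨x, rfl⟩ := by
    ext x
    rfl
  unfold trF
  rw [← h1, ← h2]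
  exact LinearMap.trace_comp_comm' g f

/-- cyclicity of the trace when one factor has finite rank -/
theorem trF_comp_comm (X : V →ₗ[k] W) (Y : W →ₗ[k] V) (hX : FinRank X) :
    trF (X ∘ₗ Y) = trF (Y ∘ₗ X) := by
  haveI : FiniteDimensional k (LinearMap.range X) := hX
  set R : Submodule k W := LinearMap.range X with hR
  set R₂ : Submodule k V := R.map Y with hR₂
  have hXY : LinearMap.range (X ∘ₗ Y) ≤ R := LinearMap.range_comp_le_range Y X
  have hYX : LinearMap.range (Y ∘ₗ X) ≤ R₂ := by
    rw [LinearMap.range_comp]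
  rw [trF_eq_trace_restrict (X ∘ₗ Y) R hXY, trF_eq_trace_restrict (Y ∘ₗ X) R₂ hYX]
  let a : R →ₗ[k] R₂ := Y.restrict (p := R) (q := R₂) fun x hx => Submodule.mem_map_of_mem hx
  let b : R₂ →ₗ[k] R := X.restrict (p := R₂) (q := R) fun x _ => ⟨x, rfl⟩
  have h1 : a ∘ₗ b = (Y ∘ₗ X).restrict (p := R₂) (q := R₂) fun x _ => hYX ⟨x, rfl⟩ := by
    ext x
    rfl
  have h2 : b ∘ₗ a = (X ∘ₗ Y).restrict (p := R) (q := R) fun x _ => hXY ⟨x, rfl⟩ := by
    ext x
    rfl
  rw [← h1, ← h2]
  exact LinearMap.trace_comp_comm' a b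

theorem trF_add {S T : V →ₗ[k] V} (hS : FinRank S) (hT : FinRank T) :
    trF (S + T) = trF S + trF T := by
  haveI : FiniteDimensional k (LinearMap.range S) := hS
  haveI : FiniteDimensional k (LinearMap.range T) := hT
  set R : Submodule k V := LinearMap.range S ⊔ LinearMap.range T with hR
  have hS' : LinearMap.range S ≤ R := le_sup_left
  have hT' : LinearMap.range T ≤ R := le_sup_right
  have hST : LinearMap.range (S + T) ≤ R := by
    rintro _ ⟨x, rfl⟩
    exact Submodule.add_mem_sup ⟨x, rfl⟩ ⟨x, rfl⟩
  rw [trF_eq_trace_restrict (S + T) R hST, trF_eq_trace_restrict S R hS',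
    trF_eq_trace_restrict T R hT', ← map_add]
  congr 1

theorem trF_smul (c : k) {T : V →ₗ[k] V} (hT : FinRank T) : trF (c • T) = c * trF T := by
  haveI : FiniteDimensional k (LinearMap.range T) := hT
  have hcT : LinearMap.range (c • T) ≤ LinearMap.range T := by
    rintro _ ⟨x, rfl⟩
    exact Submodule.smul_mem _ c ⟨x, rfl⟩
  rw [trF_eq_trace_restrict (c • T) (LinearMap.range T) hcT,
    trF_eq_trace_restrict T (LinearMap.range T) le_rfl, ← smul_eq_mul, ← map_smul]
  congr 1

theorem trF_zero : trF (0 : V →ₗ[k] V) = 0 := by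
  have h : LinearMap.range (0 : V →ₗ[k] V) ≤ (⊥ : Submodule k V) := by
    rw [LinearMap.range_zero]
  rw [trF_eq_trace_restrict 0 ⊥ h]
  have : (LinearMap.restrict (0 : V →ₗ[k] V) (p := (⊥ : Submodule k V)) (q := ⊥)
      fun x _ => h ⟨x, rfl⟩) = 0 := by
    ext x
  rw [this, map_zero]

theorem trF_neg {T : V →ₗ[k] V} (hT : FinRank T) : trF (-T) = -trF T := by
  have := trF_smul (-1 : k) hT
  rwa [neg_one_smul, neg_one_mul] at this

theorem trF_sub {S T : V →ₗ[k] V} (hS : FinRank S) (hT : FinRank T) :
    trF (S - T) = trF S - trF T := by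
  rw [sub_eq_add_neg, trF_add hS hT.neg, trF_neg hT, sub_eq_add_neg]

/-- the trace of a commutator with a finite-rank operand vanishes -/
theorem trF_commutator_left {S T : V →ₗ[k] V} (hS : FinRank S) :
    trF (S ∘ₗ T - T ∘ₗ S) = 0 := by
  rw [trF_sub (hS.comp_right T) (hS.comp_left T), trF_comp_comm S T hS, sub_self]

theorem trF_commutator_right {S T : V →ₗ[k] V} (hT : FinRank T) :
    trF (S ∘ₗ T - T ∘ₗ S) = 0 := by
  rw [trF_sub (hT.comp_left S) (hT.comp_right S), ← trF_comp_comm T S hT, sub_self]

/-- on a finite-dimensional space `trF` is the usual trace -/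
theorem trF_eq_trace [FiniteDimensional k V] (T : V →ₗ[k] V) : trF T = LinearMap.trace k V T := by
  rw [trF_eq_trace_restrict T ⊤ le_top]
  have h := LinearMap.trace_conj' (T.restrict (p := (⊤ : Submodule k V)) (q := ⊤)
    fun x _ => Submodule.mem_top) (Submodule.topEquiv : (⊤ : Submodule k V) ≃ₗ[k] V)
  rw [← h]
  congr 1

/-- transport of the trace along a linear equivalence -/
theorem trF_conj (e : V ≃ₗ[k] W) (T : V →ₗ[k] V) (hT : FinRank T) :
    trF (e.toLinearMap ∘ₗ T ∘ₗ e.symm.toLinearMap) = trF T := by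
  have h1 : FinRank (e.toLinearMap ∘ₗ T) := hT.comp_left _
  rw [← LinearMap.comp_assoc, trF_comp_comm (e.toLinearMap ∘ₗ T) e.symm.toLinearMap h1,
    ← LinearMap.comp_assoc]
  congr 1
  ext x
  simp

end Groth.Agent.H86.Tate
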