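import Mathlib
import Groth.Agent.H86.TT1

/-!
# The Tate symbol of two commuting operators and a nearly stable subspace

For a subspace `A` of `V`, a projection `π` onto `A` and commuting endomorphisms `f, g` of `V` that
nearly stabilise `A`, `tate hπ f g` is the trace of the commutator of the compressions of `f, g` to
`A` (a finite-rank endomorphism of `A`).  It does not depend on the projection.
-/

set_option autoImplicit false
set_option linter.style.haveILetI false

namespace Groth.Agent.H86.Tate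

open Module

variable {k : Type*} [Field k]
variable {V : Type*} [AddCommGroup V] [Module k V]

theorem FinRank.of_comp_injective {U W X : Type*} [AddCommGroup U] [Module k U]
    [AddCommGroup W] [Module k W] [AddCommGroup X] [Module k X]
    {T : U →ₗ[k] W} {ι : W →ₗ[k] X} (hι : Function.Injective ι) (h : FinRank (ι ∘ₗ T)) :
    FinRank T := by
  unfold FinRank at h ⊢
  rw [LinearMap.range_comp] at h
  exact LinearEquiv.finiteDimensional (Submodule.equivMapOfInjective ι hι (LinearMap.range T)).symm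

/-- `f` maps `A` into `A` up to a finite-dimensional subspace -/
def NearStable (A : Submodule k V) (f : V →ₗ[k] V) : Prop :=
  ∃ F : Submodule k V, FiniteDimensional k F ∧ A.map f ≤ A ⊔ F

theorem NearStable.of_map_le {A : Submodule k V} {f : V →ₗ[k] V} (h : A.map f ≤ A) :
    NearStable A f :=
  ⟨⊥, inferInstance, h.trans le_sup_left⟩

section defs

variable {A : Submodule k V} {π : V →ₗ[k] V} (hπ : LinearMap.IsProj A π)

/-- the compression of `f` to `A` (Toeplitz operator) -/
noncomputable def toep (f : V →ₗ[k] V) : A →ₗ[k] A := hπ.codRestrict ∘ₗ f ∘ₗ A.subtype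

/-- `a ↦ π (f a)` as a map from `V` to `A` -/
noncomputable def back (f : V →ₗ[k] V) : V →ₗ[k] A := hπ.codRestrict ∘ₗ f

include hπ in
/-- the off-diagonal part `a ↦ f a - π (f a)` -/
noncomputable def offd (f : V →ₗ[k] V) : A →ₗ[k] V :=
  have _ := hπ
  (LinearMap.id - π) ∘ₗ f ∘ₗ A.subtype

/-- commutator of the compressions -/
noncomputable def tcomm (f g : V →ₗ[k] V) : A →ₗ[k] A :=
  toep hπ f ∘ₗ toep hπ g - toep hπ g ∘ₗ toep hπ f

/-- the Tate symbol -/
noncomputable def tate (f g : V →ₗ[k] V) : k := trF (tcomm hπ f g)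

theorem toep_apply (f : V →ₗ[k] V) (a : A) : ((toep hπ f a : A) : V) = π (f a) := rfl

theorem back_apply (f : V →ₗ[k] V) (v : V) : ((back hπ f v : A) : V) = π (f v) := rfl

theorem offd_apply (f : V →ₗ[k] V) (a : A) : offd hπ f a = f a - π (f a) := rfl

theorem toep_eq_back (f : V →ₗ[k] V) : toep hπ f = back hπ f ∘ₗ A.subtype := rfl

include hπ in
theorem finRank_offd {f : V →ₗ[k] V} (hf : NearStable A f) : FinRank (offd hπ f) := by
  obtain ⟨F, hF, hAF⟩ := hf
  haveI := hF
  refine FinRank.of_range_le (R := F.map (LinearMap.id - π)) ?_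
  rintro _ ⟨a, rfl⟩
  have h1 : f a ∈ A ⊔ F := hAF ⟨a, a.2, rfl⟩
  obtain ⟨a', ha', x, hx, hax⟩ := Submodule.mem_sup.mp h1
  refine ⟨x, hx, ?_⟩
  rw [offd_apply, ← hax, map_add]
  simp only [LinearMap.sub_apply, LinearMap.id_apply]
  rw [hπ.map_id a' ha']
  abel

theorem tcomm_eq {f g : V →ₗ[k] V} (hfg : f ∘ₗ g = g ∘ₗ f) :
    tcomm hπ f g = back hπ g ∘ₗ offd hπ f - back hπ f ∘ₗ offd hπ g := by
  ext a
  simp only [tcomm, LinearMap.sub_apply, LinearMap.comp_apply, Submodule.coe_sub, toep_apply,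
    back_apply, offd_apply, map_sub]
  have h1 : f (g a) = g (f a) := LinearMap.congr_fun hfg a
  rw [h1]
  abel

include hπ in
theorem finRank_tcomm {f g : V →ₗ[k] V} (hfg : f ∘ₗ g = g ∘ₗ f) (hf : NearStable A f)
    (hg : NearStable A g) : FinRank (tcomm hπ f g) := by
  rw [tcomm_eq hπ hfg]
  exact ((finRank_offd hπ hf).comp_left _).sub ((finRank_offd hπ hg).comp_left _)

theorem tcomm_antisymm (f g : V →ₗ[k] V) : tcomm hπ g f = -tcomm hπ f g := by
  unfold tcomm
  abel

theorem tate_antisymm {f g : V →ₗ[k] V} (hfg : f ∘ₗ g = g ∘ₗ f) (hf : NearStable A f)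
    (hg : NearStable A g) : tate hπ g f = -tate hπ f g := by
  unfold tate
  rw [tcomm_antisymm, trF_neg (finRank_tcomm hπ hfg hf hg)]

/-- if `f` and `g` stabilise `A` the commutator vanishes -/
theorem tcomm_eq_zero_of_stable {f g : V →ₗ[k] V} (hfg : f ∘ₗ g = g ∘ₗ f) (hf : A.map f ≤ A)
    (hg : A.map g ≤ A) : tcomm hπ f g = 0 := by
  ext a
  simp only [tcomm, LinearMap.sub_apply, LinearMap.comp_apply, Submodule.coe_sub, toep_apply,
    LinearMap.zero_apply, ZeroMemClass.coe_zero]
  have hfa : f a ∈ A := hf ⟨a, a.2, rfl⟩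
  have hga : g a ∈ A := hg ⟨a, a.2, rfl⟩
  rw [hπ.map_id _ hfa, hπ.map_id _ hga]
  have hfga : f (g a) ∈ A := hf ⟨g a, hga, rfl⟩
  have hgfa : g (f a) ∈ A := hg ⟨f a, hfa, rfl⟩
  have h3 : f (g a) = g (f a) := LinearMap.congr_fun hfg a
  rw [hπ.map_id _ hfga, hπ.map_id _ hgfa, h3, sub_self]

/-- if `f` and `g` stabilise the kernel of the projection the commutator vanishes -/
theorem tcomm_eq_zero_of_ker_stable {f g : V →ₗ[k] V} (hfg : f ∘ₗ g = g ∘ₗ f)
    (hf : ∀ v, π v = 0 → π (f v) = 0) (hg : ∀ v, π v = 0 → π (g v) = 0) :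
    tcomm hπ f g = 0 := by
  rw [tcomm_eq hπ hfg]
  ext a
  simp only [LinearMap.sub_apply, LinearMap.comp_apply, Submodule.coe_sub, back_apply,
    offd_apply, LinearMap.zero_apply, ZeroMemClass.coe_zero]
  have hidem : ∀ v, π (π v) = π v := fun v => hπ.map_id _ (hπ.map_mem v)
  have h1 : π (f a - π (f a)) = 0 := by rw [map_sub, hidem, sub_self]
  have h2 : π (g a - π (g a)) = 0 := by rw [map_sub, hidem, sub_self]
  rw [hg _ h1, hf _ h2, sub_self]

theorem tcomm_add_left (f₁ f₂ g : V →ₗ[k] V) :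
    tcomm hπ (f₁ + f₂) g = tcomm hπ f₁ g + tcomm hπ f₂ g := by
  ext a
  simp only [tcomm, toep, LinearMap.sub_apply, LinearMap.comp_apply, LinearMap.add_apply, map_add,
    Submodule.coe_sub, Submodule.coe_add]
  abel

theorem tcomm_add_right (f g₁ g₂ : V →ₗ[k] V) :
    tcomm hπ f (g₁ + g₂) = tcomm hπ f g₁ + tcomm hπ f g₂ := by
  ext a
  simp only [tcomm, toep, LinearMap.sub_apply, LinearMap.comp_apply, LinearMap.add_apply, map_add,
    Submodule.coe_sub, Submodule.coe_add]
  abel

end defs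

end Groth.Agent.H86.Tate
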