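import Mathlib
import Groth.Agent.H86.TT2

/-!
# Properties of the Tate symbol: independence of the projection, global vanishing, transport
-/

set_option autoImplicit false
set_option linter.style.haveILetI false

namespace Groth.Agent.H86.Tate

open Module

variable {k : Type*} [Field k]
variable {V : Type*} [AddCommGroup V] [Module k V]

section indep

variable {A : Submodule k V} {π π' : V →ₗ[k] V} (hπ : LinearMap.IsProj A π)
  (hπ' : LinearMap.IsProj A π')

include hπ hπ' in
/-- the compressions for two projections onto the same subspace differ by a finite-rank map -/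
theorem finRank_toep_sub {f : V →ₗ[k] V} (hf : NearStable A f) :
    FinRank (toep hπ' f - toep hπ f) := by
  obtain ⟨F, hF, hAF⟩ := hf
  haveI := hF
  apply FinRank.of_comp_injective (ι := A.subtype) A.injective_subtype
  refine FinRank.of_range_le (R := F.map (π' - π)) ?_
  rintro _ ⟨a, rfl⟩
  have h1 : f a ∈ A ⊔ F := hAF ⟨a, a.2, rfl⟩
  obtain ⟨a', ha', x, hx, hax⟩ := Submodule.mem_sup.mp h1
  refine ⟨x, hx, ?_⟩
  simp only [LinearMap.comp_apply, LinearMap.sub_apply, Submodule.subtype_apply, Submodule.coe_sub,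
    toep_apply]
  rw [← hax, map_add, map_add, hπ.map_id a' ha', hπ'.map_id a' ha']
  abel

include hπ hπ' in
/-- the Tate symbol does not depend on the projection -/
theorem tate_indep {f g : V →ₗ[k] V} (hfg : f ∘ₗ g = g ∘ₗ f) (hf : NearStable A f)
    (hg : NearStable A g) : tate hπ' f g = tate hπ f g := by
  set F := toep hπ f with hF
  set G := toep hπ g with hG
  set φ := toep hπ' f - toep hπ f with hφ
  set γ := toep hπ' g - toep hπ g with hγ
  have hφr : FinRank φ := finRank_toep_sub hπ hπ' hf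
  have hγr : FinRank γ := finRank_toep_sub hπ hπ' hg
  have hF' : toep hπ' f = F + φ := by rw [hφ]; abel
  have hG' : toep hπ' g = G + γ := by rw [hγ]; abel
  have hc : tcomm hπ' f g = tcomm hπ f g + ((F ∘ₗ γ - γ ∘ₗ F) + (φ ∘ₗ G - G ∘ₗ φ) +
      (φ ∘ₗ γ - γ ∘ₗ φ)) := by
    unfold tcomm
    rw [hF', hG']
    simp only [LinearMap.add_comp, LinearMap.comp_add]
    abel
  have h1 : FinRank (F ∘ₗ γ - γ ∘ₗ F) := (hγr.comp_left F).sub (hγr.comp_right F)
  have h2 : FinRank (φ ∘ₗ G - G ∘ₗ φ) := (hφr.comp_right G).sub (hφr.comp_left G)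
  have h3 : FinRank (φ ∘ₗ γ - γ ∘ₗ φ) := (hφr.comp_right γ).sub (hγr.comp_right φ)
  unfold tate
  rw [hc, trF_add (finRank_tcomm hπ hfg hf hg) ((h1.add h2).add h3), trF_add (h1.add h2) h3,
    trF_add h1 h2, trF_commutator_right hγr, trF_commutator_left hφr, trF_commutator_left hφr]
  ring

end indep

section transport

variable {V' : Type*} [AddCommGroup V'] [Module k V']

/-- comparison along an injective map with dense image (relative to the subspace) -/
theorem tate_eq_of_injective {A : Submodule k V} {π : V →ₗ[k] V} (hπ : LinearMap.IsProj A π)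
    {A' : Submodule k V'} {π' : V' →ₗ[k] V'} (hπ' : LinearMap.IsProj A' π')
    (ι : V →ₗ[k] V') (hι : Function.Injective ι) (hA : A = A'.comap ι)
    (hdense : LinearMap.range ι ⊔ A' = ⊤) (hππ : π' ∘ₗ ι = ι ∘ₗ π)
    {f g : V →ₗ[k] V} {f' g' : V' →ₗ[k] V'} (hf : f' ∘ₗ ι = ι ∘ₗ f) (hg : g' ∘ₗ ι = ι ∘ₗ g)
    (hfg' : f' ∘ₗ g' = g' ∘ₗ f') (hf' : NearStable A' f') (hg' : NearStable A' g') :
    tate hπ' f' g' = tate hπ f g := by
  subst hA
  -- the restriction of `ι` to `A`
  let ιA : (A'.comap ι) →ₗ[k] A' := ι.restrict (p := A'.comap ι) (q := A') fun x hx => hx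
  have hιA : Function.Injective ιA := by
    intro a b hab
    apply Subtype.ext
    apply hι
    exact congrArg Subtype.val hab
  -- `(1 - π') v'` lies in the range of `ι`
  have hcompl : ∀ v' : V', v' - π' v' ∈ LinearMap.range ι := by
    intro v'
    have : v' ∈ LinearMap.range ι ⊔ A' := hdense ▸ Submodule.mem_top
    obtain ⟨_, ⟨v, rfl⟩, a', ha', rfl⟩ := Submodule.mem_sup.mp this
    refine ⟨v - π v, ?_⟩
    have h1 : π' (ι v) = ι (π v) := LinearMap.congr_fun hππ v
    rw [map_add, hπ'.map_id a' ha', h1, map_sub]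
    abel
  have hπ'range : ∀ w ∈ LinearMap.range ι, π' w ∈ LinearMap.range ι := by
    rintro _ ⟨v, rfl⟩
    exact ⟨π v, (LinearMap.congr_fun hππ v).symm⟩
  have hf'range : ∀ w ∈ LinearMap.range ι, f' w ∈ LinearMap.range ι := by
    rintro _ ⟨v, rfl⟩
    exact ⟨f v, (LinearMap.congr_fun hf v).symm⟩
  have hg'range : ∀ w ∈ LinearMap.range ι, g' w ∈ LinearMap.range ι := by
    rintro _ ⟨v, rfl⟩
    exact ⟨g v, (LinearMap.congr_fun hg v).symm⟩
  -- the commutator maps `A'` into the image of `A`
  have hrange : ∀ a' : A', ((tcomm hπ' f' g' a' : A') : V') ∈ LinearMap.range ι := by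
    intro a'
    simp only [tcomm, LinearMap.sub_apply, LinearMap.comp_apply, Submodule.coe_sub, toep_apply]
    -- `π' f' π' g' a' ≡ f' g' a'` modulo the range
    have key : ∀ (p q : V' →ₗ[k] V'), (∀ w ∈ LinearMap.range ι, p w ∈ LinearMap.range ι) →
        ∀ x : V', p (q x) - π' (p (π' (q x))) ∈ LinearMap.range ι := by
      intro p q hp x
      have e : p (q x) - π' (p (π' (q x))) =
          (p (π' (q x)) - π' (p (π' (q x)))) + p (q x - π' (q x)) := by
        rw [map_sub]
        abel
      rw [e]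
      exact Submodule.add_mem _ (hcompl _) (hp _ (hcompl _))
    have k1 := key f' g' hf'range a'
    have k2 := key g' f' hg'range a'
    have h3 : f' (g' a') = g' (f' a') := LinearMap.congr_fun hfg' a'
    have e : π' (f' (π' (g' a'))) - π' (g' (π' (f' a'))) =
        (g' (f' a') - π' (g' (π' (f' a')))) - (f' (g' a') - π' (f' (π' (g' a')))) := by
      rw [h3]
      abel
    rw [e]
    exact Submodule.sub_mem _ k2 k1
  -- factor the commutator through `A`
  have hmem : ∀ a' : A', tcomm hπ' f' g' a' ∈ LinearMap.range ιA := by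
    intro a'
    obtain ⟨v, hv⟩ := hrange a'
    have hvA : v ∈ A'.comap ι := by
      rw [Submodule.mem_comap, hv]
      exact (tcomm hπ' f' g' a').2
    exact ⟨⟨v, hvA⟩, Subtype.ext hv⟩
  let e : (A'.comap ι) ≃ₗ[k] LinearMap.range ιA := LinearEquiv.ofInjective ιA hιA
  let T : A' →ₗ[k] (A'.comap ι) := e.symm.toLinearMap ∘ₗ (tcomm hπ' f' g').codRestrict _ hmem
  have hT : ιA ∘ₗ T = tcomm hπ' f' g' := by
    ext a'
    have h1 : ιA (T a') = ((e (e.symm ((tcomm hπ' f' g').codRestrict _ hmem a')) :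
        LinearMap.range ιA) : A') := rfl
    rw [LinearMap.comp_apply, h1, LinearEquiv.apply_symm_apply]
    rfl
  -- intertwining
  have htoepf : toep hπ' f' ∘ₗ ιA = ιA ∘ₗ toep hπ f := by
    ext a
    simp only [LinearMap.comp_apply, toep_apply]
    change π' (f' (ι a)) = ι (π (f a))
    have e1 : f' (ι a) = ι (f a) := LinearMap.congr_fun hf a
    have e2 : π' (ι (f a)) = ι (π (f a)) := LinearMap.congr_fun hππ (f a)
    rw [e1, e2]
  have htoepg : toep hπ' g' ∘ₗ ιA = ιA ∘ₗ toep hπ g := by
    ext a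
    simp only [LinearMap.comp_apply, toep_apply]
    change π' (g' (ι a)) = ι (π (g a))
    have e1 : g' (ι a) = ι (g a) := LinearMap.congr_fun hg a
    have e2 : π' (ι (g a)) = ι (π (g a)) := LinearMap.congr_fun hππ (g a)
    rw [e1, e2]
  have hcomm : tcomm hπ' f' g' ∘ₗ ιA = ιA ∘ₗ tcomm hπ f g := by
    unfold tcomm
    rw [LinearMap.sub_comp, LinearMap.comp_sub, LinearMap.comp_assoc, LinearMap.comp_assoc,
      htoepg, htoepf, ← LinearMap.comp_assoc, ← LinearMap.comp_assoc, htoepf, htoepg,
      LinearMap.comp_assoc, LinearMap.comp_assoc]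
  have hTι : T ∘ₗ ιA = tcomm hπ f g := by
    apply LinearMap.ext
    intro a
    apply hιA
    have h1 : ιA (T (ιA a)) = tcomm hπ' f' g' (ιA a) := LinearMap.congr_fun hT (ιA a)
    rw [LinearMap.comp_apply, h1]
    exact LinearMap.congr_fun hcomm a
  have hfin : FinRank (tcomm hπ' f' g') := finRank_tcomm hπ' hfg' hf' hg'
  have hTfin : FinRank T := by
    apply FinRank.of_comp_injective hιA
    rw [hT]
    exact hfin
  unfold tate
  rw [← hT, ← hTι]
  exact (trF_comp_comm T ιA hTfin).symm

end transport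

end Groth.Agent.H86.Tate
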