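import Mathlib
import Groth.Agent.H86.TT3

/-!
# Global vanishing of the Tate symbol
-/

set_option autoImplicit false
set_option linter.style.haveILetI false

namespace Groth.Agent.H86.Tate

open Module

variable {k : Type*} [Field k]
variable {V : Type*} [AddCommGroup V] [Module k V]

/-- If `V = A ⊕ B ⊕ C` with `C` finite-dimensional and `B` stable under the commuting operators
`f, g`, then the Tate symbol of `A` vanishes. -/
theorem tate_eq_zero_of_isCompl {A B C : Submodule k V} (hAB : Disjoint A B)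
    (hABC : IsCompl (A ⊔ B) C) [FiniteDimensional k C]
    {π : V →ₗ[k] V} (hπ : LinearMap.IsProj A π) {f g : V →ₗ[k] V} (hfg : f ∘ₗ g = g ∘ₗ f)
    (hf : NearStable A f) (hg : NearStable A g) (hBf : B.map f ≤ B) (hBg : B.map g ≤ B) :
    tate hπ f g = 0 := by
  -- `A` and `B ⊔ C` are complementary
  have h1 : IsCompl A (B ⊔ C) := by
    constructor
    · rw [Submodule.disjoint_def]
      intro x hxA hxBC
      obtain ⟨b, hb, c, hc, rfl⟩ := Submodule.mem_sup.mp hxBC
      have hcAB : c ∈ A ⊔ B := by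
        have : c = (b + c) - b := by abel
        rw [this]
        exact Submodule.sub_mem _ (Submodule.mem_sup_left hxA) (Submodule.mem_sup_right hb)
      have hc0 : c = 0 := (Submodule.disjoint_def.mp hABC.disjoint) c hcAB hc
      rw [hc0, add_zero] at hxA ⊢
      exact (Submodule.disjoint_def.mp hAB) b hxA hb
    · rw [codisjoint_iff, ← sup_assoc]
      exact hABC.sup_eq_top
  set π₀ : V →ₗ[k] V := A.projection (B ⊔ C) h1 with hπ₀def
  have hπ₀ : LinearMap.IsProj A π₀ :=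
    ⟨fun x => Submodule.projection_apply_mem h1 x, fun x hx => by
      rw [hπ₀def, Submodule.projection_apply, Submodule.projectionOnto_apply_of_mem_left h1 hx]⟩
  have hπ₀ker : ∀ x, π₀ x = 0 ↔ x ∈ B ⊔ C := fun x => Submodule.projection_apply_eq_zero_iff h1
  set e3 : V →ₗ[k] C := C.projectionOnto (A ⊔ B) hABC.symm with he3def
  have he3C : ∀ c : C, e3 c = c := fun c => Submodule.projectionOnto_apply_left hABC.symm c
  have he3AB : ∀ x ∈ A ⊔ B, e3 x = 0 := fun x hx =>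
    (Submodule.projectionOnto_apply_eq_zero_iff hABC.symm).mpr hx
  rw [tate_indep hπ₀ hπ hfg hf hg]
  -- decomposition of elements of the kernel of `π₀`
  have hdec : ∀ w : V, π₀ w = 0 → ∃ b ∈ B, w = b + (e3 w : V) := by
    intro w hw
    obtain ⟨b, hb, c, hc, rfl⟩ := Submodule.mem_sup.mp ((hπ₀ker w).mp hw)
    refine ⟨b, hb, ?_⟩
    rw [map_add, he3AB b (Submodule.mem_sup_right hb), zero_add]
    have := he3C ⟨c, hc⟩
    rw [this]
  have hidem : ∀ v, π₀ (π₀ v) = π₀ v := fun v => hπ₀.map_id _ (hπ₀.map_mem v)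
  -- `π₀` kills `p b` for `b ∈ B` when `p` stabilises `B`
  have hkillB : ∀ (p : V →ₗ[k] V), B.map p ≤ B → ∀ b ∈ B, π₀ (p b) = 0 := by
    intro p hp b hb
    exact (hπ₀ker _).mpr (Submodule.mem_sup_left (hp ⟨b, hb, rfl⟩))
  have he3B : ∀ (p : V →ₗ[k] V), B.map p ≤ B → ∀ b ∈ B, e3 (p b) = 0 := by
    intro p hp b hb
    exact he3AB _ (Submodule.mem_sup_right (hp ⟨b, hb, rfl⟩))
  -- the two factorizations
  have hfac : ∀ (p q : V →ₗ[k] V), B.map q ≤ B →
      back hπ₀ q ∘ₗ offd hπ₀ p = (back hπ₀ q ∘ₗ C.subtype) ∘ₗ (e3 ∘ₗ p ∘ₗ A.subtype) := by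
    intro p q hq
    ext a
    simp only [LinearMap.comp_apply, back_apply, offd_apply, Submodule.subtype_apply]
    have hw : π₀ (p a - π₀ (p a)) = 0 := by rw [map_sub, hidem, sub_self]
    obtain ⟨b, hb, hwb⟩ := hdec _ hw
    have he : e3 (p a - π₀ (p a)) = e3 (p a) := by
      rw [map_sub, he3AB (π₀ (p a)) (Submodule.mem_sup_left (hπ₀.map_mem _)), sub_zero]
    rw [he] at hwb
    rw [hwb, map_add, map_add, hkillB q hq b hb, zero_add]
  have hcyc : ∀ (p q : V →ₗ[k] V), B.map p ≤ B → B.map q ≤ B →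
      (e3 ∘ₗ p ∘ₗ A.subtype) ∘ₗ (back hπ₀ q ∘ₗ C.subtype) =
        e3 ∘ₗ p ∘ₗ q ∘ₗ C.subtype - (e3 ∘ₗ p ∘ₗ C.subtype) ∘ₗ (e3 ∘ₗ q ∘ₗ C.subtype) := by
    intro p q hp hq
    ext c
    simp only [LinearMap.comp_apply, LinearMap.sub_apply, Submodule.subtype_apply, back_apply,
      Submodule.coe_sub]
    have hw : π₀ (q c - π₀ (q c)) = 0 := by rw [map_sub, hidem, sub_self]
    obtain ⟨b, hb, hwb⟩ := hdec _ hw
    have he : e3 (q c - π₀ (q c)) = e3 (q c) := by
      rw [map_sub, he3AB (π₀ (q c)) (Submodule.mem_sup_left (hπ₀.map_mem _)), sub_zero]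
    rw [he] at hwb
    have hq' : q c = π₀ (q c) + b + (e3 (q c) : V) := by
      have : q c = π₀ (q c) + (q c - π₀ (q c)) := by abel
      rw [hwb] at this
      rw [add_assoc]
      exact this
    have h2 : e3 (p (q c)) = e3 (p (π₀ (q c))) + e3 (p (e3 (q c) : V)) := by
      conv_lhs => rw [hq']
      rw [map_add, map_add, map_add, map_add, he3B p hp b hb, add_zero]
    rw [h2]
    simp
  have hXfin : ∀ q : V →ₗ[k] V, FinRank (back hπ₀ q ∘ₗ C.subtype) :=
    fun q => FinRank.of_finiteDimensional_left _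
  unfold tate
  rw [tcomm_eq hπ₀ hfg, hfac f g hBg, hfac g f hBf,
    trF_sub ((hXfin g).comp_right _) ((hXfin f).comp_right _),
    trF_comp_comm _ _ (hXfin g), trF_comp_comm _ _ (hXfin f), hcyc f g hBf hBg, hcyc g f hBg hBf]
  have hfin : ∀ T : C →ₗ[k] C, FinRank T := fun T => FinRank.of_finiteDimensional_left T
  rw [trF_sub (hfin _) (hfin _), trF_sub (hfin _) (hfin _)]
  have hN : e3 ∘ₗ f ∘ₗ g ∘ₗ C.subtype = e3 ∘ₗ g ∘ₗ f ∘ₗ C.subtype := by
    ext c
    simp only [LinearMap.comp_apply]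
    have h3 : f (g c) = g (f c) := LinearMap.congr_fun hfg c
    rw [Submodule.subtype_apply, h3]
  rw [hN, trF_comp_comm (e3 ∘ₗ f ∘ₗ C.subtype) (e3 ∘ₗ g ∘ₗ C.subtype) (hfin _)]
  ring

/-- transport of the Tate symbol along a linear equivalence -/
theorem tate_eq_of_equiv {V' : Type*} [AddCommGroup V'] [Module k V']
    {A : Submodule k V} {π : V →ₗ[k] V} (hπ : LinearMap.IsProj A π)
    {A' : Submodule k V'} {π' : V' →ₗ[k] V'} (hπ' : LinearMap.IsProj A' π')
    (e : V ≃ₗ[k] V') (hA : A = A'.comap e.toLinearMap)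
    (hππ : π' ∘ₗ e.toLinearMap = e.toLinearMap ∘ₗ π)
    {f g : V →ₗ[k] V} {f' g' : V' →ₗ[k] V'} (hf : f' ∘ₗ e.toLinearMap = e.toLinearMap ∘ₗ f)
    (hg : g' ∘ₗ e.toLinearMap = e.toLinearMap ∘ₗ g)
    (hfg' : f' ∘ₗ g' = g' ∘ₗ f') (hf' : NearStable A' f') (hg' : NearStable A' g') :
    tate hπ' f' g' = tate hπ f g := by
  refine tate_eq_of_injective hπ hπ' e.toLinearMap e.injective hA ?_ hππ hf hg hfg' hf' hg'
  rw [LinearEquiv.range, top_sup_eq]

end Groth.Agent.H86.Tate
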