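import Mathlib
import Groth.Agent.H86.TT4

/-!
# Lattices in Laurent series: truncations, multiplication operators, near stability
-/

set_option autoImplicit false
set_option linter.style.haveILetI false

namespace Groth.Agent.H86.Tate

open Module HahnSeries LaurentSeries

variable {k F : Type*} [Field k] [Field F] [Algebra k F]

theorem smul_eq_C_mul (c : k) (x : F⸨X⸩) : c • x = HahnSeries.C (algebraMap k F c) * x := by
  ext n
  rw [HahnSeries.coeff_smul, HahnSeries.C_mul_eq_smul, HahnSeries.coeff_smul, Algebra.smul_def,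
    smul_eq_mul]

variable (k) in
/-- multiplication by a Laurent series as a `k`-linear map -/
noncomputable def mulL (h : F⸨X⸩) : F⸨X⸩ →ₗ[k] F⸨X⸩ where
  toFun x := h * x
  map_add' x y := mul_add h x y
  map_smul' c x := by
    simp only [RingHom.id_apply]
    rw [smul_eq_C_mul, smul_eq_C_mul]
    ring

@[simp] theorem mulL_apply (h x : F⸨X⸩) : mulL k h x = h * x := rfl

theorem mulL_comm (f g : F⸨X⸩) : mulL k f ∘ₗ mulL k g = mulL k g ∘ₗ mulL k f := by
  ext x : 1
  simp only [LinearMap.comp_apply, mulL_apply]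
  ring

theorem mulL_add (f g : F⸨X⸩) : mulL k (f + g) = mulL k f + mulL k g := by
  ext x : 1
  simp only [LinearMap.add_apply, mulL_apply]
  ring

variable (k F) in
/-- the lattice `X^m F[[X]]` -/
def lat (m : ℤ) : Submodule k F⸨X⸩ where
  carrier := {h | ∀ n < m, h.coeff n = 0}
  add_mem' {a b} ha hb n hn := by
    rw [HahnSeries.coeff_add, ha n hn, hb n hn, add_zero]
  zero_mem' n _ := rfl
  smul_mem' c a ha n hn := by
    rw [HahnSeries.coeff_smul, ha n hn, smul_zero]

theorem mem_lat {m : ℤ} {h : F⸨X⸩} : h ∈ lat k F m ↔ ∀ n < m, h.coeff n = 0 := Iff.rfl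

variable (k F) in
/-- truncation: keep the coefficients of degree `≥ m` -/
noncomputable def truncL (m : ℤ) : F⸨X⸩ →ₗ[k] F⸨X⸩ where
  toFun h := HahnSeries.ofSuppBddBelow (fun n => if m ≤ n then h.coeff n else 0)
    ⟨m, fun n hn => by
      by_contra hlt
      exact hn (if_neg hlt)⟩
  map_add' x y := by
    ext n
    simp only [HahnSeries.ofSuppBddBelow_coeff, HahnSeries.coeff_add]
    split_ifs <;> simp
  map_smul' c x := by
    ext n
    simp only [HahnSeries.ofSuppBddBelow_coeff, HahnSeries.coeff_smul, RingHom.id_apply]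
    split_ifs <;> simp

theorem truncL_coeff (m : ℤ) (h : F⸨X⸩) (n : ℤ) :
    (truncL k F m h).coeff n = if m ≤ n then h.coeff n else 0 := rfl

theorem isProj_truncL (m : ℤ) : LinearMap.IsProj (lat k F m) (truncL k F m) := by
  constructor
  · intro h n hn
    rw [truncL_coeff, if_neg (by omega)]
  · intro h hh
    ext n
    rw [truncL_coeff]
    split_ifs with hmn
    · rfl
    · exact (hh n (by omega)).symm

theorem truncL_eq_zero_iff (m : ℤ) (h : F⸨X⸩) :
    truncL k F m h = 0 ↔ ∀ n, m ≤ n → h.coeff n = 0 := by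
  constructor
  · intro h0 n hn
    have := congrArg (fun x : F⸨X⸩ => x.coeff n) h0
    simp only [truncL_coeff, if_pos hn, HahnSeries.coeff_zero] at this
    exact this
  · intro h0
    ext n
    rw [truncL_coeff, HahnSeries.coeff_zero]
    split_ifs with hmn
    · exact h0 n hmn
    · rfl

/-- coefficient of a product when the factors are supported in `≥ a` and `≥ b` -/
theorem coeff_mul_eq_zero_of_lt {f g : F⸨X⸩} {a b : ℤ} (hf : ∀ n < a, f.coeff n = 0)
    (hg : ∀ n < b, g.coeff n = 0) {n : ℤ} (hn : n < a + b) : (f * g).coeff n = 0 := by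
  rw [HahnSeries.coeff_mul]
  apply Finset.sum_eq_zero
  intro ij hij
  rw [Finset.mem_addAntidiagonal] at hij
  obtain ⟨hi, hj, hsum⟩ := hij
  by_contra hne
  have h1 : a ≤ ij.1 := by
    by_contra hlt
    exact hi (hf _ (by omega))
  have h2 : b ≤ ij.2 := by
    by_contra hlt
    exact hj (hg _ (by omega))
  omega

/-- coefficient of a product when the factors are supported in `≤ a` and `≤ b` -/
theorem coeff_mul_eq_zero_of_gt {f g : F⸨X⸩} {a b : ℤ} (hf : ∀ n, a < n → f.coeff n = 0)
    (hg : ∀ n, b < n → g.coeff n = 0) {n : ℤ} (hn : a + b < n) : (f * g).coeff n = 0 := by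
  rw [HahnSeries.coeff_mul]
  apply Finset.sum_eq_zero
  intro ij hij
  rw [Finset.mem_addAntidiagonal] at hij
  obtain ⟨hi, hj, hsum⟩ := hij
  by_contra hne
  have h1 : ij.1 ≤ a := by
    by_contra hlt
    exact hi (hf _ (by omega))
  have h2 : ij.2 ≤ b := by
    by_contra hlt
    exact hj (hg _ (by omega))
  omega

theorem mul_mem_lat {f g : F⸨X⸩} {a b : ℤ} (hf : f ∈ lat k F a) (hg : g ∈ lat k F b) :
    f * g ∈ lat k F (a + b) := fun _ hn => coeff_mul_eq_zero_of_lt hf hg hn

theorem lat_anti {a b : ℤ} (h : a ≤ b) : lat k F b ≤ lat k F a :=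
  fun _ hx n hn => hx n (by omega)

theorem exists_mem_lat (f : F⸨X⸩) : ∃ N : ℕ, f ∈ lat k F (-(N : ℤ)) := by
  refine ⟨(-f.order).toNat, fun n hn => ?_⟩
  apply HahnSeries.coeff_eq_zero_of_lt_order
  omega

section window

variable [FiniteDimensional k F]

variable (k F) in
/-- Laurent polynomials supported in `[a, b)` -/
def window (a b : ℤ) : Submodule k F⸨X⸩ where
  carrier := {h | ∀ n, ¬ (a ≤ n ∧ n < b) → h.coeff n = 0}
  add_mem' {x y} hx hy n hn := by
    rw [HahnSeries.coeff_add, hx n hn, hy n hn, add_zero]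
  zero_mem' n _ := rfl
  smul_mem' c x hx n hn := by
    rw [HahnSeries.coeff_smul, hx n hn, smul_zero]

instance window_finite (a b : ℤ) : FiniteDimensional k (window k F a b) := by
  let φ : window k F a b →ₗ[k] (Finset.Ico a b → F) :=
    { toFun := fun h n => (h : F⸨X⸩).coeff n
      map_add' := fun x y => by
        funext n
        simp
      map_smul' := fun c x => by
        funext n
        simp }
  have hφ : Function.Injective φ := by
    intro x y hxy
    apply Subtype.ext
    ext n
    by_cases hn : a ≤ n ∧ n < b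
    · exact congrFun hxy ⟨n, Finset.mem_Ico.mpr hn⟩
    · rw [x.2 n hn, y.2 n hn]
  exact FiniteDimensional.of_injective φ hφ

theorem lat_le_sup_window {a b : ℤ} (hab : a ≤ b) : lat k F a ≤ lat k F b ⊔ window k F a b := by
  intro h hh
  rw [Submodule.mem_sup]
  refine ⟨truncL k F b h, (isProj_truncL b).map_mem h, h - truncL k F b h, ?_, by abel⟩
  intro n hn
  rw [HahnSeries.coeff_sub, truncL_coeff]
  split_ifs with hbn
  · rw [sub_self]
  · have : n < a := by
      by_contra hge
      exact hn ⟨by omega, by omega⟩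
    rw [hh n this, sub_zero]

theorem nearStable_lat (m : ℤ) (f : F⸨X⸩) : NearStable (lat k F m) (mulL k f) := by
  obtain ⟨N, hN⟩ := exists_mem_lat (k := k) f
  refine ⟨window k F (-(N : ℤ) + m) m, inferInstance, ?_⟩
  rintro _ ⟨x, hx, rfl⟩
  apply lat_le_sup_window (by omega)
  exact mul_mem_lat hN hx

end window

end Groth.Agent.H86.Tate
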