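import Mathlib
import Groth.Agent.H86.TT5
import Groth.Prelude.Def_LocRes

/-!
# The local Tate symbol on Laurent series is the residue
-/

set_option autoImplicit false
set_option linter.style.haveILetI false

namespace Groth.Agent.H86.Tate

open Module HahnSeries LaurentSeries

variable {k : Type*} [Field k]

section sums

variable {V : Type*} [AddCommGroup V] [Module k V]

theorem FinRank.sum {W : Type*} [AddCommGroup W] [Module k W] {ι : Type*} (s : Finset ι)
    (T : ι → V →ₗ[k] W) (hT : ∀ j ∈ s, FinRank (T j)) : FinRank (∑ j ∈ s, T j) := by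
  classical
  induction s using Finset.induction_on with
  | empty => simpa using FinRank.zero
  | insert j s hj ih =>
    rw [Finset.sum_insert hj]
    exact (hT j (Finset.mem_insert_self j s)).add
      (ih fun l hl => hT l (Finset.mem_insert_of_mem hl))

theorem comp_finset_sum {W U : Type*} [AddCommGroup W] [Module k W] [AddCommGroup U] [Module k U]
    {ι : Type*} (s : Finset ι) (T : ι → V →ₗ[k] W) (Y : W →ₗ[k] U) :
    Y ∘ₗ (∑ j ∈ s, T j) = ∑ j ∈ s, Y ∘ₗ T j := by
  ext v
  simp only [LinearMap.comp_apply, LinearMap.sum_apply, map_sum]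

theorem trF_sum {ι : Type*} (s : Finset ι) (T : ι → V →ₗ[k] V) (hT : ∀ j ∈ s, FinRank (T j)) :
    trF (∑ j ∈ s, T j) = ∑ j ∈ s, trF (T j) := by
  classical
  induction s using Finset.induction_on with
  | empty => simpa using trF_zero
  | insert j s hj ih =>
    rw [Finset.sum_insert hj, Finset.sum_insert hj,
      trF_add (hT j (Finset.mem_insert_self j s))
        (FinRank.sum s T fun l hl => hT l (Finset.mem_insert_of_mem hl)),
      ih fun l hl => hT l (Finset.mem_insert_of_mem hl)]

variable {A : Submodule k V} {π : V →ₗ[k] V} (hπ : LinearMap.IsProj A π)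

theorem tcomm_zero_left (g : V →ₗ[k] V) : tcomm hπ 0 g = 0 := by
  ext a
  simp [tcomm, toep]

theorem tcomm_sum_left {ι : Type*} (s : Finset ι) (f : ι → V →ₗ[k] V) (g : V →ₗ[k] V) :
    tcomm hπ (∑ j ∈ s, f j) g = ∑ j ∈ s, tcomm hπ (f j) g := by
  classical
  induction s using Finset.induction_on with
  | empty => simpa using tcomm_zero_left hπ g
  | insert j s hj ih =>
    rw [Finset.sum_insert hj, Finset.sum_insert hj, tcomm_add_left, ih]

end sums

variable {F : Type*} [Field F] [Algebra k F] [FiniteDimensional k F]

/-- the cross term: a polar monomial against a power series -/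
theorem tate_single_lat (m : ℤ) (i : ℕ) (a : F) (h : F⸨X⸩) (hh : h ∈ lat k F 0) :
    tate (isProj_truncL (k := k) (F := F) m) (mulL k (single (-(i : ℤ)) a)) (mulL k h) =
      i • Algebra.trace k F (a * h.coeff i) := by
  classical
  set hπ := isProj_truncL (k := k) (F := F) m with hπdef
  set p : F⸨X⸩ := single (-(i : ℤ)) a with hp
  have hcomm := mulL_comm (k := k) p h
  -- `h` preserves the lattice, so its off-diagonal part vanishes
  have hoff : offd hπ (mulL k h) = 0 := by
    ext u : 1
    rw [offd_apply, LinearMap.zero_apply, mulL_apply]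
    have hmem : h * (u : F⸨X⸩) ∈ lat k F m := by
      have := mul_mem_lat hh u.2
      rwa [zero_add] at this
    rw [hπ.map_id _ hmem, sub_self]
  -- the coefficient functionals and the monomial maps
  let c : ℕ → (lat k F m →ₗ[k] F) := fun j =>
    { toFun := fun u => (u : F⸨X⸩).coeff (m + j)
      map_add' := fun x y => by simp
      map_smul' := fun r x => by simp }
  let S : ℕ → (F →ₗ[k] F⸨X⸩) := fun j =>
    { toFun := fun x => single (m + j - i) (a * x)
      map_add' := fun x y => by rw [mul_add, HahnSeries.single_add]
      map_smul' := fun r x => by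
        ext n
        simp only [RingHom.id_apply, HahnSeries.coeff_smul]
        by_cases hn : n = m + j - i
        · rw [hn, HahnSeries.coeff_single_same, HahnSeries.coeff_single_same, mul_smul_comm]
        · rw [HahnSeries.coeff_single_of_ne hn, HahnSeries.coeff_single_of_ne hn, smul_zero] }
  have hoffp : offd hπ (mulL k p) = ∑ j ∈ Finset.range i, S j ∘ₗ c j := by
    ext u : 1
    rw [offd_apply, mulL_apply, LinearMap.sum_apply]
    ext n
    rw [HahnSeries.coeff_sub, truncL_coeff, HahnSeries.coeff_sum]
    have hcoef : (p * (u : F⸨X⸩)).coeff n = a * (u : F⸨X⸩).coeff (n + i) := by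
      rw [hp, HahnSeries.coeff_single_mul]
      congr 2
      ring
    have hterm : ∀ j : ℕ, ((S j ∘ₗ c j) u).coeff n =
        if n = m + j - i then a * (u : F⸨X⸩).coeff (m + j) else 0 := by
      intro j
      change (single (m + j - i) (a * (u : F⸨X⸩).coeff (m + j))).coeff n = _
      split_ifs with hn
      · rw [hn, HahnSeries.coeff_single_same]
      · rw [HahnSeries.coeff_single_of_ne hn]
    simp only [hterm]
    rw [hcoef]
    by_cases hmn : m ≤ n
    · rw [if_pos hmn, sub_self]
      symm
      apply Finset.sum_eq_zero
      intro j hj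
      rw [Finset.mem_range] at hj
      rw [if_neg (by omega)]
    · rw [if_neg hmn, sub_zero]
      by_cases hlow : m ≤ n + i
      · -- the index `j = n + i - m`
        have hj : (n + i - m).toNat ∈ Finset.range i := by
          rw [Finset.mem_range]
          omega
        rw [Finset.sum_eq_single_of_mem _ hj]
        · have e : m + ((n + i - m).toNat : ℤ) = n + i := by omega
          rw [if_pos (by omega), e]
        · intro j _ hjne
          rw [if_neg]
          intro hn
          apply hjne
          omega
      · have h0 : (u : F⸨X⸩).coeff (n + i) = 0 := u.2 _ (by omega)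
        rw [h0, mul_zero]
        symm
        apply Finset.sum_eq_zero
        intro j _
        rw [if_neg (by omega)]
  -- compute the trace
  have hfinS : ∀ j, FinRank (back hπ (mulL k h) ∘ₗ S j) :=
    fun j => FinRank.of_finiteDimensional_left _
  have hkey : ∀ j ∈ Finset.range i,
      trF (back hπ (mulL k h) ∘ₗ (S j ∘ₗ c j)) = Algebra.trace k F (a * h.coeff i) := by
    intro j hj
    rw [← LinearMap.comp_assoc, trF_comp_comm _ _ (hfinS j)]
    have hop : c j ∘ₗ (back hπ (mulL k h) ∘ₗ S j) = Algebra.lmul k F (a * h.coeff i) := by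
      ext x
      change ((back hπ (mulL k h) (single (m + j - i) (a * x)) : lat k F m) : F⸨X⸩).coeff (m + j) = _
      rw [back_apply, mulL_apply, truncL_coeff, if_pos (by omega), HahnSeries.coeff_mul_single]
      have e : m + (j : ℤ) - (m + j - i) = i := by ring
      rw [e]
      change h.coeff i * (a * x) = a * h.coeff i * x
      ring
    rw [hop, trF_eq_trace, Algebra.trace_apply]
  have htc : tcomm hπ (mulL k p) (mulL k h) =
      ∑ j ∈ Finset.range i, back hπ (mulL k h) ∘ₗ (S j ∘ₗ c j) := by
    rw [tcomm_eq hπ hcomm, hoff, LinearMap.comp_zero, hoffp, comp_finset_sum]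
    abel
  have hfin2 : ∀ j ∈ Finset.range i, FinRank (back hπ (mulL k h) ∘ₗ (S j ∘ₗ c j)) :=
    fun j _ => (hfinS j).comp_right (c j)
  unfold tate
  rw [htc, trF_sum _ _ hfin2, Finset.sum_congr rfl hkey, Finset.sum_const, Finset.card_range]

end Groth.Agent.H86.Tate
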