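import Mathlib
import Groth.Agent.H86.TT6

/-!
# The local Tate symbol on Laurent series equals the trace of the residue
-/

set_option autoImplicit false
set_option linter.style.haveILetI false

namespace Groth.Agent.H86.Tate

open Module HahnSeries LaurentSeries

variable {k : Type*} [Field k] {F : Type*} [Field F] [Algebra k F] [FiniteDimensional k F]

variable (k) in
/-- the trace of the residue of `f dg` -/
noncomputable def rho (f g : F⸨X⸩) : k := Algebra.trace k F ((f * LocRes.D F g).coeff (-1))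

theorem rho_add_left (f₁ f₂ g : F⸨X⸩) : rho k (f₁ + f₂) g = rho k f₁ g + rho k f₂ g := by
  unfold rho
  rw [add_mul, HahnSeries.coeff_add, map_add]

theorem rho_add_right (f g₁ g₂ : F⸨X⸩) : rho k f (g₁ + g₂) = rho k f g₁ + rho k f g₂ := by
  unfold rho
  rw [map_add, mul_add, HahnSeries.coeff_add, map_add]

theorem rho_sum_left {ι : Type*} (s : Finset ι) (f : ι → F⸨X⸩) (g : F⸨X⸩) :
    rho k (∑ j ∈ s, f j) g = ∑ j ∈ s, rho k (f j) g := by
  unfold rho
  rw [Finset.sum_mul, HahnSeries.coeff_sum, map_sum]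

theorem rho_antisymm (f g : F⸨X⸩) : rho k g f = -rho k f g := by
  have h : (f * LocRes.D F g + g * LocRes.D F f).coeff (-1) = 0 := by
    have : f * LocRes.D F g + g * LocRes.D F f = LocRes.D F (f * g) := by
      rw [Derivation.leibniz]
      simp only [smul_eq_mul]
    rw [this, LocRes.D_coeff]
    simp
  unfold rho
  rw [eq_neg_iff_add_eq_zero, ← map_add, ← HahnSeries.coeff_add, add_comm, h, map_zero]

theorem D_mem_lat_zero {g : F⸨X⸩} (hg : g ∈ lat k F 0) : LocRes.D F g ∈ lat k F 0 := by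
  intro n hn
  rw [LocRes.D_coeff]
  by_cases h1 : n + 1 < 0
  · rw [hg _ h1, smul_zero]
  · have : n + 1 = 0 := by omega
    rw [this, zero_smul]

theorem rho_lat_zero {f g : F⸨X⸩} (hf : f ∈ lat k F 0) (hg : g ∈ lat k F 0) : rho k f g = 0 := by
  unfold rho
  have := mul_mem_lat hf (D_mem_lat_zero hg)
  rw [this (-1) (by norm_num), map_zero]

/-- polar series: no coefficients in degree `≥ 0` -/
def IsPolar (f : F⸨X⸩) : Prop := ∀ n : ℤ, 0 ≤ n → f.coeff n = 0

theorem rho_polar {f g : F⸨X⸩} (hf : IsPolar f) (hg : IsPolar g) : rho k f g = 0 := by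
  unfold rho
  have hD : ∀ n : ℤ, -2 < n → (LocRes.D F g).coeff n = 0 := by
    intro n hn
    rw [LocRes.D_coeff, hg _ (by omega), smul_zero]
  have hf' : ∀ n : ℤ, -1 < n → f.coeff n = 0 := fun n hn => hf n (by omega)
  rw [coeff_mul_eq_zero_of_gt hf' hD (by norm_num), map_zero]

theorem rho_single_lat (i : ℕ) (a : F) {h : F⸨X⸩} :
    rho k (single (-(i : ℤ)) a) h = i • Algebra.trace k F (a * h.coeff i) := by
  unfold rho
  rw [HahnSeries.coeff_single_mul, LocRes.D_coeff]
  have e : (-1 : ℤ) - -(i : ℤ) + 1 = i := by ring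
  rw [e, mul_smul_comm, map_zsmul, natCast_zsmul]

section tateprops

variable (m : ℤ)

theorem finRank_tcomm_lat (f g : F⸨X⸩) :
    FinRank (tcomm (isProj_truncL (k := k) (F := F) m) (mulL k f) (mulL k g)) :=
  finRank_tcomm _ (mulL_comm f g) (nearStable_lat m f) (nearStable_lat m g)

theorem tate_lat_add_left (f₁ f₂ g : F⸨X⸩) :
    tate (isProj_truncL (k := k) (F := F) m) (mulL k (f₁ + f₂)) (mulL k g) =
      tate (isProj_truncL m) (mulL k f₁) (mulL k g) + tate (isProj_truncL m) (mulL k f₂) (mulL k g) := by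
  unfold tate
  rw [mulL_add, tcomm_add_left, trF_add (finRank_tcomm_lat m f₁ g) (finRank_tcomm_lat m f₂ g)]

theorem tate_lat_add_right (f g₁ g₂ : F⸨X⸩) :
    tate (isProj_truncL (k := k) (F := F) m) (mulL k f) (mulL k (g₁ + g₂)) =
      tate (isProj_truncL m) (mulL k f) (mulL k g₁) + tate (isProj_truncL m) (mulL k f) (mulL k g₂) := by
  unfold tate
  rw [mulL_add, tcomm_add_right, trF_add (finRank_tcomm_lat m f g₁) (finRank_tcomm_lat m f g₂)]

theorem mulL_sum {ι : Type*} (s : Finset ι) (f : ι → F⸨X⸩) :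
    mulL k (∑ j ∈ s, f j) = ∑ j ∈ s, mulL k (f j) := by
  ext x : 1
  rw [mulL_apply, LinearMap.sum_apply, Finset.sum_mul]
  rfl

theorem tate_lat_sum_left {ι : Type*} (s : Finset ι) (f : ι → F⸨X⸩) (g : F⸨X⸩) :
    tate (isProj_truncL (k := k) (F := F) m) (mulL k (∑ j ∈ s, f j)) (mulL k g) =
      ∑ j ∈ s, tate (isProj_truncL m) (mulL k (f j)) (mulL k g) := by
  unfold tate
  rw [mulL_sum, tcomm_sum_left, trF_sum _ _ fun j _ => finRank_tcomm_lat m (f j) g]

theorem tate_lat_antisymm (f g : F⸨X⸩) :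
    tate (isProj_truncL (k := k) (F := F) m) (mulL k g) (mulL k f) =
      -tate (isProj_truncL m) (mulL k f) (mulL k g) :=
  tate_antisymm _ (mulL_comm f g) (nearStable_lat m f) (nearStable_lat m g)

theorem tate_lat_zero {f g : F⸨X⸩} (hf : f ∈ lat k F 0) (hg : g ∈ lat k F 0) :
    tate (isProj_truncL (k := k) (F := F) m) (mulL k f) (mulL k g) = 0 := by
  unfold tate
  rw [tcomm_eq_zero_of_stable _ (mulL_comm f g), trF_zero]
  · rintro _ ⟨x, hx, rfl⟩
    have := mul_mem_lat hf hx
    rwa [zero_add] at this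
  · rintro _ ⟨x, hx, rfl⟩
    have := mul_mem_lat hg hx
    rwa [zero_add] at this

theorem tate_lat_polar {f g : F⸨X⸩} (hf : IsPolar f) (hg : IsPolar g) :
    tate (isProj_truncL (k := k) (F := F) m) (mulL k f) (mulL k g) = 0 := by
  unfold tate
  have key : ∀ p : F⸨X⸩, IsPolar p → ∀ v : F⸨X⸩, truncL k F m v = 0 →
      truncL k F m (mulL k p v) = 0 := by
    intro p hp v hv
    rw [truncL_eq_zero_iff] at hv ⊢
    intro n hn
    rw [mulL_apply]
    have hp' : ∀ n : ℤ, -1 < n → p.coeff n = 0 := fun n hn => hp n (by omega)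
    have hv' : ∀ n : ℤ, m - 1 < n → v.coeff n = 0 := fun n hn => hv n (by omega)
    exact coeff_mul_eq_zero_of_gt hp' hv' (by omega)
  rw [tcomm_eq_zero_of_ker_stable _ (mulL_comm f g) (key f hf) (key g hg), trF_zero]

end tateprops

/-- the polar part of a Laurent series with pole order at most `N` -/
noncomputable def polar (N : ℕ) (f : F⸨X⸩) : F⸨X⸩ :=
  ∑ i ∈ Finset.Icc 1 N, single (-(i : ℤ)) (f.coeff (-(i : ℤ)))

theorem polar_coeff (N : ℕ) (f : F⸨X⸩) (n : ℤ) :
    (polar N f).coeff n = if -(N : ℤ) ≤ n ∧ n ≤ -1 then f.coeff n else 0 := by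
  classical
  unfold polar
  rw [HahnSeries.coeff_sum]
  split_ifs with hn
  · have hmem : n.natAbs ∈ Finset.Icc 1 N := by
      rw [Finset.mem_Icc]
      omega
    rw [Finset.sum_eq_single_of_mem _ hmem]
    · have e : -((n.natAbs : ℕ) : ℤ) = n := by omega
      rw [e, HahnSeries.coeff_single_same]
    · intro j hj hjne
      rw [Finset.mem_Icc] at hj
      apply HahnSeries.coeff_single_of_ne
      omega
  · apply Finset.sum_eq_zero
    intro j hj
    rw [Finset.mem_Icc] at hj
    apply HahnSeries.coeff_single_of_ne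
    omega

theorem isPolar_polar (N : ℕ) (f : F⸨X⸩) : IsPolar (polar N f) := by
  intro n hn
  rw [polar_coeff, if_neg (by omega)]

theorem eq_polar_add_truncL {N : ℕ} {f : F⸨X⸩} (hf : f ∈ lat k F (-(N : ℤ))) :
    f = polar N f + truncL k F 0 f := by
  ext n
  rw [HahnSeries.coeff_add, polar_coeff, truncL_coeff]
  by_cases h0 : 0 ≤ n
  · rw [if_neg (by omega), if_pos h0, zero_add]
  · rw [if_neg h0, add_zero]
    split_ifs with hn
    · rfl
    · exact hf n (by omega)

/-- **The local Tate symbol is the trace of the residue.** -/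
theorem tate_lat_eq_rho (m : ℤ) (f g : F⸨X⸩) :
    tate (isProj_truncL (k := k) (F := F) m) (mulL k f) (mulL k g) = rho k f g := by
  obtain ⟨N₁, hN₁⟩ := exists_mem_lat (k := k) f
  obtain ⟨N₂, hN₂⟩ := exists_mem_lat (k := k) g
  set N := max N₁ N₂ with hN
  have hfN : f ∈ lat k F (-(N : ℤ)) := lat_anti (by simp [hN]) hN₁
  have hgN : g ∈ lat k F (-(N : ℤ)) := lat_anti (by simp [hN]) hN₂
  have hf := eq_polar_add_truncL hfN
  have hg := eq_polar_add_truncL hgN
  set fp := truncL k F 0 f with hfp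
  set gp := truncL k F 0 g with hgp
  have hfp0 : fp ∈ lat k F 0 := (isProj_truncL 0).map_mem f
  have hgp0 : gp ∈ lat k F 0 := (isProj_truncL 0).map_mem g
  -- the cross terms
  have hcross : ∀ (q h : F⸨X⸩), h ∈ lat k F 0 →
      tate (isProj_truncL (k := k) (F := F) m) (mulL k (polar N q)) (mulL k h) =
        rho k (polar N q) h := by
    intro q h hh
    unfold polar
    rw [tate_lat_sum_left, rho_sum_left]
    refine Finset.sum_congr rfl fun i _ => ?_
    rw [tate_single_lat m i _ h hh, rho_single_lat]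
  rw [hf, hg, tate_lat_add_left, tate_lat_add_right, tate_lat_add_right, rho_add_left,
    rho_add_right, rho_add_right, tate_lat_polar m (isPolar_polar N f) (isPolar_polar N g),
    rho_polar (isPolar_polar N f) (isPolar_polar N g), tate_lat_zero m hfp0 hgp0,
    rho_lat_zero hfp0 hgp0, hcross f gp hgp0, tate_lat_antisymm m (polar N g) fp,
    hcross g fp hfp0, rho_antisymm (polar N g) fp]

end Groth.Agent.H86.Tate
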