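import Mathlib
import Groth.Agent.H86.TT7

/-!
# The local Tate symbol of a valued field with an expansion is the local residue
-/

set_option autoImplicit false
set_option linter.style.haveILetI false

namespace Groth.Agent.H86.Tate

open Module HahnSeries LaurentSeries

variable {k : Type*} [Field k] {F : Type*} [Field F] [Algebra k F]
variable {K : Type*} [Field K] [Algebra k K]

/-- an expansion as a `k`-linear map (for the coefficientwise scalar action) -/
noncomputable def expL (Φ : K →ₐ[k] F⸨X⸩) : K →ₗ[k] F⸨X⸩ where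
  toFun := Φ
  map_add' := map_add Φ
  map_smul' c x := by
    simp only [RingHom.id_apply]
    rw [Algebra.smul_def, map_mul, LocRes.map_algebraMap, smul_eq_C_mul]

@[simp] theorem expL_apply (Φ : K →ₐ[k] F⸨X⸩) (x : K) : expL Φ x = Φ x := rfl

theorem expL_injective (Φ : K →ₐ[k] F⸨X⸩) : Function.Injective (expL Φ) :=
  Φ.toRingHom.injective

/-- the ball `{x | w x ≤ exp (-m)}` as a `k`-subspace -/
def ball (w : Valuation K (WithZero (Multiplicative ℤ))) (hw : ∀ c : k, w (algebraMap k K c) ≤ 1)
    (m : ℤ) : Submodule k K where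
  carrier := {x | w x ≤ WithZero.exp (-m)}
  add_mem' {a b} ha hb := (w.map_add a b).trans (max_le ha hb)
  zero_mem' := by simp
  smul_mem' c x hx := by
    change w (c • x) ≤ _
    rw [Algebra.smul_def, map_mul]
    exact (mul_le_mul' (hw c) hx).trans_eq (one_mul _)

theorem mem_ball {w : Valuation K (WithZero (Multiplicative ℤ))}
    {hw : ∀ c : k, w (algebraMap k K c) ≤ 1} {m : ℤ} {x : K} :
    x ∈ ball w hw m ↔ w x ≤ WithZero.exp (-m) := Iff.rfl

section

variable {w : Valuation K (WithZero (Multiplicative ℤ))} (hw : ∀ c : k, w (algebraMap k K c) ≤ 1)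
  {Φ : K →ₐ[k] F⸨X⸩} (hΦ : LocRes.IsExpansionAt w Φ)

include hΦ in
theorem expL_mem_lat_iff (m : ℤ) (x : K) : expL Φ x ∈ lat k F m ↔ w x ≤ WithZero.exp (-m) := by
  rw [mem_lat, expL_apply, ← valuation_le_iff_coeff_lt_eq_zero, hΦ.1]

include hΦ in
theorem ball_eq_comap (m : ℤ) : ball w hw m = (lat k F m).comap (expL Φ) := by
  ext x
  rw [Submodule.mem_comap, expL_mem_lat_iff hΦ, mem_ball]

theorem coeff_mul_lowest {f g : F⸨X⸩} {a b : ℤ} (hf : ∀ n < a, f.coeff n = 0)
    (hg : ∀ n < b, g.coeff n = 0) : (f * g).coeff (a + b) = f.coeff a * g.coeff b := by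
  classical
  rw [HahnSeries.coeff_mul]
  by_cases h0 : f.coeff a = 0 ∨ g.coeff b = 0
  · have : f.coeff a * g.coeff b = 0 := by
      rcases h0 with h | h
      · rw [h, zero_mul]
      · rw [h, mul_zero]
    rw [this]
    apply Finset.sum_eq_zero
    intro ij hij
    rw [Finset.mem_addAntidiagonal] at hij
    obtain ⟨hi, hj, hsum⟩ := hij
    have h1 : a ≤ ij.1 := by
      by_contra hlt
      exact hi (hf _ (by omega))
    have h2 : b ≤ ij.2 := by
      by_contra hlt
      exact hj (hg _ (by omega))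
    have e1 : ij.1 = a := by omega
    have e2 : ij.2 = b := by omega
    rw [e1, e2]
    exact this
  · push Not at h0
    have hmem : (a, b) ∈ Finset.antidiagonal f.isPWO_support g.isPWO_support (a + b) := by
      rw [Finset.mem_addAntidiagonal]
      exact ⟨h0.1, h0.2, rfl⟩
    rw [Finset.sum_eq_single_of_mem _ hmem]
    intro ij hij hne
    rw [Finset.mem_addAntidiagonal] at hij
    obtain ⟨hi, hj, hsum⟩ := hij
    exfalso
    have h1 : a ≤ ij.1 := by
      by_contra hlt
      exact hi (hf _ (by omega))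
    have h2 : b ≤ ij.2 := by
      by_contra hlt
      exact hj (hg _ (by omega))
    apply hne
    ext
    · simp only
      omega
    · simp only
      omega

include hΦ in
/-- an element of `K` with prescribed lowest term -/
theorem exists_lowest (n : ℤ) (a : F) :
    ∃ y : K, expL Φ y ∈ lat k F n ∧ (expL Φ y).coeff n = a := by
  obtain ⟨t, ht⟩ := hΦ.2.2
  have ht0 : t ≠ 0 := by
    rintro rfl
    rw [map_zero] at ht
    exact WithZero.exp_ne_zero ht.symm
  have hv : w (t ^ n) = WithZero.exp (-n) := by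
    rw [map_zpow₀, ht, ← WithZero.exp_zsmul]
    congr 1
    simp
  have hlat : expL Φ (t ^ n) ∈ lat k F n := (expL_mem_lat_iff hΦ n _).mpr hv.le
  have hb : (expL Φ (t ^ n)).coeff n ≠ 0 := by
    intro h0
    have : expL Φ (t ^ n) ∈ lat k F (n + 1) := by
      intro n' hn'
      rcases lt_or_eq_of_le (show n' ≤ n by omega) with h | h
      · exact hlat n' h
      · rw [h]; exact h0
    rw [expL_mem_lat_iff hΦ, hv, WithZero.exp_le_exp] at this
    omega
  obtain ⟨z, hz1, hz⟩ := hΦ.2.1 (a / (expL Φ (t ^ n)).coeff n)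
  refine ⟨z * t ^ n, ?_, ?_⟩
  · rw [expL_mem_lat_iff hΦ, map_mul, hv]
    exact (mul_le_mul' hz1 le_rfl).trans_eq (one_mul _)
  · have hz0 : expL Φ z ∈ lat k F 0 := by
      rw [expL_mem_lat_iff hΦ]
      simpa using hz1
    have e : expL Φ (z * t ^ n) = expL Φ z * expL Φ (t ^ n) := by
      simp only [expL_apply, map_mul]
    rw [e]
    have := coeff_mul_lowest hz0 hlat
    rw [zero_add] at this
    rw [this, expL_apply, hz, div_mul_cancel₀ _ hb]

include hΦ in
/-- density: every Laurent series is congruent to an element of `K` modulo the lattice -/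
theorem range_expL_sup_lat (m : ℤ) : LinearMap.range (expL Φ) ⊔ lat k F m = ⊤ := by
  rw [eq_top_iff]
  intro h _
  have key : ∀ N : ℕ, ∀ h : F⸨X⸩, h ∈ lat k F (m - N) →
      ∃ x : K, h - expL Φ x ∈ lat k F m := by
    intro N
    induction N with
    | zero =>
      intro h hh
      refine ⟨0, ?_⟩
      rw [map_zero, sub_zero]
      simpa using hh
    | succ N ih =>
      intro h hh
      obtain ⟨y, hy1, hy2⟩ := exists_lowest hΦ (m - (N + 1 : ℕ)) (h.coeff (m - (N + 1 : ℕ)))
      have h1 : h - expL Φ y ∈ lat k F (m - N) := by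
        intro n hn
        rw [HahnSeries.coeff_sub]
        rcases lt_or_eq_of_le (show n ≤ m - (N + 1 : ℕ) by push_cast; omega) with hlt | heq
        · rw [hh n hlt, hy1 n hlt, sub_zero]
        · rw [heq, hy2, sub_self]
      obtain ⟨x', hx'⟩ := ih _ h1
      refine ⟨y + x', ?_⟩
      rw [map_add]
      have : h - (expL Φ y + expL Φ x') = h - expL Φ y - expL Φ x' := by abel
      rw [this]
      exact hx'
  obtain ⟨N, hN⟩ := exists_mem_lat (k := k) h
  have hle : m ≤ |m| := le_abs_self m
  have hh : h ∈ lat k F (m - ((N + m.natAbs : ℕ) : ℤ)) := lat_anti (by push_cast; omega) hN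
  obtain ⟨x, hx⟩ := key _ h hh
  rw [Submodule.mem_sup]
  exact ⟨expL Φ x, ⟨x, rfl⟩, h - expL Φ x, hx, by abel⟩

end

end Groth.Agent.H86.Tate
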