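import Mathlib
import Groth.Agent.H86.TT8

/-!
# Local Tate symbol of a valued field = local residue read through an expansion
-/

set_option autoImplicit false
set_option linter.style.haveILetI false

namespace Groth.Agent.H86.Tate

open Module HahnSeries LaurentSeries

variable {k : Type*} [Field k] {F : Type*} [Field F] [Algebra k F] [FiniteDimensional k F]
variable {K : Type*} [Field K] [Algebra k K]

theorem tate_ball_eq_locRes {w : Valuation K (WithZero (Multiplicative ℤ))}
    (hw : ∀ c : k, w (algebraMap k K c) ≤ 1) {Φ : K →ₐ[k] F⸨X⸩}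
    (hΦ : LocRes.IsExpansionAt w Φ) (m : ℤ) {π : K →ₗ[k] K}
    (hπ : LinearMap.IsProj (ball w hw m) π) (u v : K) :
    tate hπ (LinearMap.mulLeft k u) (LinearMap.mulLeft k v) = LocRes.locRes Φ u v := by
  set C : Submodule k K := LinearMap.ker π with hC
  have hcompl : IsCompl (ball w hw m) C := hπ.isCompl
  set C' : Submodule k F⸨X⸩ := C.map (expL Φ) with hC'
  have hcompl' : IsCompl (lat k F m) C' := by
    constructor
    · rw [Submodule.disjoint_def]
      rintro _ hx ⟨c, hc, rfl⟩
      have hcb : c ∈ ball w hw m := by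
        rw [ball_eq_comap hw hΦ m]
        exact hx
      have : c = 0 := (Submodule.disjoint_def.mp hcompl.disjoint) c hcb hc
      rw [this, map_zero]
    · rw [codisjoint_iff, eq_top_iff]
      intro h _
      have hmem : h ∈ LinearMap.range (expL Φ) ⊔ lat k F m := by
        rw [range_expL_sup_lat hΦ m]
        trivial
      obtain ⟨_, ⟨x, rfl⟩, l, hl, rfl⟩ := Submodule.mem_sup.mp hmem
      have hx : x ∈ ball w hw m ⊔ C := by
        rw [hcompl.sup_eq_top]
        trivial
      obtain ⟨b, hb, c, hc, rfl⟩ := Submodule.mem_sup.mp hx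
      rw [map_add]
      have hbl : expL Φ b ∈ lat k F m := by
        rw [ball_eq_comap hw hΦ m] at hb
        exact hb
      have e : expL Φ b + expL Φ c + l = (expL Φ b + l) + expL Φ c := by abel
      rw [e]
      exact Submodule.add_mem_sup (Submodule.add_mem _ hbl hl) ⟨c, hc, rfl⟩
  set π'' : F⸨X⸩ →ₗ[k] F⸨X⸩ := (lat k F m).projection C' hcompl' with hπ''def
  have hπ'' : LinearMap.IsProj (lat k F m) π'' :=
    ⟨fun x => Submodule.projection_apply_mem hcompl' x, fun x hx => by
      rw [hπ''def, Submodule.projection_apply,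
        Submodule.projectionOnto_apply_of_mem_left hcompl' hx]⟩
  have hππ : π'' ∘ₗ expL Φ = expL Φ ∘ₗ π := by
    ext x : 1
    simp only [LinearMap.comp_apply]
    have hx : x = π x + (x - π x) := by abel
    have h1 : expL Φ (π x) ∈ lat k F m := by
      have := hπ.map_mem x
      rw [ball_eq_comap hw hΦ m] at this
      exact this
    have h2 : expL Φ (x - π x) ∈ C' := by
      refine ⟨x - π x, ?_, rfl⟩
      change x - π x ∈ LinearMap.ker π
      rw [LinearMap.mem_ker, map_sub, hπ.map_id _ (hπ.map_mem x), sub_self]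
    conv_lhs => rw [hx, map_add, map_add]
    rw [hπ''.map_id _ h1, (Submodule.projection_apply_eq_zero_iff hcompl').mpr h2, add_zero]
  have hfu : ∀ z : K, mulL k (Φ z) ∘ₗ expL Φ = expL Φ ∘ₗ LinearMap.mulLeft k z := by
    intro z
    ext x : 1
    simp only [LinearMap.comp_apply, mulL_apply, expL_apply, LinearMap.mulLeft_apply, map_mul]
  have h1 := tate_eq_of_injective hπ hπ'' (expL Φ) (expL_injective Φ) (ball_eq_comap hw hΦ m)
    (range_expL_sup_lat hΦ m) hππ (hfu u) (hfu v) (mulL_comm (Φ u) (Φ v))
    (nearStable_lat m (Φ u)) (nearStable_lat m (Φ v))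
  rw [← h1, tate_indep (isProj_truncL (k := k) (F := F) m) hπ'' (mulL_comm (Φ u) (Φ v))
    (nearStable_lat m (Φ u)) (nearStable_lat m (Φ v)), tate_lat_eq_rho]
  rfl

end Groth.Agent.H86.Tate
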