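import Mathlib
import Groth.Agent.H86.TT9
import Groth.Agent.H55.FFRiemannRoch

/-!
# Adelic set-up for the residue theorem
-/

set_option autoImplicit false
set_option linter.style.haveILetI false

namespace Groth.Agent.H86.Tate

open Module FunFld Groth.Agent.H55

section linalg

variable {k : Type*} [Field k] {W : Type*} [AddCommGroup W] [Module k W]

/-- if `B / (A ∩ B)` is finite-dimensional then `B ≤ A ⊔ F` for a finite-dimensional `F` -/
theorem exists_fd_le_sup (A B : Submodule k W) (h : Module.Finite k (B ⧸ A.comap B.subtype)) :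
    ∃ F' : Submodule k W, FiniteDimensional k F' ∧ F' ≤ B ∧ B ≤ A ⊔ F' := by
  classical
  obtain ⟨S, hS⟩ := (Module.finite_def.mp h)
  have hlift : ∀ q : B ⧸ A.comap B.subtype, ∃ b : B, Submodule.Quotient.mk b = q :=
    fun q => Submodule.Quotient.mk_surjective _ q
  choose lift hliftq using hlift
  set FB : Submodule k B := Submodule.span k ((S.image lift : Finset B) : Set B) with hFB
  haveI : FiniteDimensional k FB := FiniteDimensional.span_finset k _
  have hmap : FB.map (A.comap B.subtype).mkQ = ⊤ := by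
    rw [hFB, Submodule.map_span, ← hS]
    congr 1
    ext q
    simp only [Finset.coe_image, Set.mem_image, Finset.mem_coe, Submodule.mkQ_apply]
    constructor
    · rintro ⟨_, ⟨q', hq', rfl⟩, rfl⟩
      rw [hliftq q']
      exact hq'
    · intro hq
      exact ⟨lift q, ⟨q, hq, rfl⟩, hliftq q⟩
  refine ⟨FB.map B.subtype, inferInstance, ?_, ?_⟩
  · rintro _ ⟨x, _, rfl⟩
    exact x.2
  · intro b hb
    have hb' : (A.comap B.subtype).mkQ ⟨b, hb⟩ ∈ FB.map (A.comap B.subtype).mkQ := by
      rw [hmap]
      trivial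
    obtain ⟨x, hx, hxb⟩ := hb'
    have hsub : (⟨b, hb⟩ : B) - x ∈ A.comap B.subtype := by
      rw [← Submodule.Quotient.mk_eq_zero, Submodule.Quotient.mk_sub]
      change (A.comap B.subtype).mkQ ⟨b, hb⟩ - (A.comap B.subtype).mkQ x = 0
      rw [hxb, sub_self]
    have hsub' : b - (x : W) ∈ A := hsub
    have e : b = (b - (x : W)) + (x : W) := by abel
    rw [e]
    exact Submodule.add_mem_sup hsub' ⟨x, hx, rfl⟩

end linalg

variable {k K : Type*} [Field k] [Field K] [Algebra k K]

/-- multiplication by `u` on the adele space -/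
noncomputable def mulA (hK : IsFunctionField k K) (u : K) : adele k K →ₗ[k] adele k K :=
  LinearMap.restrict (u • (LinearMap.id : (Place k K → K) →ₗ[k] (Place k K → K)))
    (fun a ha => smul_mem_adele hK u ha)

theorem mulA_apply (hK : IsFunctionField k K) (u : K) (a : adele k K) (P : Place k K) :
    (mulA hK u a : Place k K → K) P = u * (a : Place k K → K) P := rfl

theorem mulA_comm (hK : IsFunctionField k K) (u v : K) :
    mulA hK u ∘ₗ mulA hK v = mulA hK v ∘ₗ mulA hK u := by
  ext a P
  simp only [LinearMap.comp_apply, mulA_apply]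
  ring

variable (k K) in
/-- the diagonal embedding into the adele space -/
noncomputable def diagV (hK : IsFunctionField k K) : K →ₗ[k] adele k K :=
  (diag k K).codRestrict (adele k K) (diag_mem_adele hK)

theorem diagV_apply (hK : IsFunctionField k K) (x : K) (P : Place k K) :
    (diagV k K hK x : Place k K → K) P = x := rfl

/-- the adeles bounded by `D`, inside the adele space -/
def AV (D : Divisor k K) : Submodule k (adele k K) := (AD D).comap (adele k K).subtype

theorem mem_AV {D : Divisor k K} {a : adele k K} :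
    a ∈ AV D ↔ ∀ P : Place k K, P.1 ((a : Place k K → K) P) ≤ WithZero.exp (D P) := Iff.rfl

theorem AV_mono {D D' : Divisor k K} (h : D ≤ D') : AV D ≤ AV D' := by
  intro a ha P
  exact (ha P).trans (WithZero.exp_le_exp.mpr (h P))

/-- `A(D) ⊔ K = ADK D` inside the adele space -/
theorem AV_sup_range_diagV (hK : IsFunctionField k K) (D : Divisor k K) :
    AV D ⊔ LinearMap.range (diagV k K hK) = ADK D := by
  apply le_antisymm
  · apply sup_le
    · intro a ha
      exact Submodule.mem_sup_left ha
    · rintro _ ⟨x, rfl⟩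
      exact Submodule.mem_sup_right ⟨x, rfl⟩
  · intro a ha
    obtain ⟨a₁, ha₁, _, ⟨x, rfl⟩, hsum⟩ := Submodule.mem_sup.mp ha
    have e : a = ⟨a₁, AD_le_adele D ha₁⟩ + diagV k K hK x := Subtype.ext hsum.symm
    rw [e]
    exact Submodule.add_mem_sup ha₁ ⟨x, rfl⟩

theorem disjoint_AV_range_diagV (hK : IsFunctionField k K) {D : Divisor k K} (hD : D.deg < 0) :
    Disjoint (AV D) (LinearMap.range (diagV k K hK)) := by
  rw [Submodule.disjoint_def]
  rintro _ ha ⟨x, rfl⟩
  have hx : x ∈ L D := fun P => ha P
  rw [L_eq_bot_of_deg_neg hK D hD, Submodule.mem_bot] at hx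
  rw [hx, map_zero]

/-- the adele space modulo `A(D) + K` is finite-dimensional: a finite-dimensional complement -/
theorem exists_isCompl_AV (hK : IsFunctionField k K) (D : Divisor k K) :
    ∃ C : Submodule k (adele k K), FiniteDimensional k C ∧
      IsCompl (AV D ⊔ LinearMap.range (diagV k K hK)) C := by
  obtain ⟨C, hC⟩ := Submodule.exists_isCompl (AV D ⊔ LinearMap.range (diagV k K hK))
  refine ⟨C, ?_, hC⟩
  have hfin : Module.Finite k (adele k K ⧸ ADK D) := (adele_quot_finrank hK D).1
  rw [← AV_sup_range_diagV hK D] at hfin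
  exact Module.Finite.equiv (Submodule.quotientEquivOfIsCompl _ C hC)

theorem map_mulA_range_diagV (hK : IsFunctionField k K) (u : K) :
    (LinearMap.range (diagV k K hK)).map (mulA hK u) ≤ LinearMap.range (diagV k K hK) := by
  rintro _ ⟨_, ⟨x, rfl⟩, rfl⟩
  exact ⟨u * x, rfl⟩

/-- multiplication by `u` nearly stabilises `A(D)` -/
theorem nearStable_AV (hK : IsFunctionField k K) (D : Divisor k K) (u : K) :
    NearStable (AV D) (mulA hK u) := by
  classical
  by_cases hu : u = 0
  · apply NearStable.of_map_le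
    rintro _ ⟨a, _, rfl⟩ P
    change P.1 ((mulA hK u a : Place k K → K) P) ≤ _
    rw [hu, mulA_apply, zero_mul, map_zero]
    exact zero_le
  set D' : Divisor k K := D ⊔ (D - div k u) with hD'
  have hDD' : D ≤ D' := le_sup_left
  obtain ⟨F', hF', hF'le, hle⟩ := exists_fd_le_sup (AD D) (AD D') (AD_quot_finrank hK hDD').1
  haveI := hF'
  have hF'ad : F' ≤ adele k K := hF'le.trans (AD_le_adele D')
  refine ⟨F'.comap (adele k K).subtype, ?_, ?_⟩
  · exact LinearEquiv.finiteDimensional (Submodule.comapSubtypeEquivOfLe hF'ad).symm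
  · rintro _ ⟨a, ha, rfl⟩
    have h1 : ((mulA hK u a : adele k K) : Place k K → K) ∈ AD D' := by
      intro P
      rw [mulA_apply, map_mul, hD', Finsupp.sup_apply]
      refine le_trans ?_ (WithZero.exp_le_exp.mpr le_sup_right)
      rw [Finsupp.sub_apply, Place.div_apply hK, sub_eq_add_neg, add_comm, WithZero.exp_add,
        ← Place.val_eq_exp_neg_ord P hu]
      exact mul_le_mul' le_rfl (ha P)
    obtain ⟨a₁, ha₁, x, hx, hsum⟩ := Submodule.mem_sup.mp (hle h1)
    have e : mulA hK u a = ⟨a₁, AD_le_adele D ha₁⟩ + ⟨x, hF'ad hx⟩ := Subtype.ext hsum.symm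
    rw [e]
    exact Submodule.add_mem_sup (show (⟨a₁, AD_le_adele D ha₁⟩ : adele k K) ∈ AV D from ha₁)
      (show (⟨x, hF'ad hx⟩ : adele k K) ∈ F'.comap (adele k K).subtype from hx)

end Groth.Agent.H86.Tate
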