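import Mathlib
import Groth.Agent.H86.TT10

/-!
# Decomposition of the adelic Tate symbol into local symbols
-/

set_option autoImplicit false
set_option linter.style.haveILetI false

namespace Groth.Agent.H86.Tate

open Module FunFld Groth.Agent.H55

variable {k K : Type*} [Field k] [Field K] [Algebra k K]

theorem trF_conj_retract {V W : Type*} [AddCommGroup V] [Module k V] [AddCommGroup W] [Module k W]
    (i : W →ₗ[k] V) (r : V →ₗ[k] W) (hri : r ∘ₗ i = LinearMap.id) (T : W →ₗ[k] W)
    (hT : FinRank T) : trF (i ∘ₗ T ∘ₗ r) = trF T := by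
  have hfr : FinRank (i ∘ₗ T) := hT.comp_left i
  have h1 : i ∘ₗ T ∘ₗ r = (i ∘ₗ T) ∘ₗ r := rfl
  have h2 : r ∘ₗ (i ∘ₗ T) = T := by
    rw [← LinearMap.comp_assoc, hri, LinearMap.id_comp]
  rw [h1, trF_comp_comm (i ∘ₗ T) r hfr, h2]

/-- the ball of a place, as in `TT8` -/
abbrev ballP (P : Place k K) (m : ℤ) : Submodule k K := ball P.1 P.2.1 m

theorem ballP_eq (P : Place k K) (m : ℤ) : ballP P m = Place.ball P m := rfl

theorem map_mulLeft_ballP_le (P : Place k K) (m : ℤ) {u : K} (hu : P.1 u ≤ 1) :
    (ballP P m).map (LinearMap.mulLeft k u) ≤ ballP P m := by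
  rintro _ ⟨x, hx, rfl⟩
  change P.1 (u * x) ≤ _
  rw [map_mul]
  exact (mul_le_mul' hu hx).trans_eq (one_mul _)

theorem nearStable_ballP (hK : IsFunctionField k K) (P : Place k K) (m : ℤ) (u : K) :
    NearStable (ballP P m) (LinearMap.mulLeft k u) := by
  by_cases hu : u = 0
  · apply NearStable.of_map_le
    apply map_mulLeft_ballP_le
    rw [hu, map_zero]
    exact zero_le_one
  set m' : ℤ := min m (m + P.ord u) with hm'
  have hle : m' ≤ m := min_le_left _ _
  have hfin : Module.Finite k ((Place.ball P m') ⧸ (Place.ball P m).comap (Place.ball P m').subtype) :=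
    (Place.LocQ.finrank hK P hle).1
  obtain ⟨F', hF', -, hsup⟩ := exists_fd_le_sup (Place.ball P m) (Place.ball P m') hfin
  refine ⟨F', hF', ?_⟩
  rintro _ ⟨x, hx, rfl⟩
  apply hsup
  change P.1 (u * x) ≤ WithZero.exp (-m')
  rw [map_mul, Place.val_eq_exp_neg_ord P hu]
  have hx' : P.1 x ≤ WithZero.exp (-m) := hx
  refine (mul_le_mul' le_rfl hx').trans ?_
  rw [← WithZero.exp_add, WithZero.exp_le_exp]
  have : m' ≤ m + P.ord u := min_le_right _ _
  omega

section proj

variable (D : Divisor k K) (πs : Place k K → (K →ₗ[k] K))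
  (hπs : ∀ P : Place k K, LinearMap.IsProj (ballP P (-(D P))) (πs P))

include hπs in
theorem piV_mem (a : adele k K) :
    (fun P => πs P ((a : Place k K → K) P)) ∈ adele k K := by
  classical
  rw [mem_adele]
  have ha := mem_adele.mp a.2
  apply (D.support.finite_toSet.union ha).subset
  intro P hP
  rw [Set.mem_ofPred_eq] at hP
  by_contra hcon
  rw [Set.mem_union, not_or] at hcon
  obtain ⟨h1, h2⟩ := hcon
  have hD0 : D P = 0 := by
    by_contra hne
    exact h1 (Finsupp.mem_support_iff.mpr hne)
  have h2' : P.1 ((a : Place k K → K) P) ≤ 1 := not_lt.mp h2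
  have hmem : (a : Place k K → K) P ∈ ballP P (-(D P)) := by
    change P.1 _ ≤ WithZero.exp (- -(D P))
    rw [hD0, neg_zero, neg_zero, WithZero.exp_zero]
    exact h2'
  rw [(hπs P).map_id _ hmem] at hP
  exact absurd h2' (not_le.mpr hP)

/-- the componentwise projection onto `A(D)` -/
noncomputable def piV : adele k K →ₗ[k] adele k K where
  toFun a := ⟨fun P => πs P ((a : Place k K → K) P), piV_mem D πs hπs a⟩
  map_add' a b := by
    apply Subtype.ext
    funext P
    simp
  map_smul' c a := by
    apply Subtype.ext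
    funext P
    simp

theorem piV_apply (a : adele k K) (P : Place k K) :
    (piV D πs hπs a : Place k K → K) P = πs P ((a : Place k K → K) P) := rfl

theorem isProj_piV : LinearMap.IsProj (AV D) (piV D πs hπs) := by
  constructor
  · intro a P
    have := (hπs P).map_mem ((a : Place k K → K) P)
    change P.1 _ ≤ WithZero.exp (- -(D P)) at this
    rwa [neg_neg] at this
  · intro a ha
    apply Subtype.ext
    funext P
    rw [piV_apply]
    apply (hπs P).map_id
    change P.1 _ ≤ WithZero.exp (- -(D P))
    rw [neg_neg]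
    exact ha P

/-- evaluation at a place -/
noncomputable def evP (P : Place k K) : AV D →ₗ[k] ballP P (-(D P)) where
  toFun a := ⟨((a : adele k K) : Place k K → K) P, by
    change P.1 _ ≤ WithZero.exp (- -(D P))
    rw [neg_neg]
    exact a.2 P⟩
  map_add' a b := rfl
  map_smul' c a := rfl

open Classical in
/-- the function on places concentrated at one place -/
noncomputable def sgl (P : Place k K) (x : K) : Place k K → K := fun Q => if Q = P then x else 0

theorem sgl_mem_adele (P : Place k K) (x : K) : sgl P x ∈ adele k K := by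
  classical
  rw [mem_adele]
  apply (Set.finite_singleton P).subset
  intro Q hQ
  rw [Set.mem_ofPred_eq] at hQ
  by_contra hne
  rw [Set.mem_singleton_iff] at hne
  unfold sgl at hQ
  rw [if_neg hne, map_zero] at hQ
  exact absurd zero_lt_one (not_lt.mpr hQ.le)

/-- the adele concentrated at one place -/
noncomputable def inP (P : Place k K) : ballP P (-(D P)) →ₗ[k] AV D where
  toFun x := ⟨⟨sgl P (x : K), sgl_mem_adele P x⟩, by
    classical
    intro Q
    change Q.1 (sgl P (x : K) Q) ≤ _
    unfold sgl
    by_cases hQ : Q = P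
    · subst hQ
      rw [if_pos rfl]
      have := x.2
      change Q.1 _ ≤ WithZero.exp (- -(D Q)) at this
      rwa [neg_neg] at this
    · rw [if_neg hQ, map_zero]
      exact zero_le⟩
  map_add' x y := by
    classical
    apply Subtype.ext
    apply Subtype.ext
    funext Q
    change sgl P ((x : K) + (y : K)) Q = sgl P (x : K) Q + sgl P (y : K) Q
    unfold sgl
    split_ifs <;> simp
  map_smul' c x := by
    classical
    apply Subtype.ext
    apply Subtype.ext
    funext Q
    change sgl P (c • (x : K)) Q = c • sgl P (x : K) Q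
    unfold sgl
    split_ifs <;> simp

open Classical in
theorem inP_apply (P : Place k K) (x : ballP P (-(D P))) (Q : Place k K) :
    (((inP D P x : AV D) : adele k K) : Place k K → K) Q = if Q = P then (x : K) else 0 := by
  change sgl P (x : K) Q = _
  unfold sgl
  congr

theorem evP_inP (P : Place k K) : evP D P ∘ₗ inP D P = LinearMap.id := by
  classical
  ext x
  change (((inP D P x : AV D) : adele k K) : Place k K → K) P = x
  rw [inP_apply, if_pos rfl]

variable (hK : IsFunctionField k K) (u v : K)

theorem tcomm_component (a : AV D) (P : Place k K) :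
    (((tcomm (isProj_piV D πs hπs) (mulA hK u) (mulA hK v) a : AV D) : adele k K) :
      Place k K → K) P =
    ((tcomm (hπs P) (LinearMap.mulLeft k u) (LinearMap.mulLeft k v) (evP D P a) :
      ballP P (-(D P))) : K) := rfl

/-- the adelic commutator is the sum of the local commutators -/
theorem tcomm_eq_sum (S : Finset (Place k K))
    (hS : ∀ P ∉ S, tcomm (hπs P) (LinearMap.mulLeft k u) (LinearMap.mulLeft k v) = 0) :
    tcomm (isProj_piV D πs hπs) (mulA hK u) (mulA hK v) =
      ∑ P ∈ S, inP D P ∘ₗ tcomm (hπs P) (LinearMap.mulLeft k u) (LinearMap.mulLeft k v) ∘ₗ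
        evP D P := by
  classical
  ext a Q
  rw [tcomm_component, LinearMap.sum_apply]
  have hcoe : ((((∑ P ∈ S, (inP D P ∘ₗ
      tcomm (hπs P) (LinearMap.mulLeft k u) (LinearMap.mulLeft k v) ∘ₗ evP D P) a : AV D)) :
      adele k K) : Place k K → K) Q =
      ∑ P ∈ S, ((((inP D P ∘ₗ tcomm (hπs P) (LinearMap.mulLeft k u) (LinearMap.mulLeft k v) ∘ₗ
        evP D P) a : AV D) : adele k K) : Place k K → K) Q := by
    rw [Submodule.coe_sum, Submodule.coe_sum, Finset.sum_apply]
  rw [hcoe]
  simp only [LinearMap.comp_apply, inP_apply]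
  rw [Finset.sum_ite_eq]
  split_ifs with hQ
  · rfl
  · rw [hS Q hQ]
    rfl

/-- the adelic Tate symbol is the sum of the local ones -/
theorem tate_eq_sum (S : Finset (Place k K))
    (hS : ∀ P ∉ S, tcomm (hπs P) (LinearMap.mulLeft k u) (LinearMap.mulLeft k v) = 0) :
    tate (isProj_piV D πs hπs) (mulA hK u) (mulA hK v) =
      ∑ P ∈ S, tate (hπs P) (LinearMap.mulLeft k u) (LinearMap.mulLeft k v) := by
  have hfin : ∀ P : Place k K,
      FinRank (tcomm (hπs P) (LinearMap.mulLeft k u) (LinearMap.mulLeft k v)) := fun P =>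
    finRank_tcomm (hπs P) (by ext x; simp [mul_left_comm]) (nearStable_ballP hK P _ u)
      (nearStable_ballP hK P _ v)
  unfold tate
  rw [tcomm_eq_sum D πs hπs hK u v S hS,
    trF_sum _ _ fun P _ => ((hfin P).comp_right _).comp_left _]
  refine Finset.sum_congr rfl fun P _ => ?_
  exact @trF_conj_retract k _ (AV D) (ballP P (-(D P))) _ _ _ _ (inP D P) (evP D P) (evP_inP D P)
    (tcomm (hπs P) (LinearMap.mulLeft k u) (LinearMap.mulLeft k v)) (hfin P)

end proj

end Groth.Agent.H86.Tate
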