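import Mathlib
import Groth.Agent.H86.TT11

/-!
# The residue theorem (Tate's proof)
-/

set_option autoImplicit false
set_option linter.style.haveILetI false

namespace Groth.Agent.H86.Tate

open Module FunFld Groth.Agent.H55

universe u v w

variable {k : Type u} {K : Type v} [Field k] [Field K] [Algebra k K]

theorem mulLeft_comm (u v : K) :
    LinearMap.mulLeft k u ∘ₗ LinearMap.mulLeft k v = LinearMap.mulLeft k v ∘ₗ LinearMap.mulLeft k u := by
  ext x
  simp [mul_left_comm]

/-- a projection onto any submodule -/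
theorem exists_isProj {V : Type*} [AddCommGroup V] [Module k V] (A : Submodule k V) :
    ∃ π : V →ₗ[k] V, LinearMap.IsProj A π := by
  obtain ⟨C, hC⟩ := Submodule.exists_isCompl A
  refine ⟨A.projection C hC, fun x => Submodule.projection_apply_mem hC x, fun x hx => ?_⟩
  rw [Submodule.projection_apply, Submodule.projectionOnto_apply_of_mem_left hC hx]

section

variable (hK : IsFunctionField k K)
  (F : Place k K → Type w) [∀ P, Field (F P)] [∀ P, Algebra k (F P)]
  [∀ P, FiniteDimensional k (F P)]
  (φ : ∀ P, K →ₐ[k] LaurentSeries (F P)) (hφ : ∀ P, LocRes.IsExpansionAt P.1 (φ P))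

include hK hφ in
/-- the local residue vanishes where both functions are integral -/
theorem locRes_eq_zero_of_le_one (P : Place k K) {u v : K} (hu : P.1 u ≤ 1) (hv : P.1 v ≤ 1) :
    LocRes.locRes (φ P) u v = 0 := by
  obtain ⟨π, hπ⟩ := exists_isProj (ballP P 0)
  rw [← tate_ball_eq_locRes P.2.1 (hφ P) 0 hπ u v]
  unfold tate
  rw [tcomm_eq_zero_of_stable hπ (mulLeft_comm u v) (map_mulLeft_ballP_le P 0 hu)
    (map_mulLeft_ballP_le P 0 hv), trF_zero]

include hK in
theorem finite_poles' (x : K) : {P : Place k K | 1 < P.1 x}.Finite := by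
  by_cases hx : x = 0
  · convert Set.finite_empty
    ext P
    simp [hx]
  · exact Place.finite_poles hK hx

include hK hφ in
theorem support_locRes_subset (u v : K) :
    (Function.support fun P => LocRes.locRes (φ P) u v) ⊆
      {P : Place k K | 1 < P.1 u} ∪ {P : Place k K | 1 < P.1 v} := by
  intro P hP
  by_contra hcon
  rw [Set.mem_union, not_or] at hcon
  exact hP (locRes_eq_zero_of_le_one hK F φ hφ P (not_lt.mp hcon.1) (not_lt.mp hcon.2))

include hK hφ in
theorem support_locRes_finite (u v : K) :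
    (Function.support fun P => LocRes.locRes (φ P) u v).Finite :=
  ((finite_poles' hK u).union (finite_poles' hK v)).subset (support_locRes_subset hK F φ hφ u v)

include hK hφ in
/-- **The residue theorem.** -/
theorem sum_locRes_eq_zero (u v : K) : ∑ᶠ P, LocRes.locRes (φ P) u v = 0 := by
  classical
  obtain ⟨P₀⟩ := exists_place hK
  set D₀ : Divisor k K := Finsupp.single P₀ (-1) with hD₀
  have hdeg : D₀.deg < 0 := by
    rw [hD₀, Divisor.deg_single]
    have := Place.deg_pos hK P₀
    omega
  have hπs : ∀ P : Place k K, ∃ π : K →ₗ[k] K, LinearMap.IsProj (ballP P (-(D₀ P))) π :=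
    fun P => exists_isProj _
  choose πs hπs using hπs
  obtain ⟨C, hCfd, hC⟩ := exists_isCompl_AV hK D₀
  haveI := hCfd
  have hglob : tate (isProj_piV D₀ πs hπs) (mulA hK u) (mulA hK v) = 0 :=
    tate_eq_zero_of_isCompl (disjoint_AV_range_diagV hK hdeg) hC (isProj_piV D₀ πs hπs)
      (mulA_comm hK u v) (nearStable_AV hK D₀ u) (nearStable_AV hK D₀ v)
      (map_mulA_range_diagV hK u) (map_mulA_range_diagV hK v)
  set S : Finset (Place k K) :=
    insert P₀ (((finite_poles' hK u).union (finite_poles' hK v)).toFinset) with hS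
  have hSmem : ∀ P ∉ S, P ≠ P₀ ∧ P.1 u ≤ 1 ∧ P.1 v ≤ 1 := by
    intro P hP
    rw [hS, Finset.mem_insert, not_or, Set.Finite.mem_toFinset, Set.mem_union, not_or] at hP
    exact ⟨hP.1, not_lt.mp hP.2.1, not_lt.mp hP.2.2⟩
  have hoff : ∀ P ∉ S, tcomm (hπs P) (LinearMap.mulLeft k u) (LinearMap.mulLeft k v) = 0 := by
    intro P hP
    obtain ⟨h0, h1, h2⟩ := hSmem P hP
    exact tcomm_eq_zero_of_stable (hπs P) (mulLeft_comm u v) (map_mulLeft_ballP_le P _ h1)
      (map_mulLeft_ballP_le P _ h2)
  have hsum := tate_eq_sum D₀ πs hπs hK u v S hoff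
  rw [hglob] at hsum
  rw [finsum_eq_sum_of_support_subset (s := S)]
  · rw [hsum]
    refine Finset.sum_congr rfl fun P _ => ?_
    exact (tate_ball_eq_locRes P.2.1 (hφ P) _ (hπs P) u v).symm
  · intro P hP
    by_contra hcon
    obtain ⟨-, h1, h2⟩ := hSmem P hcon
    exact hP (locRes_eq_zero_of_le_one hK F φ hφ P h1 h2)

end

end Groth.Agent.H86.Tate
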