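import Mathlib
import Groth.Agent.H86.HS5
import Groth.Agent.H86.SR1

/-!
# Existence of Laurent expansions at a place (algebraically closed constant field)

Given a Hasse family with respect to a local parameter `t` at `P`, the Taylor expansion
`f ↦ ∑ (D^(i) f)(P) X^i` is an expansion at `P`.
-/

set_option autoImplicit false
set_option linter.unusedSectionVars false

namespace Groth.Agent.H86.FF

open FunFld Module Groth.Agent.H55

variable {k K : Type*} [Field k] [Field K] [Algebra k K] [IsAlgClosed k]

theorem withZero_eq_of_forall_le_iff {a b : WithZero (Multiplicative ℤ)} (ha : a ≤ 1) (hb : b ≤ 1)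
    (h : ∀ m : ℕ, a ≤ WithZero.exp (-(m : ℤ)) ↔ b ≤ WithZero.exp (-(m : ℤ))) : a = b := by
  have key : ∀ {a b : WithZero (Multiplicative ℤ)}, b ≤ 1 →
      (∀ m : ℕ, b ≤ WithZero.exp (-(m : ℤ)) → a ≤ WithZero.exp (-(m : ℤ))) → a ≤ b := by
    intro a b hb h
    by_cases hb0 : b = 0
    · by_contra hcon
      have ha0 : a ≠ 0 := by
        rintro rfl
        exact hcon zero_le
      obtain ⟨z, hz⟩ : ∃ z : ℤ, a = WithZero.exp z := ⟨WithZero.log a, (WithZero.exp_log ha0).symm⟩
      have := h (-z + 1).toNat (by rw [hb0]; exact zero_le)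
      rw [hz, WithZero.exp_le_exp] at this
      omega
    · obtain ⟨z, hz⟩ : ∃ z : ℤ, b = WithZero.exp z := ⟨WithZero.log b, (WithZero.exp_log hb0).symm⟩
      have hz0 : z ≤ 0 := by
        rw [hz, ← WithZero.exp_zero, WithZero.exp_le_exp] at hb
        exact hb
      have e : (((-z).toNat : ℕ) : ℤ) = -z := Int.toNat_of_nonneg (by omega)
      have := h (-z).toNat (by rw [e, neg_neg, hz])
      rwa [e, neg_neg, ← hz] at this
  exact le_antisymm (key hb fun m hm => (h m).mpr hm) (key ha fun m hm => (h m).mp hm)

section taylor

variable (hK : IsFunctionField k K) (P : Place k K) {t : K} {H : K →ₐ[k] PowerSeries K}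
  (hH : LocRes.IsHasseFamily t H) (ht : P.1 t = WithZero.exp (-1 : ℤ))

theorem psMap_subtype_injective :
    Function.Injective (PowerSeries.map (P.O.subtype : P.O →+* K)) := by
  intro f g hfg
  ext i
  have := congrArg (PowerSeries.coeff i) hfg
  rw [PowerSeries.coeff_map, PowerSeries.coeff_map] at this
  exact this

/-- the Taylor coefficients of an integral function, in the valuation ring -/
noncomputable def taylorFun (g : P.O) : PowerSeries P.O :=
  PowerSeries.mk fun i => ⟨LocRes.hasseD H i (g : K),
    (Valuation.mem_valuationSubring_iff P.1 _).mpr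
      (hasse_integral hK P hH ht (g : K) ((Valuation.mem_valuationSubring_iff P.1 _).mp g.2) i)⟩

theorem map_taylorFun (g : P.O) :
    PowerSeries.map (P.O.subtype : P.O →+* K) (taylorFun hK P hH ht g) = H (g : K) := by
  ext i
  rw [PowerSeries.coeff_map]
  unfold taylorFun
  rw [PowerSeries.coeff_mk]
  rfl

/-- Taylor expansion with coefficients in the valuation ring, as a ring homomorphism -/
noncomputable def taylorO : P.O →+* PowerSeries P.O where
  toFun := taylorFun hK P hH ht
  map_one' := by
    apply psMap_subtype_injective P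
    rw [map_taylorFun, map_one]
    change H 1 = 1
    exact map_one H
  map_mul' a b := by
    apply psMap_subtype_injective P
    rw [map_mul, map_taylorFun, map_taylorFun, map_taylorFun]
    change H ((a : K) * (b : K)) = _
    exact map_mul H _ _
  map_zero' := by
    apply psMap_subtype_injective P
    rw [map_taylorFun, map_zero]
    change H 0 = 0
    exact map_zero H
  map_add' a b := by
    apply psMap_subtype_injective P
    rw [map_add, map_taylorFun, map_taylorFun, map_taylorFun]
    change H ((a : K) + (b : K)) = _
    exact map_add H _ _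

/-- Taylor expansion at `P` -/
noncomputable def taylor : P.O →+* PowerSeries k :=
  (PowerSeries.map (ev hK P)).comp (taylorO hK P hH ht)

theorem coeff_taylor (g : P.O) (i : ℕ) :
    PowerSeries.coeff i (taylor hK P hH ht g) = ev hK P ⟨LocRes.hasseD H i (g : K),
      (Valuation.mem_valuationSubring_iff P.1 _).mpr
        (hasse_integral hK P hH ht (g : K) ((Valuation.mem_valuationSubring_iff P.1 _).mp g.2) i)⟩ := by
  unfold taylor
  rw [RingHom.comp_apply, PowerSeries.coeff_map]
  change ev hK P (PowerSeries.coeff i (taylorFun hK P hH ht g)) = _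
  unfold taylorFun
  rw [PowerSeries.coeff_mk]

theorem coeff_taylor_eq_zero_iff (g : P.O) (i : ℕ) :
    PowerSeries.coeff i (taylor hK P hH ht g) = 0 ↔ P.1 (LocRes.hasseD H i (g : K)) < 1 := by
  rw [coeff_taylor, ev_eq_zero_iff]

theorem taylor_algebraMap (c : k) :
    taylor hK P hH ht (algebraMap k P.O c) = PowerSeries.C c := by
  ext i
  rw [coeff_taylor, PowerSeries.coeff_C]
  have hval : ((algebraMap k P.O c : P.O) : K) = algebraMap k K c := rfl
  by_cases hi : i = 0
  · subst hi
    rw [if_pos rfl]
    have : (⟨LocRes.hasseD H 0 ((algebraMap k P.O c : P.O) : K),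
      (Valuation.mem_valuationSubring_iff P.1 _).mpr
        (hasse_integral hK P hH ht _ ((Valuation.mem_valuationSubring_iff P.1 _).mp
          (algebraMap k P.O c).2) 0)⟩ : P.O) = algebraMap k P.O c := by
      apply Subtype.ext
      change LocRes.hasseD H 0 _ = _
      rw [hasseD_zero hH]
    rw [this, ev_algebraMap]
  · rw [if_neg hi]
    rw [ev_eq_zero_iff]
    change P.1 (LocRes.hasseD H i ((algebraMap k P.O c : P.O) : K)) < 1
    rw [hval, hasseD_algebraMap, if_neg hi, map_zero]
    exact zero_lt_one

end taylor

end Groth.Agent.H86.FF
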