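import Mathlib
import Groth.Agent.H86.HS4
import Groth.Agent.H63.OrdDiff

set_option autoImplicit false
set_option linter.unusedSectionVars false

namespace Groth.Agent.H86.FF

open FunFld Module Groth.Agent.H55

variable {k K : Type*} [Field k] [Field K] [Algebra k K] [IsAlgClosed k]

/-- uniform exponential bound for the Hasse derivatives (with respect to any variable) on the
valuation ring of a place -/
theorem hasse_bound_OP (hK : IsFunctionField k K) (P : Place k K) {s : K}
    {H : K →ₐ[k] PowerSeries K} (hH : LocRes.IsHasseFamily s H) (i : ℕ) :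
    ∃ M : ℕ, ∀ g : K, P.1 g ≤ 1 → ∀ l ≤ i,
      P.1 (LocRes.hasseD H l g) ≤ WithZero.exp ((M : ℤ) * l) := by
  classical
  obtain ⟨Q₀, hQ₀⟩ := exists_place_ne hK P
  obtain ⟨S, hsA, hgen⟩ := exists_finset_AP_le_adjoin hK Q₀
  have hex : ∀ p : K × ℕ, ∃ m : ℕ, P.1 (LocRes.hasseD H p.2 p.1) ≤ WithZero.exp (m : ℤ) :=
    fun p => exists_nat_le_exp _
  choose mf hmf using hex
  obtain ⟨M, hM⟩ : ∃ M : ℕ, ∀ p ∈ S ×ˢ Finset.range (i + 1), mf p ≤ M :=
    ⟨(S ×ˢ Finset.range (i + 1)).sup mf, fun p hp => Finset.le_sup hp⟩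
  have hs : ∀ x ∈ (S : Set K), ∀ l ≤ i,
      P.1 (LocRes.hasseD H l x) ≤ WithZero.exp ((M : ℤ) * l) := by
    intro x hx l hl
    rcases Nat.eq_zero_or_pos l with rfl | hlpos
    · rw [hasseD_zero hH, Nat.cast_zero, mul_zero, WithZero.exp_zero]
      exact hsA x hx P (Ne.symm hQ₀)
    · refine (hmf (x, l)).trans ?_
      rw [WithZero.exp_le_exp]
      have h1 := hM (x, l) (Finset.mem_product.mpr ⟨hx, Finset.mem_range.mpr (by omega)⟩)
      have h2 : (mf (x, l) : ℤ) ≤ M := by exact_mod_cast h1
      have h3 : (1 : ℤ) ≤ l := by exact_mod_cast hlpos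
      nlinarith
  refine ⟨M, fun g hg => ?_⟩
  obtain ⟨b, hbA, hb1, haA⟩ := exists_frac hK Q₀ P (Ne.symm hQ₀) g hg
  have hb := hasse_bound_adjoin P (S : Set K) i M hs b (hgen b hbA)
  have ha := hasse_bound_adjoin P (S : Set K) i M hs (g * b) (hgen _ haA)
  exact hasse_bound_frac P hH i M g b hb1 hb ha

/-- the first Hasse derivative (with respect to any variable) of a local parameter does not
vanish -/
theorem hasseD_one_param_ne_zero (hK : IsFunctionField k K) (P : Place k K) {s : K}
    {H : K →ₐ[k] PowerSeries K} (hH : LocRes.IsHasseFamily s H) {t : K}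
    (ht : P.1 t = WithZero.exp (-1 : ℤ)) : LocRes.hasseD H 1 t ≠ 0 := by
  classical
  intro hDt
  set D := Groth.Agent.H63.OrdDiff.der hH with hD
  have hDapp : ∀ z, D z = LocRes.hasseD H 1 z := fun z => rfl
  obtain ⟨M, hM⟩ := hasse_bound_OP hK P hH 1
  -- `D` kills the valuation ring
  have hO : ∀ f : K, P.1 f ≤ 1 → D f = 0 := by
    intro f hf
    by_contra hne
    have hv : P.1 (D f) ≠ 0 := (Valuation.ne_zero_iff _).mpr hne
    -- choose N large
    obtain ⟨m, hm⟩ : ∃ m : ℕ, WithZero.exp (-(m : ℤ)) < P.1 (D f) := by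
      refine ⟨(1 - WithZero.log (P.1 (D f))).toNat, ?_⟩
      rw [← WithZero.exp_log hv, WithZero.exp_lt_exp, WithZero.exp_log hv]
      omega
    obtain ⟨q, g, hg, hfe⟩ := exists_taylor hK P ht (M + m) f hf
    have h1 : D f = t ^ (M + m) * D g := by
      rw [hfe, map_add, Derivation.map_aeval, hDapp t, hDt, smul_zero, zero_add,
        Derivation.leibniz, Derivation.leibniz_pow, hDapp t, hDt, smul_zero, smul_zero,
        smul_zero, add_zero, smul_eq_mul]
    have h2 : P.1 (D f) ≤ WithZero.exp (-(m : ℤ)) := by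
      rw [h1, map_mul, map_pow, ht, ← WithZero.exp_nsmul]
      calc WithZero.exp ((M + m) • (-1 : ℤ)) * P.1 (D g)
          ≤ WithZero.exp ((M + m) • (-1 : ℤ)) * WithZero.exp ((M : ℤ) * (1 : ℕ)) :=
            mul_le_mul' le_rfl (hM g hg 1 le_rfl)
        _ = WithZero.exp (-(m : ℤ)) := by
            rw [← WithZero.exp_add]
            congr 1
            simp only [smul_eq_mul, Nat.cast_one]
            push_cast
            ring
    exact absurd h2 (not_le.mpr hm)
  -- hence `D = 0`
  have hall : ∀ f : K, D f = 0 := by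
    intro f
    rcases le_total (P.1 f) 1 with hf | hf
    · exact hO f hf
    · have hf0 : f ≠ 0 := by
        rintro rfl
        rw [map_zero] at hf
        exact absurd hf (not_le.mpr zero_lt_one)
      have hinv : P.1 f⁻¹ ≤ 1 := by
        rw [map_inv₀]
        exact inv_le_one_of_one_le₀ hf
      have h1 := hO f⁻¹ hinv
      have h2 : D (f * f⁻¹) = 0 := by
        rw [mul_inv_cancel₀ hf0]
        exact D.map_one_eq_zero
      rw [Derivation.leibniz, h1, smul_zero, zero_add, smul_eq_mul] at h2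
      rcases mul_eq_zero.mp h2 with h | h
      · exact absurd h (inv_ne_zero hf0)
      · exact h
  have hs1 : D s = 1 := by
    rw [hDapp, hasseD_t hH]
    simp
  rw [hall s] at hs1
  exact zero_ne_one hs1

end Groth.Agent.H86.FF
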