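import Mathlib
import Groth.Agent.H86.HS17
import Groth.Agent.H65.FormalIFT

set_option autoImplicit false
set_option linter.unusedSectionVars false

namespace Groth.Agent.H86.FF

open FunFld Module Groth.Agent.H55

section inv

variable {K : Type*} [Field K]

/-- compositional right inverse of a power series with zero constant term and invertible linear
term -/
theorem exists_subst_eq_X (F : PowerSeries K) (h0 : PowerSeries.constantCoeff F = 0)
    (h1 : PowerSeries.coeff 1 F ≠ 0) :
    ∃ g : PowerSeries K, PowerSeries.constantCoeff g = 0 ∧ PowerSeries.subst g F = PowerSeries.X := by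
  classical
  set a : K := PowerSeries.coeff 1 F with ha
  let A : Unit → MvPowerSeries Unit K := fun _ => F
  let ℓ : Unit → MvPowerSeries Unit K := fun _ => MvPowerSeries.C a * MvPowerSeries.X ()
  let ℓ' : Unit → MvPowerSeries Unit K := fun _ => MvPowerSeries.C a⁻¹ * MvPowerSeries.X ()
  have hA : ∀ i, MvPowerSeries.constantCoeff (A i) = 0 := fun _ => h0
  have hℓ : ∀ i, MvPowerSeries.constantCoeff (ℓ i) = 0 := by
    intro i
    simp [ℓ]
  have hℓ' : ∀ i, MvPowerSeries.constantCoeff (ℓ' i) = 0 := by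
    intro i
    simp [ℓ']
  have hsℓ := MvPowerSeries.hasSubst_of_constantCoeff_zero hℓ
  have hsℓ' := MvPowerSeries.hasSubst_of_constantCoeff_zero hℓ'
  have e1 : ∀ i, MvPowerSeries.subst ℓ (ℓ' i) = MvPowerSeries.X i := by
    intro i
    change MvPowerSeries.subst ℓ (MvPowerSeries.C a⁻¹ * MvPowerSeries.X ()) = _
    rw [MvPowerSeries.subst_mul hsℓ, MvPowerSeries.subst_C, MvPowerSeries.subst_X hsℓ]
    change MvPowerSeries.C a⁻¹ * (MvPowerSeries.C a * MvPowerSeries.X ()) = _
    rw [← mul_assoc, ← map_mul, inv_mul_cancel₀ h1, map_one, one_mul]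
  have e2 : ∀ i, MvPowerSeries.subst ℓ' (ℓ i) = MvPowerSeries.X i := by
    intro i
    change MvPowerSeries.subst ℓ' (MvPowerSeries.C a * MvPowerSeries.X ()) = _
    rw [MvPowerSeries.subst_mul hsℓ', MvPowerSeries.subst_C, MvPowerSeries.subst_X hsℓ']
    change MvPowerSeries.C a * (MvPowerSeries.C a⁻¹ * MvPowerSeries.X ()) = _
    rw [← mul_assoc, ← map_mul, mul_inv_cancel₀ h1, map_one, one_mul]
  have hr : ∀ i, 2 ≤ (A i - ℓ i).order := by
    intro i
    have : (2 : ℕ∞) ≤ PowerSeries.order (F - PowerSeries.C (PowerSeries.coeff 1 F) * PowerSeries.X) := by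
      have h2 : ((2 : ℕ) : ℕ∞) = 2 := rfl
      rw [← h2]
      apply PowerSeries.nat_le_order
      intro i hi
      rw [map_sub, PowerSeries.coeff_C_mul]
      interval_cases i
      · rw [PowerSeries.coeff_zero_eq_constantCoeff_apply, h0, PowerSeries.coeff_zero_X, mul_zero,
          sub_zero]
      · rw [PowerSeries.coeff_one_X, mul_one, sub_self]
    rw [PowerSeries.order_eq_order] at this
    exact this
  obtain ⟨b, hb0, -, hb2⟩ := Groth.Agent.H65.ift_exists_inverse hA hℓ hℓ' e1 e2 hr
  refine ⟨b (), hb0 (), ?_⟩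
  have := hb2 ()
  exact this

end inv

variable {k K : Type*} [Field k] [Field K] [Algebra k K]

/-- a Hasse family with respect to `s` yields a Hasse family with respect to any `t` with
`D_s t ≠ 0` -/
theorem exists_hasse_of_ne_zero {s : K} {H : K →ₐ[k] PowerSeries K}
    (hH : LocRes.IsHasseFamily s H) {t : K} (ht : LocRes.hasseD H 1 t ≠ 0) :
    ∃ Ht : K →ₐ[k] PowerSeries K, LocRes.IsHasseFamily t Ht := by
  have h0 : PowerSeries.constantCoeff (H t - PowerSeries.C t) = 0 := by
    rw [map_sub, hH.2, PowerSeries.constantCoeff_C, sub_self]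
  have h1 : PowerSeries.coeff 1 (H t - PowerSeries.C t) ≠ 0 := by
    rw [map_sub, PowerSeries.coeff_C, if_neg one_ne_zero, sub_zero]
    exact ht
  obtain ⟨g, hg0, hg⟩ := exists_subst_eq_X _ h0 h1
  have hs : PowerSeries.HasSubst g := PowerSeries.HasSubst.of_constantCoeff_zero' hg0
  let ρ : PowerSeries K →ₐ[k] PowerSeries K :=
    (PowerSeries.substAlgHom (R := K) hs).restrictScalars k
  have hρ : ∀ f, ρ f = PowerSeries.subst g f := by
    intro f
    change PowerSeries.substAlgHom hs f = _
    rw [PowerSeries.coe_substAlgHom]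
  refine ⟨ρ.comp H, ?_, ?_⟩
  · rw [AlgHom.comp_apply, hρ]
    have e : H t = PowerSeries.C t + (H t - PowerSeries.C t) := by ring
    rw [e, PowerSeries.subst_add hs, PowerSeries.subst_C, hg]
    rfl
  · intro y
    rw [AlgHom.comp_apply, hρ,
      Groth.Agent.H63.HasseFF.constantCoeff_subst_of_constantCoeff_zero hg0, hH.2]

/-- Hasse families with respect to local parameters exist (given one Hasse family) -/
theorem exists_hasse_param [IsAlgClosed k] (hK : IsFunctionField k K) (P : Place k K) {s : K}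
    {H : K →ₐ[k] PowerSeries K} (hH : LocRes.IsHasseFamily s H) {t : K}
    (ht : P.1 t = WithZero.exp (-1 : ℤ)) :
    ∃ Ht : K →ₐ[k] PowerSeries K, LocRes.IsHasseFamily t Ht :=
  exists_hasse_of_ne_zero hH (hasseD_one_param_ne_zero hK P hH ht)

end Groth.Agent.H86.FF
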