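import Mathlib
import Groth.Agent.H86.EX1
import Groth.Agent.H86.HS18

/-!
# Existence of Laurent expansions at a place, II
-/

set_option autoImplicit false
set_option linter.unusedSectionVars false

namespace Groth.Agent.H86.FF

open FunFld Module Groth.Agent.H55 LaurentSeries

variable {k K : Type*} [Field k] [Field K] [Algebra k K] [IsAlgClosed k]

section taylor

variable (hK : IsFunctionField k K) (P : Place k K) {t : K} {H : K →ₐ[k] PowerSeries K}
  (hH : LocRes.IsHasseFamily t H) (ht : P.1 t = WithZero.exp (-1 : ℤ))

/-- the Taylor expansion of an integral function, as a Laurent series -/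
noncomputable def taylorL : P.O →+* LaurentSeries k :=
  (HahnSeries.ofPowerSeries ℤ k).comp (taylor hK P hH ht)

theorem val_taylorL (g : P.O) : Valued.v (taylorL hK P hH ht g) = P.1 (g : K) := by
  have hg1 : P.1 (g : K) ≤ 1 := (Valuation.mem_valuationSubring_iff P.1 _).mp g.2
  have key : ∀ m : ℕ, Valued.v (taylorL hK P hH ht g) ≤ WithZero.exp (-(m : ℤ)) ↔
      P.1 (g : K) ≤ WithZero.exp (-(m : ℤ)) := by
    intro m
    rw [valuation_le_iff_coeff_lt_eq_zero, val_le_iff_hasse hK P hH ht (g : K) hg1 m]
    constructor
    · intro h j hj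
      rw [← coeff_taylor_eq_zero_iff hK P hH ht g j]
      have := h (j : ℤ) (by exact_mod_cast hj)
      change ((taylor hK P hH ht g : PowerSeries k) : LaurentSeries k).coeff (j : ℤ) = 0 at this
      rwa [PowerSeries.coeff_coe, if_neg (by omega), Int.natAbs_natCast] at this
    · intro h n hn
      change ((taylor hK P hH ht g : PowerSeries k) : LaurentSeries k).coeff n = 0
      rw [PowerSeries.coeff_coe]
      split_ifs with hn0
      · rfl
      · rw [coeff_taylor_eq_zero_iff hK P hH ht g]
        apply h
        omega
  apply withZero_eq_of_forall_le_iff _ hg1 key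
  have := (key 0).mpr (by simpa using hg1)
  simpa using this

theorem taylorL_injective : Function.Injective (taylorL hK P hH ht) := by
  rw [injective_iff_map_eq_zero]
  intro g hg
  have := val_taylorL hK P hH ht g
  rw [hg, map_zero] at this
  apply Subtype.ext
  exact (Valuation.zero_iff _).mp this.symm

/-- the Laurent expansion at `P` with respect to the local parameter `t` -/
noncomputable def expand : K →ₐ[k] LaurentSeries k :=
  { IsFractionRing.lift (A := P.O) (K := K) (taylorL_injective hK P hH ht) with
    commutes' := by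
      intro c
      have e : algebraMap k K c = algebraMap P.O K (algebraMap k P.O c) := rfl
      change IsFractionRing.lift (taylorL_injective hK P hH ht) (algebraMap k K c) = _
      rw [e, IsFractionRing.lift_algebraMap]
      change ((taylor hK P hH ht (algebraMap k P.O c) : PowerSeries k) : LaurentSeries k) = _
      rw [taylor_algebraMap, HahnSeries.algebraMap_apply', PowerSeries.algebraMap_apply]
      rfl }

theorem expand_of_le {f : K} (hf : P.1 f ≤ 1) :
    expand hK P hH ht f = taylorL hK P hH ht ⟨f, (Valuation.mem_valuationSubring_iff P.1 _).mpr hf⟩ := by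
  have e : f = algebraMap P.O K ⟨f, (Valuation.mem_valuationSubring_iff P.1 _).mpr hf⟩ := rfl
  change IsFractionRing.lift (taylorL_injective hK P hH ht) f = _
  conv_lhs => rw [e]
  rw [IsFractionRing.lift_algebraMap]

theorem val_expand (f : K) : Valued.v (expand hK P hH ht f) = P.1 f := by
  by_cases hf : P.1 f ≤ 1
  · rw [expand_of_le hK P hH ht hf, val_taylorL]
  · have hf' : P.1 f⁻¹ ≤ 1 := by
      rw [map_inv₀]
      exact inv_le_one_of_one_le₀ (not_le.mp hf).le
    have h1 : Valued.v (expand hK P hH ht f⁻¹) = P.1 f⁻¹ := by
      rw [expand_of_le hK P hH ht hf', val_taylorL]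
    rw [map_inv₀ (expand hK P hH ht), map_inv₀ P.1] at h1
    rw [map_inv₀] at h1
    exact inv_injective h1

theorem isExpansionAt_expand : LocRes.IsExpansionAt P.1 (expand hK P hH ht) := by
  refine ⟨val_expand hK P hH ht, fun a => ⟨algebraMap k K a, P.2.1 a, ?_⟩, ⟨t, ht⟩⟩
  rw [LocRes.map_algebraMap]
  simp

end taylor

/-- **Existence of expansions** at every place, given a Hasse family. -/
theorem exists_expansion (hK : IsFunctionField k K) {s : K} {H : K →ₐ[k] PowerSeries K}
    (hH : LocRes.IsHasseFamily s H) (P : Place k K) :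
    ∃ Φ : K →ₐ[k] LaurentSeries k, LocRes.IsExpansionAt P.1 Φ := by
  obtain ⟨t, ht⟩ := Place.exists_uniformizer P
  obtain ⟨Ht, hHt⟩ := exists_hasse_param hK P hH ht
  exact ⟨expand hK P hHt ht, isExpansionAt_expand hK P hHt ht⟩

end Groth.Agent.H86.FF
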