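import Mathlib
import Groth.Agent.H86.DV3
import Groth.Agent.H86.HS2

/-!
# Existence of a Hasse family with respect to a separating element
-/

set_option autoImplicit false
set_option linter.unusedSectionVars false
set_option linter.style.haveILetI false

namespace Groth.Agent.H86.FF

open FunFld Module IntermediateField

section abstract

/-- a type synonym for power series, carrying no algebra structure -/
def PSh (A : Type*) [CommRing A] : Type _ := PowerSeries A

noncomputable instance (A : Type*) [CommRing A] : CommRing (PSh A) :=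
  inferInstanceAs (CommRing (PowerSeries A))

/-- the ideal `(X)` -/
noncomputable def PSh.I (A : Type*) [CommRing A] : Ideal (PSh A) :=
  (Ideal.span {PowerSeries.X} : Ideal (PowerSeries A))

instance (A : Type*) [CommRing A] : IsAdicComplete (PSh.I A) (PSh A) :=
  inferInstanceAs (IsAdicComplete (Ideal.span {PowerSeries.X} : Ideal (PowerSeries A))
    (PowerSeries A))

theorem PSh.mem_I {A : Type*} [CommRing A] (F : PowerSeries A) :
    (F : PSh A) ∈ PSh.I A ↔ PowerSeries.constantCoeff F = 0 := by
  change F ∈ (Ideal.span {PowerSeries.X} : Ideal (PowerSeries A)) ↔ _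
  rw [Ideal.mem_span_singleton, PowerSeries.X_dvd_iff]

/-- lifting the identity of a formally smooth algebra to power series, with prescribed values on
the base ring -/
theorem exists_lift_powerSeries {R A : Type*} [CommRing R] [CommRing A] [Algebra R A]
    [Algebra.FormallySmooth R A] (ρ : R →+* PowerSeries A)
    (hρ : ∀ r, PowerSeries.constantCoeff (ρ r) = algebraMap R A r) :
    ∃ g : A →+* PowerSeries A, (∀ y, PowerSeries.constantCoeff (g y) = y) ∧
      ∀ r, g (algebraMap R A r) = ρ r := by
  letI : Algebra R (PSh A) := RingHom.toAlgebra (ρ : R →+* PSh A)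
  have halg : ∀ r : R, algebraMap R (PSh A) r = (ρ r : PSh A) := fun r => rfl
  let f : A →ₐ[R] PSh A ⧸ PSh.I A :=
    { toRingHom := (Ideal.Quotient.mk (PSh.I A)).comp (PowerSeries.C : A →+* PowerSeries A)
      commutes' := by
        intro r
        change Ideal.Quotient.mk (PSh.I A) ((PowerSeries.C (algebraMap R A r) : PowerSeries A) : PSh A) =
          Ideal.Quotient.mk (PSh.I A) ((ρ r : PowerSeries A) : PSh A)
        rw [Ideal.Quotient.eq]
        have := (PSh.mem_I (PowerSeries.C (algebraMap R A r) - ρ r)).mpr (by
          rw [map_sub, PowerSeries.constantCoeff_C, hρ, sub_self])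
        exact this }
  obtain ⟨g, hg⟩ := Algebra.FormallySmooth.exists_mkₐ_comp_eq_of_isAdicComplete f
  refine ⟨(g.toRingHom : A →+* PSh A), ?_, ?_⟩
  · intro y
    have h1 := congrArg (fun φ => φ y) hg
    change Ideal.Quotient.mk (PSh.I A) (g y) =
      Ideal.Quotient.mk (PSh.I A) ((PowerSeries.C y : PowerSeries A) : PSh A) at h1
    rw [Ideal.Quotient.eq] at h1
    have h2 := (PSh.mem_I ((show PowerSeries A from g y) - PowerSeries.C y)).mp h1
    rw [map_sub, PowerSeries.constantCoeff_C, sub_eq_zero] at h2
    exact h2
  · intro r
    have := g.commutes r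
    rw [halg] at this
    exact this

end abstract

variable {k K : Type*} [Field k] [Field K] [Algebra k K]

section lift

open scoped IntermediateField.algebraAdjoinAdjoin

variable (t : K) (htr : Transcendental k t)

/-- the map `k[t] → K⟦X⟧`, `t ↦ t + X` -/
noncomputable def shiftHom : Algebra.adjoin k ({t} : Set K) →ₐ[k] PowerSeries K :=
  (Polynomial.aeval (PowerSeries.C t + PowerSeries.X : PowerSeries K)).comp
    (Polynomial.algEquivOfTranscendental k t htr).symm.toAlgHom

theorem shiftHom_gen :
    shiftHom t htr ⟨t, Algebra.self_mem_adjoin_singleton k t⟩ = PowerSeries.C t + PowerSeries.X := by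
  unfold shiftHom
  have e : (Polynomial.algEquivOfTranscendental k t htr).symm
      ⟨t, Algebra.self_mem_adjoin_singleton k t⟩ = Polynomial.X := by
    rw [AlgEquiv.symm_apply_eq]
    change _ = Polynomial.aeval (⟨t, Algebra.self_mem_adjoin_singleton k t⟩ :
      Algebra.adjoin k ({t} : Set K)) Polynomial.X
    rw [Polynomial.aeval_X]
  rw [AlgHom.comp_apply]
  change Polynomial.aeval _ ((Polynomial.algEquivOfTranscendental k t htr).symm _) = _
  rw [e, Polynomial.aeval_X]

theorem constantCoeff_aeval_shift (p : Polynomial k) :
    PowerSeries.constantCoeff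
      (Polynomial.aeval (PowerSeries.C t + PowerSeries.X : PowerSeries K) p) =
      Polynomial.aeval t p := by
  have hc : ∀ a : k, PowerSeries.constantCoeff (algebraMap k (PowerSeries K) a) =
      algebraMap k K a := by
    intro a
    rw [PowerSeries.algebraMap_apply, PowerSeries.constantCoeff_C]
  induction p using Polynomial.induction_on with
  | C a => rw [Polynomial.aeval_C, Polynomial.aeval_C, hc]
  | add p q hp hq => rw [map_add, map_add, map_add, hp, hq]
  | monomial n a ih =>
    rw [map_mul, map_mul, map_mul, Polynomial.aeval_C, Polynomial.aeval_C, map_pow, map_pow,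
      map_pow, Polynomial.aeval_X, Polynomial.aeval_X, hc]
    simp

theorem constantCoeff_shiftHom (a : Algebra.adjoin k ({t} : Set K)) :
    PowerSeries.constantCoeff (shiftHom t htr a) = (a : K) := by
  unfold shiftHom
  rw [AlgHom.comp_apply, constantCoeff_aeval_shift]
  obtain ⟨p, rfl⟩ := (Polynomial.algEquivOfTranscendental k t htr).surjective a
  change Polynomial.aeval t ((Polynomial.algEquivOfTranscendental k t htr).symm
    ((Polynomial.algEquivOfTranscendental k t htr) p)) = _
  rw [AlgEquiv.symm_apply_apply]
  change _ = ((Polynomial.aeval (⟨t, Algebra.self_mem_adjoin_singleton k t⟩ :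
      Algebra.adjoin k ({t} : Set K)) p : Algebra.adjoin k ({t} : Set K)) : K)
  rw [← Subalgebra.coe_val, ← Polynomial.aeval_algHom_apply]
  rfl

include htr in
/-- a Hasse family exists with respect to a separating transcendental element -/
theorem exists_hasse_of_isSeparable [Algebra.IsSeparable k⟮t⟯ K] :
    ∃ H : K →ₐ[k] PowerSeries K, LocRes.IsHasseFamily t H := by
  haveI : Algebra.FormallyEtale k⟮t⟯ K := Algebra.FormallyEtale.of_isSeparable _ _
  haveI : Algebra.FormallyEtale (Algebra.adjoin k ({t} : Set K)) k⟮t⟯ :=
    Algebra.FormallyEtale.of_isLocalization (nonZeroDivisors (Algebra.adjoin k ({t} : Set K)))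
  haveI : Algebra.FormallyEtale (Algebra.adjoin k ({t} : Set K)) K :=
    Algebra.FormallyEtale.comp (Algebra.adjoin k ({t} : Set K)) k⟮t⟯ K
  obtain ⟨g, hconst, hg⟩ := exists_lift_powerSeries
    (R := Algebra.adjoin k ({t} : Set K)) (A := K) (shiftHom t htr).toRingHom
    (fun a => constantCoeff_shiftHom t htr a)
  have hgt : g t = PowerSeries.C t + PowerSeries.X := by
    have := hg ⟨t, Algebra.self_mem_adjoin_singleton k t⟩
    rw [← shiftHom_gen t htr]
    exact this
  refine ⟨{ toRingHom := g, commutes' := ?_ }, hgt, hconst⟩
  intro c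
  have := hg (algebraMap k (Algebra.adjoin k ({t} : Set K)) c)
  change g (algebraMap k K c) = (shiftHom t htr) (algebraMap k _ c) at this
  rw [AlgHom.commutes] at this
  exact this

end lift

section main

variable [IsAlgClosed k]

/-- a function field of one variable over an algebraically closed field has a Hasse family -/
theorem exists_hasseFamily (hK : IsFunctionField k K) :
    ∃ (s : K) (H : K →ₐ[k] PowerSeries K), LocRes.IsHasseFamily s H := by
  classical
  haveI := essFiniteType_of_isFunctionField hK
  obtain ⟨S, hS, hsep⟩ := exists_isTranscendenceBasis_and_isSeparable_of_perfectField k K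
  -- `S` is a singleton
  have hcard : S.card ≤ 1 := by
    have h1 := hS.cardinalMk_eq_trdeg
    have h2 : Algebra.trdeg k K ≤ 1 := by
      obtain ⟨x, hx, hfin⟩ := hK.1
      haveI : Algebra.IsAlgebraic (IntermediateField.adjoin k ({x} : Set K)) K :=
        Algebra.IsAlgebraic.of_finite _ _
      haveI : Algebra.IsAlgebraic (Algebra.adjoin k ({x} : Set K)) K :=
        IntermediateField.isAlgebraic_adjoin_iff_top.1 this
      have := Algebra.IsAlgebraic.trdeg_le_cardinalMk k ({x} : Set K)
      rwa [Cardinal.mk_singleton] at this
    rw [← h1, Cardinal.mk_coe_finset] at h2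
    exact_mod_cast h2
  have hne : S.Nonempty := by
    rw [Finset.nonempty_iff_ne_empty]
    rintro rfl
    obtain ⟨x, hx, -⟩ := hK.1
    have hbot : IntermediateField.adjoin k ((∅ : Finset K) : Set K) = ⊥ := by
      rw [Finset.coe_empty, IntermediateField.adjoin_empty]
    rw [hbot] at hsep
    have hxalg : IsAlgebraic (⊥ : IntermediateField k K) x :=
      (Algebra.IsSeparable.isAlgebraic (⊥ : IntermediateField k K) K).isAlgebraic x
    exact hx (hxalg.restrictScalars k)
  obtain ⟨t, ht⟩ := Finset.card_le_one_iff_subset_singleton.1 hcard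
  have hSt : S = {t} := by
    apply Finset.Subset.antisymm ht
    obtain ⟨y, hy⟩ := hne
    have := Finset.mem_singleton.mp (ht hy)
    rw [Finset.singleton_subset_iff, ← this]
    exact hy
  subst hSt
  have htr : Transcendental k t := by
    have := hS.1.transcendental ⟨t, Finset.mem_singleton_self t⟩
    exact this
  haveI : Algebra.IsSeparable k⟮t⟯ K := by
    have e : ((({t} : Finset K)) : Set K) = {t} := Finset.coe_singleton t
    rw [e] at hsep
    exact hsep
  obtain ⟨H, hH⟩ := exists_hasse_of_isSeparable t htr
  exact ⟨t, H, hH⟩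

end main

end Groth.Agent.H86.FF
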