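import Mathlib
import Groth.Agent.H86.FF1
import Groth.Agent.H55.FFCond7

/-!
# Function fields over a finite constant field: finiteness of places and of effective divisors
-/

set_option autoImplicit false

namespace Groth.Agent.H86.Zeta

open FunFld Module Groth.Agent.H55

variable {k K : Type*} [Field k] [Field K] [Algebra k K]

/-- the residue field of a place over a finite constant field is finite -/
theorem finite_residue [Finite k] (hK : IsFunctionField k K) (P : Place k K) :
    Finite (IsLocalRing.ResidueField P.O) := by
  haveI := Place.finiteDimensional_residue hK P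
  exact Module.finite_of_finite k

/-- the cardinality of the residue field -/
theorem natCard_residue [Finite k] (hK : IsFunctionField k K) (P : Place k K) :
    Nat.card (IsLocalRing.ResidueField P.O) = Nat.card k ^ P.deg := by
  haveI := Place.finiteDimensional_residue hK P
  unfold Place.deg
  exact Module.natCard_eq_pow_finrank

/-- `z ^ (q ^ deg P) - z` vanishes at `P` for `z` integral at `P` -/
theorem val_pow_card_sub_lt [Finite k] (hK : IsFunctionField k K) (P : Place k K) {z : K}
    (hz : P.1 z ≤ 1) : P.1 (z ^ (Nat.card k ^ P.deg) - z) < 1 := by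
  haveI := finite_residue hK P
  letI : Fintype (IsLocalRing.ResidueField P.O) := Fintype.ofFinite _
  have hzO : z ∈ P.O := (Valuation.mem_valuationSubring_iff _ _).mpr hz
  have h1 := FiniteField.pow_card (IsLocalRing.residue P.O ⟨z, hzO⟩)
  rw [← Nat.card_eq_fintype_card, natCard_residue hK P] at h1
  have h0 : IsLocalRing.residue P.O ((⟨z, hzO⟩ : P.O) ^ (Nat.card k ^ P.deg) - ⟨z, hzO⟩) = 0 := by
    rw [map_sub, map_pow, h1, sub_self]
  rw [Place.residue_eq_zero_iff] at h0
  exact h0

/-- `x ^ (q ^ d) - x ≠ 0` for `x` transcendental -/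
theorem pow_sub_ne_zero_of_transcendental [Finite k] {x : K} (hx : Transcendental k x) (d : ℕ)
    (hd : 0 < d) : x ^ (Nat.card k ^ d) - x ≠ 0 := by
  intro h0
  apply hx
  have hq : 1 < Nat.card k := Finite.one_lt_card
  have hN : 1 < Nat.card k ^ d := Nat.one_lt_pow hd.ne' hq
  refine ⟨Polynomial.X ^ (Nat.card k ^ d) - Polynomial.X, ?_, ?_⟩
  · intro h
    have := congrArg (fun p => Polynomial.coeff p 1) h
    simp only [Polynomial.coeff_sub, Polynomial.coeff_X_pow, Polynomial.coeff_X_one,
      Polynomial.coeff_zero] at this
    rw [if_neg (by omega)] at this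
    norm_num at this
  · rw [map_sub, map_pow, Polynomial.aeval_X]
    exact h0

/-- over a finite constant field there are finitely many places of bounded degree -/
theorem finite_places_deg_le [Finite k] (hK : IsFunctionField k K) (n : ℕ) :
    {P : Place k K | P.deg ≤ n}.Finite := by
  obtain ⟨x, hx, _⟩ := hK.1
  have hx0 : x ≠ 0 := by
    rintro rfl
    exact hx ⟨Polynomial.X, Polynomial.X_ne_zero, by simp⟩
  have hfin : ({P : Place k K | 1 < P.1 x} ∪
      ⋃ d ∈ Finset.Icc 1 n, {P : Place k K | P.1 (x ^ (Nat.card k ^ d) - x) < 1}).Finite := by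
    apply (Place.finite_poles hK hx0).union
    apply Set.Finite.biUnion (Finset.finite_toSet _)
    intro d hd
    exact Place.finite_zeros hK (pow_sub_ne_zero_of_transcendental hx d (by
      have := (Finset.mem_Icc.mp hd).1
      omega))
  apply hfin.subset
  intro P hP
  rw [Set.mem_setOf_eq] at hP
  by_cases hxP : P.1 x ≤ 1
  · right
    rw [Set.mem_iUnion₂]
    exact ⟨P.deg, Finset.mem_Icc.mpr ⟨Place.deg_pos hK P, hP⟩, val_pow_card_sub_lt hK P hxP⟩
  · left
    exact not_le.mp hxP

/-- the coefficients and the support of an effective divisor are bounded by its degree -/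
theorem apply_le_deg_of_nonneg (hK : IsFunctionField k K) {D : Divisor k K} (hD : 0 ≤ D)
    (P : Place k K) : D P * (P.deg : ℤ) ≤ D.deg := by
  classical
  rw [Divisor.deg_eq_sum]
  by_cases hP : P ∈ D.support
  · exact Finset.single_le_sum (f := fun Q => D Q * (Q.deg : ℤ))
      (fun Q _ => mul_nonneg (hD Q) (by positivity)) hP
  · rw [Finsupp.notMem_support_iff.mp hP, zero_mul]
    exact Finset.sum_nonneg fun Q _ => mul_nonneg (hD Q) (by positivity)

/-- over a finite constant field there are finitely many effective divisors of given degree -/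
theorem finite_effective [Finite k] (hK : IsFunctionField k K) (n : ℕ) :
    {D : Divisor k K | 0 ≤ D ∧ D.deg = n}.Finite := by
  classical
  have hS := finite_places_deg_le hK n
  apply ((hS.toFinset.finsupp (fun _ => Finset.Icc (0 : ℤ) n)).finite_toSet).subset
  rintro D ⟨hD, hdeg⟩
  rw [Finset.mem_coe, Finset.mem_finsupp_iff]
  have hle := apply_le_deg_of_nonneg hK hD
  constructor
  · intro P hP
    rw [Set.Finite.mem_toFinset, Set.mem_setOf_eq]
    have h1 : 1 ≤ D P := by
      have := hD P
      have h2 := Finsupp.mem_support_iff.mp hP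
      rw [Finsupp.zero_apply] at this
      omega
    have h3 := hle P
    rw [hdeg] at h3
    have h4 : (P.deg : ℤ) ≤ D P * (P.deg : ℤ) := by nlinarith
    exact_mod_cast h4.trans h3
  · intro P _
    rw [Finset.mem_Icc]
    refine ⟨hD P, ?_⟩
    have h3 := hle P
    rw [hdeg] at h3
    have h4 : (1 : ℤ) ≤ P.deg := by exact_mod_cast Place.deg_pos hK P
    have h5 := hD P
    rw [Finsupp.zero_apply] at h5
    nlinarith

end Groth.Agent.H86.Zeta
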