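import Mathlib
import Groth.Agent.H86.ZT1

/-!
# Principal divisors, the class group of degree zero, and counting effective divisors in a class
-/

set_option autoImplicit false

namespace Groth.Agent.H86.Zeta

open FunFld Module Groth.Agent.H55

variable {k K : Type*} [Field k] [Field K] [Algebra k K]

theorem degHom_apply (D : Divisor k K) : FunFld.degHom k K D = D.deg := by
  unfold FunFld.degHom Divisor.deg
  rw [Finsupp.liftAddHom_apply]
  rfl

theorem mem_ker_degHom {D : Divisor k K} : D ∈ (FunFld.degHom k K).ker ↔ D.deg = 0 := by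
  rw [AddMonoidHom.mem_ker, degHom_apply]

theorem div_one (hK : IsFunctionField k K) : div k (1 : K) = 0 := by
  have := div_algebraMap hK (1 : k)
  rwa [map_one] at this

theorem div_zero' (hK : IsFunctionField k K) : div k (0 : K) = 0 := by
  ext P
  rw [Place.div_apply hK, Place.ord_zero, Finsupp.zero_apply]

/-- the principal divisors are the divisors of nonzero functions -/
theorem mem_prinDivs_iff (hK : IsFunctionField k K) (D : Divisor k K) :
    D ∈ prinDivs k K ↔ ∃ z : K, z ≠ 0 ∧ div k z = D := by
  constructor
  · intro h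
    unfold prinDivs at h
    induction h using AddSubgroup.closure_induction with
    | mem D hD =>
      obtain ⟨x, rfl⟩ := hD
      by_cases hx : x = 0
      · exact ⟨1, one_ne_zero, by rw [hx, div_one hK, div_zero' hK]⟩
      · exact ⟨x, hx, rfl⟩
    | zero => exact ⟨1, one_ne_zero, div_one hK⟩
    | add D E _ _ hD hE =>
      obtain ⟨x, hx, rfl⟩ := hD
      obtain ⟨y, hy, rfl⟩ := hE
      exact ⟨x * y, mul_ne_zero hx hy, H55.div_mul hK hx hy⟩
    | neg D _ hD =>
      obtain ⟨x, hx, rfl⟩ := hD
      exact ⟨x⁻¹, inv_ne_zero hx, div_inv hK x⟩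
  · rintro ⟨z, _, rfl⟩
    exact AddSubgroup.subset_closure ⟨z, rfl⟩

/-- `div (c • x) = div x` for a nonzero constant `c` -/
theorem div_smul (hK : IsFunctionField k K) {c : k} (hc : c ≠ 0) (x : K) :
    div k (c • x) = div k x := by
  by_cases hx : x = 0
  · rw [hx, smul_zero]
  · rw [Algebra.smul_def, H55.div_mul hK ((map_ne_zero _).mpr hc) hx, div_algebraMap hK, zero_add]

/-- functions with the same divisor differ by a nonzero constant -/
theorem exists_smul_of_div_eq (hK : IsFunctionField k K) {x y : K} (hx : x ≠ 0) (hy : y ≠ 0)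
    (h : div k x = div k y) : ∃ c : k, c ≠ 0 ∧ x = c • y := by
  obtain ⟨c, hc⟩ := eq_smul_of_ord_eq hK x y hx hy (fun P => by
    rw [← Place.div_apply hK, ← Place.div_apply hK, h])
  refine ⟨c, ?_, hc⟩
  rintro rfl
  rw [zero_smul] at hc
  exact hx hc

section count

variable [Finite k]

/-- the number of elements of `L(D)` -/
theorem natCard_L (hK : IsFunctionField k K) (D : Divisor k K) :
    Nat.card (L D) = Nat.card k ^ ell D := by
  haveI := L_finite hK D
  unfold ell
  exact Module.natCard_eq_pow_finrank

/-- the effective divisors linearly equivalent to `D` -/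
def effClass (D : Divisor k K) : Set (Divisor k K) :=
  {A | 0 ≤ A ∧ ∃ z : K, z ≠ 0 ∧ A = D + div k z}

/-- the nonzero elements of `L(D)` are in bijection with pairs of an effective divisor in the class
of `D` and a nonzero constant -/
theorem natCard_effClass (hK : IsFunctionField k K) (D : Divisor k K) :
    (Nat.card k - 1) * Nat.card (effClass D) = Nat.card k ^ ell D - 1 := by
  classical
  haveI := L_finite hK D
  haveI : Finite (L D) := Module.finite_of_finite k
  -- the map from nonzero sections to effective divisors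
  let π : {x : L D // x ≠ 0} → effClass D := fun x =>
    ⟨D + div k (x.1 : K), (mem_L_iff_div hK (fun h => x.2 (Subtype.ext h))).mp x.1.2,
      (x.1 : K), fun h => x.2 (Subtype.ext h), rfl⟩
  have hπ : Function.Surjective π := by
    rintro ⟨A, hA, z, hz, rfl⟩
    exact ⟨⟨⟨z, (mem_L_iff_div hK hz).mpr hA⟩, fun h => hz (congrArg Subtype.val h)⟩, rfl⟩
  let s : effClass D → {x : L D // x ≠ 0} := Function.surjInv hπ
  have hs : ∀ A, π (s A) = A := Function.surjInv_eq hπ
  -- the bijection
  let f : effClass D × kˣ → {x : L D // x ≠ 0} := fun p =>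
    ⟨(p.2 : k) • (s p.1).1, by
      intro h
      rw [smul_eq_zero] at h
      rcases h with h | h
      · exact p.2.ne_zero h
      · exact (s p.1).2 h⟩
  have hπf : ∀ p, π (f p) = p.1 := by
    intro p
    rw [← hs p.1]
    apply Subtype.ext
    change D + div k (((p.2 : k) • (s p.1).1 : L D) : K) = D + div k ((s p.1).1 : K)
    rw [Submodule.coe_smul, div_smul hK p.2.ne_zero]
  have hf : Function.Bijective f := by
    constructor
    · intro p p' h
      have h1 : p.1 = p'.1 := by rw [← hπf p, ← hπf p', h]
      have h2 : ((p.2 : k) • (s p.1).1 : L D) = (p'.2 : k) • (s p'.1).1 := congrArg Subtype.val h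
      rw [← h1] at h2
      have h3 : (p.2 : k) = (p'.2 : k) := smul_left_injective k (s p.1).2 h2
      exact Prod.ext h1 (Units.ext h3)
    · intro x
      have hx0 : (x.1 : K) ≠ 0 := fun h => x.2 (Subtype.ext h)
      have hy0 : ((s (π x)).1 : K) ≠ 0 := fun h => (s (π x)).2 (Subtype.ext h)
      have h1 : div k (x.1 : K) = div k ((s (π x)).1 : K) := by
        have := congrArg Subtype.val (hs (π x))
        change D + div k ((s (π x)).1 : K) = D + div k (x.1 : K) at this
        exact (add_left_cancel this).symm
      obtain ⟨c, hc, hxc⟩ := exists_smul_of_div_eq hK hx0 hy0 h1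
      refine ⟨(π x, Units.mk0 c hc), ?_⟩
      apply Subtype.ext
      apply Subtype.ext
      change ((c • (s (π x)).1 : L D) : K) = x.1
      rw [Submodule.coe_smul, ← hxc]
  have hcard := Nat.card_congr (Equiv.ofBijective f hf)
  rw [Nat.card_prod, Nat.card_units] at hcard
  have h0 : Nat.card {x : L D // x ≠ 0} = Nat.card (L D) - 1 := by
    have : Nat.card ({x : L D // x = 0} ⊕ {x : L D // x ≠ 0}) = Nat.card (L D) :=
      Nat.card_congr (Equiv.sumCompl (fun x : L D => x = 0))
    rw [Nat.card_sum] at this
    have h1 : Nat.card {x : L D // x = 0} = 1 := by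
      rw [Nat.card_eq_one_iff_unique]
      exact ⟨⟨fun a b => Subtype.ext (a.2.trans b.2.symm)⟩, ⟨⟨0, rfl⟩⟩⟩
    rw [h1] at this
    omega
  rw [h0, natCard_L hK D] at hcard
  rw [mul_comm, hcard]

end count

end Groth.Agent.H86.Zeta
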