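import Mathlib
import Groth.Agent.H86.ZT2

/-!
# Finiteness of the class number and the number of effective divisors of large degree
-/

set_option autoImplicit false

namespace Groth.Agent.H86.Zeta

open FunFld Module Groth.Agent.H55

variable {k K : Type*} [Field k] [Field K] [Algebra k K]

variable (k K) in
/-- the group of divisor classes of degree zero -/
abbrev Cl0 : Type _ :=
  (FunFld.degHom k K).ker ⧸ (prinDivs k K).addSubgroupOf (FunFld.degHom k K).ker

/-- the effective divisors of degree `n` -/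
abbrev Eff (k K : Type*) [Field k] [Field K] [Algebra k K] (n : ℕ) : Type _ :=
  {D : Divisor k K // 0 ≤ D ∧ D.deg = n}

theorem effDivCount_eq (n : ℕ) : effDivCount k K n = Nat.card (Eff k K n) := rfl

theorem classNum_eq : classNum k K = Nat.card (Cl0 k K) := rfl

/-- the class of `A - D₁` for `A` of the same degree as `D₁` -/
noncomputable def clsOf {n : ℕ} (D₁ : Divisor k K) (hD₁ : D₁.deg = n) (A : Eff k K n) : Cl0 k K :=
  QuotientAddGroup.mk ⟨A.1 - D₁, mem_ker_degHom.mpr (by rw [Divisor.deg_sub, A.2.2, hD₁, sub_self])⟩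

/-- the class of a divisor of degree zero -/
noncomputable def cls0 (E : Divisor k K) (hE : E.deg = 0) : Cl0 k K :=
  QuotientAddGroup.mk ⟨E, mem_ker_degHom.mpr hE⟩

theorem clsOf_eq_cls0_iff (hK : IsFunctionField k K) {n : ℕ} (D₁ : Divisor k K) (hD₁ : D₁.deg = n)
    (A : Eff k K n) (E : Divisor k K) (hE : E.deg = 0) :
    clsOf D₁ hD₁ A = cls0 E hE ↔ ∃ z : K, z ≠ 0 ∧ A.1 = D₁ + E + div k z := by
  unfold clsOf cls0
  rw [QuotientAddGroup.eq, AddSubgroup.mem_addSubgroupOf, mem_prinDivs_iff hK]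
  constructor
  · rintro ⟨z, hz, h⟩
    refine ⟨z⁻¹, inv_ne_zero hz, ?_⟩
    rw [div_inv hK, h]
    change A.1 = D₁ + E + -(-(A.1 - D₁) + E)
    abel
  · rintro ⟨z, hz, h⟩
    refine ⟨z⁻¹, inv_ne_zero hz, ?_⟩
    rw [div_inv hK]
    change -div k z = -(A.1 - D₁) + E
    rw [h]
    abel

theorem cls0_surjective : ∀ c : Cl0 k K, ∃ (E : Divisor k K) (hE : E.deg = 0), c = cls0 E hE := by
  intro c
  obtain ⟨⟨E, hE⟩, rfl⟩ := QuotientAddGroup.mk_surjective c
  exact ⟨E, mem_ker_degHom.mp hE, rfl⟩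

section finite

variable [Finite k]

theorem finite_eff (hK : IsFunctionField k K) (n : ℕ) : Finite (Eff k K n) :=
  (finite_effective hK n).to_subtype

/-- the class number is finite -/
theorem finite_cl0 (hK : IsFunctionField k K) : Finite (Cl0 k K) := by
  classical
  obtain ⟨x, hx, _⟩ := hK.1
  obtain ⟨P₀, _⟩ := exists_zero hK hx
  set D₀ : Divisor k K := Finsupp.single P₀ (genus k K : ℤ) with hD₀
  have hdeg : D₀.deg = ((genus k K * P₀.deg : ℕ) : ℤ) := by
    rw [hD₀, Divisor.deg_single]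
    push_cast
    rfl
  haveI := finite_eff hK (genus k K * P₀.deg)
  apply Finite.of_surjective (clsOf D₀ hdeg)
  intro c
  obtain ⟨E, hE, rfl⟩ := cls0_surjective c
  have h1 := le_genus hK (E + D₀)
  rw [Divisor.deg_add, hE, zero_add, hdeg] at h1
  have hP₀ := Place.deg_pos hK P₀
  have hpos : 0 < ell (E + D₀) := by
    have h2 : (genus k K : ℤ) ≤ ((genus k K * P₀.deg : ℕ) : ℤ) := by
      push_cast
      have : (1 : ℤ) ≤ P₀.deg := by exact_mod_cast hP₀
      nlinarith [Int.natCast_nonneg (genus k K)]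
    have : (0 : ℤ) < ell (E + D₀) := by linarith
    exact_mod_cast this
  obtain ⟨z, hz, hA⟩ := (L_ne_bot_iff hK _).mp ((ell_pos_iff hK _).mp hpos)
  refine ⟨⟨E + D₀ + div k z, hA, ?_⟩, ?_⟩
  · rw [deg_add_div hK, Divisor.deg_add, hE, zero_add, hdeg]
  · rw [clsOf_eq_cls0_iff hK]
    exact ⟨z, hz, by abel⟩

/-- the number of effective divisors of degree `n ≥ 2g - 1`, when there is a divisor of that
degree -/
theorem count_effective (hK : IsFunctionField k K) (n : ℕ) (hn : 2 * genus k K ≤ n + 1)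
    (D₁ : Divisor k K) (hD₁ : D₁.deg = n) :
    (Nat.card k - 1) * effDivCount k K n =
      classNum k K * (Nat.card k ^ (n + 1 - genus k K) - 1) := by
  classical
  haveI := finite_cl0 hK
  letI : Fintype (Cl0 k K) := Fintype.ofFinite _
  haveI := finite_eff hK n
  rw [effDivCount_eq, classNum_eq, ← Nat.card_congr (Equiv.sigmaFiberEquiv (clsOf D₁ hD₁)),
    Nat.card_sigma, Finset.mul_sum]
  have hfib : ∀ c : Cl0 k K, (Nat.card k - 1) * Nat.card {A : Eff k K n // clsOf D₁ hD₁ A = c} =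
      Nat.card k ^ (n + 1 - genus k K) - 1 := by
    intro c
    obtain ⟨E, hE, rfl⟩ := cls0_surjective c
    have hell : ell (D₁ + E) = n + 1 - genus k K := by
      have := ell_of_deg_ge hK (D₁ + E) (by rw [Divisor.deg_add, hD₁, hE]; push_cast; omega)
      rw [Divisor.deg_add, hD₁, hE] at this
      omega
    rw [← hell, ← natCard_effClass hK (D₁ + E)]
    congr 1
    apply Nat.card_congr
    refine ⟨fun A => ⟨A.1.1, A.1.2.1, ((clsOf_eq_cls0_iff hK D₁ hD₁ A.1 E hE).mp A.2)⟩,
      fun A => ⟨⟨A.1, A.2.1, ?_⟩, ?_⟩, fun A => rfl, fun A => rfl⟩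
    · obtain ⟨z, _, hz⟩ := A.2.2
      rw [hz, deg_add_div hK, Divisor.deg_add, hD₁, hE, add_zero]
    · rw [clsOf_eq_cls0_iff hK]
      exact A.2.2
  rw [Finset.sum_congr rfl (fun c _ => hfib c), Finset.sum_const, Finset.card_univ, smul_eq_mul,
    ← Nat.card_eq_fintype_card]

/-- there are no effective divisors in a degree that is not the degree of a divisor -/
theorem effDivCount_eq_zero (n : ℕ) (h : ¬ ∃ D : Divisor k K, D.deg = n) :
    effDivCount k K n = 0 := by
  rw [effDivCount_eq]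
  haveI : IsEmpty (Eff k K n) := ⟨fun A => h ⟨A.1, A.2.2⟩⟩
  exact Nat.card_of_isEmpty

end finite

end Groth.Agent.H86.Zeta
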