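import Mathlib
import Groth.Agent.H86.ZT3
import Groth.Agent.H62.FFResConst
import Groth.Agent.H62.FFConstField
import Groth.Agent.H55.IntCl3

/-!
# Places in a constant field extension of a function field over a finite field
-/

set_option autoImplicit false

namespace Groth.Agent.H86.Zeta

open FunFld Module Groth.Agent.H55 IntermediateField
open scoped TensorProduct

universe u v

section weak

variable {k K : Type*} [Field k] [Field K] [Algebra k K]

/-- the cardinality of the residue field, weak function fields -/
theorem natCard_residue_weak [Finite k] (hK : W.IsWeakFF k K) (P : Place k K) :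
    Nat.card (IsLocalRing.ResidueField P.O) = Nat.card k ^ P.deg := by
  haveI := W.Place.finiteDimensional_residue hK P
  unfold Place.deg
  exact Module.natCard_eq_pow_finrank

theorem finite_residue_weak [Finite k] (hK : W.IsWeakFF k K) (P : Place k K) :
    Finite (IsLocalRing.ResidueField P.O) := by
  haveI := W.Place.finiteDimensional_residue hK P
  exact Module.finite_of_finite k

end weak

section ext

variable {k K K' : Type*} [Field k] [Field K] [Field K'] [Algebra k K] [Algebra K K']
  [Algebra k K'] [IsScalarTower k K K']

theorem hasExtension_of_isOverWith {Q : Place k K'} {P : Place k K} {e : ℕ}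
    (he : IsOverWith Q P e) : P.1.HasExtension Q.1 := by
  have he0 : e ≠ 0 := (isOverWith_pos he).ne'
  refine ⟨fun r s => ?_⟩
  rw [Valuation.comap_apply, Valuation.comap_apply]
  change P.1 r ≤ P.1 s ↔ Q.1 (algebraMap K K' r) ≤ Q.1 (algebraMap K K' s)
  rw [he r, he s]
  exact (pow_le_pow_iff_left₀ zero_le zero_le he0).symm

end ext

section ConstExt

variable {k k' : Type u} {K K' : Type v} [Field k] [Field k'] [Field K] [Field K']
  [Algebra k k'] [Algebra k K] [Algebra K K'] [Algebra k' K'] [Algebra k K']
  [IsScalarTower k k' K'] [IsScalarTower k K K']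

/-- in a finite field, an element fixed by `x ↦ x ^ N` lies in the image of any subfield with `N`
elements -/
theorem mem_range_of_pow_eq {F₁ F₂ : Type*} [Field F₁] [Field F₂] [Finite F₁]
    (φ : F₁ →+* F₂) {N : ℕ} (hN : Nat.card F₁ = N) (hN1 : 1 < N) {x : F₂} (hx : x ^ N = x) :
    x ∈ Set.range φ := by
  classical
  letI : Fintype F₁ := Fintype.ofFinite _
  set p : Polynomial F₂ := Polynomial.X ^ N - Polynomial.X with hp
  have hp0 : p ≠ 0 := FiniteField.X_pow_card_sub_X_ne_zero F₂ hN1
  have hdeg : p.natDegree = N := FiniteField.X_pow_card_sub_X_natDegree_eq F₂ hN1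
  have hroot : ∀ y : F₂, y ^ N = y → y ∈ p.roots.toFinset := by
    intro y hy
    rw [Multiset.mem_toFinset, Polynomial.mem_roots hp0, Polynomial.IsRoot, hp,
      Polynomial.eval_sub, Polynomial.eval_pow, Polynomial.eval_X, hy, sub_self]
  have himg : (Finset.univ.image φ) ⊆ p.roots.toFinset := by
    intro y hy
    obtain ⟨z, _, rfl⟩ := Finset.mem_image.mp hy
    apply hroot
    rw [← map_pow, ← hN, Nat.card_eq_fintype_card, FiniteField.pow_card]
  have hcard : p.roots.toFinset.card ≤ (Finset.univ.image φ).card := by
    rw [Finset.card_image_of_injective _ φ.injective, Finset.card_univ,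
      ← Nat.card_eq_fintype_card, hN, ← hdeg]
    exact (Multiset.toFinset_card_le _).trans (Polynomial.card_roots' p)
  have heq := Finset.eq_of_subset_of_card_le himg hcard
  have := hroot x hx
  rw [← heq, Finset.mem_image] at this
  obtain ⟨z, _, hz⟩ := this
  exact ⟨z, hz⟩

theorem pow_pow_card_mul {F : Type*} [Monoid F] {x : F} {q r : ℕ} (hx : x ^ (q ^ r) = x)
    (m : ℕ) : x ^ (q ^ (r * m)) = x := by
  induction m with
  | zero => simp
  | succ m ih =>
    rw [Nat.mul_succ, pow_add, pow_mul, ih, hx]

variable [Finite k] [FiniteDimensional k k']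

/-- when `[k' : k]` divides `deg P`, the places of `k'K` over `P` have the same residue field -/
theorem deg_eq_of_isOver_of_dvd
    (h : Function.Bijective (Algebra.TensorProduct.productMap
      (IsScalarTower.toAlgHom k k' K') (IsScalarTower.toAlgHom k K K')))
    (hK : IsFunctionField k K) {P : Place k K} {Q : Place k K'} (hQP : IsOver Q P)
    (hdvd : finrank k k' ∣ P.deg) : Q.deg = P.deg := by
  classical
  haveI : Finite k' := Module.finite_of_finite k
  have hg : IsGeometric k K := isGeometric_of_perfectField k K hK
  haveI : FiniteDimensional K K' := finite_constExt h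
  have hK' : W.IsWeakFF k K' := W.weak_of_finite hK.weak
  have he := isOverWith_one_of_isSeparable_constExt h hQP
  haveI := hasExtension_of_isOverWith he
  have hns := congrArg Subalgebra.toSubring (integralClosure_eq_adjoin_of_isSeparable h hK hg P)
  have hk' : ∀ c : k', Q.1 (algebraMap k' K' c) ≤ 1 := fun c =>
    Groth.Agent.H62.FFConstField.val_le_one_of_isAlgebraic Q
      ((Algebra.IsAlgebraic.isAlgebraic (R := k) c).algebraMap)
  have htop := Groth.Agent.H62.FFResConst.residue_adjoin_eq_top h hK P hns Q hk'
  haveI := finite_residue hK P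
  haveI := finite_residue_weak hK' Q
  have hcardP := natCard_residue hK P
  have hcardQ := natCard_residue_weak hK' Q
  have hq : 1 < Nat.card k := Finite.one_lt_card
  have hN1 : 1 < Nat.card k ^ P.deg := Nat.one_lt_pow (Place.deg_pos hK P).ne' hq
  -- the generators lie in the image of `F_P`
  have hgen : ∀ c : k', IsLocalRing.residue Q.O ⟨algebraMap k' K' c, hk' c⟩ ∈
      Set.range (algebraMap (IsLocalRing.ResidueField P.O) (IsLocalRing.ResidueField Q.O)) := by
    intro c
    apply mem_range_of_pow_eq _ hcardP hN1
    obtain ⟨m, hm⟩ := hdvd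
    rw [hm]
    apply pow_pow_card_mul
    rw [← map_pow]
    congr 1
    apply Subtype.ext
    change (algebraMap k' K' c) ^ (Nat.card k ^ finrank k k') = algebraMap k' K' c
    rw [← map_pow]
    congr 1
    letI : Fintype k' := Fintype.ofFinite _
    have := FiniteField.pow_card c
    rwa [← Nat.card_eq_fintype_card, Module.natCard_eq_pow_finrank (K := k) (V := k')] at this
  have hsurj : Function.Surjective
      (algebraMap (IsLocalRing.ResidueField P.O) (IsLocalRing.ResidueField Q.O)) := by
    intro y
    have hy : y ∈ Algebra.adjoin (IsLocalRing.ResidueField P.O)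
        (Set.range fun c : k' => IsLocalRing.residue Q.O ⟨algebraMap k' K' c, hk' c⟩) := by
      rw [htop]; trivial
    have hle : Algebra.adjoin (IsLocalRing.ResidueField P.O)
        (Set.range fun c : k' => IsLocalRing.residue Q.O ⟨algebraMap k' K' c, hk' c⟩) ≤ ⊥ := by
      apply Algebra.adjoin_le
      rintro _ ⟨c, rfl⟩
      exact Algebra.mem_bot.mpr (hgen c)
    exact Algebra.mem_bot.mp (hle hy)
  have hbij : Function.Bijective
      (algebraMap (IsLocalRing.ResidueField P.O) (IsLocalRing.ResidueField Q.O)) :=
    ⟨(algebraMap (IsLocalRing.ResidueField P.O) (IsLocalRing.ResidueField Q.O)).injective, hsurj⟩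
  have hcard := Nat.card_congr (Equiv.ofBijective _ hbij)
  rw [hcardP, hcardQ] at hcard
  exact (Nat.pow_right_injective hq hcard).symm

end ConstExt

end Groth.Agent.H86.Zeta
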