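import Mathlib
import Groth.Agent.H86.ZT4

/-!
# Complete splitting in a constant field extension
-/

set_option autoImplicit false

namespace Groth.Agent.H86.Zeta

open FunFld Module Groth.Agent.H55 IntermediateField
open scoped TensorProduct

universe u v

section ConstExt

variable {k k' : Type u} {K K' : Type v} [Field k] [Field k'] [Field K] [Field K']
  [Algebra k k'] [Algebra k K] [Algebra K K'] [Algebra k' K'] [Algebra k K']
  [IsScalarTower k k' K'] [IsScalarTower k K K']

/-- the degree of a constant field extension -/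
theorem finrank_constExt
    (h : Function.Bijective (Algebra.TensorProduct.productMap
      (IsScalarTower.toAlgHom k k' K') (IsScalarTower.toAlgHom k K K')))
    [FiniteDimensional k k'] : finrank K K' = finrank k k' := by
  let f : K ⊗[k] k' →ₐ[K] K' := Algebra.TensorProduct.productLeftAlgHom (Algebra.ofId K K')
    (IsScalarTower.toAlgHom k k' K')
  have hf : ∀ z : K ⊗[k] k', f z = Algebra.TensorProduct.productMap
      (IsScalarTower.toAlgHom k k' K') (IsScalarTower.toAlgHom k K K')
      (Algebra.TensorProduct.comm k K k' z) := by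
    intro z
    induction z using TensorProduct.induction_on with
    | zero => simp
    | tmul a b =>
      show algebraMap K K' a * algebraMap k' K' b = _
      rw [Algebra.TensorProduct.comm_tmul, Algebra.TensorProduct.productMap_apply_tmul]
      exact mul_comm _ _
    | add x y hx hy => rw [map_add, map_add, map_add, hx, hy]
  have hbij : Function.Bijective f := by
    constructor
    · intro z w hzw
      rw [hf, hf] at hzw
      exact (Algebra.TensorProduct.comm k K k').injective (h.1 hzw)
    · intro z
      obtain ⟨w, hw⟩ := h.2 z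
      refine ⟨(Algebra.TensorProduct.comm k K k').symm w, ?_⟩
      rw [hf, AlgEquiv.apply_symm_apply, hw]
  have e : (K ⊗[k] k') ≃ₗ[K] K' := LinearEquiv.ofBijective f.toLinearMap hbij
  rw [← e.finrank_eq, Module.finrank_baseChange]

variable [Finite k] [FiniteDimensional k k']

/-- when `[k' : k]` divides `deg P`, there are exactly `[k' : k]` places of `k'K` over `P` -/
theorem card_over_of_dvd
    (h : Function.Bijective (Algebra.TensorProduct.productMap
      (IsScalarTower.toAlgHom k k' K') (IsScalarTower.toAlgHom k K K')))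
    (hK : IsFunctionField k K) (P : Place k K) (hdvd : finrank k k' ∣ P.deg) :
    Nat.card {Q : Place k K' // IsOver Q P} = finrank k k' := by
  classical
  haveI : FiniteDimensional K K' := finite_constExt h
  obtain ⟨hfin, hsum⟩ := sum_ramIdx_mul_deg (K' := K') hK P
  have h2 := hsum hfin.toFinset (fun Q' => hfin.mem_toFinset)
  have h3 : ∑ Q' ∈ hfin.toFinset, ramIdx Q' P * Q'.deg = ∑ _Q' ∈ hfin.toFinset, P.deg := by
    apply Finset.sum_congr rfl
    intro Q' hQ'
    have hover : IsOver Q' P := hfin.mem_toFinset.mp hQ'
    rw [ramIdx_eq (isOverWith_one_of_isSeparable_constExt h hover),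
      deg_eq_of_isOver_of_dvd h hK hover hdvd, one_mul]
  rw [h3, Finset.sum_const, smul_eq_mul, finrank_constExt h] at h2
  have h6 : Nat.card {Q' : Place k K' // IsOver Q' P} = hfin.toFinset.card := by
    have : Nat.card {Q' : Place k K' // IsOver Q' P} =
        Set.ncard {Q' : Place k K' | IsOver Q' P} := Nat.card_coe_set_eq _
    rw [this, Set.ncard_eq_toFinset_card _ hfin]
  rw [h6]
  exact Nat.eq_of_mul_eq_mul_right (Place.deg_pos hK P) h2

/-- two distinct places above `P`, unramified, of the same degree, when `[k' : k] ≥ 2` divides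
`deg P` -/
theorem exists_two_over
    (h : Function.Bijective (Algebra.TensorProduct.productMap
      (IsScalarTower.toAlgHom k k' K') (IsScalarTower.toAlgHom k K K')))
    (hK : IsFunctionField k K) (P : Place k K) (hdvd : finrank k k' ∣ P.deg)
    (h2 : 2 ≤ finrank k k') :
    ∃ Q₁ Q₂ : Place k K', Q₁ ≠ Q₂ ∧ IsOverWith Q₁ P 1 ∧ IsOverWith Q₂ P 1 ∧
      Q₁.deg = P.deg ∧ Q₂.deg = P.deg := by
  have hcard := card_over_of_dvd h hK P hdvd
  have h1 : 1 < Nat.card {Q : Place k K' // IsOver Q P} := by omega
  haveI : Finite {Q : Place k K' // IsOver Q P} := Nat.finite_of_card_ne_zero (by omega)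
  obtain ⟨Q₁, Q₂, hne⟩ := Finite.one_lt_card_iff_nontrivial.mp h1
  refine ⟨Q₁.1, Q₂.1, fun h => hne (Subtype.ext h),
    isOverWith_one_of_isSeparable_constExt h Q₁.2, isOverWith_one_of_isSeparable_constExt h Q₂.2,
    deg_eq_of_isOver_of_dvd h hK Q₁.2 hdvd, deg_eq_of_isOver_of_dvd h hK Q₂.2 hdvd⟩

end ConstExt

end Groth.Agent.H86.Zeta
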