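import Mathlib
import Groth.Agent.H86.ZT5
import Groth.Agent.H55.Geom5

/-!
# Lifting places and effective divisors to a constant field extension
-/

set_option autoImplicit false

namespace Groth.Agent.H86.Zeta

open FunFld Module Groth.Agent.H55 IntermediateField
open scoped TensorProduct

universe u v

section ConstExt

variable {k k' : Type u} {K K' : Type v} [Field k] [Field k'] [Field K] [Field K']
  [Algebra k k'] [Algebra k K] [Algebra K K'] [Algebra k' K'] [Algebra k K']
  [IsScalarTower k k' K'] [IsScalarTower k K K']

variable [Finite k] [FiniteDimensional k k']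

/-- the degree of a place over the bigger constant field -/
theorem deg_extendConst (hK' : IsFunctionField k' K') (hKw : W.IsWeakFF k K') (Q : Place k K') :
    finrank k k' * (Groth.Agent.H62.FFConstField.extendConst k' Q).deg = Q.deg := by
  haveI : Finite k' := Module.finite_of_finite k
  have h1 := natCard_residue_weak hKw Q
  have h2 := natCard_residue hK' (Groth.Agent.H62.FFConstField.extendConst k' Q)
  have h3 : Nat.card k' = Nat.card k ^ finrank k k' := Module.natCard_eq_pow_finrank
  have h4 : Nat.card (IsLocalRing.ResidueField (Groth.Agent.H62.FFConstField.extendConst k' Q).O) =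
      Nat.card (IsLocalRing.ResidueField Q.O) := rfl
  rw [h4, h1, h3, ← pow_mul] at h2
  have hq : 1 < Nat.card k := Finite.one_lt_card
  exact (Nat.pow_right_injective hq h2).symm

/-- two distinct places of `k'K / k'` over `P`, of degree `deg P / [k' : k]` -/
theorem exists_lift_places
    (h : Function.Bijective (Algebra.TensorProduct.productMap
      (IsScalarTower.toAlgHom k k' K') (IsScalarTower.toAlgHom k K K')))
    (hK : IsFunctionField k K) (P : Place k K) (hdvd : finrank k k' ∣ P.deg)
    (h2 : 2 ≤ finrank k k') :
    ∃ Q₁ Q₂ : Place k' K', Q₁ ≠ Q₂ ∧ (∀ z : K, Q₁.1 (algebraMap K K' z) = P.1 z) ∧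
      (∀ z : K, Q₂.1 (algebraMap K K' z) = P.1 z) ∧
      finrank k k' * Q₁.deg = P.deg ∧ finrank k k' * Q₂.deg = P.deg := by
  have hg : IsGeometric k K := isGeometric_of_perfectField k K hK
  have hK' : IsFunctionField k' K' := (isFunctionField_and_isGeometric_constExt h hK hg).1
  haveI : FiniteDimensional K K' := finite_constExt h
  have hKw : W.IsWeakFF k K' := W.weak_of_finite hK.weak
  obtain ⟨Q₁, Q₂, hne, he₁, he₂, hd₁, hd₂⟩ := exists_two_over h hK P hdvd h2
  refine ⟨Groth.Agent.H62.FFConstField.extendConst k' Q₁,
    Groth.Agent.H62.FFConstField.extendConst k' Q₂, ?_, ?_, ?_, ?_, ?_⟩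
  · intro heq
    apply hne
    apply Subtype.ext
    have := congrArg (fun Q : Place k' K' => Q.1) heq
    exact this
  · intro z
    have := he₁ z
    rwa [pow_one] at this
  · intro z
    have := he₂ z
    rwa [pow_one] at this
  · rw [deg_extendConst hK' hKw, hd₁]
  · rw [deg_extendConst hK' hKw, hd₂]

end ConstExt

end Groth.Agent.H86.Zeta
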