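import Mathlib
import Groth.Agent.H86.ZT6

/-!
# Lifting pairs of effective divisors along two sections of the places
-/

set_option autoImplicit false

namespace Groth.Agent.H86.Zeta

open FunFld Module Groth.Agent.H55

section lift

variable {k K k' K' : Type*} [Field k] [Field K] [Algebra k K] [Field k'] [Field K']
  [Algebra k' K'] [Algebra K K']
  (Q₁ Q₂ : Place k K → Place k' K') (r : ℕ)
  (hne : ∀ P, Q₁ P ≠ Q₂ P)
  (hover₁ : ∀ P (z : K), (Q₁ P).1 (algebraMap K K' z) = P.1 z)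
  (hover₂ : ∀ P (z : K), (Q₂ P).1 (algebraMap K K' z) = P.1 z)
  (hdeg₁ : ∀ P, r * (Q₁ P).deg = P.deg) (hdeg₂ : ∀ P, r * (Q₂ P).deg = P.deg)

include hover₁ in
theorem lift_injective₁ : Function.Injective Q₁ := by
  intro P P' h
  apply Place.ext'
  intro z
  rw [← hover₁ P z, ← hover₁ P' z, h]

include hover₂ in
theorem lift_injective₂ : Function.Injective Q₂ := by
  intro P P' h
  apply Place.ext'
  intro z
  rw [← hover₂ P z, ← hover₂ P' z, h]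

include hne hover₁ hover₂ in
theorem lift_ne (P P' : Place k K) : Q₁ P ≠ Q₂ P' := by
  intro h
  have : P = P' := by
    apply Place.ext'
    intro z
    rw [← hover₁ P z, ← hover₂ P' z, h]
  subst this
  exact hne P h

/-- the lift of a pair of divisors -/
noncomputable def liftDiv (D₁ D₂ : Divisor k K) : Divisor k' K' :=
  D₁.mapDomain Q₁ + D₂.mapDomain Q₂

include hne hover₁ hover₂ in
theorem liftDiv_apply₁ (D₁ D₂ : Divisor k K) (P : Place k K) :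
    liftDiv Q₁ Q₂ D₁ D₂ (Q₁ P) = D₁ P := by
  unfold liftDiv
  rw [Finsupp.add_apply, Finsupp.mapDomain_apply (lift_injective₁ Q₁ hover₁),
    Finsupp.mapDomain_of_notMem_range, add_zero]
  rintro ⟨P', hP'⟩
  exact lift_ne Q₁ Q₂ hne hover₁ hover₂ P P' hP'.symm

include hne hover₁ hover₂ in
theorem liftDiv_apply₂ (D₁ D₂ : Divisor k K) (P : Place k K) :
    liftDiv Q₁ Q₂ D₁ D₂ (Q₂ P) = D₂ P := by
  unfold liftDiv
  rw [Finsupp.add_apply, Finsupp.mapDomain_apply (lift_injective₂ Q₂ hover₂),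
    Finsupp.mapDomain_of_notMem_range, zero_add]
  rintro ⟨P', hP'⟩
  exact lift_ne Q₁ Q₂ hne hover₁ hover₂ P' P hP'

include hover₁ in
theorem mapDomain_nonneg₁ {D : Divisor k K} (hD : 0 ≤ D) : 0 ≤ D.mapDomain Q₁ := by
  intro R
  rw [Finsupp.zero_apply]
  by_cases hR : R ∈ Set.range Q₁
  · obtain ⟨P, rfl⟩ := hR
    rw [Finsupp.mapDomain_apply (lift_injective₁ Q₁ hover₁)]
    exact hD P
  · rw [Finsupp.mapDomain_of_notMem_range _ _ hR]

include hover₂ in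
theorem mapDomain_nonneg₂ {D : Divisor k K} (hD : 0 ≤ D) : 0 ≤ D.mapDomain Q₂ := by
  intro R
  rw [Finsupp.zero_apply]
  by_cases hR : R ∈ Set.range Q₂
  · obtain ⟨P, rfl⟩ := hR
    rw [Finsupp.mapDomain_apply (lift_injective₂ Q₂ hover₂)]
    exact hD P
  · rw [Finsupp.mapDomain_of_notMem_range _ _ hR]

include hover₁ hover₂ in
theorem liftDiv_nonneg {D₁ D₂ : Divisor k K} (h₁ : 0 ≤ D₁) (h₂ : 0 ≤ D₂) :
    0 ≤ liftDiv Q₁ Q₂ D₁ D₂ :=
  add_nonneg (mapDomain_nonneg₁ Q₁ hover₁ h₁) (mapDomain_nonneg₂ Q₂ hover₂ h₂)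

theorem deg_mapDomain (Q : Place k K → Place k' K') (hdeg : ∀ P, r * (Q P).deg = P.deg)
    (D : Divisor k K) : (r : ℤ) * Divisor.deg (D.mapDomain Q) = D.deg := by
  unfold Divisor.deg
  rw [Finsupp.sum_mapDomain_index (fun _ => zero_mul _) (fun _ _ _ => add_mul _ _ _),
    Finsupp.mul_sum]
  apply Finsupp.sum_congr
  intro P _
  rw [← hdeg P]
  push_cast
  ring

include hdeg₁ hdeg₂ in
theorem deg_liftDiv (D₁ D₂ : Divisor k K) :
    (r : ℤ) * (liftDiv Q₁ Q₂ D₁ D₂).deg = D₁.deg + D₂.deg := by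
  unfold liftDiv
  rw [Divisor.deg_add, mul_add, deg_mapDomain r Q₁ hdeg₁, deg_mapDomain r Q₂ hdeg₂]

include hne hover₁ hover₂ hdeg₁ hdeg₂ in
/-- the number of effective divisors of the extension is at least the number of pairs -/
theorem sum_mul_le_effDivCount (hr : 0 < r) (m₀ N : ℕ)
    (hfinK : ∀ n, Finite (Eff k K n)) (hfin : Finite (Eff k' K' (2 * m₀ + N))) :
    ∑ i : Fin (N + 1), effDivCount k K (r * (m₀ + i)) * effDivCount k K (r * (m₀ + (N - i))) ≤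
      effDivCount k' K' (2 * m₀ + N) := by
  classical
  rw [effDivCount_eq]
  simp_rw [effDivCount_eq, ← Nat.card_prod]
  rw [← Nat.card_sigma]
  let f : (Σ i : Fin (N + 1), Eff k K (r * (m₀ + i)) × Eff k K (r * (m₀ + (N - i)))) →
      Eff k' K' (2 * m₀ + N) := fun x =>
    ⟨liftDiv Q₁ Q₂ x.2.1.1 x.2.2.1, liftDiv_nonneg Q₁ Q₂ hover₁ hover₂ x.2.1.2.1 x.2.2.2.1, by
      have h1 := deg_liftDiv Q₁ Q₂ r hdeg₁ hdeg₂ x.2.1.1 x.2.2.1
      rw [x.2.1.2.2, x.2.2.2.2] at h1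
      have hi : (x.1 : ℕ) ≤ N := Nat.lt_succ_iff.mp x.1.2
      have h2 : (r : ℤ) * (liftDiv Q₁ Q₂ x.2.1.1 x.2.2.1).deg = r * ((2 * m₀ + N : ℕ) : ℤ) := by
        rw [h1]
        push_cast [Nat.cast_sub hi]
        ring
      have hr' : (r : ℤ) ≠ 0 := by exact_mod_cast hr.ne'
      exact mul_left_cancel₀ hr' h2⟩
  apply Nat.card_le_card_of_injective f
  rintro ⟨i, D₁, D₂⟩ ⟨i', D₁', D₂'⟩ heq
  have heq' : liftDiv Q₁ Q₂ D₁.1 D₂.1 = liftDiv Q₁ Q₂ D₁'.1 D₂'.1 := congrArg Subtype.val heq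
  have h1 : D₁.1 = D₁'.1 := by
    ext P
    rw [← liftDiv_apply₁ Q₁ Q₂ hne hover₁ hover₂ D₁.1 D₂.1 P, heq',
      liftDiv_apply₁ Q₁ Q₂ hne hover₁ hover₂]
  have h2 : D₂.1 = D₂'.1 := by
    ext P
    rw [← liftDiv_apply₂ Q₁ Q₂ hne hover₁ hover₂ D₁.1 D₂.1 P, heq',
      liftDiv_apply₂ Q₁ Q₂ hne hover₁ hover₂]
  have hi : i = i' := by
    have h3 := D₁.2.2
    rw [h1, D₁'.2.2] at h3
    have h4 : r * (m₀ + (i' : ℕ)) = r * (m₀ + (i : ℕ)) := by exact_mod_cast h3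
    have := Nat.eq_of_mul_eq_mul_left hr h4
    apply Fin.ext
    omega
  subst hi
  rw [Sigma.mk.inj_iff]
  exact ⟨rfl, heq_of_eq (Prod.ext (Subtype.ext h1) (Subtype.ext h2))⟩

end lift

end Groth.Agent.H86.Zeta
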