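import Mathlib
import Groth.Agent.H86.ZT7

/-!
# The growth argument: the degrees of places cannot all be divisible by `r ≥ 2`
-/

set_option autoImplicit false

namespace Groth.Agent.H86.Zeta

open FunFld Module Groth.Agent.H55 IntermediateField
open scoped TensorProduct

universe u v

section bounds

variable {k K : Type*} [Field k] [Field K] [Algebra k K] [Finite k]

theorem classNum_pos (hK : IsFunctionField k K) : 0 < classNum k K := by
  rw [classNum_eq]
  haveI := finite_cl0 hK
  exact Nat.card_pos

/-- lower bound for the number of effective divisors of large degree -/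
theorem pow_le_effDivCount (hK : IsFunctionField k K) (n : ℕ) (hn : 2 * genus k K ≤ n + 1)
    (D₁ : Divisor k K) (hD₁ : D₁.deg = n) (hgn : genus k K ≤ n) :
    Nat.card k ^ (n - genus k K) ≤ effDivCount k K n := by
  have h := count_effective hK n hn D₁ hD₁
  have hq : 1 < Nat.card k := Finite.one_lt_card
  have hh := classNum_pos hK
  set q := Nat.card k with hqdef
  set s := n - genus k K with hs
  have e : n + 1 - genus k K = s + 1 := by omega
  rw [e] at h
  have h1 : (q - 1) * q ^ s ≤ q ^ (s + 1) - 1 := by
    have h2 : 1 ≤ q ^ s := Nat.one_le_pow _ _ (by omega)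
    have h3 : q ^ (s + 1) = q * q ^ s := by rw [pow_succ, mul_comm]
    rw [h3, Nat.sub_mul, one_mul]
    omega
  have h4 : (q - 1) * q ^ s ≤ (q - 1) * effDivCount k K n := by
    rw [h]
    calc (q - 1) * q ^ s ≤ q ^ (s + 1) - 1 := h1
      _ = 1 * (q ^ (s + 1) - 1) := (one_mul _).symm
      _ ≤ classNum k K * (q ^ (s + 1) - 1) := Nat.mul_le_mul_right _ hh
  exact Nat.le_of_mul_le_mul_left h4 (by omega)

/-- upper bound for the number of effective divisors of large degree -/
theorem effDivCount_le (hK : IsFunctionField k K) (n : ℕ) (hn : 2 * genus k K ≤ n + 1) :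
    effDivCount k K n ≤ classNum k K * Nat.card k ^ (n + 1) := by
  by_cases hex : ∃ D : Divisor k K, D.deg = n
  · obtain ⟨D₁, hD₁⟩ := hex
    have h := count_effective hK n hn D₁ hD₁
    have hq : 1 < Nat.card k := Finite.one_lt_card
    calc effDivCount k K n = 1 * effDivCount k K n := (one_mul _).symm
      _ ≤ (Nat.card k - 1) * effDivCount k K n := Nat.mul_le_mul_right _ (by omega)
      _ = classNum k K * (Nat.card k ^ (n + 1 - genus k K) - 1) := h
      _ ≤ classNum k K * Nat.card k ^ (n + 1) := by
        apply Nat.mul_le_mul_left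
        exact (Nat.sub_le _ _).trans (Nat.pow_le_pow_right (by omega) (Nat.sub_le _ _))
  · rw [effDivCount_eq_zero n hex]
    exact Nat.zero_le _

end bounds

section ConstExt

variable {k k' : Type u} {K K' : Type v} [Field k] [Field k'] [Field K] [Field K']
  [Algebra k k'] [Algebra k K] [Algebra K K'] [Algebra k' K'] [Algebra k K']
  [IsScalarTower k k' K'] [IsScalarTower k K K']

variable [Finite k] [FiniteDimensional k k']

/-- the degrees of the places of a function field over a finite field are not all divisible by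
the degree `r ≥ 2` of a constant field extension, if `r` is the degree of a divisor -/
theorem false_of_forall_dvd
    (h : Function.Bijective (Algebra.TensorProduct.productMap
      (IsScalarTower.toAlgHom k k' K') (IsScalarTower.toAlgHom k K K')))
    (hK : IsFunctionField k K) (h2 : 2 ≤ finrank k k')
    (hdvd : ∀ P : Place k K, finrank k k' ∣ P.deg)
    (D₀ : Divisor k K) (hD₀ : D₀.deg = finrank k k') : False := by
  classical
  haveI : Finite k' := Module.finite_of_finite k
  have hg : IsGeometric k K := isGeometric_of_perfectField k K hK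
  have hK' : IsFunctionField k' K' := (isFunctionField_and_isGeometric_constExt h hK hg).1
  set r := finrank k k' with hr
  have hr0 : 0 < r := by omega
  choose Q₁ Q₂ hne hover₁ hover₂ hdeg₁ hdeg₂ using
    fun P : Place k K => exists_lift_places h hK P (hdvd P) h2
  set g := genus k K with hgdef
  set g' := genus k' K' with hg'def
  set q := Nat.card k with hqdef
  have hq : 1 < q := Finite.one_lt_card
  have hq' : Nat.card k' = q ^ r := Module.natCard_eq_pow_finrank
  set m₀ := 2 * g + 2 * g' + 2 with hm₀
  set N := classNum k' K' * q ^ (r + 2 * g) with hN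
  have hle := sum_mul_le_effDivCount Q₁ Q₂ r hne hover₁ hover₂ hdeg₁ hdeg₂ hr0 m₀ N
    (fun n => finite_eff hK n) (finite_eff hK' _)
  have hup := effDivCount_le hK' (2 * m₀ + N) (by omega)
  rw [hq', ← pow_mul] at hup
  -- each summand is large
  have hterm : ∀ i : Fin (N + 1), q ^ (r * (2 * m₀ + N) - 2 * g) ≤
      effDivCount k K (r * (m₀ + i)) * effDivCount k K (r * (m₀ + (N - i))) := by
    intro i
    have hi : (i : ℕ) ≤ N := Nat.lt_succ_iff.mp i.2
    have hlow : ∀ j : ℕ, m₀ ≤ j → q ^ (r * j - g) ≤ effDivCount k K (r * j) := by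
      intro j hj
      have hrj : j ≤ r * j := Nat.le_mul_of_pos_left j hr0
      apply pow_le_effDivCount hK (r * j) (by omega) (j • D₀)
      · rw [Divisor.deg_nsmul, hD₀]
        push_cast
        ring
      · omega
    have h1 := hlow (m₀ + i) (by omega)
    have h2 := hlow (m₀ + (N - i)) (by omega)
    have hm1 : m₀ + (i : ℕ) ≤ r * (m₀ + i) := Nat.le_mul_of_pos_left _ hr0
    have hm2 : m₀ + (N - (i : ℕ)) ≤ r * (m₀ + (N - i)) := Nat.le_mul_of_pos_left _ hr0
    calc q ^ (r * (2 * m₀ + N) - 2 * g)
        = q ^ (r * (m₀ + i) - g) * q ^ (r * (m₀ + (N - i)) - g) := by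
          rw [← pow_add]
          congr 1
          have e : r * (2 * m₀ + N) = r * (m₀ + i) + r * (m₀ + (N - i)) := by
            rw [← Nat.mul_add]
            congr 1
            omega
          omega
      _ ≤ _ := Nat.mul_le_mul h1 h2
  have hsum : (N + 1) * q ^ (r * (2 * m₀ + N) - 2 * g) ≤
      ∑ i : Fin (N + 1), effDivCount k K (r * (m₀ + i)) * effDivCount k K (r * (m₀ + (N - i))) := by
    have := Finset.sum_le_sum (fun i (_ : i ∈ Finset.univ) => hterm i)
    rwa [Finset.sum_const, Finset.card_univ, Fintype.card_fin, smul_eq_mul] at this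
  have hfinal := hsum.trans (hle.trans hup)
  -- multiply by `q ^ (2g)`
  have hbig : 2 * g ≤ r * (2 * m₀ + N) := by
    have : 2 * m₀ + N ≤ r * (2 * m₀ + N) := Nat.le_mul_of_pos_left _ hr0
    omega
  have h3 : (N + 1) * q ^ (r * (2 * m₀ + N)) ≤ N * q ^ (r * (2 * m₀ + N)) := by
    calc (N + 1) * q ^ (r * (2 * m₀ + N))
        = (N + 1) * q ^ (r * (2 * m₀ + N) - 2 * g) * q ^ (2 * g) := by
          rw [mul_assoc, ← pow_add, Nat.sub_add_cancel hbig]
      _ ≤ classNum k' K' * q ^ (r * (2 * m₀ + N + 1)) * q ^ (2 * g) :=
          Nat.mul_le_mul_right _ hfinal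
      _ = N * q ^ (r * (2 * m₀ + N)) := by
          rw [hN, mul_assoc, mul_assoc, ← pow_add, ← pow_add]
          congr 2
          ring
  have hpos : 0 < q ^ (r * (2 * m₀ + N)) := Nat.pow_pos (by omega)
  have := Nat.le_of_mul_le_mul_right h3 hpos
  omega

end ConstExt

end Groth.Agent.H86.Zeta
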