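import Mathlib
import Groth.Agent.H86.ZT8

/-!
# F. K. Schmidt's theorem: over a finite constant field there is a divisor of degree one
-/

set_option autoImplicit false

namespace Groth.Agent.H86.Zeta

open FunFld Module Groth.Agent.H55 IntermediateField Polynomial
open scoped TensorProduct

universe u v

section construct

variable {k : Type u} {K : Type v} [Field k] [Field K] [Algebra k K]

/-- irreducible polynomials over the constant field stay irreducible over the function field -/
theorem irreducible_map_of_isFunctionField (hK : IsFunctionField k K) {m : k[X]}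
    (hmon : m.Monic) (hm : Irreducible m) : Irreducible (m.map (algebraMap k K)) := by
  have hlift : ∀ f : K[X], f.Monic → f ∣ m.map (algebraMap k K) →
      ∃ F : k[X], F.map (algebraMap k K) = f ∧ F.natDegree = f.natDegree ∧ F.Monic := by
    intro f hf hd
    have h1 := integralClosure.mem_lifts_of_monic_of_dvd_map K hmon hf hd
    have h2 : f ∈ lifts (algebraMap k K) := by
      rw [lifts_iff_coeff_lifts] at h1 ⊢
      intro n
      obtain ⟨⟨y, hy⟩, hy'⟩ := h1 n
      obtain ⟨c, hc⟩ := hK.2 y hy.isAlgebraic
      exact ⟨c, hc.trans hy'⟩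
    obtain ⟨F, hF1, hF2, hF3⟩ := lifts_and_natDegree_eq_and_monic h2 hf
    exact ⟨F, hF1, hF2, hF3⟩
  rw [Monic.irreducible_iff_natDegree (hmon.map _)]
  constructor
  · intro h1
    have h2 : (m.map (algebraMap k K)).natDegree = 0 := by rw [h1, natDegree_one]
    rw [natDegree_map] at h2
    have h3 : m = 1 := eq_one_of_monic_natDegree_zero hmon h2
    exact hm.not_isUnit (h3 ▸ isUnit_one)
  · intro f g hf hg hfg
    obtain ⟨F, hF1, hF2, hF3⟩ := hlift f hf ⟨g, hfg.symm⟩
    obtain ⟨G, hG1, hG2, hG3⟩ := hlift g hg ⟨f, by rw [← hfg, mul_comm]⟩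
    have hFG : F * G = m := by
      apply map_injective (algebraMap k K) (algebraMap k K).injective
      rw [Polynomial.map_mul, hF1, hG1, hfg]
    rcases hm.isUnit_or_isUnit hFG.symm with hu | hu
    · left
      rw [← hF2]
      exact natDegree_eq_zero_of_isUnit hu
    · right
      rw [← hG2]
      exact natDegree_eq_zero_of_isUnit hu

/-- over a finite field there are monic irreducible polynomials of every positive degree -/
theorem exists_monic_irreducible_natDegree [Finite k] (r : ℕ) (hr : 0 < r) :
    ∃ m : k[X], m.Monic ∧ Irreducible m ∧ m.natDegree = r := by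
  haveI : NeZero r := ⟨hr.ne'⟩
  obtain ⟨p, hp⟩ := CharP.exists k
  haveI := hp
  haveI : Fact p.Prime := ⟨CharP.char_is_prime k p⟩
  obtain ⟨α, hα⟩ := Field.exists_primitive_element k (FiniteField.Extension k p r)
  have hint : IsIntegral k α := Algebra.IsIntegral.isIntegral α
  refine ⟨minpoly k α, minpoly.monic hint, minpoly.irreducible hint, ?_⟩
  rw [← IntermediateField.adjoin.finrank hint, hα, IntermediateField.finrank_top',
    FiniteField.finrank_extension]

end construct

end Groth.Agent.H86.Zeta
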