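import Mathlib
import Groth.Agent.H86.ZT9

/-!
# F. K. Schmidt's theorem
-/

set_option autoImplicit false

namespace Groth.Agent.H86.Zeta

open FunFld Module Groth.Agent.H55 IntermediateField Polynomial
open scoped TensorProduct

universe u v

section adjoinRoot

variable {k : Type u} {K : Type v} [Field k] [Field K] [Algebra k K]
  (m : k[X]) [Fact (Irreducible m)] [Fact (Irreducible (m.map (algebraMap k K)))]

/-- the algebra structure of `K(α)` over `k(α)` -/
@[instance_reducible]
noncomputable def algAdj : Algebra (AdjoinRoot m) (AdjoinRoot (m.map (algebraMap k K))) :=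
  (AdjoinRoot.map (algebraMap k K) m (m.map (algebraMap k K)) dvd_rfl).toAlgebra

attribute [local instance] algAdj

theorem algebraMap_adj (x : AdjoinRoot m) :
    algebraMap (AdjoinRoot m) (AdjoinRoot (m.map (algebraMap k K))) x =
      AdjoinRoot.map (algebraMap k K) m (m.map (algebraMap k K)) dvd_rfl x := rfl

instance isScalarTower_adj :
    IsScalarTower k (AdjoinRoot m) (AdjoinRoot (m.map (algebraMap k K))) := by
  apply IsScalarTower.of_algebraMap_eq
  intro c
  rw [algebraMap_adj, AdjoinRoot.algebraMap_eq, AdjoinRoot.map_of, AdjoinRoot.algebraMap_eq']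
  rfl

theorem bijective_productMap (hK : IsFunctionField k K) [Finite k] (hmon : m.Monic) :
    Function.Bijective (Algebra.TensorProduct.productMap
      (IsScalarTower.toAlgHom k (AdjoinRoot m) (AdjoinRoot (m.map (algebraMap k K))))
      (IsScalarTower.toAlgHom k K (AdjoinRoot (m.map (algebraMap k K))))) := by
  haveI : FiniteDimensional k (AdjoinRoot m) := hmon.finite_adjoinRoot
  have hg : IsGeometric k K := isGeometric_of_perfectField k K hK
  have hF : IsField (AdjoinRoot m ⊗[k] K) := hg (AdjoinRoot m) inferInstance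
  set f := Algebra.TensorProduct.productMap
      (IsScalarTower.toAlgHom k (AdjoinRoot m) (AdjoinRoot (m.map (algebraMap k K))))
      (IsScalarTower.toAlgHom k K (AdjoinRoot (m.map (algebraMap k K)))) with hf
  constructor
  · rw [injective_iff_map_eq_zero]
    intro x hx
    by_contra hx0
    obtain ⟨y, hy⟩ := hF.mul_inv_cancel hx0
    have := congrArg f hy
    rw [map_mul, hx, zero_mul, map_one] at this
    exact zero_ne_one this
  · intro z
    induction z using AdjoinRoot.induction_on with
    | ih p =>
      induction p using Polynomial.induction_on with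
      | C a =>
        refine ⟨1 ⊗ₜ a, ?_⟩
        rw [hf, Algebra.TensorProduct.productMap_apply_tmul, map_one, one_mul]
        rfl
      | add p q hp hq =>
        obtain ⟨x, hx⟩ := hp
        obtain ⟨y, hy⟩ := hq
        exact ⟨x + y, by rw [map_add, hx, hy, map_add]⟩
      | monomial n a ih =>
        obtain ⟨x, hx⟩ := ih
        refine ⟨x * (AdjoinRoot.root m ⊗ₜ 1), ?_⟩
        have hroot : (IsScalarTower.toAlgHom k (AdjoinRoot m)
            (AdjoinRoot (m.map (algebraMap k K)))) (AdjoinRoot.root m) =
            AdjoinRoot.mk (m.map (algebraMap k K)) X := by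
          change algebraMap (AdjoinRoot m) (AdjoinRoot (m.map (algebraMap k K)))
            (AdjoinRoot.root m) = _
          rw [algebraMap_adj, AdjoinRoot.map_root, AdjoinRoot.mk_X]
        rw [map_mul, hx, hf, Algebra.TensorProduct.productMap_apply_tmul, map_one, mul_one,
          hroot, ← map_mul, pow_succ, mul_assoc]

end adjoinRoot

section main

variable {k : Type u} {K : Type v} [Field k] [Field K] [Algebra k K]

attribute [local instance] algAdj

/-- **F. K. Schmidt's theorem**: over a finite constant field the degree map is onto. -/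
theorem deg_surjective [Finite k] (hK : IsFunctionField k K) :
    Function.Surjective (Divisor.deg : Divisor k K → ℤ) := by
  classical
  obtain ⟨a, ha⟩ := Int.subgroup_cyclic (AddMonoidHom.range (Divisor.degHom (k := k) (K := K)))
  have hmem : ∀ D : Divisor k K, a ∣ D.deg := by
    intro D
    have h1 : D.deg ∈ AddMonoidHom.range (Divisor.degHom (k := k) (K := K)) := ⟨D, rfl⟩
    rw [ha, AddSubgroup.mem_closure_singleton] at h1
    obtain ⟨n, hn⟩ := h1
    exact ⟨n, by rw [← hn, smul_eq_mul, mul_comm]⟩
  obtain ⟨D₁, hD₁⟩ : ∃ D : Divisor k K, D.deg = a := by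
    have h1 : a ∈ AddMonoidHom.range (Divisor.degHom (k := k) (K := K)) := by
      rw [ha]
      exact AddSubgroup.subset_closure rfl
    exact h1
  -- a place
  obtain ⟨x, hx, _⟩ := hK.1
  obtain ⟨P₀, _⟩ := exists_zero hK hx
  have ha0 : a ≠ 0 := by
    rintro rfl
    have := hmem (Finsupp.single P₀ 1)
    rw [Divisor.deg_single, one_mul, zero_dvd_iff] at this
    have hpos := Place.deg_pos hK P₀
    omega
  set r := a.natAbs with hr
  have hr0 : 0 < r := Int.natAbs_pos.mpr ha0
  obtain ⟨D₀, hD₀⟩ : ∃ D : Divisor k K, D.deg = r := by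
    rcases Int.natAbs_eq a with h | h
    · exact ⟨D₁, by rw [hD₁, hr]; exact h⟩
    · refine ⟨-D₁, ?_⟩
      rw [Divisor.deg_neg, hD₁, hr]
      omega
  have hdvd : ∀ P : Place k K, r ∣ P.deg := by
    intro P
    have := hmem (Finsupp.single P 1)
    rw [Divisor.deg_single, one_mul] at this
    exact Int.natCast_dvd_natCast.mp (Int.natAbs_dvd.mpr this)
  by_cases hr1 : r = 1
  · intro n
    refine ⟨n • D₀, ?_⟩
    have : (n • D₀).deg = n • D₀.deg := map_zsmul (Divisor.degHom (k := k) (K := K)) n D₀
    rw [this, hD₀, hr1]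
    simp
  · exfalso
    have h2 : 2 ≤ r := by omega
    obtain ⟨m, hmon, hirr, hdeg⟩ := exists_monic_irreducible_natDegree (k := k) r hr0
    haveI : Fact (Irreducible m) := ⟨hirr⟩
    haveI : Fact (Irreducible (m.map (algebraMap k K))) :=
      ⟨irreducible_map_of_isFunctionField hK hmon hirr⟩
    haveI : FiniteDimensional k (AdjoinRoot m) := hmon.finite_adjoinRoot
    have hfr : finrank k (AdjoinRoot m) = r := by
      rw [← hdeg, (AdjoinRoot.powerBasis' hmon).finrank]
      rfl
    have hbij := bijective_productMap m hK hmon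
    exact false_of_forall_dvd hbij hK (hfr ▸ h2) (fun P => hfr ▸ hdvd P) D₀ (hfr ▸ hD₀)

end main

end Groth.Agent.H86.Zeta
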