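import Mathlib
import Groth.Agent.H86.HS13

set_option autoImplicit false
set_option linter.unusedSectionVars false

namespace Groth.Agent.H86.FF

open FunFld Module Groth.Agent.H55

variable {k K : Type*} [Field k] [Field K] [Algebra k K]

theorem exists_unit_of_one_mem_span (P : Place k K) {n : ℕ} (ψ : Fin (n + 1) → K)
    (hint : ∀ i, P.1 (ψ i) ≤ 1) (h1 : (1 : K) ∈ Submodule.span k (Set.range ψ)) :
    ∃ i, P.1 (ψ i) = 1 := by
  by_contra hno
  push Not at hno
  obtain ⟨γ, hγ⟩ := (Submodule.mem_span_range_iff_exists_fun k).mp h1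
  have hlt : P.1 (∑ i, γ i • ψ i) < 1 := by
    apply Valuation.map_sum_lt _ one_ne_zero
    intro i _
    rw [Algebra.smul_def, map_mul]
    calc P.1 (algebraMap k K (γ i)) * P.1 (ψ i) ≤ 1 * P.1 (ψ i) :=
      mul_le_mul' (P.2.1 _) le_rfl
      _ = P.1 (ψ i) := one_mul _
      _ < 1 := lt_of_le_of_ne (hint i) (hno i)
  rw [hγ, map_one] at hlt
  exact lt_irrefl _ hlt

theorem orders_id_pos {t : K} {H : K →ₐ[k] PowerSeries K} (hH : LocRes.IsHasseFamily t H)
    {n : ℕ} (φ : Fin (n + 1) → K) (J : Fin n → ℕ)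
    (hJ : IsOrders K (hcol (AlgHom.id k K) H φ) J) (l : Fin n) : 0 < J l := by
  by_contra h
  have h0 : J l = 0 := by omega
  have hjump := (hJ.2 (J l)).mp ⟨l, rfl⟩
  rw [h0] at hjump
  apply hjump
  apply Submodule.subset_span
  refine ⟨0, by rw [Set.mem_Iio]; omega, ?_⟩
  funext i
  change (AlgHom.id k K) (φ i) = LocRes.hasseD H 0 (φ i)
  rw [hasseD_zero hH]
  rfl

variable [IsAlgClosed k]

theorem wDiv_apply (hK : IsFunctionField k K) (P : Place k K) (τ : K →ₐ[k] K)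
    (hP : IsFixedPt τ P) {n : ℕ} (φ : Fin (n + 1) → K)
    (heff : (1 : K) ∈ Submodule.span k (Set.range φ)) (hnorm : ∀ i, P.1 (φ i) ≤ 1)
    (t : K) (ht : P.1 t = WithZero.exp (-1 : ℤ)) (Ht : K →ₐ[k] PowerSeries K)
    (Φ : Place k K → (K →ₐ[k] LaurentSeries k)) (hΦ : LocRes.IsExpansionAt P.1 (Φ P))
    (J : Fin n → ℕ) :
    wDiv τ Ht Φ t φ J P = P.ord (wrMat τ Ht φ J).det := by
  have h1 : mapDiv k φ P = 0 :=
    mapDiv_apply_eq_zero P φ hnorm (exists_unit_of_one_mem_span P φ hnorm heff)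
  have hτint : ∀ i, P.1 ((τ ∘ φ) i) ≤ 1 := fun i => (tau_int hK P τ hP _ (hnorm i)).1
  have hτeff : (1 : K) ∈ Submodule.span k (Set.range (τ ∘ φ)) := by
    obtain ⟨γ, hγ⟩ := (Submodule.mem_span_range_iff_exists_fun k).mp heff
    have := congrArg τ hγ
    rw [map_one, map_sum] at this
    rw [← this]
    apply Submodule.sum_mem
    intro i _
    rw [map_smul]
    exact Submodule.smul_mem _ _ (Submodule.subset_span ⟨i, rfl⟩)
  have h2 : mapDiv k (τ ∘ φ) P = 0 :=
    mapDiv_apply_eq_zero P _ hτint (exists_unit_of_one_mem_span P _ hτint hτeff)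
  have h3 : divDiff Φ 1 t P = 0 := divDiff_param P Φ hΦ t ht
  unfold wDiv
  rw [Finsupp.add_apply, Finsupp.add_apply, Finsupp.add_apply, Finsupp.smul_apply,
    Finsupp.smul_apply, h1, h2, h3, Place.div_apply hK]
  simp

end Groth.Agent.H86.FF
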