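import Mathlib
import Groth.Agent.H86.HS13

set_option autoImplicit false
set_option linter.unusedSectionVars false

namespace Groth.Agent.H86.FF

open FunFld Module

section binom

variable (k : Type*) [Field k]

/-- integer identity: Vandermonde determinant = product of factorials times the determinant of
binomial coefficients -/
theorem det_vandermonde_eq_factorial_mul_choose {n : ℕ} (v : Fin n → ℕ) :
    (Matrix.vandermonde fun i => (v i : ℤ)).det =
      (∏ i : Fin n, ((Nat.factorial (i : ℕ) : ℕ) : ℤ)) *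
        (Matrix.of fun i j : Fin n => ((Nat.choose (v i) (j : ℕ) : ℕ) : ℤ)).det := by
  rw [Matrix.det_eval_matrixOfPolynomials_eq_det_vandermonde (fun i => (v i : ℤ))
    (fun i => descPochhammer ℤ i) (fun i => descPochhammer_natDegree ℤ i)
    (fun i => monic_descPochhammer ℤ i)]
  rw [← Matrix.det_mul_row (fun (i : Fin n) => ((Nat.factorial (i : ℕ) : ℕ) : ℤ))]
  congr 1
  ext i j
  rw [Matrix.of_apply, Matrix.of_apply, Matrix.of_apply, descPochhammer_eval_eq_descFactorial ℤ _ _,
    Nat.descFactorial_eq_factorial_mul_choose]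
  push_cast
  ring

/-- the binomial matrix `(J r choose s)` is invertible when the `J r` are distinct in `k` -/
theorem det_binomMat_id_ne_zero {n : ℕ} (J : Fin n → ℕ)
    (hinj : Function.Injective fun r => ((J r : ℕ) : k)) :
    (binomMat k J (fun s : Fin n => (s : ℕ))).det ≠ 0 := by
  have h1 := congrArg (Int.castRingHom k) (det_vandermonde_eq_factorial_mul_choose J)
  rw [map_mul, RingHom.map_det, RingHom.map_det] at h1
  have h2 : (Int.castRingHom k).mapMatrix (Matrix.vandermonde fun i => (J i : ℤ)) =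
      Matrix.vandermonde fun i => ((J i : ℕ) : k) := by
    ext i j
    simp [Matrix.vandermonde]
  have h3 : (Int.castRingHom k).mapMatrix
      (Matrix.of fun i j : Fin n => ((Nat.choose (J i) (j : ℕ) : ℕ) : ℤ)) =
      binomMat k J (fun s : Fin n => (s : ℕ)) := by
    ext i j
    simp [binomMat]
  rw [h2, h3] at h1
  intro h0
  rw [h0, mul_zero] at h1
  exact (Matrix.det_vandermonde_ne_zero_iff.mpr hinj) h1

/-- the binomial matrix `(J r choose s + 1)` is invertible when the `J r` are positive, distinct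
and nonzero in `k` -/
theorem det_binomMat_succ_ne_zero {n : ℕ} (J : Fin n → ℕ) (hpos : ∀ r, 1 ≤ J r)
    (hinj : Function.Injective fun r => ((J r : ℕ) : k)) (hne : ∀ r, ((J r : ℕ) : k) ≠ 0) :
    (binomMat k J (fun s : Fin n => (s : ℕ) + 1)).det ≠ 0 := by
  -- `J r * C(J r - 1, s) = C(J r, s + 1) * (s + 1)`
  have hid : ∀ r s : Fin n, ((J r : ℕ) : k) * (((J r - 1).choose (s : ℕ) : ℕ) : k) =
      (((J r).choose ((s : ℕ) + 1) : ℕ) : k) * (((s : ℕ) + 1 : ℕ) : k) := by
    intro r s
    have h := Nat.add_one_mul_choose_eq (J r - 1) (s : ℕ)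
    have e : J r - 1 + 1 = J r := by
      have := hpos r
      omega
    rw [e] at h
    rw [← Nat.cast_mul, ← Nat.cast_mul, h]
  have hinj' : Function.Injective fun r => (((J r - 1 : ℕ) : ℕ) : k) := by
    intro r r' h
    apply hinj
    change ((J r : ℕ) : k) = ((J r' : ℕ) : k)
    have e : ∀ r, ((J r : ℕ) : k) = ((J r - 1 : ℕ) : k) + 1 := by
      intro r
      rw [← Nat.cast_succ]
      congr 1
      have := hpos r
      omega
    rw [e r, e r']
    change ((J r - 1 : ℕ) : k) = ((J r' - 1 : ℕ) : k) at h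
    rw [h]
  have hA := det_binomMat_id_ne_zero k (fun r => J r - 1) hinj'
  have hmat : (Matrix.of fun r s : Fin n => ((J r : ℕ) : k) *
      (binomMat k (fun r => J r - 1) (fun s : Fin n => (s : ℕ))) r s) =
      Matrix.of fun r s : Fin n => (((s : ℕ) + 1 : ℕ) : k) *
        (binomMat k J (fun s : Fin n => (s : ℕ) + 1)) r s := by
    ext r s
    rw [Matrix.of_apply, Matrix.of_apply]
    change ((J r : ℕ) : k) * (((J r - 1).choose (s : ℕ) : ℕ) : k) =
      (((s : ℕ) + 1 : ℕ) : k) * (((J r).choose ((s : ℕ) + 1) : ℕ) : k)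
    rw [hid r s, mul_comm]
  have hdet := congrArg Matrix.det hmat
  rw [Matrix.det_mul_column, Matrix.det_mul_row] at hdet
  intro h0
  rw [h0, mul_zero] at hdet
  rcases mul_eq_zero.mp hdet with h | h
  · rw [Finset.prod_eq_zero_iff] at h
    obtain ⟨r, -, hr⟩ := h
    exact hne r hr
  · exact hA h

end binom

end Groth.Agent.H86.FF
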