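import Mathlib
import Groth.Agent.H86.HS19
import Groth.Agent.H86.HS14
import Groth.Agent.H63.HasseOrders
import Groth.Agent.S12599
import Groth.Agent.H55.FFPlane1

set_option autoImplicit false
set_option linter.unusedSectionVars false

namespace Groth.Agent.H86.FF

open FunFld Module Groth.Agent.H55

section general

variable {F : Type*} [Field F]

/-- a spanning sequence of vectors in `F^(n+1)` with nonzero leading vector has an order
sequence -/
theorem exists_isOrders_of_span {n : ℕ} (c : ℕ → Fin (n + 1) → F)
    (hspan : Submodule.span F (Set.range c) = ⊤) (h0 : c 0 ≠ 0) :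
    ∃ J : Fin n → ℕ, IsOrders F c J := by
  classical
  obtain ⟨N, hN⟩ := Groth.Agent.H63.HasseFF.exists_span_Iio_eq_top c hspan
  have hjumpN : ∀ j, IsJump F c j → j < N := by
    intro j hj
    by_contra hle
    rw [not_lt] at hle
    apply hj
    have : Submodule.span F (c '' Set.Iio N) ≤ Submodule.span F (c '' Set.Iio j) :=
      Submodule.span_mono (Set.image_mono (Set.Iio_subset_Iio hle))
    exact this (hN ▸ Submodule.mem_top)
  set T := (Finset.range N).filter (IsJump F c) with hT
  have hTcard : T.card = n + 1 := by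
    rw [hT, ← Groth.Agent.H63.finrank_span_Iio c N, hN, finrank_top, Module.finrank_fin_fun]
  have hj0 : IsJump F c 0 := by
    unfold IsJump
    have : c '' Set.Iio 0 = ∅ := by ext x; simp
    rw [this, Submodule.span_empty, Submodule.mem_bot]
    exact h0
  set S := (Finset.range N).filter (fun j => IsJump F c (j + 1)) with hS
  have hTS : T = insert 0 (S.image Nat.succ) := by
    ext j
    simp only [hT, hS, Finset.mem_filter, Finset.mem_range, Finset.mem_insert, Finset.mem_image]
    constructor
    · rintro ⟨hjN, hj⟩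
      rcases j with _ | j
      · exact Or.inl rfl
      · exact Or.inr ⟨j, ⟨by omega, hj⟩, rfl⟩
    · rintro (rfl | ⟨j', ⟨_, hj'⟩, rfl⟩)
      · exact ⟨hjumpN 0 hj0, hj0⟩
      · exact ⟨hjumpN _ hj', hj'⟩
  have hScard : S.card = n := by
    have h1 : (insert 0 (S.image Nat.succ)).card = (S.image Nat.succ).card + 1 :=
      Finset.card_insert_of_notMem (by simp)
    rw [← hTS, hTcard, Finset.card_image_of_injective _ Nat.succ_injective] at h1
    omega
  set J : Fin n → ℕ := fun l => S.orderEmbOfFin hScard l with hJ
  have hJrange : ∀ j, j ∈ Set.range J ↔ IsJump F c (j + 1) := by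
    intro j
    have hr : Set.range J = S := by
      rw [← Finset.range_orderEmbOfFin S hScard]
    rw [hr]
    simp only [hS, Finset.coe_filter, Finset.mem_range, Set.mem_ofPred_eq]
    constructor
    · exact fun h => h.2
    · intro h
      exact ⟨by have := hjumpN _ h; omega, h⟩
  exact ⟨J, (S.orderEmbOfFin hScard).strictMono, hJrange⟩

end general

variable {k K : Type*} [Field k] [Field K] [Algebra k K] [IsAlgClosed k]

/-- existence of the orders at a place -/
theorem exists_local_orders (hK : IsFunctionField k K) (P : Place k K) {t : K}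
    {H : K →ₐ[k] PowerSeries K} (hH : LocRes.IsHasseFamily t H)
    (ht : P.1 t = WithZero.exp (-1 : ℤ)) {n : ℕ} (φ : Fin (n + 1) → K)
    (hφ : LinearIndependent k φ) (hint : ∀ i, P.1 (φ i) ≤ 1) (j₀ : Fin (n + 1))
    (hj₀ : φ j₀ = 1) :
    ∃ J' : Fin n → ℕ, IsOrders (IsLocalRing.ResidueField P.O) (hcolAt P H φ) J' := by
  classical
  apply exists_isOrders_of_span
  · -- the columns span
    have hli := Groth.Agent.S12599.result k K hK φ hφ P hint t ht H hH
    by_contra hlt
    obtain ⟨ψ, hψ0, hψ⟩ := Submodule.exists_le_ker_of_lt_top _ (lt_top_iff_ne_top.2 hlt)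
    set a : Fin (n + 1) → IsLocalRing.ResidueField P.O := fun i => ψ (Pi.single i 1) with ha
    have hψa : ∀ v : Fin (n + 1) → IsLocalRing.ResidueField P.O, ψ v = ∑ i, a i * v i := by
      intro v
      rw [LinearMap.pi_apply_eq_sum_univ ψ v]
      refine Finset.sum_congr rfl fun i _ => ?_
      rw [smul_eq_mul, mul_comm, ha]
      congr 2
      funext j
      simp [Pi.single_apply, eq_comm]
    have h0 : a = 0 := by
      have hsum : ∑ i, a i • (fun j : ℕ => evalP P (LocRes.hasseD H j (φ i))) = 0 := by
        funext j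
        have h1 : hcolAt P H φ (j + 1) ∈
            Submodule.span (IsLocalRing.ResidueField P.O) (Set.range (hcolAt P H φ)) :=
          Submodule.subset_span ⟨j + 1, rfl⟩
        have h2 := hψ h1
        rw [LinearMap.mem_ker, hψa] at h2
        rw [Finset.sum_apply]
        simp only [Pi.smul_apply, smul_eq_mul, Pi.zero_apply]
        exact h2
      funext i
      exact Fintype.linearIndependent_iff.mp hli a hsum i
    apply hψ0
    refine LinearMap.ext fun v => ?_
    rw [hψa, h0]
    simp
  · intro h
    have h1 := congrFun h j₀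
    change evalP P (φ j₀) = 0 at h1
    rw [hj₀] at h1
    have : evalP P (1 : K) = 1 := by
      have := evalP_algebraMap P (1 : k)
      rwa [map_one, map_one] at this
    rw [this] at h1
    exact one_ne_zero h1

/-- the order at `P` of a function in the span of a map normalized by a maximal entry is at most
the degree of the map -/
theorem ord_le_deg_mapDiv (hK : IsFunctionField k K) {n : ℕ} (φ : Fin (n + 1) → K)
    (hφ0 : ∀ i, φ i ≠ 0) (P : Place k K) (j : Fin (n + 1))
    (hj : ∀ i, P.1 (φ i) ≤ P.1 (φ j)) (a : Fin (n + 1) → k) (hne : ∑ i, a i • φ i ≠ 0) :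
    P.ord ((∑ i, a i • φ i) / φ j) ≤ (mapDiv k φ).deg := by
  classical
  set h := ∑ i, a i • φ i with hh
  set E : Divisor k K := div k h + mapDiv k φ with hE
  have hEapp : ∀ Q : Place k K, E Q = Q.ord h + mapDiv k φ Q := by
    intro Q
    rw [hE, Finsupp.add_apply, Place.div_apply hK]
  have hEnn : ∀ Q : Place k K, 0 ≤ E Q := by
    intro Q
    rw [hEapp]
    have : -mapDiv k φ Q ≤ Q.ord h := by
      rw [Place.le_ord_iff Q hne]
      apply Valuation.map_sum_le
      intro i _
      rw [Algebra.smul_def, map_mul]
      refine (mul_le_of_le_one_left' (Q.2.1 (a i))).trans ?_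
      rw [← Place.le_ord_iff Q (hφ0 i)]
      exact neg_mapDiv_le_ord hK φ Q i
    linarith
  have hdeg : E.deg = (mapDiv k φ).deg := by
    rw [hE, Divisor.deg_add, deg_div hK, zero_add]
  have hEP : E P = P.ord (h / φ j) := by
    rw [hEapp, div_eq_mul_inv, Place.ord_mul P hne (inv_ne_zero (hφ0 j)), Place.ord_inv]
    have : mapDiv k φ P = -P.ord (φ j) := by
      rw [mapDiv_apply hK, neg_inj]
      apply le_antisymm (Finset.inf'_le _ (Finset.mem_univ j))
      apply Finset.le_inf'
      intro i _
      rw [Place.le_ord_iff P (hφ0 i), ← Place.val_eq_exp_neg_ord P (hφ0 j)]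
      exact hj i
    rw [this]
  rw [← hEP, ← hdeg]
  have h1 : 0 ≤ E - Finsupp.single P (E P) := by
    intro Q
    rw [Finsupp.coe_zero, Pi.zero_apply, Finsupp.sub_apply]
    by_cases hQ : Q = P
    · rw [hQ, Finsupp.single_eq_same, sub_self]
    · rw [Finsupp.single_eq_of_ne hQ, sub_zero]
      exact hEnn Q
  have h2 := Divisor.deg_nonneg h1
  have h3 : E.deg = (E - Finsupp.single P (E P)).deg + E P := by
    have h4 : E.deg = ((E - Finsupp.single P (E P)) + Finsupp.single P (E P)).deg := by
      rw [sub_add_cancel]
    rw [h4, Divisor.deg_add, deg_single_one hK]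
  linarith

end Groth.Agent.H86.FF
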