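import Mathlib
import Groth.Agent.H86.HS18
import Groth.Agent.H86.HS20
import Groth.Agent.S12597
import Groth.Agent.S12598
import Groth.Agent.S12601
import Groth.Agent.S12605
import Groth.Agent.H55.FFNS1

set_option autoImplicit false
set_option linter.unusedSectionVars false

namespace Groth.Agent.H86.FF

open FunFld Module Groth.Agent.H55

theorem add_le_of_strictMono {n : ℕ} (J : Fin n → ℕ) (hJ : StrictMono J) (c : ℕ)
    (hc : ∀ l, c ≤ J l) (l : Fin n) : (l : ℕ) + c ≤ J l := by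
  obtain ⟨m, hm⟩ := l
  induction m with
  | zero => simpa using hc ⟨0, hm⟩
  | succ m ih =>
    have h1 := ih (by omega)
    have h2 : J ⟨m, by omega⟩ < J ⟨m + 1, hm⟩ := hJ (by simp [Fin.lt_def])
    simp only at h1 ⊢
    omega

variable {k K : Type*} [Field k] [Field K] [Algebra k K] [IsAlgClosed k]

/-- the common mechanism for classicality: if at a fixed point `P` the binomial matrix of the local
orders against `I` is invertible, then the `τ`-orders are at most `I`; combined with a lower bound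
they equal `I` -/
theorem isOrders_of_binom (hK : IsFunctionField k K) {n : ℕ} (φ : Fin (n + 1) → K)
    (hφ : LinearIndependent k φ) (τ : K →ₐ[k] K) (P : Place k K) (hP : IsFixedPt τ P)
    {s : K} {H : K →ₐ[k] PowerSeries K} (hH : LocRes.IsHasseFamily s H)
    (I : Fin n → ℕ) (hI : StrictMono I)
    (hcase : (∀ l, 0 < I l) ∨ IsStrongFixedPt τ P)
    (hbin : ∀ J' : Fin n → ℕ, StrictMono J' → (∀ l, 1 ≤ J' l) →
      (∀ l, (J' l : ℤ) ≤ (mapDiv k φ).deg) → (binomMat k J' I).det ≠ 0)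
    (hlow : ∀ J : Fin n → ℕ, IsOrders K (hcol τ H φ) J → ∀ l, I l ≤ J l) :
    IsOrders K (hcol τ H φ) I := by
  classical
  obtain ⟨t, ht⟩ := Place.exists_uniformizer P
  obtain ⟨Ht, hHt⟩ := exists_hasse_param hK P hH ht
  have hφ0 : ∀ i, φ i ≠ 0 := fun i => hφ.ne_zero i
  obtain ⟨j₀, hj₀ne, hj₀⟩ := exists_max_entry φ P ⟨0, hφ0 0⟩
  set y : K := (φ j₀)⁻¹ with hy
  have hy0 : y ≠ 0 := inv_ne_zero hj₀ne
  set ψ : Fin (n + 1) → K := y • φ with hψdef
  have hψapp : ∀ i, ψ i = y * φ i := fun i => rfl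
  have hψj : ψ j₀ = 1 := by rw [hψapp, hy, inv_mul_cancel₀ hj₀ne]
  have hψ : LinearIndependent k ψ := by
    rw [Fintype.linearIndependent_iff]
    intro a ha
    apply Fintype.linearIndependent_iff.mp hφ a
    have h1 : ∑ i, a i • ψ i = y * ∑ i, a i • φ i := by
      rw [Finset.mul_sum]
      refine Finset.sum_congr rfl fun i _ => ?_
      rw [hψapp, mul_smul_comm]
    rw [h1] at ha
    exact (mul_eq_zero.mp ha).resolve_left hy0
  have hint : ∀ i, P.1 (ψ i) ≤ 1 := by
    intro i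
    rw [hψapp, hy, map_mul, map_inv₀]
    have hpos : 0 < P.1 (φ j₀) := zero_lt_iff.mpr ((Valuation.ne_zero_iff _).mpr hj₀ne)
    rw [inv_mul_le_iff₀ hpos, mul_one]
    exact hj₀ i
  have heff : (1 : K) ∈ Submodule.span k (Set.range ψ) := by
    rw [← hψj]
    exact Submodule.subset_span ⟨j₀, rfl⟩
  obtain ⟨J', hJ'⟩ := exists_local_orders hK P hHt ht ψ hψ hint j₀ hψj
  have hJ'pos : ∀ l, 1 ≤ J' l := fun l => orders_pos P hHt ψ hJ' l
  have hJ'deg : ∀ l, (J' l : ℤ) ≤ (mapDiv k φ).deg := by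
    intro l
    obtain ⟨f, hf, hfv, -⟩ := exists_normalized hK P hHt ht ψ hint hJ' l
    obtain ⟨a, rfl⟩ := (Submodule.mem_span_range_iff_exists_fun k).mp hf
    have h1 : ∑ i, a i • ψ i = (∑ i, a i • φ i) / φ j₀ := by
      rw [div_eq_mul_inv, Finset.sum_mul]
      refine Finset.sum_congr rfl fun i _ => ?_
      rw [hψapp, hy, mul_comm, smul_mul_assoc]
    have hne : ∑ i, a i • φ i ≠ 0 := by
      intro h0
      rw [h1, h0, zero_div, map_zero] at hfv
      exact WithZero.exp_ne_zero hfv.symm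
    have h2 := ord_le_deg_mapDiv hK φ hφ0 P j₀ hj₀ a hne
    rw [← h1] at h2
    have hfne : ∑ i, a i • ψ i ≠ 0 := by
      intro h0
      rw [h0, map_zero] at hfv
      exact WithZero.exp_ne_zero hfv.symm
    rw [(Place.ord_eq_iff P hfne _).mpr hfv] at h2
    exact h2
  have hb := hbin J' hJ'.1 hJ'pos hJ'deg
  have h605 := Groth.Agent.S12605.result k K hK τ P hP ψ hψ heff hint t ht Ht hHt J' hJ' I hI
  have hval := (h605.2 hcase).mpr hb
  have hdet : (wrMat τ Ht ψ I).det ≠ 0 := by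
    intro h0
    rw [h0, map_zero] at hval
    exact WithZero.exp_ne_zero hval.symm
  obtain ⟨J₁, hJ₁, -⟩ := Groth.Agent.H63.HasseFF.exists_orders hK hHt ψ hψ τ
  have hle := Groth.Agent.S12601.result k K hK ψ hψ τ t Ht hHt J₁ hJ₁ I hI hdet
  have hJ₁φ : IsOrders K (hcol τ Ht φ) J₁ :=
    ((Groth.Agent.S12597.result k K hK φ hφ τ t Ht hHt y hy0).1 J₁).mp hJ₁
  have hJ₁H : IsOrders K (hcol τ H φ) J₁ :=
    ((Groth.Agent.S12598.result k K hK φ hφ τ s H hH t Ht hHt).1 J₁).mp hJ₁φ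
  have hge := hlow J₁ hJ₁H
  have : J₁ = I := funext fun l => le_antisymm (hle l) (hge l)
  rw [← this]
  exact hJ₁H

end Groth.Agent.H86.FF
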