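import Mathlib
import Groth.Agent.H86.HS21
import Groth.Agent.S12614
import Groth.Agent.S12615
import Groth.Agent.S12595

set_option autoImplicit false
set_option linter.unusedSectionVars false

namespace Groth.Agent.H86.FF

open FunFld Module Groth.Agent.H55

variable {k K : Type*} [Field k] [Field K] [Algebra k K] [IsAlgClosed k]

/-- local set-up at a place: a local parameter with Hasse family, the normalized tuple and its
orders at the place -/
theorem exists_local_setup (hK : IsFunctionField k K) {n : ℕ} (φ : Fin (n + 1) → K)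
    (hφ : LinearIndependent k φ) (P : Place k K)
    {s : K} {H : K →ₐ[k] PowerSeries K} (hH : LocRes.IsHasseFamily s H) :
    ∃ (t : K) (Ht : K →ₐ[k] PowerSeries K) (y : K) (J' : Fin n → ℕ),
      P.1 t = WithZero.exp (-1 : ℤ) ∧ LocRes.IsHasseFamily t Ht ∧ y ≠ 0 ∧
      LinearIndependent k (y • φ) ∧ (1 : K) ∈ Submodule.span k (Set.range (y • φ)) ∧
      (∀ i, P.1 ((y • φ) i) ≤ 1) ∧
      IsOrders (IsLocalRing.ResidueField P.O) (hcolAt P Ht (y • φ)) J' ∧ (∀ l, 1 ≤ J' l) := by
  classical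
  obtain ⟨t, ht⟩ := Place.exists_uniformizer P
  obtain ⟨Ht, hHt⟩ := exists_hasse_param hK P hH ht
  have hφ0 : ∀ i, φ i ≠ 0 := fun i => hφ.ne_zero i
  obtain ⟨j₀, hj₀ne, hj₀⟩ := exists_max_entry φ P ⟨0, hφ0 0⟩
  set y : K := (φ j₀)⁻¹ with hy
  have hy0 : y ≠ 0 := inv_ne_zero hj₀ne
  set ψ : Fin (n + 1) → K := y • φ with hψdef
  have hψapp : ∀ i, ψ i = y * φ i := fun i => rfl
  have hψj : ψ j₀ = 1 := by rw [hψapp, hy, inv_mul_cancel₀ hj₀ne]
  have hψ : LinearIndependent k ψ := by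
    rw [Fintype.linearIndependent_iff]
    intro a ha
    apply Fintype.linearIndependent_iff.mp hφ a
    have h1 : ∑ i, a i • ψ i = y * ∑ i, a i • φ i := by
      rw [Finset.mul_sum]
      refine Finset.sum_congr rfl fun i _ => ?_
      rw [hψapp, mul_smul_comm]
    rw [h1] at ha
    exact (mul_eq_zero.mp ha).resolve_left hy0
  have hint : ∀ i, P.1 (ψ i) ≤ 1 := by
    intro i
    rw [hψapp, hy, map_mul, map_inv₀]
    have hpos : 0 < P.1 (φ j₀) := zero_lt_iff.mpr ((Valuation.ne_zero_iff _).mpr hj₀ne)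
    rw [inv_mul_le_iff₀ hpos, mul_one]
    exact hj₀ i
  have heff : (1 : K) ∈ Submodule.span k (Set.range ψ) := by
    rw [← hψj]
    exact Submodule.subset_span ⟨j₀, rfl⟩
  obtain ⟨J', hJ'⟩ := exists_local_orders hK P hHt ht ψ hψ hint j₀ hψj
  exact ⟨t, Ht, y, J', ht, hHt, hy0, hψ, heff, hint, hJ', fun l => orders_pos P hHt ψ hJ' l⟩

/-- a fixed point of `τ ≠ 1` is a Weierstrass point of a birational map with respect to `τ` -/
theorem wDiv_pos_of_fixedPt (hK : IsFunctionField k K) {n : ℕ} (φ : Fin (n + 1) → K)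
    (hφ : LinearIndependent k φ) (h0 : φ 0 ≠ 0)
    (hbir : IntermediateField.adjoin k (Set.range fun i => φ i / φ 0) = ⊤)
    (τ : K →ₐ[k] K) (hτ : τ ≠ AlgHom.id k K) (P : Place k K) (hP : IsFixedPt τ P)
    (s : K) (H : K →ₐ[k] PowerSeries K) (hH : LocRes.IsHasseFamily s H)
    (J : Fin n → ℕ) (hJ : IsOrders K (hcol τ H φ) J)
    (Φ : Place k K → (K →ₐ[k] LaurentSeries k))
    (hΦ : ∀ P : Place k K, LocRes.IsExpansionAt P.1 (Φ P)) :
    0 < wDiv τ H Φ s φ J P := by
  classical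
  -- the first `τ`-order is `0`
  have hjump : IsJump K (hcol τ H φ) 1 := by
    by_contra hnot
    exact hτ ((Groth.Agent.S12595.result k K hK φ h0 hbir τ s H hH).mp hnot)
  obtain ⟨l₀, hl₀⟩ := (hJ.2 0).mpr hjump
  obtain ⟨t, Ht, y, J', ht, hHt, hy0, hψ, heff, hint, hJ', hJ'pos⟩ :=
    exists_local_setup hK φ hφ P hH
  -- orders of the normalized tuple with respect to `t`
  have hJφ : IsOrders K (hcol τ Ht φ) J :=
    ((Groth.Agent.S12598.result k K hK φ hφ τ s H hH t Ht hHt).1 J).mpr hJ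
  have hJψ : IsOrders K (hcol τ Ht (y • φ)) J :=
    ((Groth.Agent.S12597.result k K hK φ hφ τ t Ht hHt y hy0).1 J).mpr hJφ
  -- `J ≤ J'`
  have h605 := Groth.Agent.S12605.result k K hK τ P hP (y • φ) hψ heff hint t ht Ht hHt J' hJ' J' hJ'.1
  have hval := (h605.2 (Or.inl fun l => hJ'pos l)).mpr
    (by rw [det_binomMat_self k J' hJ'.1]; exact one_ne_zero)
  have hdet : (wrMat τ Ht (y • φ) J').det ≠ 0 := by
    intro h0
    rw [h0, map_zero] at hval
    exact WithZero.exp_ne_zero hval.symm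
  have hle := Groth.Agent.S12601.result k K hK (y • φ) hψ τ t Ht hHt J hJψ J' hJ'.1 hdet
  -- the lower bound
  have h615 := (Groth.Agent.S12615.result k K hK τ P hP (y • φ) hψ heff hint t ht Ht hHt J hJψ
    J' hJ' Φ hΦ).1
  have hsum : (1 : ℤ) ≤ ∑ l, ((J' l : ℤ) - J l) := by
    have h1 : ((J' l₀ : ℤ) - J l₀) ≤ ∑ l, ((J' l : ℤ) - J l) := by
      apply Finset.single_le_sum (f := fun l => ((J' l : ℤ) - J l)) _ (Finset.mem_univ l₀)
      intro l _
      have := hle l
      simp only [sub_nonneg, Nat.cast_le]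
      exact this
    have h2 : (1 : ℤ) ≤ (J' l₀ : ℤ) - J l₀ := by
      rw [hl₀]
      have := hJ'pos l₀
      push_cast
      omega
    linarith
  -- invariance of the Weierstrass divisor
  have h614 := Groth.Agent.S12614.result k K hK φ hφ τ s H hH t Ht hHt J hJ
    (1 : Matrix (Fin (n + 1)) (Fin (n + 1)) k) (by rw [Matrix.det_one]; exact one_ne_zero) y hy0
    (y • φ) (fun i => by
      change y * φ i = _
      congr 1
      simp [Matrix.one_apply]) Φ hΦ
  rw [← h614]
  linarith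

end Groth.Agent.H86.FF
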