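import Mathlib
import Groth.Agent.H86.HS22

/-!
# Nonnegativity of the Weierstrass divisor
-/

set_option autoImplicit false
set_option linter.unusedSectionVars false

namespace Groth.Agent.H86.FF

open FunFld Module Groth.Agent.H55

variable {k K : Type*} [Field k] [Field K] [Algebra k K]

/-- if the first column of a matrix is bounded by `P.1 c` and the other entries are integral, then
the determinant is bounded by `P.1 c` -/
theorem val_det_le_of_col (P : Place k K) {n : ℕ} (M : Matrix (Fin (n + 1)) (Fin (n + 1)) K)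
    {c : K} (hc : c ≠ 0) (h0 : ∀ i, P.1 (M i 0) ≤ P.1 c)
    (h1 : ∀ i (j : Fin (n + 1)), j ≠ 0 → P.1 (M i j) ≤ 1) : P.1 M.det ≤ P.1 c := by
  classical
  have hcpos : 0 < P.1 c := zero_lt_iff.mpr ((Valuation.ne_zero_iff _).mpr hc)
  have e : M = M.updateCol 0 (c • fun i => c⁻¹ * M i 0) := by
    ext i j
    by_cases hj : j = 0
    · subst hj
      rw [Matrix.updateCol_self, Pi.smul_apply, smul_eq_mul, mul_inv_cancel_left₀ hc]
    · rw [Matrix.updateCol_ne hj]
  rw [e, Matrix.det_updateCol_smul, map_mul]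
  have hN : ∀ r s, P.1 ((M.updateCol 0 fun i => c⁻¹ * M i 0) r s) ≤ 1 := by
    intro r s
    by_cases hs : s = 0
    · subst hs
      rw [Matrix.updateCol_self, map_mul, map_inv₀, inv_mul_le_iff₀ hcpos, mul_one]
      exact h0 r
    · rw [Matrix.updateCol_ne hs]
      exact h1 r s hs
  have := (evalP_det P _ hN).1
  calc P.1 c * P.1 (M.updateCol 0 fun i => c⁻¹ * M i 0).det ≤ P.1 c * 1 := by gcongr
    _ = P.1 c := mul_one _

variable [IsAlgClosed k]

/-- the Weierstrass divisor is nonnegative at every place -/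
theorem wDiv_apply_nonneg (hK : IsFunctionField k K) {n : ℕ} (φ : Fin (n + 1) → K)
    (hφ : LinearIndependent k φ) (τ : K →ₐ[k] K) (P : Place k K)
    (s : K) (H : K →ₐ[k] PowerSeries K) (hH : LocRes.IsHasseFamily s H)
    (J : Fin n → ℕ) (hJ : IsOrders K (hcol τ H φ) J)
    (Φ : Place k K → (K →ₐ[k] LaurentSeries k))
    (hΦ : ∀ P : Place k K, LocRes.IsExpansionAt P.1 (Φ P)) :
    0 ≤ wDiv τ H Φ s φ J P := by
  classical
  obtain ⟨t, Ht, y, J', ht, hHt, hy0, hψ, heff, hint, -, -⟩ := exists_local_setup hK φ hφ P hH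
  have hJφ : IsOrders K (hcol τ Ht φ) J :=
    ((Groth.Agent.S12598.result k K hK φ hφ τ s H hH t Ht hHt).1 J).mpr hJ
  have hJψ : IsOrders K (hcol τ Ht (y • φ)) J :=
    ((Groth.Agent.S12597.result k K hK φ hφ τ t Ht hHt y hy0).1 J).mpr hJφ
  have h614 := Groth.Agent.S12614.result k K hK φ hφ τ s H hH t Ht hHt J hJ
    (1 : Matrix (Fin (n + 1)) (Fin (n + 1)) k) (by rw [Matrix.det_one]; exact one_ne_zero) y hy0
    (y • φ) (fun i => by
      change y * φ i = _
      congr 1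
      simp [Matrix.one_apply]) Φ hΦ
  rw [← h614]
  set ψ : Fin (n + 1) → K := y • φ with hψdef
  have h1 : mapDiv k ψ P = 0 :=
    mapDiv_apply_eq_zero P ψ hint (exists_unit_of_one_mem_span P ψ hint heff)
  have h3 : divDiff Φ 1 t P = 0 := divDiff_param P Φ (hΦ P) t ht
  have hdet : (wrMat τ Ht ψ J).det ≠ 0 :=
    det_wrMat_ne_zero_of_isOrders τ Ht ψ ⟨0, hψ.ne_zero 0⟩ J hJψ
  obtain ⟨i₀, hi₀⟩ := exists_ord_eq_neg_mapDiv hK (τ ∘ ψ) P
  have hc : (τ ∘ ψ) i₀ ≠ 0 := by
    change τ (ψ i₀) ≠ 0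
    rw [Ne, map_eq_zero_iff τ τ.toRingHom.injective]
    exact hψ.ne_zero i₀
  have hcol0 : ∀ i, P.1 ((wrMat τ Ht ψ J) i 0) ≤ P.1 ((τ ∘ ψ) i₀) := by
    intro i
    change P.1 (τ (ψ i)) ≤ _
    have hne : τ (ψ i) ≠ 0 := by
      rw [Ne, map_eq_zero_iff τ τ.toRingHom.injective]
      exact hψ.ne_zero i
    rw [Place.val_eq_exp_neg_ord P hne, Place.val_eq_exp_neg_ord P hc, WithZero.exp_le_exp,
      neg_le_neg_iff, hi₀]
    exact neg_mapDiv_le_ord hK (τ ∘ ψ) P i
  have hcols : ∀ i (j : Fin (n + 1)), j ≠ 0 → P.1 ((wrMat τ Ht ψ J) i j) ≤ 1 := by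
    intro i j hj
    obtain ⟨l, rfl⟩ := Fin.exists_succ_eq.mpr hj
    exact hasse_integral hK P hHt ht (ψ i) (hint i) (J l)
  have hle := val_det_le_of_col P (wrMat τ Ht ψ J) hc hcol0 hcols
  rw [Place.val_eq_exp_neg_ord P hdet, Place.val_eq_exp_neg_ord P hc, WithZero.exp_le_exp,
    neg_le_neg_iff, hi₀] at hle
  unfold wDiv
  rw [Finsupp.add_apply, Finsupp.add_apply, Finsupp.add_apply, Finsupp.smul_apply,
    Finsupp.smul_apply, h1, h3, Place.div_apply hK]
  simp only [smul_zero, add_zero]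
  linarith

end Groth.Agent.H86.FF
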