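import Mathlib
import Groth.Agent.H86.HS23
import Groth.Agent.H86.TT12
import Groth.Agent.H63.WeilRes
import Groth.Agent.S11052

/-!
# Degree of the divisor of a differential and of the Weierstrass divisor
-/

set_option autoImplicit false
set_option linter.unusedSectionVars false

namespace Groth.Agent.H86.FF

open FunFld Module Groth.Agent.H55

universe u v

/-- over an algebraically closed field every extension is geometric -/
theorem isGeometric_of_isAlgClosed (k : Type u) (K : Type v) [Field k] [Field K] [Algebra k K]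
    [IsAlgClosed k] : IsGeometric k K := by
  intro k' _ _ hfd
  haveI := hfd
  have hbij : Function.Bijective (algebraMap k k') :=
    IsAlgClosed.algebraMap_bijective_of_isIntegral
  let e : k ≃ₐ[k] k' := AlgEquiv.ofBijective (Algebra.ofId k k') hbij
  let e2 : TensorProduct k k' K ≃ₐ[k] K :=
    (Algebra.TensorProduct.congr e.symm (AlgEquiv.refl : K ≃ₐ[k] K)).trans
      (Algebra.TensorProduct.lid k K)
  exact MulEquiv.isField (Field.toIsField K) e2.toMulEquiv

variable {k : Type u} {K : Type v} [Field k] [Field K] [Algebra k K]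

theorem kaehlerD_ne_zero_of_hasse {s : K} {H : K →ₐ[k] PowerSeries K}
    (hH : LocRes.IsHasseFamily s H) : KaehlerDifferential.D k K s ≠ 0 := by
  intro h0
  have h1 : Groth.Agent.H63.OrdDiff.der hH s = 1 := by
    rw [Groth.Agent.H63.OrdDiff.der_apply, LocRes.hasseD_apply, hH.1]
    simp
  have h2 := (Groth.Agent.H63.OrdDiff.der hH).liftKaehlerDifferential_comp_D s
  rw [h0, map_zero, h1] at h2
  exact zero_ne_one h2

theorem deg_zsmul' (z : ℤ) (D : Divisor k K) : (z • D).deg = z * D.deg := by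
  rw [← Divisor.degHom_apply, map_zsmul, Divisor.degHom_apply, smul_eq_mul]

variable [IsAlgClosed k]

/-- the divisor of `ds` has degree `2g - 2` -/
theorem deg_divDiff (hK : IsFunctionField k K) {s : K} {H : K →ₐ[k] PowerSeries K}
    (hH : LocRes.IsHasseFamily s H) (Φ : Place k K → (K →ₐ[k] LaurentSeries k))
    (hΦ : ∀ P : Place k K, LocRes.IsExpansionAt P.1 (Φ P)) :
    (divDiff Φ 1 s).deg = 2 * (genus k K : ℤ) - 2 := by
  have hg := isGeometric_of_isAlgClosed k K
  have hv := kaehlerD_ne_zero_of_hasse hH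
  have hres : ∀ u v : K, ∑ᶠ P, LocRes.locRes (Φ P) u v = 0 := fun u v =>
    Tate.sum_locRes_eq_zero hK (fun _ => k) Φ hΦ u v
  have hcan := Groth.Agent.H63.WeilRes.isCanonical_dv hK hg Φ hΦ hres hv
  have heq : divDiff Φ 1 s = Groth.Agent.H63.WeilRes.divOf hK hg Φ hΦ 1 hv := by
    ext P
    rw [Groth.Agent.H63.OrdDiff.divDiff_apply hK hH Φ hΦ P,
      Groth.Agent.H63.WeilRes.divOf_apply]
  rw [heq]
  exact (canonical_ell_deg hK hcan).2

/-- the degree of the Weierstrass divisor -/
theorem deg_wDiv (hK : IsFunctionField k K) {n : ℕ} (φ : Fin (n + 1) → K)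
    (hφ : LinearIndependent k φ) (τ : K →ₐ[k] K)
    (s : K) (H : K →ₐ[k] PowerSeries K) (hH : LocRes.IsHasseFamily s H)
    (J : Fin n → ℕ)
    (Φ : Place k K → (K →ₐ[k] LaurentSeries k))
    (hΦ : ∀ P : Place k K, LocRes.IsExpansionAt P.1 (Φ P)) :
    (wDiv τ H Φ s φ J).deg =
      ((Module.finrank τ.fieldRange K : ℤ) + n) * (mapDiv k φ).deg +
        (2 * (genus k K : ℤ) - 2) * ∑ l, (J l : ℤ) := by
  unfold wDiv
  rw [Divisor.deg_add, Divisor.deg_add, Divisor.deg_add, deg_div hK,
    Groth.Agent.S11052.result k K hK τ φ hφ, deg_zsmul', deg_zsmul', deg_divDiff hK hH Φ hΦ]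
  ring

end Groth.Agent.H86.FF
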