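import Mathlib
import Groth.Agent.H86.HS24
import Groth.Agent.H86.EX2
import Groth.Agent.S12606

/-!
# Counting strong fixed points with the Weierstrass divisor
-/

set_option autoImplicit false
set_option linter.unusedSectionVars false

namespace Groth.Agent.H86.FF

open FunFld Module Groth.Agent.H55

variable {k K : Type*} [Field k] [Field K] [Algebra k K] [IsAlgClosed k]

theorem isFixedPt_of_isStrongFixedPt {τ : K →ₐ[k] K} {P : Place k K} (hP : IsStrongFixedPt τ P) :
    IsFixedPt τ P := by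
  intro z hz
  refine (hP z hz).trans_lt ?_
  rw [← WithZero.exp_zero, WithZero.exp_lt_exp]
  norm_num

/-- at a strong fixed point the Weierstrass divisor has coefficient at least `n` -/
theorem le_wDiv_of_strongFixedPt (hK : IsFunctionField k K) {n : ℕ} (φ : Fin (n + 1) → K)
    (hφ : LinearIndependent k φ) (τ : K →ₐ[k] K)
    (hτφ : ¬ ∃ y : K, ∀ i, τ (φ i) = y * φ i)
    (P : Place k K) (hP : IsStrongFixedPt τ P)
    (s : K) (H : K →ₐ[k] PowerSeries K) (hH : LocRes.IsHasseFamily s H)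
    (J : Fin n → ℕ) (hJ : IsOrders K (hcol τ H φ) J)
    (Φ : Place k K → (K →ₐ[k] LaurentSeries k))
    (hΦ : ∀ P : Place k K, LocRes.IsExpansionAt P.1 (Φ P)) :
    (n : ℤ) ≤ wDiv τ H Φ s φ J P := by
  classical
  rcases Nat.eq_zero_or_pos n with hn0 | hn
  · subst hn0
    exact wDiv_apply_nonneg hK φ hφ τ P s H hH J hJ Φ hΦ
  have hPf := isFixedPt_of_isStrongFixedPt hP
  obtain ⟨t, Ht, y, J', ht, hHt, hy0, hψ, heff, hint, hJ', hJ'pos⟩ :=
    exists_local_setup hK φ hφ P hH
  have hJφ : IsOrders K (hcol τ Ht φ) J :=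
    ((Groth.Agent.S12598.result k K hK φ hφ τ s H hH t Ht hHt).1 J).mpr hJ
  have hJψ : IsOrders K (hcol τ Ht (y • φ)) J :=
    ((Groth.Agent.S12597.result k K hK φ hφ τ t Ht hHt y hy0).1 J).mpr hJφ
  have hτψ : ¬ ∃ y' : K, ∀ i, τ ((y • φ) i) = y' * (y • φ) i := by
    rintro ⟨y', hy'⟩
    apply hτφ
    have hτy : τ y ≠ 0 := by
      rw [Ne, map_eq_zero_iff τ τ.toRingHom.injective]
      exact hy0
    refine ⟨y' * y / τ y, fun i => ?_⟩
    have := hy' i
    change τ (y * φ i) = y' * (y * φ i) at this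
    rw [map_mul] at this
    field_simp
    rw [mul_comm, this]
    ring
  have h606 := Groth.Agent.S12606.result k K hK τ P hP hn (y • φ) hψ heff hint hτψ t ht Ht hHt
    J hJψ J' hJ'
  have h615 := (Groth.Agent.S12615.result k K hK τ P hPf (y • φ) hψ heff hint t ht Ht hHt J hJψ
    J' hJ' Φ hΦ).1
  have h614 := Groth.Agent.S12614.result k K hK φ hφ τ s H hH t Ht hHt J hJ
    (1 : Matrix (Fin (n + 1)) (Fin (n + 1)) k) (by rw [Matrix.det_one]; exact one_ne_zero) y hy0
    (y • φ) (fun i => by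
      change y * φ i = _
      congr 1
      simp [Matrix.one_apply]) Φ hΦ
  rw [← h614]
  refine le_trans ?_ h615
  have hsum : ∑ _l : Fin n, (1 : ℤ) ≤ ∑ l, ((J' l : ℤ) - J l) := by
    apply Finset.sum_le_sum
    intro l _
    have h1 := h606 l
    have h2 := hJ'pos ⟨0, hn⟩
    have : (J l : ℤ) + (J' ⟨0, hn⟩ : ℤ) ≤ (J' l : ℤ) := by exact_mod_cast h1
    have h2' : (1 : ℤ) ≤ (J' ⟨0, hn⟩ : ℤ) := by exact_mod_cast h2
    linarith
  simpa using hsum

/-- a nonnegative divisor bounds the number of places where it is `≥ c` -/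
theorem mul_ncard_le_deg (hK : IsFunctionField k K) (W : Divisor k K) (hW : 0 ≤ W) (c : ℕ) (hc : 0 < c)
    (S : Set (Place k K)) (hS : ∀ P ∈ S, (c : ℤ) ≤ W P) :
    S.Finite ∧ (c : ℤ) * (S.ncard : ℤ) ≤ W.deg := by
  classical
  have hsub : S ⊆ (W.support : Set (Place k K)) := by
    intro P hP
    rw [Finset.mem_coe, Finsupp.mem_support_iff]
    have := hS P hP
    have hc' : (0 : ℤ) < c := by exact_mod_cast hc
    omega
  have hfin : S.Finite := W.support.finite_toSet.subset hsub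
  refine ⟨hfin, ?_⟩
  rw [Set.ncard_eq_toFinset_card S hfin, Divisor.deg_eq_sum]
  have hsub' : hfin.toFinset ⊆ W.support := by
    intro P hP
    exact hsub ((Set.Finite.mem_toFinset hfin).mp hP)
  calc (c : ℤ) * (hfin.toFinset.card : ℤ) = ∑ _P ∈ hfin.toFinset, (c : ℤ) := by
        rw [Finset.sum_const, nsmul_eq_mul, mul_comm]
    _ ≤ ∑ P ∈ hfin.toFinset, W P * (P.deg : ℤ) := by
        apply Finset.sum_le_sum
        intro P hP
        have h1 := hS P ((Set.Finite.mem_toFinset hfin).mp hP)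
        have h2 : (1 : ℤ) ≤ (P.deg : ℤ) := by exact_mod_cast Place.deg_pos hK P
        have h3 : (0 : ℤ) ≤ W P := hW P
        nlinarith
    _ ≤ ∑ P ∈ W.support, W P * (P.deg : ℤ) := by
        apply Finset.sum_le_sum_of_subset_of_nonneg hsub'
        intro P _ _
        have h3 : (0 : ℤ) ≤ W P := hW P
        have h2 : (0 : ℤ) ≤ (P.deg : ℤ) := by positivity
        positivity

end Groth.Agent.H86.FF
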