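import Mathlib
import Groth.Agent.H86.HS25
import Groth.Agent.H86.HF1

/-!
# Preparations for the Stöhr–Voloch bound: combinatorics of orders, non-gaps
-/

set_option autoImplicit false
set_option linter.unusedSectionVars false

namespace Groth.Agent.H86.FF

open FunFld Module Groth.Agent.H55

section comb

theorem strictMono_add_le {n : ℕ} (J : Fin n → ℕ) (hJ : StrictMono J) (l l' : Fin n)
    (h : l ≤ l') : J l + ((l' : ℕ) - (l : ℕ)) ≤ J l' := by
  obtain ⟨b, hb⟩ := l'
  induction b with
  | zero =>
    have : (l : ℕ) = 0 := by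
      have := Fin.le_def.mp h
      simp only at this
      omega
    have hl : l = ⟨0, hb⟩ := Fin.ext this
    subst hl
    simp
  | succ b ih =>
    by_cases hlb : (l : ℕ) = b + 1
    · have hl : l = ⟨b + 1, hb⟩ := Fin.ext hlb
      subst hl
      simp
    · have hle : (l : ℕ) ≤ b := by
        have := Fin.le_def.mp h
        simp only at this
        omega
      have h1 := ih (by omega) (Fin.le_def.mpr hle)
      have h2 : J ⟨b, by omega⟩ < J ⟨b + 1, hb⟩ := hJ (by simp [Fin.lt_def])
      simp only at h1 ⊢
      omega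

/-- the combinatorial bound for the sum of the orders at a point with `g` gaps -/
theorem two_mul_sum_le_of_gaps {n g : ℕ} (hg : g ≤ n) (J' : Fin n → ℕ) (hJ' : StrictMono J')
    (hpos : ∀ l, 1 ≤ J' l) (hm : ∀ l, J' l ≤ n + g)
    (hlow : ∀ v, 1 ≤ v → v ≤ n - g → v ∈ Set.range J') :
    2 * ∑ l, J' l ≤ n * (n + 1) + 2 * g ^ 2 := by
  classical
  have hge : ∀ l : Fin n, (l : ℕ) + 1 ≤ J' l := fun l => add_le_of_strictMono J' hJ' 1 hpos l
  -- small indices
  have hsmall : ∀ l : Fin n, (l : ℕ) + 1 ≤ n - g → J' l = (l : ℕ) + 1 := by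
    have key : ∀ b : ℕ, ∀ l : Fin n, (l : ℕ) = b → b + 1 ≤ n - g → J' l = b + 1 := by
      intro b
      induction b using Nat.strong_induction_on with
      | _ b ih =>
        intro l hlb hb
        obtain ⟨l', hl'⟩ := hlow (b + 1) (by omega) hb
        have hle : l ≤ l' := by
          by_contra hlt
          rw [not_le, Fin.lt_def] at hlt
          have := ih (l' : ℕ) (by omega) l' rfl (by omega)
          omega
        have h2 : J' l ≤ J' l' := hJ'.monotone hle
        have h3 := hge l
        omega
    intro l hl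
    exact key (l : ℕ) l rfl hl
  have hbound : ∀ l : Fin n, J' l ≤ (l : ℕ) + 1 + if n - g ≤ (l : ℕ) then g else 0 := by
    intro l
    split_ifs with h
    · rcases Nat.eq_zero_or_pos n with h0 | hn
      · subst h0
        exact l.elim0
      have hlast := strictMono_add_le J' hJ' l ⟨n - 1, by omega⟩ (by
        rw [Fin.le_def]
        have := l.2
        simp only
        omega)
      have := hm ⟨n - 1, by omega⟩
      have hl2 := l.2
      simp only at hlast
      omega
    · rw [add_zero]
      exact (hsmall l (by omega)).le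
  have hsum : ∑ l, J' l ≤ ∑ l : Fin n, ((l : ℕ) + 1 + if n - g ≤ (l : ℕ) then g else 0) :=
    Finset.sum_le_sum fun l _ => hbound l
  have h1 : ∑ l : Fin n, ((l : ℕ) + 1 + if n - g ≤ (l : ℕ) then g else 0) =
      ∑ i ∈ Finset.range n, (i + 1 + if n - g ≤ i then g else 0) :=
    Fin.sum_univ_eq_sum_range (fun i => i + 1 + if n - g ≤ i then g else 0) n
  have h2 : ∑ i ∈ Finset.range n, (i + 1 + if n - g ≤ i then g else 0) =
      (∑ i ∈ Finset.range n, i) + n + g * g := by
    rw [Finset.sum_add_distrib, Finset.sum_add_distrib, Finset.sum_const, Finset.card_range,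
      smul_eq_mul, mul_one]
    congr 1
    rw [← Finset.sum_filter, Finset.sum_const, smul_eq_mul]
    congr 1
    have : (Finset.range n).filter (fun i => n - g ≤ i) = Finset.Ico (n - g) n := by
      ext i
      simp only [Finset.mem_filter, Finset.mem_range, Finset.mem_Ico]
      omega
    rw [this, Nat.card_Ico]
    omega
  have h3 := Finset.sum_range_id_mul_two n
  rw [h1, h2] at hsum
  have h4 : n * (n - 1) + 2 * n = n * (n + 1) := by
    rcases Nat.eq_zero_or_pos n with h0 | hn
    · subst h0; rfl
    · obtain ⟨m, rfl⟩ : ∃ m, n = m + 1 := ⟨n - 1, by omega⟩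
      simp only [Nat.add_sub_cancel]
      ring
  nlinarith

theorem mul_pred_le_two_mul_sum {n : ℕ} (J : Fin n → ℕ) (hJ : StrictMono J) :
    n * (n - 1) ≤ 2 * ∑ l, J l := by
  have hge : ∀ l : Fin n, (l : ℕ) ≤ J l := fun l => by
    have := add_le_of_strictMono J hJ 0 (fun _ => Nat.zero_le _) l
    simpa using this
  have hsum : ∑ l : Fin n, (l : ℕ) ≤ ∑ l, J l := Finset.sum_le_sum fun l _ => hge l
  have h1 : ∑ l : Fin n, (l : ℕ) = ∑ i ∈ Finset.range n, i :=
    Fin.sum_univ_eq_sum_range (fun i => i) n
  have h3 := Finset.sum_range_id_mul_two n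
  rw [h1] at hsum
  omega

end comb

end Groth.Agent.H86.FF
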