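import Mathlib
import Groth.Agent.H86.SV1

/-!
# Preparations for the Stöhr–Voloch bound: non-gaps, the complete linear system of `m P₀`
-/

set_option autoImplicit false
set_option linter.unusedSectionVars false

namespace Groth.Agent.H86.FF

open FunFld Module Groth.Agent.H55

variable {k K : Type*} [Field k] [Field K] [Algebra k K] [IsAlgClosed k]

theorem deg_smul_single_one (hK : IsFunctionField k K) (P : Place k K) (m : ℤ) :
    FunFld.Divisor.deg (m • (Finsupp.single P 1 : Divisor k K)) = m := by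
  rw [deg_zsmul', deg_single_one hK, mul_one]

/-- non-gaps: for `ρ ≥ 2g` there is a function with a pole of order exactly `ρ` at `P` and no other
pole -/
theorem exists_pole_eq (hK : IsFunctionField k K) (P : Place k K) (ρ : ℕ)
    (hρ : 2 * genus k K ≤ ρ) :
    ∃ f : K, P.1 f = WithZero.exp (ρ : ℤ) ∧ ∀ Q : Place k K, Q ≠ P → Q.1 f ≤ 1 := by
  classical
  set D₁ : Divisor k K := (ρ : ℤ) • Finsupp.single P 1 with hD₁
  set D₀ : Divisor k K := ((ρ : ℤ) - 1) • Finsupp.single P 1 with hD₀
  have hd1 : D₁.deg = ρ := deg_smul_single_one hK P _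
  have hd0 : D₀.deg = (ρ : ℤ) - 1 := deg_smul_single_one hK P _
  have he1 := ell_of_deg_ge hK D₁ (by rw [hd1]; omega)
  have he0 := ell_of_deg_ge hK D₀ (by rw [hd0]; omega)
  rw [hd1] at he1
  rw [hd0] at he0
  have hnot : ¬ L D₁ ≤ L D₀ := by
    intro hle
    have hfin : Module.Finite k (L D₀) := L_finite hK _
    have := Submodule.finrank_mono hle
    change ell D₁ ≤ ell D₀ at this
    omega
  obtain ⟨f, hf1, hf0⟩ := SetLike.not_le_iff_exists.mp hnot
  rw [hD₁, mem_L_smul_single] at hf1
  rw [hD₀, mem_L_smul_single, not_and_or] at hf0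
  refine ⟨f, ?_, hf1.2⟩
  have h0 : ¬ P.1 f ≤ WithZero.exp ((ρ : ℤ) - 1) := by
    rcases hf0 with h | h
    · exact h
    · exact absurd hf1.2 h
  rw [← Place.lt_exp_iff_le_exp_sub_one, not_lt] at h0
  exact le_antisymm hf1.1 h0

/-- a basis of `L(m P₀)` for `m = n + g`, `n > g` -/
theorem exists_basis_L (hK : IsFunctionField k K) (P : Place k K) (n : ℕ)
    (hn : genus k K < n) :
    ∃ φ : Fin (n + 1) → K, LinearIndependent k φ ∧
      Submodule.span k (Set.range φ) =
        L (((n + genus k K : ℕ) : ℤ) • (Finsupp.single P 1 : Divisor k K)) := by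
  set D : Divisor k K := ((n + genus k K : ℕ) : ℤ) • Finsupp.single P 1 with hD
  have hd : D.deg = ((n + genus k K : ℕ) : ℤ) := deg_smul_single_one hK P _
  have he := ell_of_deg_ge hK D (by rw [hd]; push_cast; omega)
  rw [hd] at he
  have hfin : Module.Finite k (L D) := L_finite hK _
  have hrank : finrank k (L D) = n + 1 := by
    change ell D = n + 1
    push_cast at he
    omega
  let b := Module.finBasisOfFinrankEq k (L D) hrank
  refine ⟨fun i => ((b i : L D) : K), ?_, ?_⟩
  · have := b.linearIndependent.map' (L D).subtype (Submodule.ker_subtype _)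
    exact this
  · have h1 : Set.range (fun i => ((b i : L D) : K)) = (L D).subtype '' Set.range b := by
      ext x
      constructor
      · rintro ⟨i, rfl⟩
        exact ⟨b i, ⟨i, rfl⟩, rfl⟩
      · rintro ⟨_, ⟨i, rfl⟩, rfl⟩
        exact ⟨i, rfl⟩
    rw [h1, ← Submodule.map_span, b.span_eq, Submodule.map_subtype_top]

/-- `τ` strictly increases the order of vanishing at a strong fixed point -/
theorem val_tau_lt (hK : IsFunctionField k K) (τ : K →ₐ[k] K) (P : Place k K)
    (hP : IsStrongFixedPt τ P) {z : K} (hz0 : z ≠ 0) (hz : P.1 z < 1) : P.1 (τ z) < P.1 z := by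
  have hPf := isFixedPt_of_isStrongFixedPt hP
  obtain ⟨t, ht⟩ := Place.exists_uniformizer P
  have ht0 : t ≠ 0 := Place.ne_zero_of_val_eq_exp P ht
  have hord : 1 ≤ P.ord z := by
    have := Place.lt_exp_iff_le_exp_sub_one (n := 0) |>.mp (by rwa [WithZero.exp_zero])
    rw [show (0 : ℤ) - 1 = -1 by norm_num, ← Place.le_ord_iff P hz0] at this
    exact this
  obtain ⟨v, hv⟩ : ∃ v : ℕ, (v : ℤ) = P.ord z := ⟨(P.ord z).toNat, by omega⟩
  have hv1 : 1 ≤ v := by omega
  have hzval : P.1 z = WithZero.exp (-(v : ℤ)) := by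
    rw [Place.val_eq_exp_neg_ord P hz0, hv]
  set u : K := z / t ^ v with hu
  have hu1 : P.1 u = 1 := by
    rw [hu, map_div₀, map_pow, ht, exp_neg_one_pow, hzval]
    exact div_self WithZero.exp_ne_zero
  have hze : z = u * t ^ v := by
    rw [hu]
    field_simp
  have hτu : P.1 (τ u) ≤ 1 := (tau_int hK P τ hPf u hu1.le).1
  have hτt : P.1 (τ t) ≤ WithZero.exp (-2 : ℤ) := by
    apply hP
    rw [ht, ← WithZero.exp_zero, WithZero.exp_lt_exp]
    norm_num
  have h1 : P.1 (τ z) ≤ WithZero.exp (-2 * (v : ℤ)) := by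
    rw [hze, map_mul, map_pow, map_mul, map_pow]
    calc P.1 (τ u) * P.1 (τ t) ^ v ≤ 1 * WithZero.exp (-2 : ℤ) ^ v := by gcongr
      _ = WithZero.exp (-2 * (v : ℤ)) := by
        rw [one_mul, ← WithZero.exp_nsmul]
        congr 1
        simp [mul_comm]
  refine h1.trans_lt ?_
  rw [hzval, WithZero.exp_lt_exp]
  omega

end Groth.Agent.H86.FF
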