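import Mathlib
import Groth.Agent.H86.SV2

/-!
# Preparations for the Stöhr–Voloch bound: the `τ`-orders of the complete linear system `|m P₀|`
-/

set_option autoImplicit false
set_option linter.unusedSectionVars false

namespace Groth.Agent.H86.FF

open FunFld Module Groth.Agent.H55

variable {k K : Type*} [Field k] [Field K] [Algebra k K] [IsAlgClosed k]

theorem one_mem_L_smul_single (P : Place k K) (m : ℕ) :
    (1 : K) ∈ L (((m : ℕ) : ℤ) • (Finsupp.single P 1 : Divisor k K)) := by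
  rw [mem_L_smul_single]
  refine ⟨?_, fun Q _ => by rw [map_one]⟩
  rw [map_one, ← WithZero.exp_zero, WithZero.exp_le_exp]
  exact Int.natCast_nonneg m

/-- at a strong fixed point `P₀`, `τ` does not act on a basis of `L(m P₀)` by a scalar in `K` -/
theorem not_tau_multiple (hK : IsFunctionField k K) (τ : K →ₐ[k] K) (P₀ : Place k K)
    (hP₀ : IsStrongFixedPt τ P₀) {n : ℕ} (φ : Fin (n + 1) → K) (m : ℕ)
    (hspan : Submodule.span k (Set.range φ) =
      L (((m : ℕ) : ℤ) • (Finsupp.single P₀ 1 : Divisor k K)))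
    (hpole : ∃ f ∈ L (((m : ℕ) : ℤ) • (Finsupp.single P₀ 1 : Divisor k K)), 1 < P₀.1 f) :
    ¬ ∃ y : K, ∀ i, τ (φ i) = y * φ i := by
  rintro ⟨y, hy⟩
  have h1 : (1 : K) ∈ Submodule.span k (Set.range φ) := by
    rw [hspan]
    exact one_mem_L_smul_single P₀ m
  obtain ⟨c, hc⟩ := (Submodule.mem_span_range_iff_exists_fun k).mp h1
  have hy1 : y = 1 := by
    have := congrArg τ hc
    rw [map_one, map_sum] at this
    have h2 : ∑ i, τ (c i • φ i) = y * ∑ i, c i • φ i := by
      rw [Finset.mul_sum]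
      refine Finset.sum_congr rfl fun i _ => ?_
      rw [map_smul, hy, mul_smul_comm]
    rw [h2, hc, mul_one] at this
    exact this
  obtain ⟨f, hf, hfpole⟩ := hpole
  rw [← hspan] at hf
  obtain ⟨a, ha⟩ := (Submodule.mem_span_range_iff_exists_fun k).mp hf
  have hτf : τ f = f := by
    rw [← ha, map_sum]
    refine Finset.sum_congr rfl fun i _ => ?_
    rw [map_smul, hy, hy1, one_mul]
  have hf0 : f ≠ 0 := by
    rintro rfl
    rw [map_zero] at hfpole
    exact absurd hfpole (not_lt.mpr zero_le)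
  have hz : P₀.1 f⁻¹ < 1 := by
    rw [map_inv₀]
    exact inv_lt_one_of_one_lt₀ hfpole
  have := val_tau_lt hK τ P₀ hP₀ (inv_ne_zero hf0) hz
  rw [map_inv₀ τ, hτf] at this
  exact lt_irrefl _ this

/-- the sum of the `τ`-orders of the complete linear system `|m P₀|`, `m = n + g`, at a strong
fixed point `P₀` -/
theorem two_mul_sum_tauOrders_le (hK : IsFunctionField k K) (τ : K →ₐ[k] K) (P₀ : Place k K)
    (hP₀ : IsStrongFixedPt τ P₀) {n : ℕ} (hn : genus k K < n) (φ : Fin (n + 1) → K)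
    (hφ : LinearIndependent k φ)
    (hspan : Submodule.span k (Set.range φ) =
      L (((n + genus k K : ℕ) : ℤ) • (Finsupp.single P₀ 1 : Divisor k K)))
    (hτφ : ¬ ∃ y : K, ∀ i, τ (φ i) = y * φ i)
    {s : K} {H : K →ₐ[k] PowerSeries K} (hH : LocRes.IsHasseFamily s H)
    (J : Fin n → ℕ) (hJ : IsOrders K (hcol τ H φ) J) :
    (mapDiv k φ).deg ≤ ((n + genus k K : ℕ) : ℤ) ∧
    2 * ∑ l, (J l : ℤ) ≤ (n : ℤ) * ((n : ℤ) - 1) + 2 * (genus k K : ℤ) ^ 2 := by
  classical
  set g := genus k K with hg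
  set m : ℕ := n + g with hm
  set P := P₀
  have hn0 : 0 < n := by omega
  have hφ0 : ∀ i, φ i ≠ 0 := fun i => hφ.ne_zero i
  have hφL : ∀ i, φ i ∈ L (((m : ℕ) : ℤ) • (Finsupp.single P 1 : Divisor k K)) := by
    intro i
    rw [← hspan]
    exact Submodule.subset_span ⟨i, rfl⟩
  -- degree of the map
  have hle : mapDiv k φ ≤ ((m : ℕ) : ℤ) • (Finsupp.single P 1 : Divisor k K) := by
    intro Q
    obtain ⟨i, hi⟩ := exists_ord_eq_neg_mapDiv hK φ Q
    have h1 := hφL i Q
    rw [Place.val_eq_exp_neg_ord Q (hφ0 i), WithZero.exp_le_exp] at h1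
    omega
  have hdeg : (mapDiv k φ).deg ≤ (m : ℤ) := by
    have h1 : 0 ≤ ((m : ℕ) : ℤ) • (Finsupp.single P 1 : Divisor k K) - mapDiv k φ :=
      sub_nonneg.mpr hle
    have h2 := Divisor.deg_nonneg h1
    rw [Divisor.deg_sub, deg_smul_single_one hK] at h2
    omega
  refine ⟨hdeg, ?_⟩
  -- local set-up at `P`
  obtain ⟨t, ht⟩ := Place.exists_uniformizer P
  obtain ⟨Ht, hHt⟩ := exists_hasse_param hK P hH ht
  obtain ⟨j₀, hj₀ne, hj₀⟩ := exists_max_entry φ P ⟨0, hφ0 0⟩
  set y : K := (φ j₀)⁻¹ with hy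
  have hy0 : y ≠ 0 := inv_ne_zero hj₀ne
  set ψ : Fin (n + 1) → K := y • φ with hψdef
  have hψapp : ∀ i, ψ i = y * φ i := fun i => rfl
  have hψj : ψ j₀ = 1 := by rw [hψapp, hy, inv_mul_cancel₀ hj₀ne]
  have hψ : LinearIndependent k ψ := by
    rw [Fintype.linearIndependent_iff]
    intro a ha
    apply Fintype.linearIndependent_iff.mp hφ a
    have h1 : ∑ i, a i • ψ i = y * ∑ i, a i • φ i := by
      rw [Finset.mul_sum]
      refine Finset.sum_congr rfl fun i _ => ?_
      rw [hψapp, mul_smul_comm]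
    rw [h1] at ha
    exact (mul_eq_zero.mp ha).resolve_left hy0
  have hint : ∀ i, P.1 (ψ i) ≤ 1 := by
    intro i
    rw [hψapp, hy, map_mul, map_inv₀]
    have hpos : 0 < P.1 (φ j₀) := zero_lt_iff.mpr ((Valuation.ne_zero_iff _).mpr hj₀ne)
    rw [inv_mul_le_iff₀ hpos, mul_one]
    exact hj₀ i
  have heff : (1 : K) ∈ Submodule.span k (Set.range ψ) := by
    rw [← hψj]
    exact Submodule.subset_span ⟨j₀, rfl⟩
  obtain ⟨J', hJ'⟩ := exists_local_orders hK P hHt ht ψ hψ hint j₀ hψj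
  have hJ'pos : ∀ l, 1 ≤ J' l := fun l => orders_pos P hHt ψ hJ' l
  have hcomb : ∀ a : Fin (n + 1) → k, ∑ i, a i • ψ i = (∑ i, a i • φ i) / φ j₀ := by
    intro a
    rw [div_eq_mul_inv, Finset.sum_mul]
    refine Finset.sum_congr rfl fun i _ => ?_
    rw [hψapp, hy, mul_comm, smul_mul_assoc]
  -- (a) the local orders are at most `m`
  have hJ'm : ∀ l, J' l ≤ n + g := by
    intro l
    obtain ⟨f, hf, hfv, -⟩ := exists_normalized hK P hHt ht ψ hint hJ' l
    obtain ⟨a, rfl⟩ := (Submodule.mem_span_range_iff_exists_fun k).mp hf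
    have hne : ∑ i, a i • φ i ≠ 0 := by
      intro h0
      rw [hcomb, h0, zero_div, map_zero] at hfv
      exact WithZero.exp_ne_zero hfv.symm
    have h2 := ord_le_deg_mapDiv hK φ hφ0 P j₀ hj₀ a hne
    rw [← hcomb] at h2
    have hfne : ∑ i, a i • ψ i ≠ 0 := by
      intro h0
      rw [h0, map_zero] at hfv
      exact WithZero.exp_ne_zero hfv.symm
    rw [(Place.ord_eq_iff P hfne _).mpr hfv] at h2
    have : (J' l : ℤ) ≤ (m : ℤ) := h2.trans hdeg
    exact_mod_cast this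
  -- the maximal entry has a pole of order exactly `m`
  have hmaxval : P.1 (φ j₀) = WithZero.exp (m : ℤ) := by
    apply le_antisymm
    · have := hφL j₀
      rw [mem_L_smul_single] at this
      exact this.1
    · obtain ⟨f, hfv, hfQ⟩ := exists_pole_eq hK P m (by omega)
      have hfL : f ∈ L (((m : ℕ) : ℤ) • (Finsupp.single P 1 : Divisor k K)) := by
        rw [mem_L_smul_single]
        exact ⟨hfv.le, hfQ⟩
      rw [← hspan] at hfL
      obtain ⟨a, rfl⟩ := (Submodule.mem_span_range_iff_exists_fun k).mp hfL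
      rw [← hfv]
      apply Valuation.map_sum_le
      intro i _
      rw [Algebra.smul_def, map_mul]
      exact (mul_le_of_le_one_left' (P.2.1 (a i))).trans (hj₀ i)
  -- (b) small values are local orders
  have hlow : ∀ v, 1 ≤ v → v ≤ n - g → v ∈ Set.range J' := by
    intro v hv1 hv2
    rw [hJ'.2 v, isJump_hcolAt_iff hK P hHt ht ψ hint v hv1]
    obtain ⟨f, hfv, hfQ⟩ := exists_pole_eq hK P (m - v) (by omega)
    have hfL : f ∈ L (((m : ℕ) : ℤ) • (Finsupp.single P 1 : Divisor k K)) := by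
      rw [mem_L_smul_single]
      refine ⟨?_, hfQ⟩
      rw [hfv, WithZero.exp_le_exp]
      omega
    rw [← hspan] at hfL
    obtain ⟨a, ha⟩ := (Submodule.mem_span_range_iff_exists_fun k).mp hfL
    refine ⟨a, ?_⟩
    rw [hcomb, ha, map_div₀, hfv, hmaxval, ← WithZero.exp_sub]
    congr 1
    have : ((m - v : ℕ) : ℤ) = (m : ℤ) - v := by
      have : v ≤ m := by omega
      push_cast [this]
      ring
    rw [this]
    ring
  have hsumJ' := two_mul_sum_le_of_gaps (by omega : g ≤ n) J' hJ'.1 hJ'pos hJ'm hlow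
  -- (c) comparison with the `τ`-orders
  have hJφ : IsOrders K (hcol τ Ht φ) J :=
    ((Groth.Agent.S12598.result k K hK φ hφ τ s H hH t Ht hHt).1 J).mpr hJ
  have hJψ : IsOrders K (hcol τ Ht ψ) J :=
    ((Groth.Agent.S12597.result k K hK φ hφ τ t Ht hHt y hy0).1 J).mpr hJφ
  have hτψ : ¬ ∃ y' : K, ∀ i, τ (ψ i) = y' * ψ i := by
    rintro ⟨y', hy'⟩
    apply hτφ
    have hτy : τ y ≠ 0 := by
      rw [Ne, map_eq_zero_iff τ τ.toRingHom.injective]
      exact hy0
    refine ⟨y' * y / τ y, fun i => ?_⟩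
    have := hy' i
    rw [hψapp, map_mul] at this
    field_simp
    rw [mul_comm, this]
    ring
  have h606 := Groth.Agent.S12606.result k K hK τ P hP₀ hn0 ψ hψ heff hint hτψ t ht Ht hHt
    J hJψ J' hJ'
  have hJle : ∀ l, (J l : ℤ) + 1 ≤ (J' l : ℤ) := by
    intro l
    have h1 := h606 l
    have h2 := hJ'pos ⟨0, hn0⟩
    have : J l + 1 ≤ J' l := by omega
    exact_mod_cast this
  have hsum : ∑ l, ((J l : ℤ) + 1) ≤ ∑ l, (J' l : ℤ) := Finset.sum_le_sum fun l _ => hJle l
  rw [Finset.sum_add_distrib, Finset.sum_const, Finset.card_univ, Fintype.card_fin,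
    nsmul_eq_mul, mul_one] at hsum
  have hsumJ'z : 2 * ∑ l, (J' l : ℤ) ≤ (n : ℤ) * ((n : ℤ) + 1) + 2 * (g : ℤ) ^ 2 := by
    have := hsumJ'
    have h' : ((2 * ∑ l, J' l : ℕ) : ℤ) ≤ ((n * (n + 1) + 2 * g ^ 2 : ℕ) : ℤ) := by
      exact_mod_cast this
    push_cast at h'
    exact h'
  nlinarith

end Groth.Agent.H86.FF
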