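import Mathlib.FieldTheory.IsAlgClosed.Basic
import Mathlib.FieldTheory.Minpoly.Field
import Mathlib.FieldTheory.Fixed
import Mathlib.RingTheory.Nilpotent.Lemmas
import Mathlib.RingTheory.Finiteness.Defs
import Mathlib.RingTheory.Artinian.Ring
import Mathlib.Algebra.Algebra.Pi
import Mathlib.LinearAlgebra.Dual.Lemmas
import Mathlib.Tactic

set_option autoImplicit false
universe u v

namespace Groth.Agent.H86

section

variable (k : Type u) [Field k] [IsAlgClosed k] (A : Type v) [CommRing A] [Algebra k A]
  [Module.Finite k A]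

/-- every maximal ideal of a finite algebra over an algebraically closed field is the kernel of a
character. -/
theorem exists_algHom_ker_eq (m : Ideal A) [hm : m.IsMaximal] :
    ∃ f : A →ₐ[k] k, RingHom.ker f = m := by
  let _ : Field (A ⧸ m) := Ideal.Quotient.field m
  have hbij : Function.Bijective (algebraMap k (A ⧸ m)) :=
    IsAlgClosed.algebraMap_bijective_of_isIntegral
  let e : k ≃ₐ[k] (A ⧸ m) := AlgEquiv.ofBijective (Algebra.ofId k (A ⧸ m)) hbij
  refine ⟨(e.symm : (A ⧸ m) →ₐ[k] k).comp (Ideal.Quotient.mkₐ k m), ?_⟩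
  ext a
  simp only [RingHom.mem_ker, AlgHom.coe_comp, Function.comp_apply, Ideal.Quotient.mkₐ_eq_mk]
  constructor
  · intro h
    have h' : e.symm ((Ideal.Quotient.mk m) a) = 0 := h
    have h2 : (Ideal.Quotient.mk m) a = 0 := by
      have := congrArg e h'
      simpa using this
    exact Ideal.Quotient.eq_zero_iff_mem.mp h2
  · intro h
    have h2 : (Ideal.Quotient.mk m) a = 0 := Ideal.Quotient.eq_zero_iff_mem.mpr h
    rw [h2]
    exact map_zero _

omit [IsAlgClosed k] in
theorem finite_algHom : Finite (A →ₐ[k] k) :=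
  @Finite.of_fintype _ (minpoly.AlgHom.fintype k A k)

/-- the characters vanish simultaneously exactly on the nilradical. -/
theorem forall_algHom_eq_zero_iff (a : A) : (∀ f : A →ₐ[k] k, f a = 0) ↔ a ∈ nilradical A := by
  constructor
  · intro h
    rw [nilradical_eq_sInf, Ideal.mem_sInf]
    intro p hp
    have hp' : p.IsPrime := hp
    have : IsArtinianRing A := IsArtinianRing.of_finite k A
    have : p.IsMaximal := IsArtinianRing.isMaximal_of_isPrime p
    obtain ⟨f, hf⟩ := exists_algHom_ker_eq k A p
    rw [← hf, RingHom.mem_ker]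
    exact h f
  · intro h f
    have h' : IsNilpotent a := h
    exact (h'.map f).eq_zero

omit [IsAlgClosed k] [Module.Finite k A] in
theorem linearIndependent_algHom :
    LinearIndependent k (fun f : A →ₐ[k] k => (f : A → k)) := by
  have h := linearIndependent_monoidHom A k
  let ι : (A →ₐ[k] k) → (A →* k) := fun f => (f : A →* k)
  have hι : Function.Injective ι := by
    intro f g hfg
    ext a
    exact DFunLike.congr_fun hfg a
  exact h.comp ι hι

omit [IsAlgClosed k] in
theorem pi_algHom_surjective :
    Function.Surjective (AlgHom.pi (R := k) (fun f : A →ₐ[k] k => f)) := by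
  classical
  have := finite_algHom k A
  cases nonempty_fintype (A →ₐ[k] k)
  let ev : A →ₗ[k] ((A →ₐ[k] k) → k) := (AlgHom.pi (R := k) (fun f : A →ₐ[k] k => f)).toLinearMap
  have hev : ∀ a f, ev a f = f a := fun a f => rfl
  suffices h : LinearMap.range ev = ⊤ by
    intro g
    have : g ∈ LinearMap.range ev := by rw [h]; trivial
    obtain ⟨a, ha⟩ := this
    exact ⟨a, ha⟩
  by_contra hne
  obtain ⟨φ, hφ0, hφ⟩ := Submodule.exists_le_ker_of_lt_top _ (lt_top_iff_ne_top.mpr hne)
  apply hφ0
  have hc : ∀ f : A →ₐ[k] k, φ (Pi.single f 1) = 0 := by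
    have hli := linearIndependent_algHom k A
    rw [Fintype.linearIndependent_iff] at hli
    apply hli (fun f => φ (Pi.single f 1))
    funext a
    have h1 : ev a ∈ LinearMap.ker φ := hφ ⟨a, rfl⟩
    rw [LinearMap.mem_ker] at h1
    have h2 : ev a = ∑ f, (ev a f) • (Pi.single f (1 : k) : (A →ₐ[k] k) → k) := by
      funext g
      simp [Finset.sum_apply, Pi.single_apply]
    rw [h2, map_sum] at h1
    simp only [map_smul, smul_eq_mul, hev] at h1
    simp only [Finset.sum_apply, Pi.smul_apply, smul_eq_mul, Pi.zero_apply]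
    rw [← h1]
    exact Finset.sum_congr rfl fun f _ => mul_comm _ _
  apply LinearMap.ext
  intro g
  have h2 : g = ∑ f, (g f) • (Pi.single f (1 : k) : (A →ₐ[k] k) → k) := by
    funext g'
    simp [Finset.sum_apply, Pi.single_apply]
  rw [h2, map_sum]
  simp [hc]

theorem ker_pi_algHom :
    RingHom.ker (AlgHom.pi (R := k) (fun f : A →ₐ[k] k => f)) = nilradical A := by
  ext a
  rw [RingHom.mem_ker, ← forall_algHom_eq_zero_iff k A a]
  constructor
  · intro h f
    exact congrFun h f
  · intro h
    funext f
    exact h f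

end

end Groth.Agent.H86
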