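import Mathlib

/-!
# Tate functionals on `K[X]/(p)` and a transfer formula

For a monic polynomial `p` of degree `r + 1` the *Tate functional* `τ` on `K[X]/(p)` kills
`1, ℓ, …, ℓ^(r-1)` and sends `ℓ^r` to `1`.  We prove the reproducing property of the kernel
`p(X)/(X - ρ)` and deduce a transfer formula comparing the Tate functionals of `p(T)` and of
`p₂(S)` when `p(T) ∣ p₂(T^j)`.
-/

set_option autoImplicit false

namespace Groth.Agent.H86.AR

open Polynomial

universe u w

section Pair

variable {A : Type w} [CommRing A]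

/-- pairing of a polynomial with a sequence: `k ↦ ∑ kᵢ sᵢ` -/
noncomputable def pair (s : ℕ → A) : A[X] →ₗ[A] A :=
  Polynomial.lsum (fun i => (s i) • (LinearMap.id : A →ₗ[A] A))

theorem pair_monomial (s : ℕ → A) (n : ℕ) (a : A) : pair s (monomial n a) = s n * a := by
  simp [pair, Polynomial.lsum_apply, Polynomial.sum_monomial_index]

theorem pair_C_mul (s : ℕ → A) (a : A) (k : A[X]) : pair s (C a * k) = a * pair s k := by
  rw [Polynomial.C_mul', map_smul, smul_eq_mul]

theorem pair_mul_X_pow (s : ℕ → A) (k : A[X]) (n : ℕ) :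
    pair s (k * X ^ n) = pair (fun i => s (i + n)) k := by
  induction k using Polynomial.induction_on' with
  | add p q hp hq => rw [add_mul, map_add, map_add, hp, hq]
  | monomial i a =>
    rw [Polynomial.monomial_mul_X_pow, pair_monomial, pair_monomial]

theorem pair_X_pow_mul_expand (s : ℕ → A) (k : A[X]) (j n : ℕ) :
    pair s (X ^ n * expand A j k) = pair (fun b => s (b * j + n)) k := by
  induction k using Polynomial.induction_on' with
  | add p q hp hq => rw [map_add, mul_add, map_add, map_add, hp, hq]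
  | monomial i a =>
    rw [Polynomial.expand_monomial, mul_comm, Polynomial.monomial_mul_X_pow, pair_monomial,
      pair_monomial]

theorem pair_eq_sum (s : ℕ → A) (k : A[X]) (n : ℕ) (hn : k.natDegree < n) :
    pair s k = ∑ i ∈ Finset.range n, k.coeff i * s i := by
  conv_lhs => rw [Polynomial.as_sum_range' k n hn]
  rw [map_sum]
  refine Finset.sum_congr rfl fun i _ => ?_
  rw [pair_monomial, mul_comm]

/-- if the sequence is `P`-recurrent, the pairing kills all multiples of `P` -/
theorem pair_mul_eq_zero (s : ℕ → A) (P : A[X])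
    (h : ∀ n, pair (fun i => s (i + n)) P = 0) (k : A[X]) : pair s (k * P) = 0 := by
  induction k using Polynomial.induction_on' with
  | add p q hp hq => rw [add_mul, map_add, hp, hq, add_zero]
  | monomial i a =>
    rw [← Polynomial.C_mul_X_pow_eq_monomial, mul_assoc, pair_C_mul, mul_comm (X ^ i),
      pair_mul_X_pow, h, mul_zero]

end Pair

variable {K : Type u} [CommRing K]

/-- `τ` is the Tate functional of level `r` on `K[X]/(p)`. -/
structure IsTate (p : K[X]) (r : ℕ) (τ : AdjoinRoot p →ₗ[K] K) : Prop where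
  low : ∀ i, i < r → τ (AdjoinRoot.root p ^ i) = 0
  top : τ (AdjoinRoot.root p ^ r) = 1

section Seq

variable {A : Type w} [CommRing A] [Algebra K A]

/-- the sequence `i ↦ τ(ℓ^i y)` with values in a `K`-algebra -/
noncomputable def tseq (A : Type w) [CommRing A] [Algebra K A] {p : K[X]}
    (τ : AdjoinRoot p →ₗ[K] K) (y : AdjoinRoot p) : ℕ → A :=
  fun i => algebraMap K A (τ (AdjoinRoot.root p ^ i * y))

theorem tseq_shift {p : K[X]} (τ : AdjoinRoot p →ₗ[K] K) (y : AdjoinRoot p) (n : ℕ) :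
    (fun i => tseq A τ y (i + n)) = tseq A τ (AdjoinRoot.root p ^ n * y) := by
  funext i
  simp only [tseq]
  rw [pow_add, mul_assoc]

theorem pair_tseq_map {p : K[X]} (τ : AdjoinRoot p →ₗ[K] K) (y : AdjoinRoot p) (g : K[X]) :
    pair (tseq A τ y) (g.map (algebraMap K A)) =
      algebraMap K A (τ (aeval (AdjoinRoot.root p) g * y)) := by
  induction g using Polynomial.induction_on' with
  | add p q hp hq =>
    rw [Polynomial.map_add, map_add, hp, hq, map_add, add_mul, map_add, map_add]
  | monomial i a =>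
    rw [Polynomial.map_monomial, pair_monomial, tseq, ← map_mul, Polynomial.aeval_monomial,
      ← Algebra.smul_def, smul_mul_assoc, map_smul, smul_eq_mul, mul_comm]

theorem pair_tseq_mul_map {p : K[X]} (τ : AdjoinRoot p →ₗ[K] K) (y : AdjoinRoot p) (k : A[X]) :
    pair (tseq A τ y) (k * p.map (algebraMap K A)) = 0 := by
  apply pair_mul_eq_zero
  intro n
  rw [tseq_shift, pair_tseq_map, AdjoinRoot.aeval_eq, AdjoinRoot.mk_self, zero_mul, map_zero,
    map_zero]

theorem pair_tseq_add {p : K[X]} (τ : AdjoinRoot p →ₗ[K] K) (y y' : AdjoinRoot p) (k : A[X]) :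
    pair (tseq A τ (y + y')) k = pair (tseq A τ y) k + pair (tseq A τ y') k := by
  induction k using Polynomial.induction_on' with
  | add p q hp hq => rw [map_add, map_add, map_add, hp, hq]; ring
  | monomial i a =>
    simp only [pair_monomial, tseq, mul_add, map_add, add_mul]

theorem pair_tseq_smul {p : K[X]} (τ : AdjoinRoot p →ₗ[K] K) (c : K) (y : AdjoinRoot p)
    (k : A[X]) :
    pair (tseq A τ (c • y)) k = algebraMap K A c * pair (tseq A τ y) k := by
  induction k using Polynomial.induction_on' with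
  | add p q hp hq => rw [map_add, map_add, hp, hq]; ring
  | monomial i a =>
    simp only [pair_monomial, tseq, mul_smul_comm, map_smul, smul_eq_mul, map_mul]
    ring

end Seq

section Repr

variable {A : Type w} [CommRing A] [Algebra K A]

/-- the kernel `p(X)/(X - ρ)` -/
noncomputable def kern (A : Type w) [CommRing A] [Algebra K A] (p : K[X]) (ρ : A) : A[X] :=
  p.map (algebraMap K A) /ₘ (X - C ρ)

theorem X_sub_C_mul_kern (p : K[X]) (ρ : A) (hρ : aeval ρ p = 0) :
    (X - C ρ) * kern A p ρ = p.map (algebraMap K A) := by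
  rw [kern, Polynomial.mul_divByMonic_eq_iff_isRoot, Polynomial.IsRoot, Polynomial.eval_map,
    ← Polynomial.aeval_def, hρ]

theorem kern_monic (p : K[X]) (hp : p.Monic) (ρ : A) (hρ : aeval ρ p = 0) :
    (kern A p ρ).Monic := by
  apply Polynomial.Monic.of_mul_monic_left (Polynomial.monic_X_sub_C ρ)
  rw [X_sub_C_mul_kern p ρ hρ]
  exact hp.map _

theorem kern_natDegree [Nontrivial A] (p : K[X]) (hp : p.Monic) (r : ℕ)
    (hpd : p.natDegree = r + 1) (ρ : A) (hρ : aeval ρ p = 0) :
    (kern A p ρ).natDegree = r := by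
  have h1 := congrArg Polynomial.natDegree (X_sub_C_mul_kern p ρ hρ)
  rw [(Polynomial.monic_X_sub_C ρ).natDegree_mul (kern_monic p hp ρ hρ),
    Polynomial.natDegree_X_sub_C, hp.natDegree_map, hpd] at h1
  omega

theorem kern_mul_sub (p : K[X]) (ρ : A) (hρ : aeval ρ p = 0) (k : A[X]) :
    ∃ h : A[X], kern A p ρ * k = C (k.eval ρ) * kern A p ρ + h * p.map (algebraMap K A) := by
  obtain ⟨h, hh⟩ := Polynomial.X_sub_C_dvd_sub_C_eval (a := ρ) (p := k)
  refine ⟨h, ?_⟩
  rw [← X_sub_C_mul_kern p ρ hρ]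
  have : k = C (k.eval ρ) + (X - C ρ) * h := by rw [← hh]; ring
  conv_lhs => rw [this]
  ring

theorem pair_kern_mul {p : K[X]} (τ : AdjoinRoot p →ₗ[K] K) (y : AdjoinRoot p) (ρ : A)
    (hρ : aeval ρ p = 0) (k : A[X]) :
    pair (tseq A τ y) (kern A p ρ * k) = k.eval ρ * pair (tseq A τ y) (kern A p ρ) := by
  obtain ⟨h, hh⟩ := kern_mul_sub p ρ hρ k
  rw [hh, map_add, pair_C_mul, pair_tseq_mul_map, add_zero]

theorem pair_kern_one {p : K[X]} (hp : p.Monic) (r : ℕ) (hpd : p.natDegree = r + 1)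
    (τ : AdjoinRoot p →ₗ[K] K) (hτ : IsTate p r τ) (ρ : A) (hρ : aeval ρ p = 0) :
    pair (tseq A τ 1) (kern A p ρ) = 1 := by
  nontriviality A
  rw [pair_eq_sum _ _ (r + 1) (by rw [kern_natDegree p hp r hpd ρ hρ]; omega),
    Finset.sum_range_succ, Finset.sum_eq_zero, zero_add]
  · have h1 : (kern A p ρ).coeff r = 1 := by
      have := kern_monic p hp ρ hρ
      rw [Polynomial.Monic, Polynomial.leadingCoeff, kern_natDegree p hp r hpd ρ hρ] at this
      exact this
    rw [h1, one_mul, tseq, mul_one, hτ.top, map_one]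
  · intro i hi
    rw [Finset.mem_range] at hi
    rw [tseq, mul_one, hτ.low i hi, map_zero, mul_zero]

/-- reproducing property of the kernel -/
theorem pair_kern {p : K[X]} (hp : p.Monic) (r : ℕ) (hpd : p.natDegree = r + 1)
    (τ : AdjoinRoot p →ₗ[K] K) (hτ : IsTate p r τ) (ρ : A) (hρ : aeval ρ p = 0) (g : K[X]) :
    pair (tseq A τ (AdjoinRoot.mk p g)) (kern A p ρ) = aeval ρ g := by
  induction g using Polynomial.induction_on' with
  | add g1 g2 h1 h2 => rw [map_add, pair_tseq_add, h1, h2, map_add]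
  | monomial n a =>
    rw [← Polynomial.C_mul_X_pow_eq_monomial, map_mul, map_pow, AdjoinRoot.mk_C, AdjoinRoot.mk_X,
      ← AdjoinRoot.algebraMap_eq, ← Algebra.smul_def, pair_tseq_smul,
      show AdjoinRoot.root p ^ n = AdjoinRoot.root p ^ n * 1 from (mul_one _).symm,
      ← tseq_shift, ← pair_mul_X_pow, pair_kern_mul τ 1 ρ hρ, pair_kern_one hp r hpd τ hτ ρ hρ]
    simp [Polynomial.aeval_monomial]

end Repr

section Transfer

variable (p p2 G : K[X]) (r j : ℕ)

/-- the polynomial `(X^j - ℓ^j)/(X - ℓ)` over `K[X]/(p)` -/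
noncomputable def qX : (AdjoinRoot p)[X] :=
  ∑ a ∈ Finset.range j, X ^ a * C (AdjoinRoot.root p) ^ (j - 1 - a)

theorem qX_mul : qX p j * (X - C (AdjoinRoot.root p)) = X ^ j - C (AdjoinRoot.root p) ^ j :=
  geom_sum₂_mul _ _ _

theorem eval_qX : (qX p j).eval (AdjoinRoot.root p) = (j : AdjoinRoot p) * AdjoinRoot.root p ^ (j - 1) := by
  rw [qX, Polynomial.eval_finsetSum]
  have : ∀ a ∈ Finset.range j, Polynomial.eval (AdjoinRoot.root p)
      (X ^ a * C (AdjoinRoot.root p) ^ (j - 1 - a)) = AdjoinRoot.root p ^ (j - 1) := by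
    intro a ha
    rw [Finset.mem_range] at ha
    rw [Polynomial.eval_mul, Polynomial.eval_pow, Polynomial.eval_pow, Polynomial.eval_X,
      Polynomial.eval_C, ← pow_add]
    congr 1
    omega
  rw [Finset.sum_congr rfl this, Finset.sum_const, Finset.card_range, nsmul_eq_mul]

variable {p p2 G r j}

theorem aeval_root_pow (hG : G * p = expand K j p2) : aeval (AdjoinRoot.root p ^ j) p2 = 0 := by
  rw [← Polynomial.expand_aeval, ← hG, map_mul, AdjoinRoot.aeval_eq p, AdjoinRoot.mk_self,
    mul_zero]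

theorem aeval_root_self : aeval (AdjoinRoot.root p) p = 0 := by
  rw [AdjoinRoot.aeval_eq, AdjoinRoot.mk_self]

/-- the kernel identity `q(X,ℓ) δ'(X^j) = G(X) δ(X)` -/
theorem qX_mul_expand_kern (hG : G * p = expand K j p2) :
    qX p j * expand (AdjoinRoot p) j (kern (AdjoinRoot p) p2 (AdjoinRoot.root p ^ j)) =
      G.map (algebraMap K (AdjoinRoot p)) * kern (AdjoinRoot p) p (AdjoinRoot.root p) := by
  apply (Polynomial.monic_X_sub_C (AdjoinRoot.root p)).isRegular.left
  show (X - C (AdjoinRoot.root p)) * _ = (X - C (AdjoinRoot.root p)) * _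
  have h1 : (X - C (AdjoinRoot.root p)) * (qX p j *
      expand (AdjoinRoot p) j (kern (AdjoinRoot p) p2 (AdjoinRoot.root p ^ j))) =
      expand (AdjoinRoot p) j ((X - C (AdjoinRoot.root p ^ j)) *
        kern (AdjoinRoot p) p2 (AdjoinRoot.root p ^ j)) := by
    rw [map_mul, map_sub, Polynomial.expand_X, Polynomial.expand_C, ← mul_assoc,
      mul_comm _ (qX p j), qX_mul, C_pow]
  rw [h1, X_sub_C_mul_kern p2 _ (aeval_root_pow hG), ← Polynomial.map_expand, ← hG,
    Polynomial.map_mul, ← X_sub_C_mul_kern p _ aeval_root_self]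
  ring

theorem star (hp : p.Monic) (hpd : p.natDegree = r + 1)
    (hG : G * p = expand K j p2)
    (τ : AdjoinRoot p →ₗ[K] K) (hτ : IsTate p r τ)
    (hQ : IsUnit (AdjoinRoot.mk (p.map (algebraMap K (AdjoinRoot p))) (qX p j)))
    (x : AdjoinRoot p) :
    (j : AdjoinRoot p) * pair (fun b => tseq (AdjoinRoot p) τ x (b * j + (j - 1)))
      (kern (AdjoinRoot p) p2 (AdjoinRoot.root p ^ j)) = aeval (AdjoinRoot.root p) G * x := by
  obtain ⟨V', hV'⟩ := hQ.exists_left_inv
  obtain ⟨V, rfl⟩ := AdjoinRoot.mk_surjective V'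
  rw [← map_mul, ← map_one (AdjoinRoot.mk (p.map (algebraMap K (AdjoinRoot p)))),
    AdjoinRoot.mk_eq_mk] at hV'
  obtain ⟨W, hW⟩ := hV'
  have hroot : (p.map (algebraMap K (AdjoinRoot p))).eval (AdjoinRoot.root p) = 0 := by
    rw [Polynomial.eval_map, ← Polynomial.aeval_def, aeval_root_self]
  have heval : V.eval (AdjoinRoot.root p) * ((j : AdjoinRoot p) * AdjoinRoot.root p ^ (j - 1)) = 1 := by
    have := congrArg (Polynomial.eval (AdjoinRoot.root p)) hW
    rw [Polynomial.eval_sub, Polynomial.eval_mul, Polynomial.eval_mul, Polynomial.eval_one, hroot,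
      zero_mul, sub_eq_zero, eval_qX] at this
    exact this
  set δ := kern (AdjoinRoot p) p (AdjoinRoot.root p) with hδ
  set δ' := kern (AdjoinRoot p) p2 (AdjoinRoot.root p ^ j) with hδ'
  set pE := p.map (algebraMap K (AdjoinRoot p)) with hpE
  set GE := G.map (algebraMap K (AdjoinRoot p)) with hGE
  have hkey : X ^ (j - 1) * expand (AdjoinRoot p) j δ' =
      δ * (V * X ^ (j - 1) * GE) - (X ^ (j - 1) * expand (AdjoinRoot p) j δ' * W) * pE := by
    have h1 : V * qX p j - pE * W = 1 := by rw [← hW]; ring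
    calc X ^ (j - 1) * expand (AdjoinRoot p) j δ'
        = X ^ (j - 1) * expand (AdjoinRoot p) j δ' * (V * qX p j - pE * W) := by rw [h1, mul_one]
      _ = V * X ^ (j - 1) * (qX p j * expand (AdjoinRoot p) j δ') -
          (X ^ (j - 1) * expand (AdjoinRoot p) j δ' * W) * pE := by ring
      _ = _ := by rw [qX_mul_expand_kern hG]; ring
  have hx : pair (tseq (AdjoinRoot p) τ x) δ = x := by
    obtain ⟨g, rfl⟩ := AdjoinRoot.mk_surjective x
    rw [hδ, pair_kern hp r hpd τ hτ _ aeval_root_self, AdjoinRoot.aeval_eq]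
  rw [← pair_X_pow_mul_expand, hkey, map_sub, pair_tseq_mul_map, sub_zero,
    pair_kern_mul τ x _ aeval_root_self, hx, Polynomial.eval_mul, Polynomial.eval_mul,
    Polynomial.eval_pow, Polynomial.eval_X, hGE, Polynomial.eval_map, ← Polynomial.aeval_def]
  calc (j : AdjoinRoot p) * (V.eval (AdjoinRoot.root p) * AdjoinRoot.root p ^ (j - 1) *
        aeval (AdjoinRoot.root p) G * x)
      = (V.eval (AdjoinRoot.root p) * ((j : AdjoinRoot p) * AdjoinRoot.root p ^ (j - 1))) *
        (aeval (AdjoinRoot.root p) G * x) := by ring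
    _ = _ := by rw [heval, one_mul]

/-- **Transfer formula.** If `G p = p₂(X^j)`, `q(ℓ ⊗ 1, 1 ⊗ ℓ)` is invertible and `w` is an
inverse of `G(ℓ)`, then `j τ(ℓ^(j-1) w ℓ^(jn)) = τ'(S^n)`. -/
theorem transfer (hp : p.Monic) (hpd : p.natDegree = r + 1)
    (hp2 : p2.Monic) (hp2d : p2.natDegree = r + 1)
    (hG : G * p = expand K j p2)
    (τ : AdjoinRoot p →ₗ[K] K) (hτ : IsTate p r τ)
    (τ' : AdjoinRoot p2 →ₗ[K] K) (hτ' : IsTate p2 r τ')
    (hQ : IsUnit (AdjoinRoot.mk (p.map (algebraMap K (AdjoinRoot p))) (qX p j)))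
    (w : AdjoinRoot p) (hw : w * aeval (AdjoinRoot.root p) G = 1) (n : ℕ) :
    (j : K) * τ (AdjoinRoot.root p ^ (j - 1) * (w * AdjoinRoot.root p ^ (j * n))) =
      τ' (AdjoinRoot.root p2 ^ n) := by
  nontriviality K
  have hfr : Module.finrank K (AdjoinRoot p) = r + 1 := by
    rw [(AdjoinRoot.powerBasis' hp).finrank, AdjoinRoot.powerBasis'_dim, hpd]
  haveI : Module.Free K (AdjoinRoot p) := hp.free_adjoinRoot
  haveI : Nontrivial (AdjoinRoot p) := Module.nontrivial_of_finrank_pos (R := K) (by omega)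
  have hdeg : (kern (AdjoinRoot p) p2 (AdjoinRoot.root p ^ j)).natDegree = r :=
    kern_natDegree p2 hp2 r hp2d _ (aeval_root_pow hG)
  let v : Fin (r + 1) → AdjoinRoot p :=
    fun b => (kern (AdjoinRoot p) p2 (AdjoinRoot.root p ^ j)).coeff b
  -- first expansion
  have hstar : ∀ x : AdjoinRoot p,
      ∑ b : Fin (r + 1), ((j : K) * τ (AdjoinRoot.root p ^ ((b : ℕ) * j + (j - 1)) * x)) • v b =
        aeval (AdjoinRoot.root p) G * x := by
    intro x
    rw [← star hp hpd hG τ hτ hQ x, pair_eq_sum _ _ (r + 1) (by rw [hdeg]; omega), Finset.mul_sum,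
      Finset.sum_range]
    refine Finset.sum_congr rfl fun b _ => ?_
    simp only [v, tseq, Algebra.smul_def, map_mul, map_natCast]
    ring
  -- second expansion
  have hrepr : ∑ b : Fin (r + 1), (τ' (AdjoinRoot.root p2 ^ (b : ℕ) * AdjoinRoot.root p2 ^ n)) • v b =
      AdjoinRoot.root p ^ (j * n) := by
    have h := pair_kern (A := AdjoinRoot p) hp2 r hp2d τ' hτ' (AdjoinRoot.root p ^ j)
      (aeval_root_pow hG) (X ^ n)
    have h' : aeval (AdjoinRoot.root p ^ j) (X ^ n : K[X]) = AdjoinRoot.root p ^ (j * n) := by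
      rw [map_pow, Polynomial.aeval_X, ← pow_mul]
    rw [pair_eq_sum _ _ (r + 1) (by rw [hdeg]; omega), Finset.sum_range, h'] at h
    rw [← h]
    refine Finset.sum_congr rfl fun b _ => ?_
    simp only [v, tseq, Algebra.smul_def, map_pow, AdjoinRoot.mk_X]
    ring
  -- spanning, hence linear independence
  have hspan : ⊤ ≤ Submodule.span K (Set.range v) := by
    intro x' _
    have h := hstar (w * x')
    rw [← mul_assoc, mul_comm _ w, hw, one_mul] at h
    rw [← h]
    exact Submodule.sum_mem _ fun b _ => Submodule.smul_mem _ _ (Submodule.subset_span ⟨b, rfl⟩)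
  have hLI : LinearIndependent K v :=
    linearIndependent_of_top_le_span_of_card_eq_finrank hspan (by rw [Fintype.card_fin, hfr])
  have h1 := hstar (w * AdjoinRoot.root p ^ (j * n))
  rw [← mul_assoc, mul_comm _ w, hw, one_mul] at h1
  have h1' := h1.trans hrepr.symm
  rw [← sub_eq_zero, ← Finset.sum_sub_distrib] at h1'
  simp only [← sub_smul] at h1'
  have h2 := (Fintype.linearIndependent_iff.mp hLI) _ h1' ⟨0, by omega⟩
  simp only [zero_mul, zero_add, pow_zero, one_mul] at h2
  exact sub_eq_zero.mp h2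

end Transfer

end Groth.Agent.H86.AR
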