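import Groth.Agent.H86.AR1

/-!
# Existence of Tate functionals and the unit hypothesis of the transfer formula
-/

set_option autoImplicit false

namespace Groth.Agent.H86.AR

open Polynomial

universe u

variable {K : Type u} [CommRing K]

theorem exists_isTate {p : K[X]} (hp : p.Monic) (r : ℕ) (hpd : p.natDegree = r + 1) :
    ∃ τ : AdjoinRoot p →ₗ[K] K, IsTate p r τ := by
  have hdim : (AdjoinRoot.powerBasis' hp).dim = r + 1 := by rw [AdjoinRoot.powerBasis'_dim, hpd]
  refine ⟨(AdjoinRoot.powerBasis' hp).basis.coord ⟨r, by omega⟩, ?_, ?_⟩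
  · intro i hi
    have h1 : AdjoinRoot.root p ^ i = (AdjoinRoot.powerBasis' hp).basis ⟨i, by omega⟩ := by
      rw [PowerBasis.coe_basis, AdjoinRoot.powerBasis'_gen]
    rw [h1, Module.Basis.coord_apply, Module.Basis.repr_self, Finsupp.single_apply, if_neg]
    intro h
    have := congrArg Fin.val h
    simp at this
    omega
  · have h1 : AdjoinRoot.root p ^ r = (AdjoinRoot.powerBasis' hp).basis ⟨r, by omega⟩ := by
      rw [PowerBasis.coe_basis, AdjoinRoot.powerBasis'_gen]
    rw [h1, Module.Basis.coord_apply, Module.Basis.repr_self, Finsupp.single_apply, if_pos rfl]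

/-- a sum of `j` products of unipotent elements is `j` plus a nilpotent -/
theorem isNilpotent_geom_sub {S : Type*} [CommRing S] (u v : S) (hu : IsNilpotent (u - 1))
    (hv : IsNilpotent (v - 1)) (j : ℕ) :
    IsNilpotent (∑ a ∈ Finset.range j, u ^ a * v ^ (j - 1 - a) - (j : S)) := by
  rw [← mem_nilradical, ← Ideal.Quotient.eq_zero_iff_mem]
  have hu' : Ideal.Quotient.mk (nilradical S) u = 1 := by
    rw [← sub_eq_zero, ← map_one (Ideal.Quotient.mk (nilradical S)), ← map_sub,
      Ideal.Quotient.eq_zero_iff_mem, mem_nilradical]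
    exact hu
  have hv' : Ideal.Quotient.mk (nilradical S) v = 1 := by
    rw [← sub_eq_zero, ← map_one (Ideal.Quotient.mk (nilradical S)), ← map_sub,
      Ideal.Quotient.eq_zero_iff_mem, mem_nilradical]
    exact hv
  rw [map_sub, map_sum, map_natCast]
  simp only [map_mul, map_pow, hu', hv', one_pow, mul_one, Finset.sum_const, Finset.card_range,
    nsmul_eq_mul, sub_self]

theorem isUnit_geom {S : Type*} [CommRing S] (u v : S) (hu : IsNilpotent (u - 1))
    (hv : IsNilpotent (v - 1)) (j : ℕ) (hj : IsUnit (j : S)) :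
    IsUnit (∑ a ∈ Finset.range j, u ^ a * v ^ (j - 1 - a)) := by
  have h := (isNilpotent_geom_sub u v hu hv j).isUnit_add_left_of_commute hj (Commute.all _ _)
  rwa [add_sub_cancel] at h

/-- the unit hypothesis of the transfer formula follows from nilpotency of `ℓ - 1` and
invertibility of `j` -/
theorem isUnit_mk_qX (p : K[X]) (j : ℕ) (hj : IsUnit (j : K))
    (hnil : IsNilpotent (AdjoinRoot.root p - 1)) :
    IsUnit (AdjoinRoot.mk (p.map (algebraMap K (AdjoinRoot p))) (qX p j)) := by
  set pE := p.map (algebraMap K (AdjoinRoot p)) with hpE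
  have h0 : p.eval₂ ((AdjoinRoot.of pE).comp (AdjoinRoot.of p)) (AdjoinRoot.root pE) = 0 := by
    rw [← Polynomial.eval₂_map, ← AdjoinRoot.algebraMap_eq p, ← hpE, AdjoinRoot.eval₂_root]
  let φ : AdjoinRoot p →+* AdjoinRoot pE :=
    AdjoinRoot.lift ((AdjoinRoot.of pE).comp (AdjoinRoot.of p)) (AdjoinRoot.root pE) h0
  have hφ : φ (AdjoinRoot.root p) = AdjoinRoot.root pE := AdjoinRoot.lift_root h0
  have h1 : IsNilpotent (AdjoinRoot.root pE - 1) := by
    have := hnil.map φ
    rwa [map_sub, hφ, map_one] at this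
  have h2 : IsNilpotent (AdjoinRoot.of pE (AdjoinRoot.root p) - 1) := by
    have := hnil.map (AdjoinRoot.of pE)
    rwa [map_sub, map_one] at this
  have h3 : IsUnit ((j : ℕ) : AdjoinRoot pE) := by
    have := hj.map ((AdjoinRoot.of pE).comp (AdjoinRoot.of p))
    rwa [map_natCast] at this
  have := isUnit_geom _ _ h1 h2 j h3
  convert this using 1
  rw [qX, map_sum]
  refine Finset.sum_congr rfl fun a _ => ?_
  rw [map_mul, map_pow, map_pow, AdjoinRoot.mk_X, AdjoinRoot.mk_C]

end Groth.Agent.H86.AR
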