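import Groth.Agent.H86.KE1
import Groth.Agent.H17.AdamsGamma
import Groth.Agent.H41.LambdaInv
import Groth.Agent.H19.ExtPoly2

/-!
# λ-ring lemmas for the elementary extension
-/

set_option autoImplicit false

namespace Groth.Agent.H86.KE

open LambdaRing PowerSeries Finset

universe u

variable {K : Type u} [CommRing K] [LambdaOps K]

/-- `λ^j (b w) = λ^j(b) w^j` for `b` positive and `w` a line element (splitting principle). -/
theorem lam_mul_line (P : PosStructure K) (hK : HasSplitting K P) {b w : K} (hb : b ∈ P.pos)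
    (hw : P.IsLine w) (j : ℕ) :
    LambdaOps.lam j (b * w) = LambdaOps.lam j b * w ^ j := by
  classical
  obtain ⟨L, _, _, P', f, hf, n, y, hy, hsum, -⟩ := Groth.Agent.H41.exists_split_fin P hK b hb
  apply hf.injective
  have hw' : P'.IsLine (f w) := Groth.Agent.H17.isExtension_isLine hf hw
  rw [hf.isLambdaHom, map_mul, map_mul, map_pow, hf.isLambdaHom, ← hsum, Finset.sum_mul,
    Groth.Agent.H41.lam_sum_lines P' (fun i => y i * f w)
      (fun i => Groth.Agent.H17.isLine_mul P' (hy i) hw'),
    Groth.Agent.H41.lam_sum_lines P' y hy, Finset.sum_mul]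
  refine Finset.sum_congr rfl fun t ht => ?_
  rw [Finset.prod_mul_distrib, Finset.prod_const, (Finset.mem_powersetCard.mp ht).2]

/-- An augmentation preserving λ-homomorphism preserves the γ-filtration. -/
theorem map_mem_gammaFiltration {K' : Type u} [CommRing K'] [LambdaOps K']
    (P : PosStructure K) (P' : PosStructure K') (f : K →+* K') (hf : IsLambdaHom f)
    (haug : ∀ x : K, P'.aug (f x) = P.aug x) (n : ℕ) {x : K} (hx : x ∈ gammaFiltration P n) :
    f x ∈ gammaFiltration P' n := by
  by_cases hn : n = 0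
  · subst hn; rw [Groth.Agent.H17.gammaFiltration_zero]; trivial
  · rw [Groth.Agent.H17.gammaFiltration_pos P hn] at hx
    rw [Groth.Agent.H17.gammaFiltration_pos P' hn]
    induction hx using AddSubgroup.closure_induction with
    | mem x hx =>
      apply AddSubgroup.subset_closure
      obtain ⟨l, hl0, hlsum, rfl⟩ := hx
      refine ⟨l.map fun p => (p.1, f p.2), ?_, ?_, ?_⟩
      · intro p hp
        obtain ⟨p', hp', rfl⟩ := List.mem_map.mp hp
        simp only
        rw [haug]
        exact hl0 p' hp'
      · simpa [List.map_map, Function.comp_def] using hlsum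
      · rw [map_list_prod, List.map_map, List.map_map]
        congr 1
        apply List.map_congr_left
        intro p _
        simp only [Function.comp_apply]
        rw [Groth.Agent.H17.map_gamma f hf]
    | zero => rw [map_zero]; exact zero_mem _
    | add a b _ _ ha hb => rw [map_add]; exact add_mem ha hb
    | neg a _ ha => rw [map_neg]; exact neg_mem ha

/-- The relation satisfied by `1 - ℓ` in the elementary extension, in terms of the
`γ^i(e - m)`. -/
theorem one_sub_root_rel (P : PosStructure K) (e : K) (he : e ∈ P.pos) :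
    ∑ i ∈ range ((P.aug e).toNat + 1),
      AdjoinRoot.of (KRR.extPoly P e) (gamma i (e - ((P.aug e).toNat : K))) *
        (1 - AdjoinRoot.root (KRR.extPoly P e)) ^ ((P.aug e).toNat - i) = 0 := by
  set m := (P.aug e).toNat with hm
  set ℓ := AdjoinRoot.root (KRR.extPoly P e) with hℓ
  have h := congrArg (Polynomial.eval₂ (AdjoinRoot.of (KRR.extPoly P e)) (1 - ℓ))
    (Groth.Agent.H17.gamma_poly_identity P e he)
  rw [← hm] at h
  simp only [Polynomial.eval₂_finset_sum, Polynomial.eval₂_mul, Polynomial.eval₂_C,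
    Polynomial.eval₂_pow, Polynomial.eval₂_X, Polynomial.eval₂_sub, Polynomial.eval₂_one] at h
  rw [h]
  have hrel := Groth.Agent.H19.root_rel P e
  rw [← hm, ← hℓ] at hrel
  have : ∀ i ∈ range (m + 1),
      AdjoinRoot.of (KRR.extPoly P e) (LambdaOps.lam i e) * (1 - ℓ - 1) ^ (m - i) =
        (-1 : AdjoinRoot (KRR.extPoly P e)) ^ m *
          (Groth.Agent.H19.altLam e i • ℓ ^ (m - i)) := by
    intro i hi
    have him : i ≤ m := by
      have := Finset.mem_range.mp hi
      omega
    rw [Algebra.smul_def, AdjoinRoot.algebraMap_eq, Groth.Agent.H19.altLam, map_mul, map_pow,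
      map_neg, map_one]
    have h1 : (1 - ℓ - 1 : AdjoinRoot (KRR.extPoly P e)) = -1 * ℓ := by ring
    have h2 : (-1 : AdjoinRoot (KRR.extPoly P e)) ^ m = (-1) ^ (m - i) * (-1) ^ i := by
      rw [← pow_add]; congr 1; omega
    rw [h1, mul_pow, h2]
    have h3 : ((-1 : AdjoinRoot (KRR.extPoly P e)) ^ i) * (-1) ^ i = 1 := by
      rw [← mul_pow]; simp
    calc AdjoinRoot.of (KRR.extPoly P e) (LambdaOps.lam i e) * ((-1) ^ (m - i) * ℓ ^ (m - i))
        = (-1) ^ (m - i) * (((-1 : AdjoinRoot (KRR.extPoly P e)) ^ i) * (-1) ^ i) *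
            (AdjoinRoot.of (KRR.extPoly P e) (LambdaOps.lam i e) * ℓ ^ (m - i)) := by
          rw [h3]; ring
      _ = _ := by ring
  rw [Finset.sum_congr rfl this, ← Finset.mul_sum, hrel, mul_zero]

end Groth.Agent.H86.KE
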