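import Groth.Agent.H86.AR2
import Groth.Agent.H86.KE2
import Groth.Agent.H43.S3792aux

/-!
# The polynomial `G = p_{ψ^j e}(X^j) / p_e(X)`
-/

set_option autoImplicit false

namespace Groth.Agent.H86.AR

open LambdaRing Polynomial

universe u

variable {K : Type u} [CommRing K] [LambdaOps K] (P : PosStructure K)

/-- In an extension where `e` splits as a sum of line elements, `p_e` becomes `∏ (X - yᵢ)`. -/
theorem extPoly_map_eq_prod {L : Type u} [CommRing L] [LambdaOps L] (P' : PosStructure L)
    (f : K →+* L) (hf : IsExtension P P' f) (e : K) (n : ℕ) (y : Fin n → L)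
    (hy : ∀ i, P'.IsLine (y i)) (hsum : ∑ i, y i = f e) (hn : (P.aug e).toNat = n) :
    (KRR.extPoly P e).map f = ∏ i, (X - C (y i)) := by
  classical
  have h1 : ∏ i, (X - C (y i)) = ((Finset.univ.val.map y).map fun t => X - C t).prod := by
    rw [Multiset.map_map]; rfl
  rw [h1, Multiset.prod_X_sub_X_eq_sum_esymm, Multiset.card_map, Finset.card_val,
    Finset.card_univ, Fintype.card_fin]
  unfold KRR.extPoly
  rw [hn, Polynomial.map_sum]
  refine Finset.sum_congr rfl fun i _ => ?_
  rw [Polynomial.map_mul, Polynomial.map_pow, Polynomial.map_X, Polynomial.map_C, map_mul,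
    map_pow, map_neg, map_one, hf.isLambdaHom, ← hsum, Groth.Agent.H41.lam_sum_lines P' y hy,
    Finset.esymm_map_val, map_mul, map_pow, map_neg, map_one, mul_assoc]

variable (hK : HasSplitting K P)

/-- `p_{ψ^j e}` -/
noncomputable def extPoly2 (e : K) (j : ℕ) : K[X] :=
  (KRR.extPoly P e).map (Groth.Agent.H17.adamsRingHom P hK j)

theorem extPoly2_monic (e : K) (j : ℕ) : (extPoly2 P hK e j).Monic :=
  (Groth.Agent.H19.extPoly_monic P e).map _

theorem extPoly2_natDegree (e : K) (j : ℕ) (m : ℕ) (hm : (P.aug e).toNat = m) :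
    (extPoly2 P hK e j).natDegree = m := by
  haveI : Nontrivial K := P.aug.domain_nontrivial
  rw [extPoly2, (Groth.Agent.H19.extPoly_monic P e).natDegree_map,
    Groth.Agent.H19.extPoly_natDegree P e m hm]

theorem extPoly2_map_eq_prod {L : Type u} [CommRing L] [LambdaOps L] (P' : PosStructure L)
    (hL : HasSplitting L P')
    (f : K →+* L) (hf : IsExtension P P' f) (e : K) (n : ℕ) (y : Fin n → L)
    (hy : ∀ i, P'.IsLine (y i)) (hsum : ∑ i, y i = f e) (hn : (P.aug e).toNat = n) (j : ℕ) :
    (extPoly2 P hK e j).map f = ∏ i, (X - C (y i ^ j)) := by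
  have hcomp : f.comp (Groth.Agent.H17.adamsRingHom P hK j) =
      (Groth.Agent.H17.adamsRingHom P' hL j).comp f := by
    ext x
    exact Groth.Agent.H17.map_adams P P' f hf j x
  rw [extPoly2, Polynomial.map_map, hcomp, ← Polynomial.map_map,
    extPoly_map_eq_prod P P' f hf e n y hy hsum hn, Polynomial.map_prod]
  refine Finset.prod_congr rfl fun i _ => ?_
  rw [Polynomial.map_sub, Polynomial.map_X, Polynomial.map_C]
  congr 2
  exact Groth.Agent.H17.adams_of_isLine P' _ (hy i) j

/-- the quotient `p_{ψ^j e}(X^j) / p_e(X)` -/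
noncomputable def Gpoly (e : K) (j : ℕ) : K[X] :=
  expand K j (extPoly2 P hK e j) /ₘ KRR.extPoly P e

/-- the product `∏ᵢ (X^j - yᵢ^j)/(X - yᵢ)` -/
noncomputable def Hprod {L : Type u} [CommRing L] {n : ℕ} (y : Fin n → L) (j : ℕ) : L[X] :=
  ∏ i, ∑ a ∈ Finset.range j, X ^ a * C (y i) ^ (j - 1 - a)

theorem expand_extPoly2_map {L : Type u} [CommRing L] [LambdaOps L] (P' : PosStructure L)
    (hL : HasSplitting L P')
    (f : K →+* L) (hf : IsExtension P P' f) (e : K) (n : ℕ) (y : Fin n → L)
    (hy : ∀ i, P'.IsLine (y i)) (hsum : ∑ i, y i = f e) (hn : (P.aug e).toNat = n) (j : ℕ) :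
    (expand K j (extPoly2 P hK e j)).map f = (KRR.extPoly P e).map f * Hprod y j := by
  rw [Polynomial.map_expand, extPoly2_map_eq_prod P hK P' hL f hf e n y hy hsum hn,
    extPoly_map_eq_prod P P' f hf e n y hy hsum hn, Hprod, ← Finset.prod_mul_distrib, map_prod]
  refine Finset.prod_congr rfl fun i _ => ?_
  rw [map_sub, Polynomial.expand_X, Polynomial.expand_C, C_pow, mul_comm, geom_sum₂_mul]

theorem Gpoly_map {L : Type u} [CommRing L] [LambdaOps L] (P' : PosStructure L)
    (hL : HasSplitting L P')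
    (f : K →+* L) (hf : IsExtension P P' f) (e : K) (n : ℕ) (y : Fin n → L)
    (hy : ∀ i, P'.IsLine (y i)) (hsum : ∑ i, y i = f e) (hn : (P.aug e).toNat = n) (j : ℕ) :
    (Gpoly P hK e j).map f = Hprod y j := by
  rw [Gpoly, Polynomial.map_divByMonic f (Groth.Agent.H19.extPoly_monic P e),
    expand_extPoly2_map P hK P' hL f hf e n y hy hsum hn,
    Polynomial.mul_divByMonic_cancel_left _ ((Groth.Agent.H19.extPoly_monic P e).map f)]

theorem Gpoly_mul (e : K) (he : e ∈ P.pos) (j : ℕ) :
    Gpoly P hK e j * KRR.extPoly P e = expand K j (extPoly2 P hK e j) := by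
  obtain ⟨L, _, _, P', f, hL, hf, n, y, hy, hsum, hn⟩ :=
    Groth.Agent.H43.exists_split_fin' P hK e he
  have hmono := Groth.Agent.H19.extPoly_monic P e
  have h0 : expand K j (extPoly2 P hK e j) %ₘ KRR.extPoly P e = 0 := by
    apply Polynomial.map_injective f hf.injective
    rw [Polynomial.map_modByMonic f hmono, expand_extPoly2_map P hK P' hL f hf e n y hy hsum hn,
      Polynomial.map_zero, Polynomial.modByMonic_eq_zero_iff_dvd (hmono.map f)]
    exact dvd_mul_right _ _
  have h1 := Polynomial.modByMonic_add_div (expand K j (extPoly2 P hK e j)) (KRR.extPoly P e)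
  rw [h0, zero_add] at h1
  rw [Gpoly, mul_comm]
  exact h1

end Groth.Agent.H86.AR
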