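import Groth.Agent.H86.AR3

/-!
# Bott's class of `e ℓ⁻¹` in an extension containing a line element `ℓ`
-/

set_option autoImplicit false

namespace Groth.Agent.H86.AR

open LambdaRing Polynomial

universe u

variable {K' : Type u} [CommRing K'] [LambdaOps K'] (P' : PosStructure K')

theorem isNilpotent_of_aug_eq_zero (N : ℕ) (hN : gammaFiltration P' N = ⊥) (x : K')
    (hx : P'.aug x = 0) : IsNilpotent x := by
  refine ⟨N, ?_⟩
  have h := Groth.Agent.H17.pow_mem_gammaFiltration P'
    (Groth.Agent.H17.mem_gammaFiltration_one_of_aug P' x hx) N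
  rw [one_mul, hN, AddSubgroup.mem_bot] at h
  exact h

theorem lamSeries_mul_line_pos (hK' : HasSplitting K' P') {b u : K'} (hb : b ∈ P'.pos) (hu : P'.IsLine u) :
    lamSeries (b * u) = PowerSeries.rescale u (lamSeries b) := by
  ext k
  rw [PowerSeries.coeff_rescale, Groth.Agent.H17.coeff_lamSeries, Groth.Agent.H17.coeff_lamSeries,
    Groth.Agent.H86.KE.lam_mul_line P' hK' hb hu, mul_comm]

theorem lamSeries_mul_line (hK' : HasSplitting K' P') (z : K') {u : K'} (hu : P'.IsLine u) :
    lamSeries (z * u) = PowerSeries.rescale u (lamSeries z) := by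
  obtain ⟨a, b, ha, hb, rfl⟩ := P'.exists_sub z
  have h1 : lamSeries (a * u) = lamSeries ((a - b) * u) * lamSeries (b * u) := by
    rw [← Groth.Agent.H17.lamSeries_add]; congr 1; ring
  have h2 : lamSeries a = lamSeries (a - b) * lamSeries b := by
    rw [← Groth.Agent.H17.lamSeries_add]; congr 1; ring
  have h3 := congrArg (PowerSeries.rescale u) h2
  rw [map_mul, ← lamSeries_mul_line_pos P' hK' ha hu, ← lamSeries_mul_line_pos P' hK' hb hu, h1] at h3
  exact (Groth.Agent.H19.isUnit_lamSeries (b * u)).mul_left_injective h3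

theorem lam_mul_inv_line (hK' : HasSplitting K' P') (z : K') {u linv : K'} (hu : P'.IsLine u) (h : linv * u = 1) (k : ℕ) :
    LambdaOps.lam k (z * linv) = LambdaOps.lam k z * linv ^ k := by
  have h1 := lamSeries_mul_line P' hK' (z * linv) hu
  rw [mul_assoc, h, mul_one] at h1
  have h2 := congrArg (PowerSeries.rescale linv) h1
  rw [PowerSeries.rescale_rescale, mul_comm u, h, PowerSeries.rescale_one] at h2
  have h3 := congrArg (PowerSeries.coeff k) h2
  rw [PowerSeries.coeff_rescale, Groth.Agent.H17.coeff_lamSeries] at h3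
  simp only [RingHom.id_apply, Groth.Agent.H17.coeff_lamSeries] at h3
  rw [← h3, mul_comm]

theorem aug_inv_line {u linv : K'} (hu : P'.IsLine u) (h : linv * u = 1) : P'.aug linv = 1 := by
  have := congrArg P'.aug h
  rwa [map_mul, hu.2, mul_one, map_one] at this

/-- Bott's class of `b ℓ⁻¹` in an extension where the positive element `b` splits. -/
theorem map_bott_mul_inv (hK' : HasSplitting K' P') {L : Type u} [CommRing L] [LambdaOps L]
    (PL : PosStructure L) (f' : K' →+* L) (hf' : IsExtension P' PL f') (b : K')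
    {u linv : K'} (hu : P'.IsLine u) (h : linv * u = 1) (n : ℕ) (y : Fin n → L)
    (hy : ∀ i, PL.IsLine (y i)) (hsum : ∑ i, y i = f' b) (hn : (P'.aug b).toNat = n) (j : ℕ) :
    f' (KRR.bott P' j (b * linv)) = ∏ i, ∑ k ∈ Finset.range j, (y i * f' linv) ^ k := by
  classical
  have haug : (P'.aug (b * linv)).toNat = n := by
    rw [map_mul, aug_inv_line P' hu h, mul_one, hn]
  unfold KRR.bott
  generalize (P'.aug (b * linv)).toNat = m at haug
  subst haug
  rw [MvPolynomial.aeval_def, MvPolynomial.eval₂_comp_left]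
  have hcomp : f'.comp (algebraMap ℤ K') = algebraMap ℤ L := Subsingleton.elim _ _
  rw [hcomp, ← MvPolynomial.aeval_def]
  have hfun : (f' ∘ fun i : Fin m => LambdaOps.lam ((i : ℕ) + 1) (b * linv)) =
      fun i : Fin m => MvPolynomial.aeval (fun i => y i * f' linv)
        (MvPolynomial.esymm (Fin m) ℤ ((i : ℕ) + 1)) := by
    funext i
    simp only [Function.comp_apply]
    rw [lam_mul_inv_line P' hK' b hu h, map_mul, map_pow, hf'.isLambdaHom, ← hsum,
      Groth.Agent.H41.lam_sum_lines PL y hy, MvPolynomial.esymm, map_sum, Finset.sum_mul]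
    refine Finset.sum_congr rfl fun t ht => ?_
    rw [map_prod]
    simp only [MvPolynomial.aeval_X]
    rw [Finset.prod_mul_distrib, Finset.prod_const, (Finset.mem_powersetCard.mp ht).2]
  rw [hfun, ← MvPolynomial.comp_aeval_apply, Groth.Agent.H43.aeval_bottPoly, KRR.bottSym, map_prod]
  refine Finset.prod_congr rfl fun i _ => ?_
  rw [map_sum]
  simp

/-- `G(ℓ) = ℓ^((j-1) m) θ^j(e ℓ⁻¹)`. -/
theorem eval₂_Gpoly {K : Type u} [CommRing K] [LambdaOps K] (P : PosStructure K)
    (hK : HasSplitting K P) (hK' : HasSplitting K' P') (g : K →+* K') (hg : IsExtension P P' g)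
    (e : K) (he : e ∈ P.pos) {u linv : K'} (hu : P'.IsLine u) (h : linv * u = 1) (j : ℕ) (hj : 1 ≤ j)
    (n : ℕ) (hn : (P.aug e).toNat = n) :
    (Gpoly P hK e j).eval₂ g u = u ^ ((j - 1) * n) * KRR.bott P' j (g e * linv) := by
  obtain ⟨L, _, _, PL, f', hL, hf', n', y, hy, hsum, hn'⟩ :=
    Groth.Agent.H43.exists_split_fin' P' hK' (g e) (hg.pos_subset e he)
  have hnn : n' = n := by rw [← hn', hg.aug_comp, hn]
  subst hnn
  apply hf'.injective
  have hcomp := Groth.Agent.H17.isExtension_comp hg hf'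
  rw [Polynomial.hom_eval₂, Polynomial.eval₂_eq_eval_map,
    Gpoly_map P hK PL hL (f'.comp g) hcomp e n' y hy hsum hn, map_mul, map_pow,
    map_bott_mul_inv P' hK' PL f' hf' (g e) hu h n' y hy hsum hn', Hprod, Polynomial.eval_prod]
  have huv : f' u * f' linv = 1 := by rw [← map_mul, mul_comm, h, map_one]
  have h1 : (f' u) ^ ((j - 1) * n') = ∏ _i : Fin n', (f' u) ^ (j - 1) := by
    rw [Finset.prod_const, Finset.card_univ, Fintype.card_fin, ← pow_mul]
  rw [h1, ← Finset.prod_mul_distrib]
  refine Finset.prod_congr rfl fun i _ => ?_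
  rw [Polynomial.eval_finsetSum, Finset.mul_sum, ← Finset.sum_range_reflect]
  refine Finset.sum_congr rfl fun a ha => ?_
  rw [Finset.mem_range] at ha
  rw [Polynomial.eval_mul, Polynomial.eval_pow, Polynomial.eval_pow, Polynomial.eval_X,
    Polynomial.eval_C]
  have h2 : j - 1 - (j - 1 - a) = a := by omega
  have h3 : (f' u) ^ (j - 1) = (f' u) ^ (j - 1 - a) * (f' u) ^ a := by
    rw [← pow_add]; congr 1; omega
  rw [h2, h3, mul_pow, mul_assoc, mul_left_comm ((f' u) ^ a), ← mul_pow (f' u), huv, one_pow,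
    mul_one]

/-- the augmentation of `θ^j(e ℓ⁻¹)` is `j^m` -/
theorem aug_bott_mul_inv (hK' : HasSplitting K' P') (b : K') (hb : b ∈ P'.pos)
    {u linv : K'} (hu : P'.IsLine u) (h : linv * u = 1) (j : ℕ) :
    P'.aug (KRR.bott P' j (b * linv)) = (j : ℤ) ^ (P'.aug b).toNat := by
  obtain ⟨L, _, _, PL, f', hL, hf', n', y, hy, hsum, hn'⟩ :=
    Groth.Agent.H43.exists_split_fin' P' hK' b hb
  rw [← hf'.aug_comp, map_bott_mul_inv P' hK' PL f' hf' b hu h n' y hy hsum hn', map_prod, hn']
  have h1 : PL.aug (f' linv) = 1 := by rw [hf'.aug_comp, aug_inv_line P' hu h]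
  have : ∀ i ∈ (Finset.univ : Finset (Fin n')),
      PL.aug (∑ k ∈ Finset.range j, (y i * f' linv) ^ k) = (j : ℤ) := by
    intro i _
    rw [map_sum]
    simp only [map_pow, map_mul, (hy i).2, h1, mul_one, one_pow, Finset.sum_const,
      Finset.card_range, nsmul_eq_mul]
  rw [Finset.prod_congr rfl this, Finset.prod_const, Finset.card_univ, Fintype.card_fin]

end Groth.Agent.H86.AR
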