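import Groth.Agent.H86.AR4

/-!
# Values of Tate functionals on `K[X]/(γ p_e)`
-/

set_option autoImplicit false

namespace Groth.Agent.H86.AR

open LambdaRing Polynomial

universe u w

variable {K : Type u} [CommRing K] [LambdaOps K] (P : PosStructure K)

theorem sigma_zero (e : K) : KRR.sigma 0 e = 1 := by
  have h := Groth.Agent.H19.sigma_rec e 0
  simpa [Groth.Agent.H19.altLam_zero] using h

/-- the relation `∑ γ(a_i) ℓ^(k-i) = 0` in `S[X]/(γ p_e)` for `k ≥ m` -/
theorem map_root_rel_ge {S : Type w} [CommRing S] (γ : K →+* S) {e : K} (he : e ∈ P.pos) (k : ℕ)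
    (hk : (P.aug e).toNat ≤ k) :
    ∑ i ∈ Finset.range (k + 1), γ (Groth.Agent.H19.altLam e i) •
      AdjoinRoot.root ((KRR.extPoly P e).map γ) ^ (k - i) = 0 := by
  have h := congrArg (AdjoinRoot.map γ (KRR.extPoly P e) ((KRR.extPoly P e).map γ) dvd_rfl)
    (Groth.Agent.H19.root_rel_ge P he k hk)
  rw [map_sum, map_zero] at h
  rw [← h]
  refine Finset.sum_congr rfl fun i _ => ?_
  rw [Algebra.smul_def, Algebra.smul_def, map_mul, map_pow, AdjoinRoot.algebraMap_eq,
    AdjoinRoot.algebraMap_eq, AdjoinRoot.map_of, AdjoinRoot.map_root]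

theorem tate_sigma {S : Type w} [CommRing S] (γ : K →+* S) {e : K} (he : e ∈ P.pos) (r : ℕ)
    (hr : P.aug e = r + 1)
    (τ : AdjoinRoot ((KRR.extPoly P e).map γ) →ₗ[S] S)
    (hτ : IsTate ((KRR.extPoly P e).map γ) r τ) (n : ℕ) :
    τ (AdjoinRoot.root ((KRR.extPoly P e).map γ) ^ (r + n)) = γ (KRR.sigma n e) := by
  have hm : (P.aug e).toNat = r + 1 := by rw [hr]; rfl
  induction n using Nat.strong_induction_on with
  | _ n ih =>
    rcases Nat.eq_zero_or_pos n with rfl | hn
    · rw [add_zero, hτ.top, sigma_zero, map_one]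
    · have h1 := congrArg τ (map_root_rel_ge P γ he (r + n) (by omega))
      rw [map_sum, map_zero] at h1
      simp only [map_smul, smul_eq_mul] at h1
      -- split off the terms with `i > n`
      have h1' : ∑ i ∈ Finset.range (n + 1), γ (Groth.Agent.H19.altLam e i) *
          τ (AdjoinRoot.root ((KRR.extPoly P e).map γ) ^ (r + n - i)) = 0 := by
        rw [← h1]
        apply Finset.sum_subset_zero_on_sdiff
        · intro i hi
          rw [Finset.mem_range] at hi ⊢
          omega
        · intro i hi
          rw [Finset.mem_sdiff, Finset.mem_range, Finset.mem_range] at hi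
          rw [hτ.low _ (by omega), mul_zero]
        · intro i _; rfl
      have h2 := congrArg γ (Groth.Agent.H19.sigma_rec e n)
      rw [if_neg (by omega), map_sum, map_zero] at h2
      simp only [map_mul] at h2
      have h3 : ∑ i ∈ Finset.range (n + 1), γ (Groth.Agent.H19.altLam e i) *
          (τ (AdjoinRoot.root ((KRR.extPoly P e).map γ) ^ (r + n - i)) -
            γ (KRR.sigma (n - i) e)) = 0 := by
        simp only [mul_sub, Finset.sum_sub_distrib, h1', h2, sub_zero]
      rw [Finset.sum_eq_single_of_mem 0 (by simp)] at h3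
      · rw [Groth.Agent.H19.altLam_zero, map_one, one_mul, Nat.sub_zero, Nat.sub_zero] at h3
        exact sub_eq_zero.mp h3
      · intro i hi hi0
        rw [Finset.mem_range] at hi
        have : r + n - i = r + (n - i) := by omega
        rw [this, ih (n - i) (by omega), sub_self, mul_zero]

end Groth.Agent.H86.AR
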