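import Groth.Agent.H86.AR5

/-!
# Base change of the elementary extension along `K → R ⊗ K`
-/

set_option autoImplicit false

namespace Groth.Agent.H86.AR

open LambdaRing Polynomial
open scoped TensorProduct

universe u w

variable {K : Type u} [CommRing K] [LambdaOps K] (P : PosStructure K)
variable (R : Type w) [CommRing R]

/-- `K → R ⊗ K` -/
noncomputable def iota : K →+* R ⊗[ℤ] K :=
  (Algebra.TensorProduct.includeRight : K →ₐ[ℤ] R ⊗[ℤ] K).toRingHom

theorem iota_apply (a : K) : iota R a = (1 : R) ⊗ₜ[ℤ] a := rfl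

variable (e : K)

/-- the base change of `p_e` -/
noncomputable def pR : (R ⊗[ℤ] K)[X] := (KRR.extPoly P e).map (iota R)

theorem pR_monic : (pR P R e).Monic := (Groth.Agent.H19.extPoly_monic P e).map _

theorem pR_natDegree [Nontrivial (R ⊗[ℤ] K)] (m : ℕ) (hm : (P.aug e).toNat = m) :
    (pR P R e).natDegree = m := by
  rw [pR, (Groth.Agent.H19.extPoly_monic P e).natDegree_map,
    Groth.Agent.H19.extPoly_natDegree P e m hm]

theorem pR_dvd : pR P R e ∣ (KRR.extPoly P e).map (iota R) := dvd_of_eq rfl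

/-- `K_e → (R ⊗ K)[X]/(p_e)` -/
noncomputable def gmap : AdjoinRoot (KRR.extPoly P e) →+* AdjoinRoot (pR P R e) :=
  AdjoinRoot.map (iota R) (KRR.extPoly P e) (pR P R e) (pR_dvd P R e)

theorem gmap_of (a : K) : gmap P R e (AdjoinRoot.of _ a) = AdjoinRoot.of _ (iota R a) := by
  rw [gmap, AdjoinRoot.map_of]

theorem gmap_root : gmap P R e (AdjoinRoot.root _) = AdjoinRoot.root _ := by
  rw [gmap, AdjoinRoot.map_root]

/-- `R → (R ⊗ K)[X]/(p_e)` -/
noncomputable def algR : R →+* AdjoinRoot (pR P R e) :=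
  (AdjoinRoot.of (pR P R e)).comp Algebra.TensorProduct.includeLeftRingHom

theorem algR_apply (ρ : R) : algR P R e ρ = AdjoinRoot.of (pR P R e) (ρ ⊗ₜ[ℤ] (1 : K)) := rfl

/-- `R ⊗ K_e → (R ⊗ K)[X]/(p_e)` -/
noncomputable def Phi : R ⊗[ℤ] AdjoinRoot (KRR.extPoly P e) →+* AdjoinRoot (pR P R e) :=
  (Algebra.TensorProduct.productMap (algR P R e).toIntAlgHom (gmap P R e).toIntAlgHom).toRingHom

theorem Phi_tmul (ρ : R) (x : AdjoinRoot (KRR.extPoly P e)) :
    Phi P R e (ρ ⊗ₜ[ℤ] x) = algR P R e ρ * gmap P R e x := by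
  simp [Phi]

theorem of_mul_eq_smul (c : R ⊗[ℤ] K) (z : AdjoinRoot (pR P R e)) :
    AdjoinRoot.of (pR P R e) c * z = c • z := by
  rw [← AdjoinRoot.algebraMap_eq]
  exact (Algebra.smul_def c z).symm

variable {e}

theorem tau_gmap (he : e ∈ P.pos) (r : ℕ) (hr : P.aug e = r + 1)
    (f : AdjoinRoot (KRR.extPoly P e) →ₗ[K] K)
    (hf : ∀ i : ℕ, i ≤ r → f (AdjoinRoot.root (KRR.extPoly P e) ^ i) = KRR.sigma i e)
    (τR : AdjoinRoot (pR P R e) →ₗ[R ⊗[ℤ] K] (R ⊗[ℤ] K)) (hτR : IsTate (pR P R e) r τR)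
    (x : AdjoinRoot (KRR.extPoly P e)) :
    τR (AdjoinRoot.root (pR P R e) ^ r * gmap P R e x) = iota R (f x) := by
  obtain ⟨h, rfl⟩ := AdjoinRoot.mk_surjective x
  induction h using Polynomial.induction_on' with
  | add h1 h2 ih1 ih2 => rw [map_add, map_add, mul_add, map_add, ih1, ih2, map_add, map_add]
  | monomial n a =>
    have hx : AdjoinRoot.mk (KRR.extPoly P e) (monomial n a) =
        a • AdjoinRoot.root (KRR.extPoly P e) ^ n := by
      rw [← Polynomial.C_mul_X_pow_eq_monomial, map_mul, map_pow, AdjoinRoot.mk_C, AdjoinRoot.mk_X,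
        Algebra.smul_def, AdjoinRoot.algebraMap_eq]
    have hgx : gmap P R e (AdjoinRoot.mk (KRR.extPoly P e) (monomial n a)) =
        AdjoinRoot.of (pR P R e) (iota R a) * AdjoinRoot.root (pR P R e) ^ n := by
      rw [hx, Algebra.smul_def, AdjoinRoot.algebraMap_eq, map_mul, map_pow, gmap_of, gmap_root]
    rw [hgx, mul_left_comm, of_mul_eq_smul, map_smul, ← pow_add,
      show τR (AdjoinRoot.root (pR P R e) ^ (r + n)) = iota R (KRR.sigma n e) from
        tate_sigma P (iota R) he r hr τR hτR n, smul_eq_mul, ← map_mul, hx, map_smul, smul_eq_mul,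
      Groth.Agent.H19.functional_pow P he r hr f hf n]

theorem lTensor_eq (he : e ∈ P.pos) (r : ℕ) (hr : P.aug e = r + 1)
    (f : AdjoinRoot (KRR.extPoly P e) →ₗ[K] K)
    (hf : ∀ i : ℕ, i ≤ r → f (AdjoinRoot.root (KRR.extPoly P e) ^ i) = KRR.sigma i e)
    (τR : AdjoinRoot (pR P R e) →ₗ[R ⊗[ℤ] K] (R ⊗[ℤ] K)) (hτR : IsTate (pR P R e) r τR)
    (z : R ⊗[ℤ] AdjoinRoot (KRR.extPoly P e)) :
    LinearMap.lTensor R f.toAddMonoidHom.toIntLinearMap z =
      τR (AdjoinRoot.root (pR P R e) ^ r * Phi P R e z) := by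
  induction z using TensorProduct.induction_on with
  | zero => rw [map_zero, map_zero, mul_zero, map_zero]
  | add z1 z2 h1 h2 => rw [map_add, map_add, mul_add, map_add, h1, h2]
  | tmul ρ x =>
    rw [LinearMap.lTensor_tmul, Phi_tmul, algR_apply, mul_left_comm, of_mul_eq_smul, map_smul,
      tau_gmap P R he r hr f hf τR hτR, iota_apply, smul_eq_mul,
      Algebra.TensorProduct.tmul_mul_tmul, mul_one, one_mul]
    rfl

end Groth.Agent.H86.AR
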