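import Groth.Agent.H86.AR6

/-!
# The Adams–Riemann–Roch formula for the elementary projection: core computation
-/

set_option autoImplicit false

namespace Groth.Agent.H86.AR

open LambdaRing Polynomial
open scoped TensorProduct

universe u w

variable {K : Type u} [CommRing K] [LambdaOps K] (P : PosStructure K) (hK : HasSplitting K P)
variable (R : Type w) [CommRing R]
variable {e : K} (he : e ∈ P.pos) (r : ℕ) (hr : P.aug e = r + 1)
variable [LambdaOps (AdjoinRoot (KRR.extPoly P e))]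
  (Pe : PosStructure (AdjoinRoot (KRR.extPoly P e)))
  (hext : IsExtension P Pe (AdjoinRoot.of (KRR.extPoly P e)))
  (hline : Pe.IsLine (AdjoinRoot.root (KRR.extPoly P e)))
  (hsplit : HasSplitting (AdjoinRoot (KRR.extPoly P e)) Pe)
  (N : ℕ) (hN : gammaFiltration Pe N = ⊥)
  (linv : AdjoinRoot (KRR.extPoly P e)) (hlinv : linv * AdjoinRoot.root (KRR.extPoly P e) = 1)
  (j : ℕ) (hj : 1 ≤ j)

include hK he hr hext hline hsplit hN hlinv hj in
theorem core_pow [Nontrivial (R ⊗[ℤ] K)] (hjR : IsUnit (j : R))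
    (τR : AdjoinRoot (pR P R e) →ₗ[R ⊗[ℤ] K] (R ⊗[ℤ] K)) (hτR : IsTate (pR P R e) r τR)
    (wR : AdjoinRoot (pR P R e))
    (hwR : wR * gmap P R e (KRR.bott Pe j (AdjoinRoot.of (KRR.extPoly P e) e * linv)) = 1)
    (n : ℕ) :
    (j : R ⊗[ℤ] K) * τR (AdjoinRoot.root (pR P R e) ^ r * (wR * AdjoinRoot.root (pR P R e) ^ (j * n))) =
      iota R (adams P j (KRR.sigma n e)) := by
  have hm : (P.aug e).toNat = r + 1 := by rw [hr]; rfl
  set p2R : (R ⊗[ℤ] K)[X] :=
    (KRR.extPoly P e).map ((iota R).comp (Groth.Agent.H17.adamsRingHom P hK j)) with hp2R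
  set GR : (R ⊗[ℤ] K)[X] := (Gpoly P hK e j).map (iota R) with hGRdef
  have hGR : GR * pR P R e = expand (R ⊗[ℤ] K) j p2R := by
    have := congrArg (Polynomial.map (iota R)) (Gpoly_mul P hK e he j)
    rw [Polynomial.map_mul, Polynomial.map_expand, extPoly2, Polynomial.map_map] at this
    exact this
  have hp2mono : p2R.Monic := (Groth.Agent.H19.extPoly_monic P e).map _
  have hp2d : p2R.natDegree = r + 1 := by
    rw [hp2R, (Groth.Agent.H19.extPoly_monic P e).natDegree_map,
      Groth.Agent.H19.extPoly_natDegree P e (r + 1) hm]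
  obtain ⟨τ', hτ'⟩ := exists_isTate hp2mono r hp2d
  have hnil : IsNilpotent (AdjoinRoot.root (pR P R e) - 1) := by
    have h1 : IsNilpotent (AdjoinRoot.root (KRR.extPoly P e) - 1) :=
      isNilpotent_of_aug_eq_zero Pe N hN _ (by rw [map_sub, hline.2, map_one, sub_self])
    have := h1.map (gmap P R e)
    rwa [map_sub, gmap_root, map_one] at this
  have hjKR : IsUnit ((j : ℕ) : R ⊗[ℤ] K) := by
    have := hjR.map (Algebra.TensorProduct.includeLeftRingHom : R →+* R ⊗[ℤ] K)
    rwa [map_natCast] at this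
  have hQ := isUnit_mk_qX (pR P R e) j hjKR hnil
  set linvR := gmap P R e linv with hlinvRdef
  have hlinvR : linvR * AdjoinRoot.root (pR P R e) = 1 := by
    rw [hlinvRdef, ← gmap_root P R e, ← map_mul, hlinv, map_one]
  have hcomp : (gmap P R e).comp (AdjoinRoot.of (KRR.extPoly P e)) =
      (algebraMap (R ⊗[ℤ] K) (AdjoinRoot (pR P R e))).comp (iota R) := by
    ext a
    simp only [RingHom.comp_apply]
    rw [gmap_of, AdjoinRoot.algebraMap_eq]
  have haevalG : aeval (AdjoinRoot.root (pR P R e)) GR =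
      AdjoinRoot.root (pR P R e) ^ ((j - 1) * (r + 1)) *
        gmap P R e (KRR.bott Pe j (AdjoinRoot.of (KRR.extPoly P e) e * linv)) := by
    have h1 := eval₂_Gpoly Pe P hK hsplit (AdjoinRoot.of (KRR.extPoly P e)) hext e he hline hlinv j hj
      (r + 1) hm
    have h2 := congrArg (gmap P R e) h1
    rw [Polynomial.hom_eval₂, hcomp, gmap_root, map_mul, map_pow, gmap_root] at h2
    rw [← h2, hGRdef, Polynomial.aeval_def, Polynomial.eval₂_map]
  set A := (j - 1) * (r + 1) with hA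
  have hpowA : linvR ^ A * AdjoinRoot.root (pR P R e) ^ A = 1 := by
    rw [← mul_pow, hlinvR, one_pow]
  have hwT : (wR * linvR ^ A) * aeval (AdjoinRoot.root (pR P R e)) GR = 1 := by
    rw [haevalG]
    calc wR * linvR ^ A * (AdjoinRoot.root (pR P R e) ^ A *
          gmap P R e (KRR.bott Pe j (AdjoinRoot.of (KRR.extPoly P e) e * linv)))
        = (wR * gmap P R e (KRR.bott Pe j (AdjoinRoot.of (KRR.extPoly P e) e * linv))) *
          (linvR ^ A * AdjoinRoot.root (pR P R e) ^ A) := by ring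
      _ = 1 := by rw [hwR, hpowA, one_mul]
  have key := transfer (pR_monic P R e) (pR_natDegree P R e (r + 1) hm) hp2mono hp2d hGR τR hτR
    τ' hτ' hQ (wR * linvR ^ A) hwT (r + n)
  rw [tate_sigma P ((iota R).comp (Groth.Agent.H17.adamsRingHom P hK j)) he r hr τ' hτ' n] at key
  have hexp : AdjoinRoot.root (pR P R e) ^ (j - 1) *
      (wR * linvR ^ A * AdjoinRoot.root (pR P R e) ^ (j * (r + n))) =
      AdjoinRoot.root (pR P R e) ^ r * (wR * AdjoinRoot.root (pR P R e) ^ (j * n)) := by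
    have h1 : (j - 1) + j * (r + n) = A + (r + j * n) := by
      obtain ⟨j', rfl⟩ := Nat.exists_eq_add_of_le hj
      rw [hA]
      simp only [Nat.add_sub_cancel_left]
      ring
    calc AdjoinRoot.root (pR P R e) ^ (j - 1) *
          (wR * linvR ^ A * AdjoinRoot.root (pR P R e) ^ (j * (r + n)))
        = wR * linvR ^ A * AdjoinRoot.root (pR P R e) ^ ((j - 1) + j * (r + n)) := by
          rw [pow_add]; ring
      _ = wR * (linvR ^ A * AdjoinRoot.root (pR P R e) ^ A) *
          AdjoinRoot.root (pR P R e) ^ (r + j * n) := by rw [h1, pow_add]; ring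
      _ = _ := by rw [hpowA, mul_one, pow_add]; ring
  rw [hexp] at key
  rw [key]
  rfl

include hK he hr hext hline hsplit hN hlinv hj in
theorem core [Nontrivial (R ⊗[ℤ] K)] (hjR : IsUnit (j : R))
    (f : AdjoinRoot (KRR.extPoly P e) →ₗ[K] K)
    (hf : ∀ i : ℕ, i ≤ r → f (AdjoinRoot.root (KRR.extPoly P e) ^ i) = KRR.sigma i e)
    (τR : AdjoinRoot (pR P R e) →ₗ[R ⊗[ℤ] K] (R ⊗[ℤ] K)) (hτR : IsTate (pR P R e) r τR)
    (wR : AdjoinRoot (pR P R e))
    (hwR : wR * gmap P R e (KRR.bott Pe j (AdjoinRoot.of (KRR.extPoly P e) e * linv)) = 1)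
    (x : AdjoinRoot (KRR.extPoly P e)) :
    (j : R ⊗[ℤ] K) * τR (AdjoinRoot.root (pR P R e) ^ r * (wR * gmap P R e (adams Pe j x))) =
      iota R (adams P j (f x)) := by
  obtain ⟨h, rfl⟩ := AdjoinRoot.mk_surjective x
  induction h using Polynomial.induction_on' with
  | add h1 h2 ih1 ih2 =>
    rw [map_add, Groth.Agent.H17.adams_add, map_add, mul_add, mul_add, map_add, mul_add, ih1, ih2,
      map_add, Groth.Agent.H17.adams_add, map_add]
  | monomial n a =>
    have hx : AdjoinRoot.mk (KRR.extPoly P e) (monomial n a) =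
        a • AdjoinRoot.root (KRR.extPoly P e) ^ n := by
      rw [← Polynomial.C_mul_X_pow_eq_monomial, map_mul, map_pow, AdjoinRoot.mk_C, AdjoinRoot.mk_X,
        Algebra.smul_def, AdjoinRoot.algebraMap_eq]
    have hpow : adams Pe j (AdjoinRoot.root (KRR.extPoly P e) ^ n) =
        AdjoinRoot.root (KRR.extPoly P e) ^ (j * n) := by
      have h1 := map_pow (Groth.Agent.H17.adamsRingHom Pe hsplit j)
        (AdjoinRoot.root (KRR.extPoly P e)) n
      have h2 : ∀ y, Groth.Agent.H17.adamsRingHom Pe hsplit j y = adams Pe j y := fun _ => rfl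
      rw [h2, h2, Groth.Agent.H17.adams_of_isLine Pe _ hline j, ← pow_mul] at h1
      exact h1
    have had : adams Pe j (AdjoinRoot.mk (KRR.extPoly P e) (monomial n a)) =
        AdjoinRoot.of (KRR.extPoly P e) (adams P j a) *
          AdjoinRoot.root (KRR.extPoly P e) ^ (j * n) := by
      rw [hx, Algebra.smul_def, AdjoinRoot.algebraMap_eq, Groth.Agent.H17.adams_mul Pe hsplit, hpow,
        Groth.Agent.H17.map_adams P Pe _ hext]
    rw [had, map_mul (gmap P R e), map_pow (gmap P R e), gmap_of, gmap_root]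
    have hre : AdjoinRoot.root (pR P R e) ^ r *
        (wR * (AdjoinRoot.of (pR P R e) (iota R (adams P j a)) * AdjoinRoot.root (pR P R e) ^ (j * n))) =
        AdjoinRoot.of (pR P R e) (iota R (adams P j a)) *
          (AdjoinRoot.root (pR P R e) ^ r * (wR * AdjoinRoot.root (pR P R e) ^ (j * n))) := by ring
    rw [hre, of_mul_eq_smul, map_smul, smul_eq_mul, mul_left_comm,
      core_pow P hK R he r hr Pe hext hline hsplit N hN linv hlinv j hj hjR τR hτR wR hwR n,
      ← map_mul, hx, map_smul, smul_eq_mul, Groth.Agent.H19.functional_pow P he r hr f hf n,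
      Groth.Agent.H17.adams_mul P hK]

include hK he hr hext hline hsplit hN hlinv hj in
/-- the second half of the statement -/
theorem main_two (hjR : IsUnit (j : R))
    (f : AdjoinRoot (KRR.extPoly P e) →ₗ[K] K)
    (hf : ∀ i : ℕ, i ≤ r → f (AdjoinRoot.root (KRR.extPoly P e) ^ i) = KRR.sigma i e)
    (w : R ⊗[ℤ] AdjoinRoot (KRR.extPoly P e))
    (hw : w * ((1 : R) ⊗ₜ[ℤ] KRR.bott Pe j (AdjoinRoot.of (KRR.extPoly P e) e * linv)) = 1)
    (x : AdjoinRoot (KRR.extPoly P e)) :
    (1 : R) ⊗ₜ[ℤ] adams P j (f x) =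
      LinearMap.lTensor R f.toAddMonoidHom.toIntLinearMap
        ((j : R ⊗[ℤ] AdjoinRoot (KRR.extPoly P e)) * w * ((1 : R) ⊗ₜ[ℤ] adams Pe j x)) := by
  rcases subsingleton_or_nontrivial (R ⊗[ℤ] K) with hsub | hnt
  · exact Subsingleton.elim _ _
  have hm : (P.aug e).toNat = r + 1 := by rw [hr]; rfl
  obtain ⟨τR, hτR⟩ := exists_isTate (pR_monic P R e) r (pR_natDegree P R e (r + 1) hm)
  have h1 : ∀ y : AdjoinRoot (KRR.extPoly P e), Phi P R e ((1 : R) ⊗ₜ[ℤ] y) = gmap P R e y := by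
    intro y
    rw [Phi_tmul, map_one, one_mul]
  have hwR : Phi P R e w *
      gmap P R e (KRR.bott Pe j (AdjoinRoot.of (KRR.extPoly P e) e * linv)) = 1 := by
    rw [← h1, ← map_mul, hw, map_one]
  rw [lTensor_eq P R he r hr f hf τR hτR, map_mul (Phi P R e), map_mul (Phi P R e),
    map_natCast (Phi P R e), h1]
  have h2 : ((j : ℕ) : AdjoinRoot (pR P R e)) = AdjoinRoot.of (pR P R e) ((j : ℕ) : R ⊗[ℤ] K) := by
    rw [map_natCast]
  have hre : AdjoinRoot.root (pR P R e) ^ r *
      (((j : ℕ) : AdjoinRoot (pR P R e)) * Phi P R e w * gmap P R e (adams Pe j x)) =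
      AdjoinRoot.of (pR P R e) ((j : ℕ) : R ⊗[ℤ] K) *
        (AdjoinRoot.root (pR P R e) ^ r * (Phi P R e w * gmap P R e (adams Pe j x))) := by
    rw [h2]; ring
  rw [hre, of_mul_eq_smul, map_smul, smul_eq_mul,
    core P hK R he r hr Pe hext hline hsplit N hN linv hlinv j hj hjR f hf τR hτR _ hwR x]
  rfl

include he hr hext hline hsplit hN hlinv in
/-- the first half of the statement: `1 ⊗ θ^j(e ℓ⁻¹)` is invertible -/
theorem main_one (hjR : IsUnit (j : R)) :
    ∃ w : R ⊗[ℤ] AdjoinRoot (KRR.extPoly P e),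
      w * ((1 : R) ⊗ₜ[ℤ] KRR.bott Pe j (AdjoinRoot.of (KRR.extPoly P e) e * linv)) = 1 := by
  set Θ := KRR.bott Pe j (AdjoinRoot.of (KRR.extPoly P e) e * linv) with hΘ
  set m := (Pe.aug (AdjoinRoot.of (KRR.extPoly P e) e)).toNat with hm
  have haug : Pe.aug Θ = (j : ℤ) ^ m :=
    aug_bott_mul_inv Pe hsplit _ (hext.pos_subset e he) hline hlinv j
  have hnil : IsNilpotent (Θ - ((j : ℕ) : AdjoinRoot (KRR.extPoly P e)) ^ m) :=
    isNilpotent_of_aug_eq_zero Pe N hN _ (by rw [map_sub, haug, map_pow, map_natCast, sub_self])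
  let ιe : AdjoinRoot (KRR.extPoly P e) →+* R ⊗[ℤ] AdjoinRoot (KRR.extPoly P e) :=
    (Algebra.TensorProduct.includeRight : AdjoinRoot (KRR.extPoly P e) →ₐ[ℤ]
      R ⊗[ℤ] AdjoinRoot (KRR.extPoly P e)).toRingHom
  have hι : ∀ y, ιe y = (1 : R) ⊗ₜ[ℤ] y := fun _ => rfl
  have hju : IsUnit (((j : ℕ) : R ⊗[ℤ] AdjoinRoot (KRR.extPoly P e)) ^ m) := by
    have := hjR.map (Algebra.TensorProduct.includeLeftRingHom :
      R →+* R ⊗[ℤ] AdjoinRoot (KRR.extPoly P e))
    rw [map_natCast] at this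
    exact this.pow m
  have h2 := (hnil.map ιe).isUnit_add_left_of_commute hju (Commute.all _ _)
  rw [map_sub, map_pow, map_natCast, add_sub_cancel, hι] at h2
  exact h2.exists_left_inv

end Groth.Agent.H86.AR
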