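import Mathlib
import Groth.Agent.H62.FFASGenus2
import Groth.Agent.H62.FFParity
import Groth.Agent.H62.FFLead
import Groth.Agent.H63.ArtinSchreier
import Groth.Agent.H55.WGal

/-!
# AS1: local analysis of `y² + y = f(x)` in characteristic two at the poles of `f`
-/

set_option autoImplicit false
set_option linter.unusedSectionVars false

namespace Groth.Agent.H86.AS2

open FunFld WithZero Module Groth.Agent.H55 Groth.Agent.H62.FFRat Groth.Agent.H62.FFASGenus
  IntermediateField

section basic

variable {k K : Type*} [Field k] [Field K] [Algebra k K]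

theorem ord_zpow (P : Place k K) (x : K) (j : ℤ) : P.ord (x ^ j) = j * P.ord x := by
  obtain ⟨n, rfl | rfl⟩ := j.eq_nat_or_neg
  · rw [zpow_natCast, Place.ord_pow]
  · rw [zpow_neg, zpow_natCast, Place.ord_inv, Place.ord_pow]
    ring

theorem ord_mul_zpow (P : Place k K) {y x : K} (hy : y ≠ 0) (hx : x ≠ 0) (j : ℤ) :
    P.ord (y * x ^ j) = P.ord y + j * P.ord x := by
  rw [Place.ord_mul P hy (zpow_ne_zero j hx), ord_zpow]

end basic

section ratfunc

variable {k : Type*} [Field k]

theorem adjoin_X_sub_C (α : k) : k⟮(RatFunc.X - RatFunc.C α : RatFunc k)⟯ = ⊤ := by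
  rw [eq_top_iff, ← RatFunc.adjoin_X]
  apply IntermediateField.adjoin_le_iff.mpr
  rintro _ rfl
  have h1 : (RatFunc.X - RatFunc.C α : RatFunc k) ∈ k⟮(RatFunc.X - RatFunc.C α : RatFunc k)⟯ :=
    IntermediateField.mem_adjoin_simple_self k _
  have h2 : (RatFunc.C α : RatFunc k) ∈ k⟮(RatFunc.X - RatFunc.C α : RatFunc k)⟯ := by
    rw [← RatFunc.algebraMap_eq_C]
    exact IntermediateField.algebraMap_mem _ α
  have := add_mem h1 h2
  rwa [sub_add_cancel] at this

theorem transcendental_X_sub_C (α : k) :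
    Transcendental k (RatFunc.X - RatFunc.C α : RatFunc k) := by
  intro h
  apply RatFunc.transcendental_X (K := k)
  have h2 : IsAlgebraic k (RatFunc.C α : RatFunc k) := by
    rw [← RatFunc.algebraMap_eq_C]
    exact isAlgebraic_algebraMap α
  have := h.add h2
  rwa [sub_add_cancel] at this

/-- the place of `k(x)` at `x = α`: simple zero, rational, unique -/
theorem place_at (α : k) (p : Place k (RatFunc k)) (hp : p.1 (RatFunc.X - RatFunc.C α) < 1) :
    p.ord (RatFunc.X - RatFunc.C α) = 1 ∧ p.deg = 1 ∧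
      ∀ q : Place k (RatFunc k), q.1 (RatFunc.X - RatFunc.C α) < 1 → q = p :=
  zero_of_adjoin_eq_top (isFunctionField_ratFunc (k := k)).1 (adjoin_X_sub_C α)
    (transcendental_X_sub_C α) p hp

end ratfunc

section two

theorem two_eq_zero (k : Type*) {K : Type*} [Field k] [Field K] [Algebra k K] [CharP k 2] :
    (2 : K) = 0 := by
  have h : ((2 : k) : k) = 0 := by
    have := CharP.cast_eq_zero k 2
    exact_mod_cast this
  have := congrArg (algebraMap k K) h
  rwa [map_ofNat, map_zero] at this

end two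

section main

variable {k K : Type*} [Field k] [Field K] [Algebra k K]
  [Algebra (RatFunc k) K] [IsScalarTower k (RatFunc k) K]

theorem algebraMap_X_sub_C (α : k) :
    algebraMap (RatFunc k) K (RatFunc.X - RatFunc.C α) =
      algebraMap (RatFunc k) K RatFunc.X - algebraMap k K α := by
  rw [map_sub, IsScalarTower.algebraMap_apply k (RatFunc k) K, RatFunc.algebraMap_eq_C]

variable [CharP k 2] (hK : IsFunctionField k K) (hdeg : finrank (RatFunc k) K = 2)
  {y : K} (hy : y ∉ Set.range (algebraMap (RatFunc k) K)) {f : RatFunc k}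
  (heq : y ^ 2 + y = algebraMap (RatFunc k) K f)
  {B : Finset k} {d : k → ℕ} (hd : ∀ β ∈ B, Odd (d β))
  (hpole : ∀ (p : Place k (RatFunc k)) (β : k), β ∈ B →
    p.1 ((RatFunc.X : RatFunc k) - RatFunc.C β) < 1 → p.ord f = -(d β : ℤ))
  (hint : ∀ p : Place k (RatFunc k),
    (∀ β ∈ B, 1 ≤ p.1 ((RatFunc.X : RatFunc k) - RatFunc.C β)) → p.1 f ≤ 1)

include hy in
theorem y_ne_zero : y ≠ 0 := by
  rintro rfl
  exact hy ⟨0, map_zero _⟩

include hdeg in
theorem finiteDimensional : FiniteDimensional (RatFunc k) K :=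
  Module.finite_of_finrank_pos (by omega)

include hd hpole hint in
/-- all poles of `f` have odd order -/
theorem hodd : ∀ P : Place k (RatFunc k), FunFld.div k f P < 0 → Odd (FunFld.div k f P) := by
  intro p hp
  have hK₀ := isFunctionField_ratFunc (k := k)
  rw [Place.div_apply hK₀ f p] at hp ⊢
  have hf0 : f ≠ 0 := by
    rintro rfl
    rw [Place.ord_zero] at hp
    exact lt_irrefl _ hp
  have h1 : ¬ p.1 f ≤ 1 := by
    rw [← Place.ord_nonneg_iff p hf0]
    omega
  have h2 : ¬ ∀ β ∈ B, 1 ≤ p.1 ((RatFunc.X : RatFunc k) - RatFunc.C β) := fun h => h1 (hint p h)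
  push Not at h2
  obtain ⟨β, hβ, hlt⟩ := h2
  rw [hpole p β hβ hlt]
  exact (hd β hβ).natCast.neg

include hdeg in
/-- every place of `K` lies over a place of `k(x)` with ramification index `1` or `2` -/
theorem exists_under (P : Place k K) :
    ∃ (p : Place k (RatFunc k)) (e : ℕ), IsOverWith P p e ∧ (e = 1 ∨ e = 2) := by
  haveI := finiteDimensional hdeg
  have hK₀ := isFunctionField_ratFunc (k := k)
  obtain ⟨p, e, he⟩ := exists_place_under hK₀ P
  refine ⟨p, e, he, ?_⟩
  have h1 := Groth.Agent.H63.ArtinSchreier.ramIdx_le_finrank p P e he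
  have h2 := isOverWith_pos he
  omega

include hdeg hy heq hd hpole in
/-- the local picture above a pole `α` of `f` -/
theorem local_at_pole {α : k} (hα : α ∈ B) (P : Place k K)
    (hP : P.1 (algebraMap (RatFunc k) K RatFunc.X - algebraMap k K α) < 1) :
    ∃ p : Place k (RatFunc k), IsOverWith P p 2 ∧ p.1 (RatFunc.X - RatFunc.C α) < 1 ∧
      P.ord y = -(d α : ℤ) ∧
      P.ord (algebraMap (RatFunc k) K RatFunc.X - algebraMap k K α) = 2 := by
  obtain ⟨p, e, he, he12⟩ := exists_under hdeg P
  have he0 : e ≠ 0 := (isOverWith_pos he).ne'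
  rw [← algebraMap_X_sub_C, he, pow_lt_one_iff he0] at hP
  have hordf := hpole p α hα hP
  have hdpos : 0 < d α := (hd α hα).pos
  have hf0 : f ≠ 0 := by
    rintro rfl
    rw [Place.ord_zero] at hordf
    omega
  have hfval : p.1 f = exp (d α : ℤ) := by
    rw [Place.val_eq_exp_neg_ord p hf0, hordf, neg_neg]
  have hy0 := y_ne_zero hy
  have hPf : P.1 (y ^ 2 + y) = exp ((e : ℤ) * d α) := by
    rw [heq, he f, hfval, exp_pow_nat]
  have hgt : 1 < P.1 (y ^ 2 + y) := by
    rw [hPf, ← exp_zero, exp_lt_exp]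
    positivity
  have hy1 : 1 < P.1 y := by
    by_contra hcon
    push Not at hcon
    have : P.1 (y ^ 2 + y) ≤ 1 :=
      (P.1.map_add _ _).trans (max_le (by rw [map_pow]; exact pow_le_one₀ zero_le hcon) hcon)
    exact absurd hgt (not_lt.mpr this)
  have h1 : P.1 y < P.1 (y ^ 2) := by
    rw [map_pow, sq]
    exact lt_mul_of_one_lt_left (zero_lt_one.trans hy1) hy1
  rw [Valuation.map_add_eq_of_lt_left P.1 h1, map_pow, Place.val_eq_exp_neg_ord P hy0,
    exp_pow_nat, exp_inj] at hPf
  have hodd' := hd α hα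
  obtain ⟨m, hm⟩ := hodd'
  have he2 : e = 2 := by
    rcases he12 with rfl | rfl
    · exfalso
      push_cast at hPf
      omega
    · rfl
  subst he2
  refine ⟨p, he, hP, ?_, ?_⟩
  · push_cast at hPf
    omega
  · rw [← algebraMap_X_sub_C, isOverWith_ord_eq he, (place_at α p hP).1]
    norm_num

include heq in
/-- `y` is integral above a place where `f` is integral -/
theorem val_y_le_one (P : Place k K) (hf : P.1 (algebraMap (RatFunc k) K f) ≤ 1) : P.1 y ≤ 1 := by
  by_contra hcon
  push Not at hcon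
  have h1 : P.1 y < P.1 (y ^ 2) := by
    rw [map_pow, sq]
    exact lt_mul_of_one_lt_left (zero_lt_one.trans hcon) hcon
  have h2 := Valuation.map_add_eq_of_lt_left P.1 h1
  rw [heq, map_pow] at h2
  have h3 : (1 : WithZero (Multiplicative ℤ)) < P.1 y ^ 2 := one_lt_pow₀ hcon two_ne_zero
  rw [← h2] at h3
  exact absurd hf (not_le.mpr h3)

/-- the value of `x - α` at a pole of `x` -/
theorem val_sub_of_pole (P : Place k K) (hP : 1 < P.1 (algebraMap (RatFunc k) K RatFunc.X))
    (α : k) : P.1 (algebraMap (RatFunc k) K RatFunc.X - algebraMap k K α) =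
      P.1 (algebraMap (RatFunc k) K RatFunc.X) := by
  apply Valuation.map_sub_eq_of_lt_left
  exact lt_of_le_of_lt (P.2.1 α) hP

include hdeg hy heq hint in
/-- the local picture above `x = ∞` -/
theorem local_at_infty (P : Place k K) (hP : 1 < P.1 (algebraMap (RatFunc k) K RatFunc.X)) :
    P.1 y ≤ 1 ∧ P.ord (algebraMap (RatFunc k) K RatFunc.X) = -1 := by
  obtain ⟨p, e, he, he12⟩ := exists_under hdeg P
  have he0 : e ≠ 0 := (isOverWith_pos he).ne'
  have hpX : 1 < p.1 RatFunc.X := by
    rw [he, one_lt_pow_iff he0] at hP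
    exact hP
  have hpf : p.1 f ≤ 1 := by
    apply hint
    intro β _
    have : p.1 ((RatFunc.X : RatFunc k) - RatFunc.C β) = p.1 RatFunc.X := by
      apply Valuation.map_sub_eq_of_lt_left
      rw [← RatFunc.algebraMap_eq_C]
      exact lt_of_le_of_lt (p.2.1 β) hpX
    rw [this]
    exact hpX.le
  have hPf : P.1 (algebraMap (RatFunc k) K f) ≤ 1 := by
    rw [he f]
    exact pow_le_one₀ zero_le hpf
  have hy1 := val_y_le_one heq P hPf
  refine ⟨hy1, ?_⟩
  have he1 : e = 1 := by
    rcases he12 with rfl | rfl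
    · rfl
    · exfalso
      have h2 := two_eq_zero k (K := K)
      refine Groth.Agent.H62.FFParity.not_isOverWith_two hdeg he y (y + 1) hy ?_ ?_ hy1 ?_
      · refine ⟨1, ?_⟩
        rw [map_one]
        linear_combination (-y) * h2
      · refine ⟨f, ?_⟩
        rw [← heq]
        ring
      · have : y - (y + 1) = -1 := by ring
        rw [this, Valuation.map_neg, map_one]
  subst he1
  rw [isOverWith_ord_eq he, (infinite_place p hpX).1]
  norm_num

end main

end Groth.Agent.H86.AS2
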