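import Groth.Agent.H86.AS1

/-!
# AS2: the pole divisor of `y (x - α)^j` on `y² + y = f(x)` in characteristic two
-/

set_option autoImplicit false
set_option linter.unusedSectionVars false

namespace Groth.Agent.H86.AS2

open FunFld WithZero Module Groth.Agent.H55 Groth.Agent.H62.FFRat Groth.Agent.H62.FFASGenus
  IntermediateField

section basic

variable {k K : Type*} [Field k] [Field K] [Algebra k K]

theorem ord_eq_zero_of_val_eq_one (P : Place k K) {x : K} (hx : P.1 x = 1) : P.ord x = 0 := by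
  unfold Place.ord
  rw [hx, WithZero.log_one, neg_zero]

theorem ord_congr (P : Place k K) {x x' : K} (h : P.1 x = P.1 x') : P.ord x = P.ord x' := by
  unfold Place.ord
  rw [h]

end basic

section main

variable {k K : Type*} [Field k] [Field K] [Algebra k K]
  [Algebra (RatFunc k) K] [IsScalarTower k (RatFunc k) K]
  [CharP k 2] (hK : IsFunctionField k K) (hdeg : finrank (RatFunc k) K = 2)
  {y : K} (hy : y ∉ Set.range (algebraMap (RatFunc k) K)) {f : RatFunc k}
  (heq : y ^ 2 + y = algebraMap (RatFunc k) K f)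
  {B : Finset k} {d : k → ℕ} (hd : ∀ β ∈ B, Odd (d β))
  (hpole : ∀ (p : Place k (RatFunc k)) (β : k), β ∈ B →
    p.1 ((RatFunc.X : RatFunc k) - RatFunc.C β) < 1 → p.ord f = -(d β : ℤ))
  (hint : ∀ p : Place k (RatFunc k),
    (∀ β ∈ B, 1 ≤ p.1 ((RatFunc.X : RatFunc k) - RatFunc.C β)) → p.1 f ≤ 1)

theorem xsub_ne_zero (α : k) :
    algebraMap (RatFunc k) K RatFunc.X - algebraMap k K α ≠ 0 := by
  rw [← algebraMap_X_sub_C, Ne, map_eq_zero_iff _ (algebraMap (RatFunc k) K).injective]
  intro h
  exact transcendental_X_sub_C α (h ▸ isAlgebraic_zero)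

include hdeg heq hint in
/-- the local picture at a finite place away from the poles of `f` -/
theorem local_at_good (P : Place k K) (hPx : P.1 (algebraMap (RatFunc k) K RatFunc.X) ≤ 1)
    (hPB : ∀ β : k, β ∈ B →
      1 ≤ P.1 (algebraMap (RatFunc k) K RatFunc.X - algebraMap k K β)) :
    P.1 y ≤ 1 ∧ ∀ α ∈ B, P.1 (algebraMap (RatFunc k) K RatFunc.X - algebraMap k K α) = 1 := by
  obtain ⟨p, e, he, -⟩ := exists_under hdeg P
  have he0 : e ≠ 0 := (isOverWith_pos he).ne'
  have hpf : p.1 f ≤ 1 := by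
    apply hint
    intro β hβ
    have := hPB β hβ
    rw [← algebraMap_X_sub_C, he, one_le_pow_iff he0] at this
    exact this
  have hPf : P.1 (algebraMap (RatFunc k) K f) ≤ 1 := by
    rw [he f]
    exact pow_le_one₀ zero_le hpf
  refine ⟨val_y_le_one heq P hPf, fun α hα => le_antisymm ?_ (hPB α hα)⟩
  exact (Valuation.map_sub _ _ _).trans (max_le hPx (P.2.1 α))

include hK hdeg hy heq hd hpole hint in
theorem poleDivisor_y_mul :
    (∀ P : Place k K, 1 < P.1 (algebraMap (RatFunc k) K RatFunc.X) → 0 ≤ P.ord y) ∧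
    (∃ P : Place k K, 1 < P.1 (algebraMap (RatFunc k) K RatFunc.X) ∧ P.ord y = 0) ∧
    ∀ (α : k), α ∈ B → ∀ (j : ℤ) (P : Place k K),
      (P.1 ((algebraMap (RatFunc k) K RatFunc.X) - (algebraMap k K α)) < 1 →
        max (-(P.ord (y * ((algebraMap (RatFunc k) K RatFunc.X) - (algebraMap k K α)) ^ j))) 0 =
          max ((d α : ℤ) - 2 * j) 0) ∧
      (∀ β : k, β ∈ B → β ≠ α →
        P.1 ((algebraMap (RatFunc k) K RatFunc.X) - (algebraMap k K β)) < 1 →
        P.ord (y * ((algebraMap (RatFunc k) K RatFunc.X) - (algebraMap k K α)) ^ j) =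
          -(d β : ℤ)) ∧
      (1 < P.1 (algebraMap (RatFunc k) K RatFunc.X) →
        max (-(P.ord (y * ((algebraMap (RatFunc k) K RatFunc.X) - (algebraMap k K α)) ^ j))) 0 =
          max (j - P.ord y) 0) ∧
      (P.1 (algebraMap (RatFunc k) K RatFunc.X) ≤ 1 →
        (∀ β : k, β ∈ B →
          1 ≤ P.1 ((algebraMap (RatFunc k) K RatFunc.X) - (algebraMap k K β))) →
        0 ≤ P.ord (y * ((algebraMap (RatFunc k) K RatFunc.X) - (algebraMap k K α)) ^ j)) := by
  have hy0 := y_ne_zero hy
  have h2 := two_eq_zero k (K := K)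
  refine ⟨?_, ?_, ?_⟩
  · intro P hP
    rw [Place.ord_nonneg_iff P hy0]
    exact (local_at_infty hdeg hy heq hint P hP).1
  · haveI := finiteDimensional hdeg
    have hxtr : Transcendental k (algebraMap (RatFunc k) K RatFunc.X) :=
      transcendental_algebraMap (RatFunc.transcendental_X (K := k))
    obtain ⟨P₀, hP₀⟩ := exists_pole hK hxtr
    by_cases h0 : P₀.ord y = 0
    · exact ⟨P₀, hP₀, h0⟩
    · have hnn : 0 ≤ P₀.ord y := by
        rw [Place.ord_nonneg_iff P₀ hy0]
        exact (local_at_infty hdeg hy heq hint P₀ hP₀).1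
      have hpos : 0 < P₀.ord y := lt_of_le_of_ne hnn (Ne.symm h0)
      rw [Place.ord_pos_iff P₀ hy0] at hpos
      obtain ⟨σ, hσ⟩ := exists_conj h2 hdeg hy heq
      refine ⟨Place.comapK P₀ σ, ?_, ?_⟩
      · rw [Place.comapK_val, σ.commutes]
        exact hP₀
      · apply ord_eq_zero_of_val_eq_one
        rw [Place.comapK_val, hσ, add_comm, Valuation.map_add_eq_of_lt_left, map_one]
        rw [map_one]
        exact hpos
  · intro α hα j P
    have hxα := xsub_ne_zero (K := K) α
    refine ⟨?_, ?_, ?_, ?_⟩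
    · intro hP
      obtain ⟨p, -, -, hordy, hordx⟩ := local_at_pole hdeg hy heq hd hpole hα P hP
      rw [ord_mul_zpow P hy0 hxα, hordy, hordx]
      congr 1
      ring
    · intro β hβ hβα hP
      obtain ⟨p, -, -, hordy, -⟩ := local_at_pole hdeg hy heq hd hpole hβ P hP
      have hval : P.1 (algebraMap (RatFunc k) K RatFunc.X - algebraMap k K α) = 1 := by
        have h1 : algebraMap (RatFunc k) K RatFunc.X - algebraMap k K α =
            algebraMap k K (β - α) + (algebraMap (RatFunc k) K RatFunc.X - algebraMap k K β) := by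
          rw [map_sub]
          ring
        have h3 : P.1 (algebraMap k K (β - α)) = 1 :=
          Place.val_algebraMap_eq_one P (sub_ne_zero.mpr hβα)
        rw [h1, Valuation.map_add_eq_of_lt_left, h3]
        rw [h3]
        exact hP
      rw [ord_mul_zpow P hy0 hxα, hordy, ord_eq_zero_of_val_eq_one P hval]
      ring
    · intro hP
      obtain ⟨-, hordx⟩ := local_at_infty hdeg hy heq hint P hP
      rw [ord_mul_zpow P hy0 hxα, ord_congr P (val_sub_of_pole P hP α), hordx]
      congr 1
      ring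
    · intro hPx hPB
      obtain ⟨hy1, hone⟩ := local_at_good hdeg heq hint P hPx hPB
      rw [ord_mul_zpow P hy0 hxα, ord_eq_zero_of_val_eq_one P (hone α hα), mul_zero, add_zero,
        Place.ord_nonneg_iff P hy0]
      exact hy1

end main

end Groth.Agent.H86.AS2
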