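import Groth.Agent.H86.AS2
import Groth.Agent.H55.WExt3

/-!
# AS3: principal parts on the rational function field and the Frobenius on `H¹` of
`y² + y = f(x)` in characteristic two
-/

set_option autoImplicit false
set_option linter.unusedSectionVars false

open Classical

namespace Groth.Agent.H86.AS2

open FunFld WithZero Module Groth.Agent.H55 Groth.Agent.H62.FFRat Groth.Agent.H62.FFASGenus
  IntermediateField

section ratfunc

variable {k : Type*} [Field k]

/-- principal parts at a rational place of `k(x)`: every `w` is, up to something regular at `p`,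
a function regular away from `p` -/
theorem exists_principal_part (p : Place k (RatFunc k)) (hp : p.deg = 1) :
    ∀ (m : ℕ) (w : RatFunc k), p.1 w ≤ exp (m : ℤ) →
      ∃ u : RatFunc k, (∀ q : Place k (RatFunc k), q ≠ p → q.1 u ≤ 1) ∧ p.1 (w - u) ≤ 1 := by
  have hK₀ := isFunctionField_ratFunc (k := k)
  intro m
  induction m with
  | zero =>
    intro w hw
    refine ⟨0, fun q _ => by rw [map_zero]; exact zero_le_one, ?_⟩
    rw [sub_zero]
    simpa using hw
  | succ m ih =>
    intro w hw
    obtain ⟨g, hg, hgw⟩ := Groth.Agent.H62.FFLead.exists_mem_L_approx hK₀ p ((m : ℤ) + 1)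
      (by rw [Groth.Agent.H62.FFASGenus.genus_ratFunc, hp]; push_cast; omega) w
      (by push_cast at hw; exact hw)
    have hgw' : p.1 (w - g) ≤ exp (m : ℤ) := by
      rw [← Valuation.map_neg, neg_sub]
      have : (m : ℤ) + 1 - 1 = m := by ring
      rwa [this] at hgw
    obtain ⟨u', hu', hwu'⟩ := ih (w - g) hgw'
    refine ⟨g + u', ?_, ?_⟩
    · intro q hq
      have h1 : q.1 g ≤ 1 := by
        have := hg q
        rwa [Finsupp.single_apply, if_neg (Ne.symm hq), exp_zero] at this
      exact (q.1.map_add _ _).trans (max_le h1 (hu' q hq))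
    · have : w - (g + u') = w - g - u' := by ring
      rw [this]
      exact hwu'

theorem exists_principal_part' (p : Place k (RatFunc k)) (hp : p.deg = 1) (w : RatFunc k) :
    ∃ u : RatFunc k, (∀ q : Place k (RatFunc k), q ≠ p → q.1 u ≤ 1) ∧ p.1 (w - u) ≤ 1 := by
  by_cases hw : w = 0
  · subst hw
    exact ⟨0, fun q _ => by rw [map_zero]; exact zero_le_one, by simp⟩
  apply exists_principal_part p hp (-(p.ord w)).toNat w
  rw [Place.val_eq_exp_neg_ord p hw, exp_le_exp]
  exact Int.self_le_toNat _

end ratfunc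

section main

variable {k K : Type*} [Field k] [Field K] [Algebra k K]
  [Algebra (RatFunc k) K] [IsScalarTower k (RatFunc k) K]
  [CharP k 2] (hK : IsFunctionField k K) (hdeg : finrank (RatFunc k) K = 2)
  {y : K} (hy : y ∉ Set.range (algebraMap (RatFunc k) K)) {f : RatFunc k}
  (heq : y ^ 2 + y = algebraMap (RatFunc k) K f)
  {B : Finset k} {d : k → ℕ} (hd : ∀ β ∈ B, Odd (d β))
  (hpole : ∀ (p : Place k (RatFunc k)) (β : k), β ∈ B →
    p.1 ((RatFunc.X : RatFunc k) - RatFunc.C β) < 1 → p.ord f = -(d β : ℤ))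
  (hint : ∀ p : Place k (RatFunc k),
    (∀ β ∈ B, 1 ≤ p.1 ((RatFunc.X : RatFunc k) - RatFunc.C β)) → p.1 f ≤ 1)

include hK hdeg in
/-- a place with ramification index two is the only place above its restriction -/
theorem unique_of_isOverWith_two {p : Place k (RatFunc k)} (hp : p.deg = 1) {Q₁ Q₂ : Place k K}
    (h₁ : IsOverWith Q₁ p 2) (h₂ : IsOverWith Q₂ p 2) : Q₁ = Q₂ := by
  classical
  haveI := finiteDimensional hdeg
  have hK₀ := isFunctionField_ratFunc (k := k)
  by_contra hne
  obtain ⟨hfin, hsum⟩ := sum_ramIdx_mul_deg (K' := K) hK₀ p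
  have hs := hsum hfin.toFinset (fun Q => by rw [Set.Finite.mem_toFinset]; rfl)
  rw [hdeg, hp] at hs
  have hsub : ({Q₁, Q₂} : Finset (Place k K)) ⊆ hfin.toFinset := by
    intro Q hQ
    rw [Set.Finite.mem_toFinset]
    rcases Finset.mem_insert.mp hQ with rfl | hQ
    · exact ⟨2, h₁⟩
    · rw [Finset.mem_singleton] at hQ
      subst hQ
      exact ⟨2, h₂⟩
  have hle := Finset.sum_le_sum_of_subset (f := fun Q : Place k K => ramIdx Q p * Q.deg) hsub
  rw [Finset.sum_pair hne, ramIdx_eq h₁, ramIdx_eq h₂] at hle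
  have hd₁ := Place.deg_pos hK Q₁
  have hd₂ := Place.deg_pos hK Q₂
  omega

include hK hdeg hy heq hd hpole in
/-- the place above a pole `α` of `f` is unique -/
theorem unique_at_pole {α : k} (hα : α ∈ B) {P Q : Place k K}
    (hP : P.1 (algebraMap (RatFunc k) K RatFunc.X - algebraMap k K α) < 1)
    (hQ : Q.1 (algebraMap (RatFunc k) K RatFunc.X - algebraMap k K α) < 1) : Q = P := by
  obtain ⟨p, hPp, hp, -, -⟩ := local_at_pole hdeg hy heq hd hpole hα P hP
  obtain ⟨q, hQq, hq, -, -⟩ := local_at_pole hdeg hy heq hd hpole hα Q hQ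
  have hqp : q = p := (place_at α p hp).2.2 q hq
  subst hqp
  exact unique_of_isOverWith_two hK hdeg (place_at α q hp).2.1 hQq hPp

include hK hdeg hy heq hd hpole in
/-- a repartition supported above a pole `α` with a value from `k(x)` is trivial in `H¹` -/
theorem single_algebraMap_mem {α : k} (hα : α ∈ B) {P : Place k K}
    (hP : P.1 (algebraMap (RatFunc k) K RatFunc.X - algebraMap k K α) < 1) (h : RatFunc k) :
    (Pi.single P (algebraMap (RatFunc k) K h) : Place k K → K) ∈
      (AD (0 : Divisor k K) ⊔ LinearMap.range (diag k K)) := by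
  classical
  obtain ⟨p, hPp, hp, -, -⟩ := local_at_pole hdeg hy heq hd hpole hα P hP
  obtain ⟨u, hu, hhu⟩ := exists_principal_part' p (place_at α p hp).2.1 h
  have hsplit : (Pi.single P (algebraMap (RatFunc k) K h) : Place k K → K) =
      (Pi.single P (algebraMap (RatFunc k) K h) - diag k K (algebraMap (RatFunc k) K u)) +
        diag k K (algebraMap (RatFunc k) K u) := by
    rw [sub_add_cancel]
  rw [hsplit]
  refine Submodule.add_mem_sup ?_ ⟨_, rfl⟩
  rw [mem_AD]
  intro Q
  rw [Finsupp.zero_apply, exp_zero, Pi.sub_apply]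
  show Q.1 ((Pi.single P (algebraMap (RatFunc k) K h) : Place k K → K) Q -
    algebraMap (RatFunc k) K u) ≤ 1
  by_cases hQP : Q = P
  · subst hQP
    rw [Pi.single_eq_same, ← map_sub, hPp]
    exact pow_le_one₀ zero_le hhu
  · rw [Pi.single_eq_of_ne hQP, zero_sub, Valuation.map_neg]
    obtain ⟨q, e, he, -⟩ := exists_under hdeg Q
    rw [he]
    apply pow_le_one₀ zero_le
    apply hu
    rintro rfl
    apply hQP
    have hQ : Q.1 (algebraMap (RatFunc k) K RatFunc.X - algebraMap k K α) < 1 := by
      rw [← algebraMap_X_sub_C, he, pow_lt_one_iff (isOverWith_pos he).ne']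
      exact hp
    exact unique_at_pole hK hdeg hy heq hd hpole hα hP hQ

include hK hdeg hy heq hd hpole in
/-- the Frobenius on `H¹`: supported above a pole `α`. -/
theorem frobenius_H1 {α : k} (hα : α ∈ B) {P : Place k K}
    (hP : P.1 (algebraMap (RatFunc k) K RatFunc.X - algebraMap k K α) < 1) (j : ℕ) :
    (4 * j + 1 ≤ d α →
      (Pi.single P ((y * ((algebraMap (RatFunc k) K RatFunc.X) -
          (algebraMap k K α)) ^ j) ^ 2) : Place k K → K) -
        (Pi.single P (y * ((algebraMap (RatFunc k) K RatFunc.X) -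
          (algebraMap k K α)) ^ (2 * j)) : Place k K → K) ∈
        (AD (0 : Divisor k K) ⊔ LinearMap.range (diag k K))) ∧
    (d α < 4 * j + 1 →
      (Pi.single P ((y * ((algebraMap (RatFunc k) K RatFunc.X) -
          (algebraMap k K α)) ^ j) ^ 2) : Place k K → K) ∈
        (AD (0 : Divisor k K) ⊔ LinearMap.range (diag k K))) := by
  classical
  have h2 := two_eq_zero k (K := K)
  set xα := algebraMap (RatFunc k) K RatFunc.X - algebraMap k K α with hxα
  have hdiff : (Pi.single P ((y * xα ^ j) ^ 2) : Place k K → K) -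
      (Pi.single P (y * xα ^ (2 * j)) : Place k K → K) =
      Pi.single P (algebraMap (RatFunc k) K (f * (RatFunc.X - RatFunc.C α) ^ (2 * j))) := by
    rw [← Pi.single_sub]
    congr 1
    rw [map_mul, map_pow, algebraMap_X_sub_C, ← heq, ← hxα]
    linear_combination (-(y * xα ^ (2 * j))) * h2
  have hA : (Pi.single P ((y * xα ^ j) ^ 2) : Place k K → K) -
      (Pi.single P (y * xα ^ (2 * j)) : Place k K → K) ∈
        (AD (0 : Divisor k K) ⊔ LinearMap.range (diag k K)) := by
    rw [hdiff]
    exact single_algebraMap_mem hK hdeg hy heq hd hpole hα hP _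
  refine ⟨fun _ => hA, fun hj => ?_⟩
  have hB : (Pi.single P (y * xα ^ (2 * j)) : Place k K → K) ∈
      (AD (0 : Divisor k K) ⊔ LinearMap.range (diag k K)) := by
    apply Submodule.mem_sup_left
    rw [mem_AD]
    intro Q
    rw [Finsupp.zero_apply, exp_zero]
    by_cases hQP : Q = P
    · subst hQP
      rw [Pi.single_eq_same]
      obtain ⟨p, -, -, hordy, hordx⟩ := local_at_pole hdeg hy heq hd hpole hα Q hP
      have hy0 := y_ne_zero hy
      have hx0 := xsub_ne_zero (K := K) α
      rw [← Place.ord_nonneg_iff Q (mul_ne_zero hy0 (pow_ne_zero _ hx0)),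
        Place.ord_mul Q hy0 (pow_ne_zero _ hx0), Place.ord_pow, hordy, hordx]
      push_cast
      omega
    · rw [Pi.single_eq_of_ne hQP, map_zero]
      exact zero_le_one
  have := Submodule.add_mem _ hA hB
  rwa [sub_add_cancel] at this

end main

end Groth.Agent.H86.AS2
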