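import Groth.Agent.H86.AS3
import Groth.Agent.H62.FFExtDeg

/-!
# AS4: auxiliary lemmas for the adelic `H¹` of `y² + y = f(x)` in characteristic two
-/

set_option autoImplicit false
set_option linter.unusedSectionVars false

open Classical

namespace Groth.Agent.H86.AS2

open FunFld WithZero Module Groth.Agent.H55 Groth.Agent.H62.FFRat Groth.Agent.H62.FFASGenus
  IntermediateField Polynomial

section poly

variable {k K : Type*} [Field k] [Field K] [Algebra k K]

/-- a nonzero polynomial of degree `≤ m` in a uniformizer has order `≤ m` -/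
theorem exp_neg_le_val_aeval (P : Place k K) {t : K} (ht : P.1 t = exp (-1 : ℤ)) {G : k[X]}
    (hG : G ≠ 0) {m : ℕ} (hm : G.natDegree ≤ m) : exp (-(m : ℤ)) ≤ P.1 (aeval t G) := by
  obtain ⟨G', hG', hnd⟩ := exists_eq_pow_rootMultiplicity_mul_and_not_dvd G hG 0
  set r := G.rootMultiplicity 0 with hr
  rw [C_0, sub_zero] at hG' hnd
  have h0 : G'.coeff 0 ≠ 0 := by
    intro h
    apply hnd
    rw [X_dvd_iff]
    exact h
  have hlt : P.1 t < 1 := by
    rw [ht]
    exact Place.exp_neg_one_lt_one
  have h1 := Groth.Agent.H62.FFRat.val_aeval_eq_one P G' hlt h0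
  have hG'0 : G' ≠ 0 := by
    rintro rfl
    exact h0 (coeff_zero 0)
  have hrm : r ≤ m := by
    have : G.natDegree = r + G'.natDegree := by
      conv_lhs => rw [hG']
      rw [natDegree_mul (pow_ne_zero _ X_ne_zero) hG'0, natDegree_X_pow]
    omega
  rw [hG', map_mul, map_pow, aeval_X, map_mul, map_pow, h1, mul_one, ht, exp_pow_nat, exp_le_exp]
  have : (r : ℤ) ≤ m := by exact_mod_cast hrm
  linarith

end poly

section main

variable {k K : Type*} [Field k] [Field K] [Algebra k K]
  [Algebra (RatFunc k) K] [IsScalarTower k (RatFunc k) K]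
  [CharP k 2] (hK : IsFunctionField k K) (hdeg : finrank (RatFunc k) K = 2)
  {y : K} (hy : y ∉ Set.range (algebraMap (RatFunc k) K)) {f : RatFunc k}
  (heq : y ^ 2 + y = algebraMap (RatFunc k) K f)
  {B : Finset k} {d : k → ℕ} (hd : ∀ β ∈ B, Odd (d β))
  (hpole : ∀ (p : Place k (RatFunc k)) (β : k), β ∈ B →
    p.1 ((RatFunc.X : RatFunc k) - RatFunc.C β) < 1 → p.ord f = -(d β : ℤ))
  (hint : ∀ p : Place k (RatFunc k),
    (∀ β ∈ B, 1 ≤ p.1 ((RatFunc.X : RatFunc k) - RatFunc.C β)) → p.1 f ≤ 1)

/-- a place cannot be a zero of both `x - α` and `x - β` -/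
theorem eq_of_val_lt_one (P : Place k K) {α β : k}
    (hα : P.1 (algebraMap (RatFunc k) K RatFunc.X - algebraMap k K α) < 1)
    (hβ : P.1 (algebraMap (RatFunc k) K RatFunc.X - algebraMap k K β) < 1) : α = β := by
  by_contra hne
  have h1 : algebraMap k K (α - β) =
      (algebraMap (RatFunc k) K RatFunc.X - algebraMap k K β) -
        (algebraMap (RatFunc k) K RatFunc.X - algebraMap k K α) := by
    rw [map_sub]
    ring
  have h2 : P.1 (algebraMap k K (α - β)) = 1 :=
    Place.val_algebraMap_eq_one P (sub_ne_zero.mpr hne)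
  have h3 : P.1 (algebraMap k K (α - β)) < 1 := by
    rw [h1]
    exact lt_of_le_of_lt (Valuation.map_sub _ _ _) (max_lt hβ hα)
  rw [h2] at h3
  exact lt_irrefl _ h3

include hK hdeg hy heq hd hpole in
/-- the place above a pole is stable under the conjugation -/
theorem comapK_eq_self {α : k} (hα : α ∈ B) {P : Place k K}
    (hP : P.1 (algebraMap (RatFunc k) K RatFunc.X - algebraMap k K α) < 1)
    (σ : K ≃ₐ[RatFunc k] K) : Place.comapK P σ = P := by
  apply unique_at_pole hK hdeg hy heq hd hpole hα hP
  rw [Place.comapK_val, ← algebraMap_X_sub_C, σ.commutes, algebraMap_X_sub_C]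
  exact hP

/-- the norm of `a + b y` -/
theorem norm_identity (heq : y ^ 2 + y = algebraMap (RatFunc k) K f) (a b : RatFunc k) :
    algebraMap (RatFunc k) K (a ^ 2 + a * b + b ^ 2 * f) =
      (algebraMap (RatFunc k) K a + algebraMap (RatFunc k) K b * y) *
        (algebraMap (RatFunc k) K a + algebraMap (RatFunc k) K b * (y + 1)) := by
  have h2 := two_eq_zero k (K := K)
  rw [map_add, map_add, map_mul, map_mul, map_pow, map_pow, ← heq]
  linear_combination
    (-(algebraMap (RatFunc k) K a * algebraMap (RatFunc k) K b * y)) * h2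

/-- a rational function without poles is constant -/
theorem exists_const_of_forall_le_one {b : RatFunc k}
    (hb : ∀ p : Place k (RatFunc k), p.1 b ≤ 1) : ∃ b₀ : k, algebraMap k (RatFunc k) b₀ = b := by
  have hK₀ := isFunctionField_ratFunc (k := k)
  have : b ∈ L (0 : Divisor k (RatFunc k)) := by
    rw [mem_L]
    intro p
    rw [Finsupp.zero_apply, exp_zero]
    exact hb p
  rw [L_zero hK₀, Submodule.mem_one] at this
  exact this

end main

end Groth.Agent.H86.AS2
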