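import Groth.Agent.H86.AS4

/-!
# AS5: linear independence of the classes `y (x - α)^j` in the adelic `H¹`
-/

set_option autoImplicit false
set_option linter.unusedSectionVars false

open Classical

namespace Groth.Agent.H86.AS2

open FunFld WithZero Module Groth.Agent.H55 Groth.Agent.H62.FFRat Groth.Agent.H62.FFASGenus
  IntermediateField Polynomial

section defs

variable {k K : Type*} [Field k] [Field K] [Algebra k K]
  [Algebra (RatFunc k) K] [IsScalarTower k (RatFunc k) K] [CharP k 2]

/-- first index type: `(α, j)` with `1 ≤ j ≤ c_α` -/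
abbrev I1 (B : Finset k) (d : k → ℕ) : Type _ :=
  {a : ↥B × ℕ // 1 ≤ a.2 ∧ 2 * a.2 + 1 ≤ d (a.1 : k)}

/-- second index type: `α ≠ 0` -/
abbrev I2 (B : Finset k) : Type _ := {b : ↥B // (b : k) ≠ 0}

/-- the family of repartitions -/
noncomputable def rep (B : Finset k) (d : k → ℕ) (Pl : k → Place k K) (y : K) :
    I1 B d ⊕ I2 B → (Place k K → K) :=
  Sum.elim
    (fun a : I1 B d =>
      (Pi.single (Pl (a.1.1 : k)) (y * ((algebraMap (RatFunc k) K RatFunc.X) -
        (algebraMap k K (a.1.1 : k))) ^ a.1.2) : Place k K → K))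
    (fun b : I2 B => (Pi.single (Pl (b.1 : k)) y : Place k K → K))

/-- the monomial of an index seen from `α` -/
noncomputable def mono (B : Finset k) (d : k → ℕ) (α : k) : I1 B d ⊕ I2 B → k[X] :=
  Sum.elim (fun a : I1 B d => if (a.1.1 : k) = α then X ^ a.1.2 else 0)
    (fun b : I2 B => if (b.1 : k) = α then 1 else 0)

variable {B : Finset k} {d : k → ℕ} (Pl : k → Place k K)
  (hPl : ∀ β ∈ B, (Pl β).1 ((algebraMap (RatFunc k) K RatFunc.X) - (algebraMap k K β)) < 1)
  (y : K)

include hPl in
theorem Pl_injOn {α β : k} (hα : α ∈ B) (hβ : β ∈ B) (h : Pl α = Pl β) : α = β := by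
  have h1 := hPl α hα
  have h2 := hPl β hβ
  rw [← h] at h2
  exact eq_of_val_lt_one (Pl α) h1 h2

include hPl in
theorem rep_apply_Pl {α : k} (hα : α ∈ B) (i : I1 B d ⊕ I2 B) :
    rep B d Pl y i (Pl α) =
      y * aeval ((algebraMap (RatFunc k) K RatFunc.X) - (algebraMap k K α)) (mono B d α i) := by
  rcases i with a | b
  · simp only [rep, mono, Sum.elim_inl]
    by_cases h : (a.1.1 : k) = α
    · rw [if_pos h, h, Pi.single_eq_same, map_pow, aeval_X]
    · rw [if_neg h, map_zero, mul_zero, Pi.single_eq_of_ne]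
      intro h'
      exact h (Pl_injOn Pl hPl hα a.1.1.2 h').symm
  · simp only [rep, mono, Sum.elim_inr]
    by_cases h : (b.1 : k) = α
    · rw [if_pos h, h, Pi.single_eq_same, map_one, mul_one]
    · rw [if_neg h, map_zero, mul_zero, Pi.single_eq_of_ne]
      intro h'
      exact h (Pl_injOn Pl hPl hα b.1.2 h').symm

theorem rep_apply_of_ne {Q : Place k K} (hQ : ∀ α ∈ B, Q ≠ Pl α) (i : I1 B d ⊕ I2 B) :
    rep B d Pl y i Q = 0 := by
  rcases i with a | b
  · simp only [rep, Sum.elim_inl]
    exact Pi.single_eq_of_ne (hQ _ a.1.1.2) _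
  · simp only [rep, Sum.elim_inr]
    exact Pi.single_eq_of_ne (hQ _ b.1.2) _

/-- the polynomial attached to a combination, seen from `α` -/
noncomputable def Hpoly (B : Finset k) (d : k → ℕ) (α : k) (l : (I1 B d ⊕ I2 B) →₀ k) : k[X] :=
  ∑ i ∈ l.support, l i • mono B d α i

theorem lc_apply (l : (I1 B d ⊕ I2 B) →₀ k) (Q : Place k K) :
    Finsupp.linearCombination k (rep B d Pl y) l Q = ∑ i ∈ l.support, l i • rep B d Pl y i Q := by
  rw [Finsupp.linearCombination_apply, Finsupp.sum, Finset.sum_apply]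
  rfl

include hPl in
theorem lc_apply_Pl {α : k} (hα : α ∈ B) (l : (I1 B d ⊕ I2 B) →₀ k) :
    Finsupp.linearCombination k (rep B d Pl y) l (Pl α) =
      y * aeval ((algebraMap (RatFunc k) K RatFunc.X) - (algebraMap k K α)) (Hpoly B d α l) := by
  rw [lc_apply, Hpoly, map_sum, Finset.mul_sum]
  apply Finset.sum_congr rfl
  intro i _
  rw [rep_apply_Pl Pl hPl y hα, map_smul, mul_smul_comm]

theorem lc_apply_of_ne {Q : Place k K} (hQ : ∀ α ∈ B, Q ≠ Pl α) (l : (I1 B d ⊕ I2 B) →₀ k) :
    Finsupp.linearCombination k (rep B d Pl y) l Q = 0 := by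
  rw [lc_apply]
  apply Finset.sum_eq_zero
  intro i _
  rw [rep_apply_of_ne Pl y hQ, smul_zero]

/-- degree bound -/
theorem natDegree_mono_le (α : k) (i : I1 B d ⊕ I2 B) {m : ℕ} (hm : d α = 2 * m + 1) :
    (mono B d α i).natDegree ≤ m := by
  rcases i with a | b
  · simp only [mono, Sum.elim_inl]
    by_cases h : (a.1.1 : k) = α
    · rw [if_pos h, natDegree_X_pow]
      have := a.2.2
      rw [h, hm] at this
      omega
    · rw [if_neg h, natDegree_zero]
      exact Nat.zero_le _
  · simp only [mono, Sum.elim_inr]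
    split_ifs
    · rw [natDegree_one]
      exact Nat.zero_le _
    · rw [natDegree_zero]
      exact Nat.zero_le _

theorem natDegree_Hpoly_le (α : k) (l : (I1 B d ⊕ I2 B) →₀ k) {m : ℕ} (hm : d α = 2 * m + 1) :
    (Hpoly B d α l).natDegree ≤ m := by
  unfold Hpoly
  apply natDegree_sum_le_of_forall_le
  intro i _
  exact (natDegree_smul_le _ _).trans (natDegree_mono_le α i hm)

/-- coefficients of `Hpoly`: the index `(α, j)` -/
theorem coeff_Hpoly_inl (l : (I1 B d ⊕ I2 B) →₀ k) (a : I1 B d) :
    (Hpoly B d (a.1.1 : k) l).coeff a.1.2 = l (Sum.inl a) := by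
  unfold Hpoly
  rw [finsetSum_coeff]
  rw [Finset.sum_eq_single (Sum.inl a)]
  · simp only [mono, Sum.elim_inl, if_true, coeff_smul, coeff_X_pow, smul_eq_mul, mul_one]
  · intro i _ hi
    rw [coeff_smul]
    rcases i with a' | b
    · simp only [mono, Sum.elim_inl]
      by_cases h : (a'.1.1 : k) = (a.1.1 : k)
      · rw [if_pos h, coeff_X_pow, if_neg, smul_zero]
        intro hj
        apply hi
        congr 1
        apply Subtype.ext
        apply Prod.ext
        · exact Subtype.ext h
        · exact hj.symm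
      · rw [if_neg h, coeff_zero, smul_zero]
    · simp only [mono, Sum.elim_inr]
      have hj : a.1.2 ≠ 0 := by
        have := a.2.1
        omega
      split_ifs
      · rw [coeff_one, if_neg hj, smul_zero]
      · rw [coeff_zero, smul_zero]
  · intro hi
    rw [Finsupp.notMem_support_iff.mp hi, zero_smul, coeff_zero]

/-- coefficients of `Hpoly`: the index `α ≠ 0` -/
theorem coeff_Hpoly_inr (l : (I1 B d ⊕ I2 B) →₀ k) (b : I2 B) :
    (Hpoly B d (b.1 : k) l).coeff 0 = l (Sum.inr b) := by
  unfold Hpoly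
  rw [finsetSum_coeff]
  rw [Finset.sum_eq_single (Sum.inr b)]
  · simp only [mono, Sum.elim_inr, if_true, coeff_smul, coeff_one_zero, smul_eq_mul, mul_one]
  · intro i _ hi
    rw [coeff_smul]
    rcases i with a | b'
    · simp only [mono, Sum.elim_inl]
      have hj : a.1.2 ≠ 0 := by
        have := a.2.1
        omega
      split_ifs
      · rw [coeff_X_pow, if_neg hj.symm, smul_zero]
      · rw [coeff_zero, smul_zero]
    · simp only [mono, Sum.elim_inr]
      by_cases h : (b'.1 : k) = (b.1 : k)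
      · exfalso
        apply hi
        congr 1
        exact Subtype.ext (Subtype.ext h)
      · rw [if_neg h, coeff_zero, smul_zero]
  · intro hi
    rw [Finsupp.notMem_support_iff.mp hi, zero_smul, coeff_zero]

/-- coefficients of `Hpoly` at `α = 0`: no constant term -/
theorem coeff_Hpoly_zero (l : (I1 B d ⊕ I2 B) →₀ k) :
    (Hpoly B d (0 : k) l).coeff 0 = 0 := by
  unfold Hpoly
  rw [finsetSum_coeff]
  apply Finset.sum_eq_zero
  intro i _
  rw [coeff_smul]
  rcases i with a | b
  · simp only [mono, Sum.elim_inl]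
    have hj : a.1.2 ≠ 0 := by
      have := a.2.1
      omega
    split_ifs
    · rw [coeff_X_pow, if_neg hj.symm, smul_zero]
    · rw [coeff_zero, smul_zero]
  · simp only [mono, Sum.elim_inr]
    rw [if_neg b.2, coeff_zero, smul_zero]

end defs

end Groth.Agent.H86.AS2
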