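import Groth.Agent.H86.AS5
import Groth.Agent.H62.FFASLocal
import Groth.Agent.H55.WGal

/-!
# AS6: linear independence of the classes `y (x - α)^j`, `y` in the adelic `H¹`
-/

set_option autoImplicit false
set_option linter.unusedSectionVars false

open Classical

namespace Groth.Agent.H86.AS2

open FunFld WithZero Module Groth.Agent.H55 Groth.Agent.H62.FFRat Groth.Agent.H62.FFASGenus
  IntermediateField Polynomial

section main

variable {k K : Type*} [Field k] [Field K] [Algebra k K]
  [Algebra (RatFunc k) K] [IsScalarTower k (RatFunc k) K]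
  [CharP k 2] (hK : IsFunctionField k K) (hdeg : finrank (RatFunc k) K = 2)
  {y : K} (hy : y ∉ Set.range (algebraMap (RatFunc k) K)) {f : RatFunc k}
  (heq : y ^ 2 + y = algebraMap (RatFunc k) K f)
  {B : Finset k} {d : k → ℕ} (hd : ∀ β ∈ B, Odd (d β))
  (hpole : ∀ (p : Place k (RatFunc k)) (β : k), β ∈ B →
    p.1 ((RatFunc.X : RatFunc k) - RatFunc.C β) < 1 → p.ord f = -(d β : ℤ))
  (hint : ∀ p : Place k (RatFunc k),
    (∀ β ∈ B, 1 ≤ p.1 ((RatFunc.X : RatFunc k) - RatFunc.C β)) → p.1 f ≤ 1)
  (Pl : k → Place k K)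
  (hPl : ∀ β ∈ B, (Pl β).1 ((algebraMap (RatFunc k) K RatFunc.X) - (algebraMap k K β)) < 1)

/-- a polynomial in `x - α`, computed in `K`, comes from `k(x)` -/
theorem aeval_xsub (α : k) (G : k[X]) :
    aeval (algebraMap (RatFunc k) K RatFunc.X - algebraMap k K α) G =
      algebraMap (RatFunc k) K (aeval (RatFunc.X - RatFunc.C α : RatFunc k) G) := by
  rw [← algebraMap_X_sub_C, aeval_algebraMap_apply]

include hK hdeg hy heq hd hpole hPl in
/-- the `y`-coefficient of a function approximating the combination has no poles -/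
theorem coeff_b_le_one (l : (I1 B d ⊕ I2 B) →₀ k) (a b : RatFunc k)
    (hR : ∀ Q : Place k K, Q.1 (Finsupp.linearCombination k (rep B d Pl y) l Q -
      (algebraMap (RatFunc k) K a + algebraMap (RatFunc k) K b * y)) ≤ 1)
    (p : Place k (RatFunc k)) : p.1 b ≤ 1 := by
  haveI := finiteDimensional hdeg
  have hK₀ := isFunctionField_ratFunc (k := k)
  obtain ⟨Q, e, he⟩ := Groth.Agent.H62.FFExtDeg.exists_isOver (K' := K) hK₀ p
  obtain ⟨σ, hσ⟩ := exists_conj (two_eq_zero k) hdeg hy heq
  have hσQ := comapK_isOverWith he σ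
  have he0 : e ≠ 0 := (isOverWith_pos he).ne'
  by_cases hB : ∃ α ∈ B, p.1 (RatFunc.X - RatFunc.C α) < 1
  · obtain ⟨α, hα, hpα⟩ := hB
    have hQα : Q.1 (algebraMap (RatFunc k) K RatFunc.X - algebraMap k K α) < 1 := by
      rw [← algebraMap_X_sub_C, he, pow_lt_one_iff he0]
      exact hpα
    have hQ : Q = Pl α := unique_at_pole hK hdeg hy heq hd hpole hα (hPl α hα) hQα
    subst hQ
    have h1 := hR (Pl α)
    rw [lc_apply_Pl Pl hPl y hα, aeval_xsub] at h1
    have hfix : Place.comapK (Pl α) σ = Pl α :=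
      comapK_eq_self hK hdeg hy heq hd hpole hα (hPl α hα) σ
    set H : RatFunc k := aeval (RatFunc.X - RatFunc.C α : RatFunc k) (Hpoly B d α l) with hH
    have h2 : (Pl α).1 (σ (y * algebraMap (RatFunc k) K H -
        (algebraMap (RatFunc k) K a + algebraMap (RatFunc k) K b * y))) ≤ 1 := by
      rw [← Place.comapK_val, hfix]
      exact h1
    rw [map_sub, map_add, map_mul, map_mul, σ.commutes, σ.commutes, σ.commutes, hσ] at h2
    have h3 : (Pl α).1 (algebraMap (RatFunc k) K (H - b)) ≤ 1 := by
      have : algebraMap (RatFunc k) K (H - b) =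
          ((y + 1) * algebraMap (RatFunc k) K H -
            (algebraMap (RatFunc k) K a + algebraMap (RatFunc k) K b * (y + 1))) -
          (y * algebraMap (RatFunc k) K H -
            (algebraMap (RatFunc k) K a + algebraMap (RatFunc k) K b * y)) := by
        rw [map_sub]
        ring
      rw [this]
      exact (Valuation.map_sub _ _ _).trans (max_le h2 h1)
    rw [isOverWith_le_one_iff he] at h3
    have hHle : p.1 H ≤ 1 := Place.aeval_mem p _ hpα.le
    have : b = H - (H - b) := by ring
    rw [this]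
    exact (Valuation.map_sub _ _ _).trans (max_le hHle h3)
  · push Not at hB
    have hne : ∀ (Q' : Place k K) (e' : ℕ), IsOverWith Q' p e' → ∀ α ∈ B, Q' ≠ Pl α := by
      intro Q' e' he' α hα hQ'
      have := hPl α hα
      rw [← hQ', ← algebraMap_X_sub_C, he', pow_lt_one_iff (isOverWith_pos he').ne'] at this
      exact absurd (hB α hα) (not_le.mpr this)
    have h1 := hR Q
    rw [lc_apply_of_ne Pl y (hne Q e he), zero_sub, Valuation.map_neg] at h1
    have h2 := hR (Place.comapK Q σ)
    rw [lc_apply_of_ne Pl y (hne _ e hσQ), zero_sub, Valuation.map_neg, Place.comapK_val,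
      map_add, map_mul, σ.commutes, σ.commutes, hσ] at h2
    have h3 : Q.1 (algebraMap (RatFunc k) K b) ≤ 1 := by
      have : algebraMap (RatFunc k) K b =
          (algebraMap (RatFunc k) K a + algebraMap (RatFunc k) K b * (y + 1)) -
          (algebraMap (RatFunc k) K a + algebraMap (RatFunc k) K b * y) := by ring
      rw [this]
      exact (Valuation.map_sub _ _ _).trans (max_le h2 h1)
    rwa [isOverWith_le_one_iff he] at h3

include hK hdeg hy heq hd hpole hPl in
/-- once the `y`-coefficient is the constant `b₀`, the local polynomial at `α` is `b₀` -/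
theorem Hpoly_eq_C (l : (I1 B d ⊕ I2 B) →₀ k) (a : RatFunc k) (b₀ : k)
    (hR : ∀ Q : Place k K, Q.1 (Finsupp.linearCombination k (rep B d Pl y) l Q -
      (algebraMap (RatFunc k) K a +
        algebraMap (RatFunc k) K (algebraMap k (RatFunc k) b₀) * y)) ≤ 1)
    {α : k} (hα : α ∈ B) : Hpoly B d α l = C b₀ := by
  obtain ⟨m, hm⟩ := hd α hα
  obtain ⟨p, hPp, hp, -, -⟩ := local_at_pole hdeg hy heq hd hpole hα (Pl α) (hPl α hα)
  obtain ⟨σ, hσ⟩ := exists_conj (two_eq_zero k) hdeg hy heq
  have hfix : Place.comapK (Pl α) σ = Pl α :=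
    comapK_eq_self hK hdeg hy heq hd hpole hα (hPl α hα) σ
  by_contra hne
  set G : k[X] := C b₀ - Hpoly B d α l with hG
  have hG0 : G ≠ 0 := by
    rw [hG, sub_ne_zero]
    exact fun h => hne h.symm
  have hGdeg : G.natDegree ≤ m := by
    rw [hG]
    refine (natDegree_sub_le _ _).trans (max_le ?_ (natDegree_Hpoly_le α l hm))
    rw [natDegree_C]
    exact Nat.zero_le _
  set b' : RatFunc k := aeval (RatFunc.X - RatFunc.C α : RatFunc k) G with hb'
  have hb'eq : algebraMap (RatFunc k) K b' =
      algebraMap (RatFunc k) K (algebraMap k (RatFunc k) b₀) -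
        aeval (algebraMap (RatFunc k) K RatFunc.X - algebraMap k K α) (Hpoly B d α l) := by
    rw [aeval_xsub, hb', hG, map_sub, aeval_C, map_sub]
  have h1 := hR (Pl α)
  rw [lc_apply_Pl Pl hPl y hα] at h1
  have h1' : (Pl α).1 (algebraMap (RatFunc k) K a + algebraMap (RatFunc k) K b' * y) ≤ 1 := by
    have : algebraMap (RatFunc k) K a + algebraMap (RatFunc k) K b' * y =
        -(y * aeval (algebraMap (RatFunc k) K RatFunc.X - algebraMap k K α) (Hpoly B d α l) -
          (algebraMap (RatFunc k) K a +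
            algebraMap (RatFunc k) K (algebraMap k (RatFunc k) b₀) * y)) := by
      rw [hb'eq]
      ring
    rw [this, Valuation.map_neg]
    exact h1
  have h2' : (Pl α).1 (algebraMap (RatFunc k) K a + algebraMap (RatFunc k) K b' * (y + 1)) ≤ 1 := by
    have := h1'
    rw [← hfix, Place.comapK_val, map_add, map_mul, σ.commutes, σ.commutes, hσ] at this
    exact this
  have hN : (Pl α).1 (algebraMap (RatFunc k) K (a ^ 2 + a * b' + b' ^ 2 * f)) ≤ 1 := by
    rw [norm_identity heq, map_mul]
    exact mul_le_one' h1' h2'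
  rw [isOverWith_le_one_iff hPp] at hN
  have hb'1 : p.1 b' ≤ 1 := Place.aeval_mem p _ hp.le
  have hordf := hpole p α hα hp
  have hf0 : f ≠ 0 := by
    rintro rfl
    rw [Place.ord_zero] at hordf
    omega
  have hloc := (Groth.Agent.H62.FFASLocal.local_bound p (a := a) (b := b') (f := f) (n := 0)
    (d := (m : ℤ) + 1)
    (Or.inr ⟨hf0, by omega, by rw [hordf, hm]; push_cast; ring⟩)
    (by rw [exp_zero]; exact hb'1) (by rw [mul_zero, exp_zero]; exact hN)).2
  have hX0 : (RatFunc.X - RatFunc.C α : RatFunc k) ≠ 0 := by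
    intro h
    exact transcendental_X_sub_C α (h ▸ isAlgebraic_zero)
  have ht : p.1 (RatFunc.X - RatFunc.C α) = exp (-1 : ℤ) := by
    rw [Place.val_eq_exp_neg_ord p hX0, (place_at α p hp).1]
  have hlow := exp_neg_le_val_aeval p ht hG0 hGdeg
  have := hlow.trans hloc
  rw [exp_le_exp] at this
  omega

end main

end Groth.Agent.H86.AS2
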