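import Groth.Agent.H86.AS6
import Groth.Agent.H63.ASPartial

/-!
# AS7: the classes `y (x - α)^j`, `y` form a basis of the adelic `H¹`
-/

set_option autoImplicit false
set_option linter.unusedSectionVars false

open Classical

namespace Groth.Agent.H86.AS2

open FunFld WithZero Module Groth.Agent.H55 Groth.Agent.H62.FFRat Groth.Agent.H62.FFASGenus
  IntermediateField Polynomial

section main

variable {k K : Type*} [Field k] [Field K] [Algebra k K]
  [Algebra (RatFunc k) K] [IsScalarTower k (RatFunc k) K]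
  [CharP k 2] (hK : IsFunctionField k K) (hdeg : finrank (RatFunc k) K = 2)
  {y : K} (hy : y ∉ Set.range (algebraMap (RatFunc k) K)) {f : RatFunc k}
  (heq : y ^ 2 + y = algebraMap (RatFunc k) K f)
  {B : Finset k} {d : k → ℕ} (hd : ∀ β ∈ B, Odd (d β))
  (hpole : ∀ (p : Place k (RatFunc k)) (β : k), β ∈ B →
    p.1 ((RatFunc.X : RatFunc k) - RatFunc.C β) < 1 → p.ord f = -(d β : ℤ))
  (hint : ∀ p : Place k (RatFunc k),
    (∀ β ∈ B, 1 ≤ p.1 ((RatFunc.X : RatFunc k) - RatFunc.C β)) → p.1 f ≤ 1)
  (Pl : k → Place k K)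
  (hPl : ∀ β ∈ B, (Pl β).1 ((algebraMap (RatFunc k) K RatFunc.X) - (algebraMap k K β)) < 1)

/-- a repartition supported at one place is an adele -/
theorem single_mem_adele (P : Place k K) (v : K) :
    (Pi.single P v : Place k K → K) ∈ adele k K := by
  rw [mem_adele]
  apply Set.Finite.subset (Set.finite_singleton P)
  intro Q hQ
  rw [Set.mem_singleton_iff]
  by_contra hne
  rw [Set.mem_setOf_eq, Pi.single_eq_of_ne hne, map_zero] at hQ
  exact absurd hQ (not_lt.mpr zero_le)

theorem rep_mem_adele (i : I1 B d ⊕ I2 B) : rep B d Pl y i ∈ adele k K := by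
  rcases i with a | b
  · exact single_mem_adele _ _
  · exact single_mem_adele _ _

include hK hdeg hy heq hd hpole hPl in
/-- the classes are linearly independent modulo `A(0) + K` -/
theorem linearIndependent_rep (h0 : (0 : k) ∈ B) :
    LinearIndependent k (fun i => Submodule.mkQ
      (AD (0 : Divisor k K) ⊔ LinearMap.range (diag k K)) (rep B d Pl y i)) := by
  rw [linearIndependent_iff]
  intro l hl
  have hl' : Finsupp.linearCombination k (rep B d Pl y) l ∈
      AD (0 : Divisor k K) ⊔ LinearMap.range (diag k K) := by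
    rw [← Submodule.Quotient.mk_eq_zero, ← Submodule.mkQ_apply,
      LinearMap.map_finsupp_linearCombination]
    exact hl
  obtain ⟨A₀, hA₀, D, ⟨z, rfl⟩, hsum⟩ := Submodule.mem_sup.mp hl'
  obtain ⟨a, b, hz⟩ := Groth.Agent.H62.FFParity.exists_eq_add_mul hdeg hy z
  have hR : ∀ Q : Place k K, Q.1 (Finsupp.linearCombination k (rep B d Pl y) l Q -
      (algebraMap (RatFunc k) K a + algebraMap (RatFunc k) K b * y)) ≤ 1 := by
    intro Q
    rw [← hz, ← hsum]
    have h1 : (A₀ + diag k K z) Q - z = A₀ Q := by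
      show A₀ Q + z - z = A₀ Q
      ring
    rw [h1]
    have h2 := (mem_AD.mp hA₀) Q
    rwa [Finsupp.zero_apply, exp_zero] at h2
  have hb := coeff_b_le_one hK hdeg hy heq hd hpole Pl hPl l a b hR
  obtain ⟨b₀, rfl⟩ := exists_const_of_forall_le_one hb
  have hH : ∀ α ∈ B, Hpoly B d α l = C b₀ := fun α hα =>
    Hpoly_eq_C hK hdeg hy heq hd hpole Pl hPl l a b₀ hR hα
  have hb₀ : b₀ = 0 := by
    have h1 := coeff_Hpoly_zero (B := B) (d := d) l
    rw [hH 0 h0, coeff_C_zero] at h1
    exact h1
  subst hb₀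
  ext i
  rw [Finsupp.zero_apply]
  rcases i with a' | b'
  · rw [← coeff_Hpoly_inl l a', hH _ a'.1.1.2, map_zero, coeff_zero]
  · rw [← coeff_Hpoly_inr l b', hH _ b'.1.2, map_zero, coeff_zero]

include hK hdeg hy heq hd hpole hint in
/-- the number of classes is the genus -/
theorem card_index [PerfectField k] [Algebra.IsSeparable (RatFunc k) K] (h0 : (0 : k) ∈ B) :
    Nat.card (I1 B d ⊕ I2 B) = genus k K := by
  have h1 := Groth.Agent.H63.ASPartial.genus_add_one (ringChar.eq k 2) hK hdeg hy heq hd hpole hint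
  have h2 := Groth.Agent.H63.ASPartial.natDegree_q B d
  have h3 := Groth.Agent.H63.ASPartial.card_I B d h0 hd
  have h4 : Nat.card (I1 B d ⊕ I2 B) =
    Nat.card (Groth.Agent.H63.ASPartial.I1 B d ⊕ Groth.Agent.H63.ASPartial.I2 B) := rfl
  omega

include hK hdeg hy heq hd hpole hint hPl in
/-- the classes span the adelic `H¹` -/
theorem span_rep [PerfectField k] [Algebra.IsSeparable (RatFunc k) K] (h0 : (0 : k) ∈ B)
    (a : Place k K → K) (ha : a ∈ adele k K) :
    a ∈ (AD (0 : Divisor k K) ⊔ LinearMap.range (diag k K)) ⊔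
      Submodule.span k (Set.range (rep B d Pl y)) := by
  set W : Submodule k (Place k K → K) := AD (0 : Divisor k K) ⊔ LinearMap.range (diag k K) with hW
  obtain ⟨hfin, hrank⟩ := adele_quot_finrank hK (0 : Divisor k K)
  have hdeg0 : (0 : Divisor k K).deg = 0 := by
    unfold Divisor.deg
    exact Finsupp.sum_zero_index
  rw [ell_zero hK, hdeg0] at hrank
  have hg := card_index hK hdeg hy heq hd hpole hint h0
  haveI : Finite (I1 B d) := inferInstanceAs (Finite (Groth.Agent.H63.ASPartial.I1 B d))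
  haveI : Fintype (I1 B d ⊕ I2 B) := Fintype.ofFinite _
  have hmem := rep_mem_adele (B := B) (d := d) (y := y) Pl
  let π : adele k K →ₗ[k] RelQ W (adele k K) := Submodule.mkQ _
  let v : I1 B d ⊕ I2 B → RelQ W (adele k K) := fun i => π ⟨rep B d Pl y i, hmem i⟩
  let ψ : RelQ W (adele k K) →ₗ[k] (Place k K → K) ⧸ W :=
    Submodule.mapQ _ W (adele k K).subtype le_rfl
  have hv : LinearIndependent k v := by
    apply LinearIndependent.of_comp ψ
    exact linearIndependent_rep hK hdeg hy heq hd hpole Pl hPl h0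
  have hcard : Fintype.card (I1 B d ⊕ I2 B) = finrank k (RelQ W (adele k K)) := by
    rw [← Nat.card_eq_fintype_card, hg]
    have : ((finrank k (RelQ W (adele k K)) : ℕ) : ℤ) = (genus k K : ℤ) := by
      rw [hrank]
      push_cast
      ring
    exact_mod_cast this.symm
  have hspan := hv.span_eq_top_of_card_eq_finrank' hcard
  have hin : π ⟨a, ha⟩ ∈ Submodule.span k (Set.range v) := by
    rw [hspan]
    trivial
  obtain ⟨c, hc⟩ := (Submodule.mem_span_range_iff_exists_fun k).mp hin
  have hker : π (⟨a, ha⟩ - ∑ i, c i • ⟨rep B d Pl y i, hmem i⟩) = 0 := by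
    rw [map_sub, map_sum, sub_eq_zero, ← hc]
    apply Finset.sum_congr rfl
    intro i _
    rw [map_smul]
  have hdiff : a - ∑ i, c i • rep B d Pl y i ∈ W := by
    rw [Submodule.mkQ_apply, Submodule.Quotient.mk_eq_zero, Submodule.mem_comap] at hker
    simpa using hker
  have hsplit : a = (a - ∑ i, c i • rep B d Pl y i) + ∑ i, c i • rep B d Pl y i := by
    rw [sub_add_cancel]
  rw [hsplit]
  exact Submodule.add_mem_sup hdiff (Submodule.sum_mem _ fun i _ =>
    Submodule.smul_mem _ _ (Submodule.subset_span ⟨i, rfl⟩))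

end main

end Groth.Agent.H86.AS2
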