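import Mathlib
import Groth.Agent.H86.SV3

/-!
# Gap theory at a place: pole numbers, exact orders in `L(D)`, duality of jumps
-/

set_option autoImplicit false
set_option linter.unusedSectionVars false

namespace Groth.Agent.H86.FF

open FunFld Module Groth.Agent.H55

variable {k K : Type*} [Field k] [Field K] [Algebra k K] [IsAlgClosed k]

/-- the prime divisor of a place -/
noncomputable abbrev pd (P : Place k K) : Divisor k K := Finsupp.single P 1

theorem deg_pd (hK : IsFunctionField k K) (P : Place k K) : (pd P).deg = 1 :=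
  deg_single_one hK P 1

theorem pd_apply_self (P : Place k K) : pd P P = 1 := Finsupp.single_eq_same

theorem pd_apply_ne {P Q : Place k K} (h : Q ≠ P) : pd P Q = 0 := by
  classical
  exact Finsupp.single_eq_of_ne h

/-- exact order at `P` in `L(D)` versus the drop of `ℓ` -/
theorem exists_exact_iff (hK : IsFunctionField k K) (D : Divisor k K) (P : Place k K) :
    (∃ f ∈ L D, P.1 f = WithZero.exp (D P)) ↔ ell (D - pd P) < ell D := by
  classical
  have hle : D - pd P ≤ D := by
    intro Q
    rw [Finsupp.sub_apply]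
    by_cases hQ : Q = P
    · subst hQ
      rw [pd_apply_self]
      omega
    · rw [pd_apply_ne hQ]
      omega
  have hfin : Module.Finite k (L D) := L_finite hK D
  constructor
  · rintro ⟨f, hf, hfv⟩
    have hlt : L (D - pd P) < L D := by
      refine lt_of_le_of_ne (L_mono hle) ?_
      intro heq
      rw [← heq] at hf
      have := hf P
      rw [Finsupp.sub_apply, pd_apply_self, hfv, WithZero.exp_le_exp] at this
      omega
    exact Submodule.finrank_lt_finrank_of_lt hlt
  · intro hlt
    have hnot : ¬ L D ≤ L (D - pd P) := by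
      intro h
      have := ell_mono hK hle
      have h2 : ell D ≤ ell (D - pd P) := by
        have hfin' : Module.Finite k (L (D - pd P)) := L_finite hK _
        exact Submodule.finrank_mono h
      omega
    obtain ⟨f, hf1, hf0⟩ := SetLike.not_le_iff_exists.mp hnot
    refine ⟨f, hf1, ?_⟩
    have hex : ∃ Q : Place k K, ¬ Q.1 f ≤ WithZero.exp ((D - pd P) Q) := by
      by_contra hcon
      push Not at hcon
      exact hf0 hcon
    obtain ⟨Q, hQ⟩ := hex
    have hQP : Q = P := by
      by_contra hne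
      rw [Finsupp.sub_apply, pd_apply_ne hne, sub_zero] at hQ
      exact hQ (hf1 Q)
    subst hQP
    rw [Finsupp.sub_apply, pd_apply_self, ← Place.lt_exp_iff_le_exp_sub_one, not_lt] at hQ
    exact le_antisymm (hf1 Q) hQ

theorem ell_le_ell_sub_pd_add_one (hK : IsFunctionField k K) (D : Divisor k K) (P : Place k K) :
    ell D ≤ ell (D - pd P) + 1 := by
  classical
  have hle : D - pd P ≤ D := by
    intro Q
    rw [Finsupp.sub_apply]
    by_cases hQ : Q = P
    · subst hQ
      rw [pd_apply_self]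
      omega
    · rw [pd_apply_ne hQ]
      omega
  have := ell_sub_le hK hle
  rw [Divisor.deg_sub, deg_pd hK] at this
  omega

/-- Riemann–Roch duality for one step of the filtration -/
theorem ell_step_duality (hK : IsFunctionField k K) {C : Divisor k K} (hC : IsCanonical k K C)
    (D : Divisor k K) (P : Place k K) :
    ((ell (D + pd P) : ℤ) - ell D) + ((ell (C - D) : ℤ) - ell (C - D - pd P)) = 1 := by
  have h1 := riemann_roch hK hC (D + pd P)
  have h2 := riemann_roch hK hC D
  rw [Divisor.deg_add, deg_pd hK] at h1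
  have e : C - (D + pd P) = C - D - pd P := by abel
  rw [e] at h1
  omega

/-- `ρ` is a pole number at `P` -/
def IsPoleNumber (P : Place k K) (ρ : ℕ) : Prop :=
  ∃ f : K, P.1 f = WithZero.exp (ρ : ℤ) ∧ ∀ Q : Place k K, Q ≠ P → Q.1 f ≤ 1

theorem isPoleNumber_zero (P : Place k K) : IsPoleNumber P 0 :=
  ⟨1, by simp, fun Q _ => by rw [map_one]⟩

theorem IsPoleNumber.add {P : Place k K} {a b : ℕ} (ha : IsPoleNumber P a)
    (hb : IsPoleNumber P b) : IsPoleNumber P (a + b) := by
  obtain ⟨f, hf, hfQ⟩ := ha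
  obtain ⟨f', hf', hfQ'⟩ := hb
  refine ⟨f * f', ?_, fun Q hQ => ?_⟩
  · rw [map_mul, hf, hf', ← WithZero.exp_add]
    push_cast
    rfl
  · rw [map_mul]
    exact (mul_le_mul' (hfQ Q hQ) (hfQ' Q hQ)).trans_eq (one_mul _)

theorem isPoleNumber_iff (hK : IsFunctionField k K) (P : Place k K) (ρ : ℕ) :
    IsPoleNumber P ρ ↔ ∃ f ∈ L ((ρ : ℤ) • pd P), P.1 f = WithZero.exp (((ρ : ℤ) • pd P) P) := by
  have e : ((ρ : ℤ) • pd P) P = ρ := by
    rw [Finsupp.smul_apply, pd_apply_self, smul_eq_mul, mul_one]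
  rw [e]
  constructor
  · rintro ⟨f, hf, hfQ⟩
    exact ⟨f, (mem_L_smul_single P _ f).mpr ⟨hf.le, hfQ⟩, hf⟩
  · rintro ⟨f, hfL, hf⟩
    exact ⟨f, hf, ((mem_L_smul_single P _ f).mp hfL).2⟩

theorem isPoleNumber_iff_ell (hK : IsFunctionField k K) (P : Place k K) (ρ : ℕ) :
    IsPoleNumber P (ρ + 1) ↔ ell ((ρ : ℤ) • pd P) < ell (((ρ + 1 : ℕ) : ℤ) • pd P) := by
  rw [isPoleNumber_iff hK, exists_exact_iff hK]
  have e : ((ρ + 1 : ℕ) : ℤ) • pd P - pd P = (ρ : ℤ) • pd P := by
    push_cast
    rw [add_smul, one_smul, add_sub_cancel_right]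
  rw [e]

/-- for a canonical divisor: `j` is an order of `|C|` at `P` iff `j + 1` is a gap -/
theorem exists_exact_canonical_iff (hK : IsFunctionField k K) {C : Divisor k K}
    (hC : IsCanonical k K C) (P : Place k K) (j : ℕ) :
    (∃ f ∈ L C, P.1 f = WithZero.exp (C P - j)) ↔ ¬ IsPoleNumber P (j + 1) := by
  rw [isPoleNumber_iff_ell hK]
  have h1 : (∃ f ∈ L C, P.1 f = WithZero.exp (C P - j)) ↔
      ∃ f ∈ L (C - (j : ℤ) • pd P), P.1 f = WithZero.exp ((C - (j : ℤ) • pd P) P) := by
    have e : (C - (j : ℤ) • pd P) P = C P - j := by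
      rw [Finsupp.sub_apply, Finsupp.smul_apply, pd_apply_self, smul_eq_mul, mul_one]
    rw [e]
    constructor
    · rintro ⟨f, hfL, hf⟩
      refine ⟨f, ?_, hf⟩
      intro Q
      by_cases hQ : Q = P
      · subst hQ
        rw [e, hf]
      · rw [Finsupp.sub_apply, Finsupp.smul_apply, pd_apply_ne hQ, smul_zero, sub_zero]
        exact hfL Q
    · rintro ⟨f, hfL, hf⟩
      refine ⟨f, L_mono ?_ hfL, hf⟩
      intro Q
      rw [Finsupp.sub_apply, Finsupp.smul_apply]
      by_cases hQ : Q = P
      · subst hQ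
        rw [pd_apply_self, smul_eq_mul, mul_one]
        have : (0 : ℤ) ≤ j := Int.natCast_nonneg j
        omega
      · rw [pd_apply_ne hQ, smul_zero, sub_zero]
  rw [h1, exists_exact_iff hK]
  have hdual := ell_step_duality hK hC ((j : ℤ) • pd P) P
  have e1 : (j : ℤ) • pd P + pd P = ((j + 1 : ℕ) : ℤ) • pd P := by
    push_cast
    rw [add_smul, one_smul]
  rw [e1] at hdual
  have hm1 : ell ((j : ℤ) • pd P) ≤ ell (((j + 1 : ℕ) : ℤ) • pd P) := by
    apply ell_mono hK
    rw [← e1]
    intro Q
    rw [Finsupp.add_apply]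
    by_cases hQ : Q = P
    · subst hQ; rw [pd_apply_self]; omega
    · rw [pd_apply_ne hQ]; omega
  have hm2 : ell (C - (j : ℤ) • pd P - pd P) ≤ ell (C - (j : ℤ) • pd P) := by
    apply ell_mono hK
    intro Q
    rw [Finsupp.sub_apply (g₂ := pd P)]
    by_cases hQ : Q = P
    · subst hQ; rw [pd_apply_self]; omega
    · rw [pd_apply_ne hQ]; omega
  constructor
  · intro h hcon
    omega
  · intro h
    omega

end Groth.Agent.H86.FF
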