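import Mathlib
import Groth.Agent.H86.WP1

/-!
# Orders of the canonical system at a place and gaps
-/

set_option autoImplicit false
set_option linter.unusedSectionVars false

namespace Groth.Agent.H86.FF

open FunFld Module Groth.Agent.H55

section comb

/-- the `l`-th order (after the first) of a system whose orders are the gaps shifted by one is at
most `2l + 2` -/
theorem orders_le_of_gaps {n : ℕ} (PN : ℕ → Prop) (h0 : PN 0)
    (hadd : ∀ a b, PN a → PN b → PN (a + b))
    (J' : Fin n → ℕ) (hJ' : StrictMono J')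
    (hiff : ∀ j, 1 ≤ j → (j ∈ Set.range J' ↔ ¬ PN (j + 1))) (hpos : ∀ l, 1 ≤ J' l) (l : Fin n) :
    J' l ≤ 2 * (l : ℕ) + 2 := by
  classical
  set γ : ℕ := J' l + 1 with hγ
  have hγgap : ¬ PN γ := (hiff (J' l) (hpos l)).mp ⟨l, rfl⟩
  set SN : Finset ℕ := (Finset.range γ).filter PN with hSN
  set SG : Finset ℕ := (Finset.range γ).filter (fun a => ¬ PN a) with hSG
  have hcard : SN.card + SG.card = γ := by
    have := Finset.card_filter_add_card_filter_not (s := Finset.range γ) PN
    rw [Finset.card_range] at this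
    exact this
  -- injection of `SN` into `insert γ SG`
  have hinj : SN.card ≤ (insert γ SG).card := by
    apply Finset.card_le_card_of_injOn (fun ρ => γ - ρ)
    · intro ρ hρ
      rw [Finset.mem_coe, hSN, Finset.mem_filter, Finset.mem_range] at hρ
      rw [Finset.mem_coe, Finset.mem_insert]
      change γ - ρ = γ ∨ γ - ρ ∈ SG
      by_cases hρ0 : ρ = 0
      · left
        rw [hρ0, Nat.sub_zero]
      · right
        rw [hSG, Finset.mem_filter, Finset.mem_range]
        refine ⟨by omega, fun hpn => ?_⟩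
        apply hγgap
        have := hadd ρ (γ - ρ) hρ.2 hpn
        rwa [Nat.add_sub_cancel' hρ.1.le] at this
    · intro a ha b hb hab
      rw [Finset.mem_coe, hSN, Finset.mem_filter, Finset.mem_range] at ha hb
      simp only at hab
      omega
  have hins : (insert γ SG).card ≤ SG.card + 1 := Finset.card_insert_le _ _
  -- the gaps below `γ`
  have hSGle : SG.card ≤ (l : ℕ) + 1 := by
    have hsub : SG ⊆ insert 1 ((Finset.univ.filter (fun l' : Fin n => l' < l)).image
        fun l' => J' l' + 1) := by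
      intro a ha
      rw [hSG, Finset.mem_filter, Finset.mem_range] at ha
      rw [Finset.mem_insert, Finset.mem_image]
      have ha0 : a ≠ 0 := by
        rintro rfl
        exact ha.2 h0
      by_cases ha1 : a = 1
      · left; exact ha1
      · right
        obtain ⟨j, rfl⟩ : ∃ j, a = j + 1 := ⟨a - 1, by omega⟩
        have hj1 : 1 ≤ j := by omega
        obtain ⟨l', hl'⟩ := (hiff j hj1).mpr ha.2
        refine ⟨l', ?_, by rw [hl']⟩
        rw [Finset.mem_filter]
        refine ⟨Finset.mem_univ _, ?_⟩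
        have : J' l' < J' l := by omega
        exact hJ'.lt_iff_lt.mp this
    refine (Finset.card_le_card hsub).trans ?_
    refine (Finset.card_insert_le _ _).trans ?_
    have h1 : ((Finset.univ.filter (fun l' : Fin n => l' < l)).image fun l' => J' l' + 1).card ≤
        (Finset.univ.filter (fun l' : Fin n => l' < l)).card := Finset.card_image_le
    have h2 : (Finset.univ.filter (fun l' : Fin n => l' < l)).card = (l : ℕ) := by
      have : Finset.univ.filter (fun l' : Fin n => l' < l) = Finset.Iio l := by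
        ext a
        simp
      rw [this, Fin.card_Iio]
    omega
  omega

/-- if all values `1, …, n` are taken by a strictly monotone `J' : Fin n → ℕ` with positive
values then `J' l = l + 1` -/
theorem eq_succ_of_range {n : ℕ} (J' : Fin n → ℕ) (hJ' : StrictMono J') (hpos : ∀ l, 1 ≤ J' l)
    (hall : ∀ j, 1 ≤ j → j ≤ n → j ∈ Set.range J') (l : Fin n) : J' l = (l : ℕ) + 1 := by
  have hge : ∀ l : Fin n, (l : ℕ) + 1 ≤ J' l := fun l => add_le_of_strictMono J' hJ' 1 hpos l
  have key : ∀ b : ℕ, ∀ l : Fin n, (l : ℕ) = b → J' l = b + 1 := by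
    intro b
    induction b using Nat.strong_induction_on with
    | _ b ih =>
      intro l hlb
      have hb : b + 1 ≤ n := by have := l.2; omega
      obtain ⟨l', hl'⟩ := hall (b + 1) (by omega) hb
      have hle : l ≤ l' := by
        by_contra hlt
        rw [not_le, Fin.lt_def] at hlt
        have := ih (l' : ℕ) (by omega) l' rfl
        omega
      have h2 : J' l ≤ J' l' := hJ'.monotone hle
      have h3 := hge l
      omega
  exact key (l : ℕ) l rfl

end comb

variable {k K : Type*} [Field k] [Field K] [Algebra k K] [IsAlgClosed k]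

/-- local set-up for the canonical system at a place, with the orders described by the gaps -/
theorem exists_canonical_setup (hK : IsFunctionField k K) (hg : 0 < genus k K)
    {C : Divisor k K} (hC : IsCanonical k K C) {n : ℕ} (φ : Fin (n + 1) → K)
    (hφ : LinearIndependent k φ) (hspan : Submodule.span k (Set.range φ) = L C)
    (P : Place k K) {s : K} {H : K →ₐ[k] PowerSeries K} (hH : LocRes.IsHasseFamily s H) :
    ∃ (t : K) (Ht : K →ₐ[k] PowerSeries K) (y : K) (J' : Fin n → ℕ),
      P.1 t = WithZero.exp (-1 : ℤ) ∧ LocRes.IsHasseFamily t Ht ∧ y ≠ 0 ∧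
      LinearIndependent k (y • φ) ∧ (1 : K) ∈ Submodule.span k (Set.range (y • φ)) ∧
      (∀ i, P.1 ((y • φ) i) ≤ 1) ∧
      IsOrders (IsLocalRing.ResidueField P.O) (hcolAt P Ht (y • φ)) J' ∧ (∀ l, 1 ≤ J' l) ∧
      ∀ j, 1 ≤ j → (j ∈ Set.range J' ↔ ¬ IsPoleNumber P (j + 1)) := by
  classical
  obtain ⟨t, ht⟩ := Place.exists_uniformizer P
  obtain ⟨Ht, hHt⟩ := exists_hasse_param hK P hH ht
  have hφ0 : ∀ i, φ i ≠ 0 := fun i => hφ.ne_zero i
  have hφL : ∀ i, φ i ∈ L C := by
    intro i
    rw [← hspan]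
    exact Submodule.subset_span ⟨i, rfl⟩
  obtain ⟨j₀, hj₀ne, hj₀⟩ := exists_max_entry φ P ⟨0, hφ0 0⟩
  set y : K := (φ j₀)⁻¹ with hy
  have hy0 : y ≠ 0 := inv_ne_zero hj₀ne
  set ψ : Fin (n + 1) → K := y • φ with hψdef
  have hψapp : ∀ i, ψ i = y * φ i := fun i => rfl
  have hψj : ψ j₀ = 1 := by rw [hψapp, hy, inv_mul_cancel₀ hj₀ne]
  have hψ : LinearIndependent k ψ := by
    rw [Fintype.linearIndependent_iff]
    intro a ha
    apply Fintype.linearIndependent_iff.mp hφ a
    have h1 : ∑ i, a i • ψ i = y * ∑ i, a i • φ i := by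
      rw [Finset.mul_sum]
      refine Finset.sum_congr rfl fun i _ => ?_
      rw [hψapp, mul_smul_comm]
    rw [h1] at ha
    exact (mul_eq_zero.mp ha).resolve_left hy0
  have hint : ∀ i, P.1 (ψ i) ≤ 1 := by
    intro i
    rw [hψapp, hy, map_mul, map_inv₀]
    have hpos : 0 < P.1 (φ j₀) := zero_lt_iff.mpr ((Valuation.ne_zero_iff _).mpr hj₀ne)
    rw [inv_mul_le_iff₀ hpos, mul_one]
    exact hj₀ i
  have heff : (1 : K) ∈ Submodule.span k (Set.range ψ) := by
    rw [← hψj]
    exact Submodule.subset_span ⟨j₀, rfl⟩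
  obtain ⟨J', hJ'⟩ := exists_local_orders hK P hHt ht ψ hψ hint j₀ hψj
  have hJ'pos : ∀ l, 1 ≤ J' l := fun l => orders_pos P hHt ψ hJ' l
  have hcomb : ∀ a : Fin (n + 1) → k, ∑ i, a i • ψ i = (∑ i, a i • φ i) / φ j₀ := by
    intro a
    rw [div_eq_mul_inv, Finset.sum_mul]
    refine Finset.sum_congr rfl fun i _ => ?_
    rw [hψapp, hy, mul_comm, smul_mul_assoc]
  -- no base point: the maximal entry has order exactly `-C P`
  have hmaxval : P.1 (φ j₀) = WithZero.exp (C P) := by
    apply le_antisymm (hφL j₀ P)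
    have hlt := ell_sub_single_lt hK hg C (Or.inr hC) (deg_place_eq_one hK P)
    obtain ⟨f, hfL, hfv⟩ := (exists_exact_iff hK C P).mpr hlt
    rw [← hspan] at hfL
    obtain ⟨a, rfl⟩ := (Submodule.mem_span_range_iff_exists_fun k).mp hfL
    rw [← hfv]
    apply Valuation.map_sum_le
    intro i _
    rw [Algebra.smul_def, map_mul]
    exact (mul_le_of_le_one_left' (P.2.1 (a i))).trans (hj₀ i)
  refine ⟨t, Ht, y, J', ht, hHt, hy0, hψ, heff, hint, hJ', hJ'pos, ?_⟩
  intro j hj
  rw [hJ'.2 j, isJump_hcolAt_iff hK P hHt ht ψ hint j hj, ← exists_exact_canonical_iff hK hC P j]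
  constructor
  · rintro ⟨a, ha⟩
    refine ⟨∑ i, a i • φ i, ?_, ?_⟩
    · rw [← hspan]
      exact Submodule.sum_mem _ fun i _ =>
        Submodule.smul_mem _ _ (Submodule.subset_span ⟨i, rfl⟩)
    · rw [hcomb, map_div₀, hmaxval] at ha
      rw [div_eq_iff WithZero.exp_ne_zero] at ha
      rw [ha, ← WithZero.exp_add]
      congr 1
      ring
  · rintro ⟨f, hfL, hfv⟩
    rw [← hspan] at hfL
    obtain ⟨a, rfl⟩ := (Submodule.mem_span_range_iff_exists_fun k).mp hfL
    refine ⟨a, ?_⟩
    rw [hcomb, map_div₀, hmaxval, hfv, ← WithZero.exp_sub]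
    congr 1
    ring

end Groth.Agent.H86.FF
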