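import Mathlib
import Groth.Agent.H86.WP2
import Groth.Agent.S12603

/-!
# The Weierstrass divisor of the canonical system: classical orders and local weights
-/

set_option autoImplicit false
set_option linter.unusedSectionVars false

namespace Groth.Agent.H86.FF

open FunFld Module Groth.Agent.H55

variable {k K : Type*} [Field k] [Field K] [Algebra k K] [IsAlgClosed k]

theorem isOrders_unique {R M : Type*} [Semiring R] [AddCommMonoid M] [Module R M] {c : ℕ → M}
    {n : ℕ} {J₁ J₂ : Fin n → ℕ} (h₁ : IsOrders R c J₁) (h₂ : IsOrders R c J₂) : J₁ = J₂ := by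
  apply (StrictMono.range_inj h₁.1 h₂.1).mp
  ext j
  rw [h₁.2 j, h₂.2 j]

/-- casts of small natural numbers are injective under the characteristic hypothesis -/
theorem natCast_inj_of_le (N : ℕ) (hchar : ringChar k = 0 ∨ N < ringChar k) {x y : ℕ}
    (hx : x ≤ N) (hy : y ≤ N) (hxy : (x : k) = (y : k)) : x = y := by
  rcases hchar with h0 | hlt
  · haveI : CharP k 0 := by
      rw [← h0]
      exact ringChar.charP k
    haveI : CharZero k := CharP.charP_to_charZero k
    exact Nat.cast_injective hxy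
  · haveI : CharP k (ringChar k) := ringChar.charP k
    exact CharP.natCast_injOn_Iio k (ringChar k) (lt_of_le_of_lt hx hlt) (lt_of_le_of_lt hy hlt)
      hxy

section canonical

variable (hK : IsFunctionField k K) (hg : 1 < genus k K)
  (hchar : ringChar k = 0 ∨ 2 * genus k K - 2 < ringChar k)
  {C : Divisor k K} (hC : IsCanonical k K C) {n : ℕ} (φ : Fin (n + 1) → K)
  (hφ : LinearIndependent k φ) (hspan : Submodule.span k (Set.range φ) = L C)

include hK hC hφ hspan in
theorem card_eq_genus : n + 1 = genus k K := by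
  have h1 := finrank_span_eq_card hφ
  rw [hspan, Fintype.card_fin] at h1
  rw [← (canonical_ell_deg hK hC).1]
  exact h1.symm

include hK hC hφ hspan in
theorem deg_mapDiv_canonical_le : (mapDiv k φ).deg ≤ 2 * (genus k K : ℤ) - 2 := by
  have hφ0 : ∀ i, φ i ≠ 0 := fun i => hφ.ne_zero i
  have hφL : ∀ i, φ i ∈ L C := by
    intro i
    rw [← hspan]
    exact Submodule.subset_span ⟨i, rfl⟩
  have hle : mapDiv k φ ≤ C := by
    intro Q
    obtain ⟨i, hi⟩ := exists_ord_eq_neg_mapDiv hK φ Q
    have h1 := hφL i Q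
    rw [Place.val_eq_exp_neg_ord Q (hφ0 i), WithZero.exp_le_exp] at h1
    omega
  have h1 : 0 ≤ C - mapDiv k φ := sub_nonneg.mpr hle
  have h2 := Divisor.deg_nonneg h1
  rw [Divisor.deg_sub, (canonical_ell_deg hK hC).2] at h2
  omega

variable {s : K} {H : K →ₐ[k] PowerSeries K} (hH : LocRes.IsHasseFamily s H)

include hK hg hchar hC hφ hspan hH in
/-- the canonical system is classical -/
theorem isOrders_canonical_classical :
    IsOrders K (hcol (AlgHom.id k K) H φ) (fun l : Fin n => (l : ℕ) + 1) := by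
  classical
  have hdegle := deg_mapDiv_canonical_le hK hC φ hφ hspan
  have hN : ∀ x : ℕ, (x : ℤ) ≤ (mapDiv k φ).deg → x ≤ 2 * genus k K - 2 := by
    intro x hx
    have : (x : ℤ) ≤ 2 * (genus k K : ℤ) - 2 := hx.trans hdegle
    omega
  obtain ⟨P⟩ := exists_place hK
  have hP : IsFixedPt (AlgHom.id k K) P := fun z hz => hz
  apply isOrders_of_binom hK φ hφ (AlgHom.id k K) P hP hH (fun l : Fin n => (l : ℕ) + 1)
    (fun a b h => Nat.succ_lt_succ h) (Or.inl fun l => Nat.succ_pos _)
  · intro J' hJ'mono hJ'pos hJ'deg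
    apply det_binomMat_succ_ne_zero k J' hJ'pos
    · intro r r' h
      exact hJ'mono.injective
        (natCast_inj_of_le _ hchar (hN _ (hJ'deg r)) (hN _ (hJ'deg r')) h)
    · intro r h0
      have h1 := natCast_inj_of_le (k := k) _ hchar (hN _ (hJ'deg r)) (Nat.zero_le _)
        (by simpa using h0)
      have h2 := hJ'pos r
      omega
  · intro J hJ l
    exact add_le_of_strictMono J hJ.1 1 (fun l => orders_id_pos hH φ J hJ l) l

variable (J : Fin n → ℕ) (hJ : IsOrders K (hcol (AlgHom.id k K) H φ) J)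
  (Φ : Place k K → (K →ₐ[k] LaurentSeries k))
  (hΦ : ∀ P : Place k K, LocRes.IsExpansionAt P.1 (Φ P))

include hK hg hchar hC hφ hspan hH hJ in
theorem orders_canonical_eq : J = fun l : Fin n => (l : ℕ) + 1 :=
  isOrders_unique hJ (isOrders_canonical_classical hK hg hchar hC φ hφ hspan hH)

include hK hg hchar hC hφ hspan hH hJ hΦ in
/-- the coefficient of the canonical Weierstrass divisor at `P` in terms of the gaps at `P` -/
theorem wDiv_canonical_apply (P : Place k K) :
    ∃ J' : Fin n → ℕ, StrictMono J' ∧ (∀ l : Fin n, (l : ℕ) + 1 ≤ J' l) ∧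
      (∀ l : Fin n, J' l ≤ 2 * (l : ℕ) + 2) ∧
      (∀ j, 1 ≤ j → (j ∈ Set.range J' ↔ ¬ IsPoleNumber P (j + 1))) ∧
      wDiv (AlgHom.id k K) H Φ s φ J P = ∑ l, ((J' l : ℤ) - ((l : ℕ) + 1 : ℕ)) := by
  classical
  have hg0 : 0 < genus k K := by omega
  have hcard := card_eq_genus hK hC φ hφ hspan
  obtain ⟨t, Ht, y, J', ht, hHt, hy0, hψ, heff, hint, hJ', hJ'pos, hgap⟩ :=
    exists_canonical_setup hK hg0 hC φ hφ hspan P hH
  have hJeq := orders_canonical_eq hK hg hchar hC φ hφ hspan hH J hJ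
  have hle2 : ∀ l : Fin n, J' l ≤ 2 * (l : ℕ) + 2 :=
    orders_le_of_gaps (IsPoleNumber P) (isPoleNumber_zero P) (fun a b => IsPoleNumber.add)
      J' hJ'.1 hgap hJ'pos
  have hge : ∀ l : Fin n, (l : ℕ) + 1 ≤ J' l := fun l => add_le_of_strictMono J' hJ'.1 1 hJ'pos l
  refine ⟨J', hJ'.1, hge, hle2, hgap, ?_⟩
  have hJφ : IsOrders K (hcol (AlgHom.id k K) Ht φ) J :=
    ((Groth.Agent.S12598.result k K hK φ hφ (AlgHom.id k K) s H hH t Ht hHt).1 J).mpr hJ
  have hJψ : IsOrders K (hcol (AlgHom.id k K) Ht (y • φ)) J :=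
    ((Groth.Agent.S12597.result k K hK φ hφ (AlgHom.id k K) t Ht hHt y hy0).1 J).mpr hJφ
  have hP : IsFixedPt (AlgHom.id k K) P := fun z hz => hz
  have h615 := (Groth.Agent.S12615.result k K hK (AlgHom.id k K) P hP (y • φ) hψ heff hint t ht
    Ht hHt J hJψ J' hJ' Φ hΦ).2 (Or.inl rfl)
  have h614 := Groth.Agent.S12614.result k K hK φ hφ (AlgHom.id k K) s H hH t Ht hHt J hJ
    (1 : Matrix (Fin (n + 1)) (Fin (n + 1)) k) (by rw [Matrix.det_one]; exact one_ne_zero) y hy0
    (y • φ) (fun i => by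
      change y * φ i = _
      congr 1
      simp [Matrix.one_apply]) Φ hΦ
  have hN : ∀ l, J' l ≤ 2 * genus k K - 2 := by
    intro l
    have := hle2 l
    have := l.2
    omega
  have hdet : (binomMat k J' J).det ≠ 0 := by
    rw [hJeq]
    apply det_binomMat_succ_ne_zero k J' hJ'pos
    · intro r r' h
      exact hJ'.1.injective (natCast_inj_of_le _ hchar (hN r) (hN r') h)
    · intro r h0
      have h1 := natCast_inj_of_le (k := k) _ hchar (hN r) (Nat.zero_le _) (by simpa using h0)
      have h2 := hJ'pos r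
      omega
  rw [← h614, h615.mpr hdet]
  refine Finset.sum_congr rfl fun l _ => ?_
  rw [hJeq]

end canonical

end Groth.Agent.H86.FF
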