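import Mathlib
import Groth.Agent.H86.WP3

/-!
# Weierstrass points of the canonical system: weights, degree, counting
-/

set_option autoImplicit false
set_option linter.unusedSectionVars false

namespace Groth.Agent.H86.FF

open FunFld Module Groth.Agent.H55

variable {k K : Type*} [Field k] [Field K] [Algebra k K] [IsAlgClosed k]

theorem finrank_fieldRange_id : finrank (AlgHom.id k K).fieldRange K = 1 := by
  have : (AlgHom.id k K).fieldRange = ⊤ := by
    rw [AlgHom.fieldRange_eq_top]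
    exact Function.surjective_id
  rw [this]
  exact IntermediateField.finrank_top

theorem two_mul_sum_succ (n : ℕ) : 2 * ∑ l : Fin n, (((l : ℕ) + 1 : ℕ) : ℤ) = n * (n + 1) := by
  have h1 : ∑ l : Fin n, (((l : ℕ) + 1 : ℕ) : ℤ) = ∑ i ∈ Finset.range n, ((i + 1 : ℕ) : ℤ) :=
    Fin.sum_univ_eq_sum_range (fun i => ((i + 1 : ℕ) : ℤ)) n
  rw [h1]
  clear h1
  induction n with
  | zero => simp
  | succ m ih =>
    rw [Finset.sum_range_succ, mul_add, ih]
    push_cast
    ring

section canonical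

variable (hK : IsFunctionField k K) (hg : 1 < genus k K)
  (hchar : ringChar k = 0 ∨ 2 * genus k K - 2 < ringChar k)
  {C : Divisor k K} (hC : IsCanonical k K C) {n : ℕ} (φ : Fin (n + 1) → K)
  (hφ : LinearIndependent k φ) (hspan : Submodule.span k (Set.range φ) = L C)

include hK hg hC hφ hspan in
/-- the canonical system has no base points -/
theorem mapDiv_canonical : mapDiv k φ = C := by
  classical
  have hg0 : 0 < genus k K := by omega
  have hφ0 : ∀ i, φ i ≠ 0 := fun i => hφ.ne_zero i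
  have hφL : ∀ i, φ i ∈ L C := by
    intro i
    rw [← hspan]
    exact Submodule.subset_span ⟨i, rfl⟩
  ext P
  apply le_antisymm
  · obtain ⟨i, hi⟩ := exists_ord_eq_neg_mapDiv hK φ P
    have h1 := hφL i P
    rw [Place.val_eq_exp_neg_ord P (hφ0 i), WithZero.exp_le_exp] at h1
    omega
  · have hlt := ell_sub_single_lt hK hg0 C (Or.inr hC) (deg_place_eq_one hK P)
    obtain ⟨f, hfL, hfv⟩ := (exists_exact_iff hK C P).mpr hlt
    rw [← hspan] at hfL
    obtain ⟨a, rfl⟩ := (Submodule.mem_span_range_iff_exists_fun k).mp hfL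
    obtain ⟨j₀, -, hj₀⟩ := exists_max_entry φ P ⟨0, hφ0 0⟩
    have h1 : WithZero.exp (C P) ≤ P.1 (φ j₀) := by
      rw [← hfv]
      apply Valuation.map_sum_le
      intro i _
      rw [Algebra.smul_def, map_mul]
      exact (mul_le_of_le_one_left' (P.2.1 (a i))).trans (hj₀ i)
    rw [Place.val_eq_exp_neg_ord P (hφ0 j₀), WithZero.exp_le_exp] at h1
    have h2 := neg_mapDiv_le_ord hK φ P j₀
    omega

variable {s : K} {H : K →ₐ[k] PowerSeries K} (hH : LocRes.IsHasseFamily s H)
  (J : Fin n → ℕ) (hJ : IsOrders K (hcol (AlgHom.id k K) H φ) J)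
  (Φ : Place k K → (K →ₐ[k] LaurentSeries k))
  (hΦ : ∀ P : Place k K, LocRes.IsExpansionAt P.1 (Φ P))

include hK hg hchar hC hφ hspan hH hJ hΦ in
/-- the degree of the canonical Weierstrass divisor: `(g - 1) g (g + 1)` -/
theorem deg_wDiv_canonical :
    (wDiv (AlgHom.id k K) H Φ s φ J).deg = (n : ℤ) * (n + 1) * (n + 2) := by
  have hcard := card_eq_genus hK hC φ hφ hspan
  have h1 := (Groth.Agent.S12603.result k K hK φ hφ (AlgHom.id k K) s H hH J hJ Φ hΦ).2
  rw [h1, finrank_fieldRange_id, mapDiv_canonical hK hg hC φ hφ hspan,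
    (canonical_ell_deg hK hC).2, orders_canonical_eq hK hg hchar hC φ hφ hspan hH J hJ]
  have h2 := two_mul_sum_succ n
  have h3 : (genus k K : ℤ) = n + 1 := by exact_mod_cast hcard.symm
  rw [h3]
  push_cast at h2 ⊢
  nlinarith

include hK hg hchar hC hφ hspan hH hJ hΦ in
theorem two_mul_wDiv_canonical_le (P : Place k K) :
    2 * wDiv (AlgHom.id k K) H Φ s φ J P ≤ (n : ℤ) * (n + 1) := by
  obtain ⟨J', -, -, hle2, -, hW⟩ :=
    wDiv_canonical_apply hK hg hchar hC φ hφ hspan hH J hJ Φ hΦ P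
  rw [hW]
  have h1 : ∑ l : Fin n, ((J' l : ℤ) - ((l : ℕ) + 1 : ℕ)) ≤ ∑ l : Fin n, (((l : ℕ) + 1 : ℕ) : ℤ) := by
    apply Finset.sum_le_sum
    intro l _
    have := hle2 l
    push_cast
    omega
  have h2 := two_mul_sum_succ n
  linarith

include hK hg hchar hC hφ hspan hH hJ hΦ in
/-- a point of maximal weight has `2` as a pole number -/
theorem isPoleNumber_two_of_wDiv_max (P : Place k K)
    (hmax : 2 * wDiv (AlgHom.id k K) H Φ s φ J P = (n : ℤ) * (n + 1)) : IsPoleNumber P 2 := by
  have hcard := card_eq_genus hK hC φ hφ hspan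
  have hn : 0 < n := by omega
  obtain ⟨J', hmono, hge, hle2, hgap, hW⟩ :=
    wDiv_canonical_apply hK hg hchar hC φ hφ hspan hH J hJ Φ hΦ P
  rw [hW] at hmax
  have h2 := two_mul_sum_succ n
  -- all the inequalities `J' l ≤ 2l + 2` are equalities
  have hall : ∀ l : Fin n, J' l = 2 * (l : ℕ) + 2 := by
    by_contra hcon
    push Not at hcon
    obtain ⟨l₀, hl₀⟩ := hcon
    have hlt : ∑ l : Fin n, ((J' l : ℤ) - ((l : ℕ) + 1 : ℕ)) <
        ∑ l : Fin n, (((l : ℕ) + 1 : ℕ) : ℤ) := by
      apply Finset.sum_lt_sum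
      · intro l _
        have := hle2 l
        push_cast
        omega
      · refine ⟨l₀, Finset.mem_univ _, ?_⟩
        have := hle2 l₀
        push_cast
        omega
    linarith
  by_contra hnot
  have h1 : (1 : ℕ) ∈ Set.range J' := (hgap 1 le_rfl).mpr hnot
  obtain ⟨l, hl⟩ := h1
  have := hall l
  omega

include hK hg hchar hC hφ hspan hH hJ hΦ in
/-- the Weierstrass points are the places with a pole number in `[2, g]` -/
theorem wDiv_canonical_ne_zero_iff (P : Place k K) :
    wDiv (AlgHom.id k K) H Φ s φ J P ≠ 0 ↔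
      ∃ ρ, 2 ≤ ρ ∧ ρ ≤ genus k K ∧ IsPoleNumber P ρ := by
  have hcard := card_eq_genus hK hC φ hφ hspan
  obtain ⟨J', hmono, hge, hle2, hgap, hW⟩ :=
    wDiv_canonical_apply hK hg hchar hC φ hφ hspan hH J hJ Φ hΦ P
  rw [hW]
  have hpos : ∀ l, 1 ≤ J' l := fun l => (Nat.le_add_left 1 _).trans (hge l)
  constructor
  · intro hne
    by_contra hcon
    push Not at hcon
    apply hne
    have hall : ∀ j, 1 ≤ j → j ≤ n → j ∈ Set.range J' := by
      intro j hj1 hjn
      rw [hgap j hj1]
      exact hcon (j + 1) (by omega) (by omega)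
    apply Finset.sum_eq_zero
    intro l _
    rw [eq_succ_of_range J' hmono hpos hall l, sub_self]
  · rintro ⟨ρ, hρ2, hρg, hPN⟩
    obtain ⟨j, rfl⟩ : ∃ j, ρ = j + 1 := ⟨ρ - 1, by omega⟩
    have hj : j ∉ Set.range J' := by
      rw [hgap j (by omega)]
      exact fun h => h hPN
    -- some `J' l` exceeds `l + 1`
    have hex : ∃ l : Fin n, J' l ≠ (l : ℕ) + 1 := by
      by_contra hcon
      push Not at hcon
      apply hj
      exact ⟨⟨j - 1, by omega⟩, by rw [hcon]; simp only; omega⟩
    obtain ⟨l₀, hl₀⟩ := hex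
    have hpos' : 0 < ∑ l : Fin n, ((J' l : ℤ) - ((l : ℕ) + 1 : ℕ)) := by
      apply Finset.sum_pos'
      · intro l _
        have := hge l
        push_cast
        omega
      · refine ⟨l₀, Finset.mem_univ _, ?_⟩
        have := hge l₀
        push_cast
        omega
    exact hpos'.ne'

end canonical

end Groth.Agent.H86.FF
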