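import Mathlib
import Groth.Agent.H86.WP4

/-!
# Counting Weierstrass points
-/

set_option autoImplicit false
set_option linter.unusedSectionVars false

namespace Groth.Agent.H86.FF

open FunFld Module Groth.Agent.H55

variable {k K : Type*} [Field k] [Field K] [Algebra k K] [IsAlgClosed k]

theorem deg_eq_sum_support (hK : IsFunctionField k K) (W : Divisor k K) :
    W.deg = ∑ P ∈ W.support, W P := by
  rw [Divisor.deg_eq_sum]
  refine Finset.sum_congr rfl fun P _ => ?_
  rw [deg_place_eq_one hK P, Nat.cast_one, mul_one]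

theorem setOf_ne_zero_eq_support (W : Divisor k K) :
    {P : Place k K | W P ≠ 0} = (W.support : Set (Place k K)) := by
  ext P
  simp

section canonical

variable (hK : IsFunctionField k K) (hg : 1 < genus k K)
  (hchar : ringChar k = 0 ∨ 2 * genus k K - 2 < ringChar k)
  {C : Divisor k K} (hC : IsCanonical k K C) {n : ℕ} (φ : Fin (n + 1) → K)
  (hφ : LinearIndependent k φ) (hspan : Submodule.span k (Set.range φ) = L C)
  {s : K} {H : K →ₐ[k] PowerSeries K} (hH : LocRes.IsHasseFamily s H)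
  (J : Fin n → ℕ) (hJ : IsOrders K (hcol (AlgHom.id k K) H φ) J)
  (Φ : Place k K → (K →ₐ[k] LaurentSeries k))
  (hΦ : ∀ P : Place k K, LocRes.IsExpansionAt P.1 (Φ P))

include hK hg hchar hC hφ hspan hH hJ hΦ in
/-- there are at least `2g + 2` Weierstrass points; if there are exactly `2g + 2`, each has
maximal weight -/
theorem ncard_wp :
    {P : Place k K | wDiv (AlgHom.id k K) H Φ s φ J P ≠ 0}.Finite ∧
    2 * genus k K + 2 ≤ {P : Place k K | wDiv (AlgHom.id k K) H Φ s φ J P ≠ 0}.ncard ∧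
    ({P : Place k K | wDiv (AlgHom.id k K) H Φ s φ J P ≠ 0}.ncard = 2 * genus k K + 2 →
      ∀ P : Place k K, wDiv (AlgHom.id k K) H Φ s φ J P ≠ 0 →
        2 * wDiv (AlgHom.id k K) H Φ s φ J P = (n : ℤ) * (n + 1)) := by
  classical
  set W := wDiv (AlgHom.id k K) H Φ s φ J with hW
  have hcard := card_eq_genus hK hC φ hφ hspan
  have hn : 0 < n := by omega
  rw [setOf_ne_zero_eq_support]
  refine ⟨W.support.finite_toSet, ?_⟩
  rw [Set.ncard_coe_finset]
  have hdeg := deg_wDiv_canonical hK hg hchar hC φ hφ hspan hH J hJ Φ hΦ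
  rw [← hW, deg_eq_sum_support hK] at hdeg
  have hle : ∀ P, 2 * W P ≤ (n : ℤ) * (n + 1) := fun P =>
    two_mul_wDiv_canonical_le hK hg hchar hC φ hφ hspan hH J hJ Φ hΦ P
  have hsum : ∑ P ∈ W.support, ((n : ℤ) * (n + 1) - 2 * W P) =
      (W.support.card : ℤ) * ((n : ℤ) * (n + 1)) - 2 * ((n : ℤ) * (n + 1) * (n + 2)) := by
    rw [Finset.sum_sub_distrib, Finset.sum_const, nsmul_eq_mul, ← Finset.mul_sum, hdeg]
  have hnonneg : 0 ≤ ∑ P ∈ W.support, ((n : ℤ) * (n + 1) - 2 * W P) :=
    Finset.sum_nonneg fun P _ => sub_nonneg.mpr (hle P)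
  have hnpos : (0 : ℤ) < (n : ℤ) * (n + 1) := by positivity
  have hg' : (genus k K : ℤ) = n + 1 := by exact_mod_cast hcard.symm
  constructor
  · rw [hsum] at hnonneg
    have h1 : (2 * ((n : ℤ) + 2)) * ((n : ℤ) * (n + 1)) ≤
        (W.support.card : ℤ) * ((n : ℤ) * (n + 1)) := by nlinarith
    have h2 := le_of_mul_le_mul_right h1 hnpos
    have : ((2 * genus k K + 2 : ℕ) : ℤ) ≤ (W.support.card : ℤ) := by
      push_cast
      rw [hg']
      linarith
    exact_mod_cast this
  · intro heq P hP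
    have hzero : ∑ P ∈ W.support, ((n : ℤ) * (n + 1) - 2 * W P) = 0 := by
      rw [hsum, heq]
      push_cast
      rw [hg']
      ring
    have hP' : P ∈ W.support := Finsupp.mem_support_iff.mpr hP
    have := (Finset.sum_eq_zero_iff_of_nonneg fun P _ => sub_nonneg.mpr (hle P)).mp hzero P hP'
    linarith

end canonical

end Groth.Agent.H86.FF
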