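import Mathlib
import Groth.Agent.H86.WP5

/-!
# Automorphisms acting on places; the bound `2g + 2` for the number of fixed places
-/

set_option autoImplicit false
set_option linter.unusedSectionVars false

namespace Groth.Agent.H86.FF

open FunFld Module Groth.Agent.H55

variable {k K : Type*} [Field k] [Field K] [Algebra k K]

/-- transport of a place by an automorphism: `(comapAut P σ).1 z = P.1 (σ z)` -/
noncomputable def comapAut (P : Place k K) (σ : K ≃ₐ[k] K) : Place k K :=
  ⟨P.1.comap (σ : K →+* K), by
    intro c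
    change P.1 (σ (algebraMap k K c)) ≤ 1
    rw [σ.commutes]
    exact P.2.1 c, by
    intro y
    obtain ⟨x, hx⟩ := P.2.2 y
    refine ⟨σ.symm x, ?_⟩
    change P.1 (σ (σ.symm x)) = y
    rw [σ.apply_symm_apply]
    exact hx⟩

theorem comapAut_apply (P : Place k K) (σ : K ≃ₐ[k] K) (z : K) :
    (comapAut P σ).1 z = P.1 (σ z) := rfl

theorem comapAut_symm (P : Place k K) (σ : K ≃ₐ[k] K) : comapAut (comapAut P σ) σ.symm = P := by
  apply Place.ext'
  intro x
  rw [comapAut_apply, comapAut_apply, σ.apply_symm_apply]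

theorem comapAut_symm' (P : Place k K) (σ : K ≃ₐ[k] K) : comapAut (comapAut P σ.symm) σ = P := by
  apply Place.ext'
  intro x
  rw [comapAut_apply, comapAut_apply, σ.symm_apply_apply]

theorem comapAut_injective (σ : K ≃ₐ[k] K) : Function.Injective fun P : Place k K => comapAut P σ := by
  intro P Q h
  have := congrArg (fun R => comapAut R σ.symm) h
  simp only [comapAut_symm] at this
  exact this

theorem comapAut_ord (P : Place k K) (σ : K ≃ₐ[k] K) (z : K) :
    (comapAut P σ).ord z = P.ord (σ z) := rfl

/-- fixed points of an automorphism, as places -/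
theorem isFixedPt_iff (P : Place k K) (σ : K ≃ₐ[k] K) :
    IsFixedPt (σ : K →ₐ[k] K) P ↔ comapAut P σ = P := by
  constructor
  · intro h
    apply Place.eq_of_le
    intro x hx
    by_contra hcon
    rw [not_le] at hcon
    have hx0 : x ≠ 0 := by
      rintro rfl
      rw [map_zero] at hcon
      exact absurd hcon (not_lt.mpr zero_le)
    have h1 : P.1 x⁻¹ < 1 := by
      rw [map_inv₀]
      exact inv_lt_one_of_one_lt₀ hcon
    have h2 := h x⁻¹ h1
    change P.1 (σ x⁻¹) < 1 at h2
    rw [map_inv₀ σ, map_inv₀] at h2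
    rw [comapAut_apply] at hx
    have hpos : 0 < P.1 (σ x) := by
      rw [zero_lt_iff, Valuation.ne_zero_iff]
      rw [Ne, map_eq_zero_iff σ σ.injective]
      exact hx0
    rw [inv_lt_one₀ hpos] at h2
    exact absurd hx (not_le.mpr h2)
  · intro h z hz
    change P.1 (σ z) < 1
    rw [← comapAut_apply, h]
    exact hz

theorem isPoleNumber_comapAut [IsAlgClosed k] (P : Place k K) (σ : K ≃ₐ[k] K) (ρ : ℕ) :
    IsPoleNumber (comapAut P σ) ρ ↔ IsPoleNumber P ρ := by
  constructor
  · rintro ⟨f, hf, hfQ⟩
    refine ⟨σ f, hf, fun Q hQ => ?_⟩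
    rw [← comapAut_apply]
    apply hfQ
    intro h
    exact hQ (comapAut_injective σ h)
  · rintro ⟨f, hf, hfQ⟩
    refine ⟨σ.symm f, ?_, fun Q hQ => ?_⟩
    · rw [comapAut_apply, σ.apply_symm_apply]
      exact hf
    · rw [← comapAut_apply]
      apply hfQ
      intro h
      apply hQ
      rw [← h, comapAut_symm']

variable [IsAlgClosed k]

/-- an automorphism fixing all places is the identity -/
theorem eq_refl_of_forall_comapAut (hK : IsFunctionField k K) (σ : K ≃ₐ[k] K)
    (h : ∀ P : Place k K, comapAut P σ = P) : σ = AlgEquiv.refl := by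
  have hsc : ∀ f : K, f ≠ 0 → ∃ c : k, σ f = c • f := by
    intro f hf
    have hσf : σ f ≠ 0 := by
      rw [Ne, map_eq_zero_iff σ σ.injective]
      exact hf
    apply eq_smul_of_ord_eq hK (σ f) f hσf hf
    intro P
    rw [← comapAut_ord, h P]
  ext f
  change σ f = f
  by_cases hfc : f ∈ Set.range (algebraMap k K)
  · obtain ⟨c, rfl⟩ := hfc
    exact σ.commutes c
  · have hf0 : f ≠ 0 := by
      rintro rfl
      exact hfc ⟨0, map_zero _⟩
    have hf1 : f + 1 ≠ 0 := by
      intro h1
      apply hfc
      refine ⟨-1, ?_⟩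
      rw [map_neg, map_one]
      exact (eq_neg_of_add_eq_zero_left h1).symm
    obtain ⟨c, hc⟩ := hsc f hf0
    obtain ⟨c', hc'⟩ := hsc (f + 1) hf1
    rw [map_add, map_one, hc, smul_add] at hc'
    -- `(c - c') • f = (c' - 1) • 1`
    have hcc : c = c' := by
      by_contra hne
      apply hfc
      refine ⟨(c' - 1) / (c - c'), ?_⟩
      have h1 : (c - c') • f = (c' - 1) • (1 : K) := by
        rw [sub_smul, sub_smul, one_smul]
        linear_combination hc'
      have hne' : c - c' ≠ 0 := sub_ne_zero.mpr hne
      rw [Algebra.smul_def, Algebra.smul_def, mul_one] at h1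
      rw [map_div₀, ← h1, mul_div_assoc, mul_comm, div_mul_cancel₀]
      rw [Ne, map_eq_zero_iff _ (algebraMap k K).injective]
      exact hne'
    rw [← hcc] at hc'
    have hc1 : c = 1 := by
      have h1 : (c - 1) • (1 : K) = 0 := by
        rw [sub_smul, one_smul]
        linear_combination -hc'
      rw [Algebra.smul_def, mul_one, map_eq_zero_iff _ (algebraMap k K).injective] at h1
      exact sub_eq_zero.mp h1
    rw [hc, hc1, one_smul]

end Groth.Agent.H86.FF
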