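import Mathlib
import Groth.Agent.H86.WP6

/-!
# A nontrivial automorphism fixes at most `2g + 2` places
-/

set_option autoImplicit false
set_option linter.unusedSectionVars false

namespace Groth.Agent.H86.FF

open FunFld Module Groth.Agent.H55

variable {k K : Type*} [Field k] [Field K] [Algebra k K] [IsAlgClosed k]

theorem pd_nonneg (P : Place k K) : 0 ≤ pd P := by
  classical
  intro Q
  rw [Finsupp.zero_apply]
  by_cases hQ : Q = P
  · subst hQ
    rw [pd_apply_self]
    exact zero_le_one
  · rw [pd_apply_ne hQ]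

open Classical in
theorem smul_pd_apply (P Q : Place k K) (m : ℤ) :
    (m • pd P) Q = if Q = P then m else 0 := by
  rw [Finsupp.smul_apply]
  split_ifs with h
  · subst h
    rw [pd_apply_self, smul_eq_mul, mul_one]
  · rw [pd_apply_ne h, smul_zero]

/-- a nontrivial automorphism fixes at most `2g + 2` places -/
theorem ncard_fixed_le (hK : IsFunctionField k K) (σ : K ≃ₐ[k] K) (hσ : σ ≠ AlgEquiv.refl)
    (S : Set (Place k K)) (hS : ∀ P ∈ S, comapAut P σ = P) :
    S.Finite ∧ S.ncard ≤ 2 * genus k K + 2 := by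
  classical
  -- a place that is moved
  obtain ⟨P, hP⟩ : ∃ P : Place k K, comapAut P σ ≠ P := by
    by_contra hcon
    push Not at hcon
    exact hσ (eq_refl_of_forall_comapAut hK σ hcon)
  set g := genus k K with hg
  set m : ℤ := ((g + 1 : ℕ) : ℤ) with hm
  have hm0 : 0 ≤ m := Int.natCast_nonneg _
  set D : Divisor k K := m • pd P with hD
  -- a nonconstant function in `L D`
  obtain ⟨C, hC⟩ := exists_canonical hK
  have hell : 2 ≤ ell D := by
    have h1 := riemann_roch hK hC D
    rw [hD, deg_smul_single_one hK, hm] at h1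
    have : (2 : ℤ) ≤ ell (m • pd P) := by
      have h2 : (0 : ℤ) ≤ ell (C - m • pd P) := Int.natCast_nonneg _
      rw [hm]
      push_cast at h1 ⊢
      linarith
    exact_mod_cast this
  have hnot : ¬ L D ≤ L (0 : Divisor k K) := by
    intro hle
    have hfin : Module.Finite k (L (0 : Divisor k K)) := L_finite hK _
    have := Submodule.finrank_mono hle
    change ell D ≤ ell (0 : Divisor k K) at this
    rw [ell_zero hK] at this
    omega
  obtain ⟨f, hfD, hf0⟩ := SetLike.not_le_iff_exists.mp hnot
  rw [hD, mem_L_smul_single] at hfD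
  -- the other pole
  set P' : Place k K := comapAut P σ.symm with hP'
  have hP'σ : comapAut P' σ = P := comapAut_symm' P σ
  have hPP' : P' ≠ P := by
    intro h
    rw [h] at hP'σ
    exact hP hP'σ
  set D' : Divisor k K := m • pd P' with hD'
  have hσfD' : σ f ∈ L D' := by
    rw [hD', mem_L_smul_single]
    constructor
    · rw [← comapAut_apply, hP'σ]
      exact hfD.1
    · intro Q hQ
      rw [← comapAut_apply]
      apply hfD.2
      intro h
      apply hQ
      rw [← comapAut_symm Q σ, h]
  have hDD' : D ≤ D + D' := by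
    intro Q
    rw [Finsupp.add_apply, hD', smul_pd_apply P']
    split_ifs <;> omega
  have hD'D : D' ≤ D + D' := by
    intro Q
    rw [Finsupp.add_apply, hD, smul_pd_apply P]
    split_ifs <;> omega
  have hfL : f ∈ L D := by
    rw [hD, mem_L_smul_single]
    exact hfD
  set h := σ f - f with hh
  have hhL : h ∈ L (D + D') :=
    Submodule.sub_mem _ (L_mono hD'D hσfD') (L_mono hDD' hfL)
  have hh0 : h ≠ 0 := by
    intro h0
    have hσf : σ f = f := sub_eq_zero.mp h0
    apply hf0
    intro Q
    rw [Finsupp.zero_apply, WithZero.exp_zero]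
    by_cases hQ : Q = P
    · rw [hσf, hD', mem_L_smul_single] at hσfD'
      subst hQ
      exact hσfD'.2 _ (Ne.symm hPP')
    · exact hfD.2 Q hQ
  set E : Divisor k K := D + D' + div k h with hE
  have hE0 : 0 ≤ E := (mem_L_iff_div hK hh0).mp hhL
  have hEdeg : E.deg = 2 * (g : ℤ) + 2 := by
    rw [hE, Divisor.deg_add, Divisor.deg_add, deg_div hK, hD, hD', deg_smul_single_one hK,
      deg_smul_single_one hK, hm]
    push_cast
    ring
  have hSE : ∀ Q ∈ S, ((1 : ℕ) : ℤ) ≤ E Q := by
    intro Q hQ
    have hQσ := hS Q hQ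
    have hQP : Q ≠ P := by
      rintro rfl
      exact hP hQσ
    have hQP' : Q ≠ P' := by
      rintro rfl
      rw [hP'σ] at hQσ
      exact hPP' hQσ.symm
    rw [hE, Finsupp.add_apply, Finsupp.add_apply, hD, hD', smul_pd_apply, smul_pd_apply,
      if_neg hQP, if_neg hQP', Place.div_apply hK, zero_add, zero_add]
    have hf1 : Q.1 f ≤ 1 := hfD.2 Q hQP
    obtain ⟨c, hc⟩ := exists_tau hK Q hf1
    have hc' : Q.1 (σ f - algebraMap k K c) < 1 := by
      have e : σ f - algebraMap k K c = σ (f - algebraMap k K c) := by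
        rw [map_sub, σ.commutes]
      rw [e, ← comapAut_apply, hQσ]
      exact hc
    have hlt : Q.1 h < 1 := by
      have e : h = (σ f - algebraMap k K c) - (f - algebraMap k K c) := by
        rw [hh]
        ring
      rw [e]
      exact Valuation.map_sub_lt _ hc' hc
    have := Place.lt_exp_iff_le_exp_sub_one (n := 0) |>.mp (by rwa [WithZero.exp_zero])
    rw [show (0 : ℤ) - 1 = -1 by norm_num, ← Place.le_ord_iff Q hh0] at this
    exact_mod_cast this
  obtain ⟨hfin, hle⟩ := mul_ncard_le_deg hK E hE0 1 one_pos S hSE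
  refine ⟨hfin, ?_⟩
  rw [hEdeg] at hle
  have : (S.ncard : ℤ) ≤ ((2 * g + 2 : ℕ) : ℤ) := by
    push_cast at hle ⊢
    linarith
  exact_mod_cast this

end Groth.Agent.H86.FF
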