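import Mathlib
import Groth.Agent.H86.WP7

/-!
# Functions of degree two: double zeros at the places with pole number `2`
-/

set_option autoImplicit false
set_option linter.unusedSectionVars false

namespace Groth.Agent.H86.FF

open FunFld Module Groth.Agent.H55

variable {k K : Type*} [Field k] [Field K] [Algebra k K] [IsAlgClosed k]

/-- in genus at least two, `2` and `3` are not both pole numbers at a place -/
theorem not_isPoleNumber_two_three (hK : IsFunctionField k K) (hg : 1 < genus k K)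
    (Q : Place k K) : ¬ (IsPoleNumber Q 2 ∧ IsPoleNumber Q 3) := by
  rintro ⟨h2, h3⟩
  have hall : ∀ ρ : ℕ, 2 ≤ ρ → IsPoleNumber Q ρ := by
    intro ρ
    induction ρ using Nat.strong_induction_on with
    | _ ρ ih =>
      intro hρ
      by_cases h2' : ρ = 2
      · rw [h2']; exact h2
      by_cases h3' : ρ = 3
      · rw [h3']; exact h3
      have := (ih (ρ - 2) (by omega) (by omega)).add h2
      rwa [Nat.sub_add_cancel hρ] at this
  obtain ⟨C, hC⟩ := exists_canonical hK
  have hellC := (canonical_ell_deg hK hC).1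
  have h1 := ell_le_ell_sub_pd_add_one hK C Q
  have hpos : 0 < ell (C - pd Q) := by omega
  have hne : L (C - pd Q) ≠ ⊥ := by
    intro hbot
    unfold ell at hpos
    rw [hbot, finrank_bot] at hpos
    exact lt_irrefl _ hpos
  obtain ⟨f, hfL, hf0⟩ := Submodule.exists_mem_ne_zero_of_ne_bot hne
  have hfQ := hfL Q
  rw [Finsupp.sub_apply, pd_apply_self, Place.val_eq_exp_neg_ord Q hf0, WithZero.exp_le_exp] at hfQ
  obtain ⟨j, hj⟩ : ∃ j : ℕ, (j : ℤ) = C Q + Q.ord f := ⟨(C Q + Q.ord f).toNat, by omega⟩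
  have hj1 : 1 ≤ j := by omega
  have hfC : f ∈ L C := by
    refine L_mono ?_ hfL
    intro R
    rw [Finsupp.sub_apply]
    have := pd_nonneg Q R
    rw [Finsupp.zero_apply] at this
    omega
  have hex : ∃ f ∈ L C, Q.1 f = WithZero.exp (C Q - j) := by
    refine ⟨f, hfC, ?_⟩
    rw [Place.val_eq_exp_neg_ord Q hf0, hj]
    congr 1
    ring
  exact (exists_exact_canonical_iff hK hC Q j).mp hex (hall (j + 1) (by omega))

/-- a nonnegative divisor of degree one is a place -/
theorem exists_eq_pd_of_deg_one (hK : IsFunctionField k K) (F : Divisor k K) (hF : 0 ≤ F)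
    (hdeg : F.deg = 1) : ∃ Q : Place k K, F = pd Q := by
  classical
  have hne : F ≠ 0 := by
    rintro rfl
    rw [Divisor.deg_zero] at hdeg
    exact zero_ne_one hdeg
  obtain ⟨Q, hQ⟩ : ∃ Q, F Q ≠ 0 := by
    by_contra hcon
    push Not at hcon
    exact hne (Finsupp.ext hcon)
  have hQ1 : 1 ≤ F Q := by
    have := hF Q
    rw [Finsupp.zero_apply] at this
    omega
  refine ⟨Q, ?_⟩
  symm
  apply Divisor.eq_of_le_of_deg_eq hK
  · intro R
    by_cases hR : R = Q
    · subst hR
      rw [pd_apply_self]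
      exact hQ1
    · rw [pd_apply_ne hR]
      exact hF R
  · rw [deg_pd hK, hdeg]

section degtwo

variable (hK : IsFunctionField k K) (P₁ : Place k K) (x : K)
  (hx : P₁.1 x = WithZero.exp (2 : ℤ)) (hxR : ∀ R : Place k K, R ≠ P₁ → R.1 x ≤ 1)

include hx in
theorem degtwo_ne_zero (c : k) : x - algebraMap k K c ≠ 0 := by
  intro h0
  have : P₁.1 x ≤ 1 := by
    rw [sub_eq_zero.mp h0]
    exact P₁.2.1 c
  rw [hx, ← WithZero.exp_zero, WithZero.exp_le_exp] at this
  omega

include hx in
theorem degtwo_val_sub (c : k) : P₁.1 (x - algebraMap k K c) = WithZero.exp (2 : ℤ) := by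
  have h1 : P₁.1 (algebraMap k K c) < P₁.1 x := by
    rw [hx]
    refine (P₁.2.1 c).trans_lt ?_
    rw [← WithZero.exp_zero, WithZero.exp_lt_exp]
    norm_num
  rw [Valuation.map_sub_eq_of_lt_left _ h1, hx]

include hxR in
theorem degtwo_val_sub_le (c : k) (R : Place k K) (hR : R ≠ P₁) :
    R.1 (x - algebraMap k K c) ≤ 1 :=
  R.1.map_sub_le (hxR R hR) (R.2.1 c)

/-- the divisor of zeros of `x - c` -/
noncomputable def zdiv (c : k) : Divisor k K := (2 : ℤ) • pd P₁ + div k (x - algebraMap k K c)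

include hK hx hxR in
theorem zdiv_nonneg (c : k) : 0 ≤ zdiv P₁ x c := by
  apply (mem_L_iff_div hK (degtwo_ne_zero P₁ x hx c)).mp
  rw [mem_L_smul_single]
  exact ⟨(degtwo_val_sub P₁ x hx c).le, fun R hR => degtwo_val_sub_le P₁ x hxR c R hR⟩

include hK in
theorem zdiv_deg (c : k) : (zdiv P₁ x c).deg = 2 := by
  unfold zdiv
  rw [Divisor.deg_add, deg_div hK, deg_smul_single_one hK, add_zero]

include hK hx in
theorem zdiv_apply (c : k) (R : Place k K) (hR : R ≠ P₁) :
    zdiv P₁ x c R = R.ord (x - algebraMap k K c) := by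
  unfold zdiv
  rw [Finsupp.add_apply, Finsupp.smul_apply, pd_apply_ne hR, smul_zero, zero_add,
    Place.div_apply hK]

include hK hx in
theorem zdiv_apply_self (c : k) : zdiv P₁ x c P₁ = 0 := by
  unfold zdiv
  rw [Finsupp.add_apply, Finsupp.smul_apply, pd_apply_self, Place.div_apply hK,
    (Place.ord_eq_iff P₁ (degtwo_ne_zero P₁ x hx c) (-2)).mpr (by
      rw [degtwo_val_sub P₁ x hx c]; norm_num)]
  norm_num

include hK hx hxR in
/-- if `x - c` has a double zero at `Q`, it has no other zero -/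
theorem eq_of_double_zero (c : k) (Q : Place k K)
    (hQ : Q.1 (x - algebraMap k K c) ≤ WithZero.exp (-2 : ℤ)) (R : Place k K)
    (hR : R.1 (x - algebraMap k K c) < 1) : R = Q := by
  classical
  have hu0 := degtwo_ne_zero P₁ x hx c
  have hQP : Q ≠ P₁ := by
    rintro rfl
    rw [degtwo_val_sub Q x hx c, WithZero.exp_le_exp] at hQ
    omega
  have hRP : R ≠ P₁ := by
    rintro rfl
    rw [degtwo_val_sub R x hx c, ← WithZero.exp_zero, WithZero.exp_lt_exp] at hR
    omega
  have hE0 := zdiv_nonneg hK P₁ x hx hxR c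
  have hEQ : 2 ≤ zdiv P₁ x c Q := by
    rw [zdiv_apply hK P₁ x hx c Q hQP, Place.le_ord_iff Q hu0]
    exact hQ
  have heq : (2 : ℤ) • pd Q = zdiv P₁ x c := by
    apply Divisor.eq_of_le_of_deg_eq hK
    · intro S
      rw [smul_pd_apply]
      split_ifs with hS
      · subst hS; exact hEQ
      · exact hE0 S
    · rw [deg_smul_single_one hK, zdiv_deg hK]
  by_contra hne
  have h1 : zdiv P₁ x c R = 0 := by
    rw [← heq, smul_pd_apply, if_neg hne]
  rw [zdiv_apply hK P₁ x hx c R hRP] at h1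
  have h2 : R.1 (x - algebraMap k K c) = 1 := by
    rw [Place.val_eq_exp_neg_ord R hu0, h1, neg_zero, WithZero.exp_zero]
  rw [h2] at hR
  exact lt_irrefl _ hR

include hK hx hxR in
/-- at a place with pole number `2`, different from the pole of `x`, the function `x - x(Q)` has a
double zero (genus at least two) -/
theorem double_zero_of_isPoleNumber_two (hg : 1 < genus k K) (Q : Place k K) (hQP : Q ≠ P₁)
    (hQ2 : IsPoleNumber Q 2) (c : k) (hc : Q.1 (x - algebraMap k K c) < 1) :
    Q.1 (x - algebraMap k K c) ≤ WithZero.exp (-2 : ℤ) := by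
  classical
  by_contra hcon
  rw [not_le] at hcon
  set u := x - algebraMap k K c with hu
  have hu0 : u ≠ 0 := degtwo_ne_zero P₁ x hx c
  have hE0 := zdiv_nonneg hK P₁ x hx hxR c
  -- the order of `u` at `Q` is exactly one
  have hordQ : Q.ord u = 1 := by
    have h1 : 1 ≤ Q.ord u := by
      have := Place.lt_exp_iff_le_exp_sub_one (n := 0) |>.mp (by rwa [WithZero.exp_zero])
      rw [show (0 : ℤ) - 1 = -1 by norm_num, ← Place.le_ord_iff Q hu0] at this
      exact this
    have h2 : ¬ 2 ≤ Q.ord u := by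
      rw [Place.le_ord_iff Q hu0]
      exact not_le.mpr hcon
    omega
  have hEQ : zdiv P₁ x c Q = 1 := by rw [zdiv_apply hK P₁ x hx c Q hQP, hordQ]
  -- the other zero
  have hF0 : 0 ≤ zdiv P₁ x c - pd Q := by
    intro S
    rw [Finsupp.zero_apply, Finsupp.sub_apply]
    by_cases hS : S = Q
    · subst hS
      rw [pd_apply_self, hEQ]
      norm_num
    · rw [pd_apply_ne hS, sub_zero]
      exact hE0 S
  obtain ⟨Q', hQ'⟩ := exists_eq_pd_of_deg_one hK _ hF0 (by
    rw [Divisor.deg_sub, zdiv_deg hK, deg_pd hK]; norm_num)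
  have hE : zdiv P₁ x c = pd Q + pd Q' := by
    rw [← hQ']
    abel
  have hQ'Q : Q' ≠ Q := by
    rintro rfl
    have := DFunLike.congr_fun hE Q'
    rw [Finsupp.add_apply, pd_apply_self, hEQ] at this
    omega
  have hQ'P : Q' ≠ P₁ := by
    rintro rfl
    have := DFunLike.congr_fun hE Q'
    rw [Finsupp.add_apply, pd_apply_self, zdiv_apply_self hK Q' x hx c, pd_apply_ne hQ'Q] at this
    omega
  have hordQ' : Q'.ord u = 1 := by
    rw [hu]
    have := DFunLike.congr_fun hE Q'
    rw [Finsupp.add_apply, pd_apply_self, zdiv_apply hK P₁ x hx c Q' hQ'P, pd_apply_ne hQ'Q] at this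
    omega
  have hordR : ∀ R : Place k K, R ≠ Q → R ≠ Q' → 0 ≤ R.ord u⁻¹ := by
    intro R hRQ hRQ'
    rw [Place.ord_inv]
    by_cases hRP : R = P₁
    · subst hRP
      rw [(Place.ord_eq_iff R hu0 (-2)).mpr (by rw [degtwo_val_sub R x hx c]; norm_num)]
      norm_num
    · have := DFunLike.congr_fun hE R
      rw [Finsupp.add_apply, zdiv_apply hK P₁ x hx c R hRP, pd_apply_ne hRQ, pd_apply_ne hRQ'] at this
      rw [hu]
      omega
  -- the function with a pole of order three at `Q`
  obtain ⟨z, hz, hzR⟩ := hQ2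
  obtain ⟨c', hc'⟩ := exists_tau hK Q' (hzR Q' hQ'Q)
  set z' := z - algebraMap k K c' with hz'
  have hz'Q : Q.1 z' = WithZero.exp (2 : ℤ) := by
    have h1 : Q.1 (algebraMap k K c') < Q.1 z := by
      rw [hz]
      refine (Q.2.1 c').trans_lt ?_
      rw [← WithZero.exp_zero, WithZero.exp_lt_exp]
      norm_num
    rw [hz', Valuation.map_sub_eq_of_lt_left _ h1, hz]
    rfl
  have hz'R : ∀ R : Place k K, R ≠ Q → R.1 z' ≤ 1 := fun R hR =>
    R.1.map_sub_le (hzR R hR) (R.2.1 c')
  have huinv0 : u⁻¹ ≠ 0 := inv_ne_zero hu0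
  have h3 : IsPoleNumber Q 3 := by
    refine ⟨z' * u⁻¹, ?_, ?_⟩
    · rw [map_mul, hz'Q, Place.val_eq_exp_neg_ord Q huinv0, Place.ord_inv, hordQ,
        ← WithZero.exp_add]
      rfl
    · intro R hRQ
      rw [map_mul]
      by_cases hRQ' : R = Q'
      · subst hRQ'
        rw [Place.val_eq_exp_neg_ord R huinv0, Place.ord_inv, hordQ']
        have h4 : R.1 z' ≤ WithZero.exp (-1 : ℤ) := by
          have := Place.lt_exp_iff_le_exp_sub_one (n := 0) |>.mp (by rwa [WithZero.exp_zero])
          rwa [show (0 : ℤ) - 1 = -1 by norm_num] at this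
        calc R.1 z' * WithZero.exp (- -1 : ℤ) ≤ WithZero.exp (-1 : ℤ) * WithZero.exp (- -1 : ℤ) := by
              gcongr
          _ = 1 := by
              rw [← WithZero.exp_add]
              norm_num
      · have h5 : R.1 u⁻¹ ≤ 1 := by
          rw [Place.val_eq_exp_neg_ord R huinv0, ← WithZero.exp_zero, WithZero.exp_le_exp]
          have := hordR R hRQ hRQ'
          omega
        exact (mul_le_mul' (hz'R R hRQ) h5).trans_eq (one_mul _)
  exact not_isPoleNumber_two_three hK hg Q ⟨⟨z, hz, hzR⟩, h3⟩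

end degtwo

end Groth.Agent.H86.FF
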