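import Mathlib
import Groth.Agent.H86.WP8
import Groth.Agent.H55.FFElliptic

/-!
# Functions of degree two and the automorphisms fixing the places with pole number `2`
-/

set_option autoImplicit false
set_option linter.unusedSectionVars false

namespace Groth.Agent.H86.FF

open FunFld Module Groth.Agent.H55 IntermediateField

variable {k K : Type*} [Field k] [Field K] [Algebra k K] [IsAlgClosed k]

/-- comparison of leading coefficients at a place -/
theorem exists_sub_smul_lt (hK : IsFunctionField k K) (P : Place k K) (f g : K) (hg0 : g ≠ 0)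
    (h : P.1 f = P.1 g) : ∃ b : k, P.1 (f - algebraMap k K b * g) < P.1 g := by
  have hvg : P.1 g ≠ 0 := (Valuation.ne_zero_iff _).mpr hg0
  have h1 : P.1 (f * g⁻¹) ≤ 1 := by
    rw [map_mul, map_inv₀, h, mul_inv_cancel₀ hvg]
  obtain ⟨b, hb⟩ := exists_tau hK P h1
  refine ⟨b, ?_⟩
  have e : f - algebraMap k K b * g = (f * g⁻¹ - algebraMap k K b) * g := by
    field_simp
  rw [e, map_mul]
  calc P.1 (f * g⁻¹ - algebraMap k K b) * P.1 g < 1 * P.1 g := by
        apply mul_lt_mul_of_pos_right hb
        exact zero_lt_iff.mpr hvg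
    _ = P.1 g := one_mul _

/-- in positive genus, the functions with at most a simple pole at one place are constant -/
theorem mem_range_of_mem_L_pd (hK : IsFunctionField k K) (hg : 0 < genus k K) (P : Place k K)
    (y : K) (hy : y ∈ L (pd P)) : ∃ a : k, y = algebraMap k K a := by
  have h1 : finrank k (L (pd P)) = 1 := ell_single_one hK hg (deg_place_eq_one hK P)
  have hone : (1 : K) ∈ L (pd P) := by
    have := (mem_L_smul_single P 1 (1 : K)).mpr ⟨by
      rw [map_one, ← WithZero.exp_zero, WithZero.exp_le_exp]; norm_num, fun Q _ => by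
      rw [map_one]⟩
    rwa [one_smul] at this
  have hne : (⟨1, hone⟩ : L (pd P)) ≠ 0 := by
    intro h0
    have := congrArg Subtype.val h0
    exact one_ne_zero this
  obtain ⟨a, ha⟩ := (finrank_eq_one_iff_of_nonzero' (⟨1, hone⟩ : L (pd P)) hne).mp h1 ⟨y, hy⟩
  refine ⟨a, ?_⟩
  have := congrArg Subtype.val ha
  rw [Algebra.algebraMap_eq_smul_one]
  exact this.symm

section degtwo

variable (hK : IsFunctionField k K) (P₁ : Place k K) (x : K)
  (hx : P₁.1 x = WithZero.exp (2 : ℤ)) (hxR : ∀ R : Place k K, R ≠ P₁ → R.1 x ≤ 1)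

include hK hx hxR in
theorem degtwo_finrank : finrank k⟮x⟯ K = 2 := by
  have hx0 : x ≠ 0 := by
    rintro rfl
    rw [map_zero] at hx
    exact WithZero.exp_ne_zero hx.symm
  have hpole : PoleAt P₁ x ((2 : ℕ) : ℤ) := by
    refine ⟨hx0, ?_, fun Q hQ => ?_⟩
    · rw [Place.ord_eq_iff P₁ hx0, hx]
      norm_num
    · rw [Place.le_ord_iff Q hx0, neg_zero, WithZero.exp_zero]
      exact hxR Q hQ
  exact hpole.finrank hK (deg_place_eq_one hK P₁) (by norm_num)

include hK hx hxR in
/-- an automorphism fixing `x` fixes the places with pole number two -/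
theorem degtwo_fixed_of_apply_eq (hg : 1 < genus k K) (σ : K ≃ₐ[k] K) (hσ : σ x = x)
    (Q : Place k K) (hQ : IsPoleNumber Q 2) : comapAut Q σ = Q := by
  by_cases hQP : Q = P₁
  · subst hQP
    by_contra hne
    have h1 := hxR _ hne
    rw [comapAut_apply, hσ, hx, ← WithZero.exp_zero, WithZero.exp_le_exp] at h1
    omega
  · obtain ⟨c, hc⟩ := exists_tau hK Q (hxR Q hQP)
    have hdz := double_zero_of_isPoleNumber_two hK P₁ x hx hxR hg Q hQP hQ c hc
    apply eq_of_double_zero hK P₁ x hx hxR c Q hdz
    rw [comapAut_apply, map_sub, hσ, σ.commutes]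
    exact hc

include hK hx hxR in
/-- an automorphism fixing three places with pole number two, among them the pole of `x`,
fixes `x` -/
theorem degtwo_apply_eq_of_fixed (hg : 1 < genus k K) (σ : K ≃ₐ[k] K) (Q Q' : Place k K)
    (hQP : Q ≠ P₁) (hQ'P : Q' ≠ P₁) (hQQ' : Q ≠ Q') (hQ2 : IsPoleNumber Q 2)
    (h1 : comapAut P₁ σ = P₁) (h2 : comapAut Q σ = Q) (h3 : comapAut Q' σ = Q') : σ x = x := by
  have hx0 : x ≠ 0 := by
    rintro rfl
    rw [map_zero] at hx
    exact WithZero.exp_ne_zero hx.symm
  -- the pole of `σ x`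
  have hσx : P₁.1 (σ x) = P₁.1 x := by
    rw [← comapAut_apply, h1]
  have hσxR : ∀ R : Place k K, R ≠ P₁ → R.1 (σ x) ≤ 1 := by
    intro R hR
    rw [← comapAut_apply]
    apply hxR
    intro h
    apply hR
    apply comapAut_injective σ
    change comapAut R σ = comapAut P₁ σ
    rw [h, h1]
  -- `σ x = a + b x`
  obtain ⟨b, hb⟩ := exists_sub_smul_lt hK P₁ (σ x) x hx0 hσx
  have hy : σ x - algebraMap k K b * x ∈ L (pd P₁) := by
    have := (mem_L_smul_single P₁ 1 (σ x - algebraMap k K b * x)).mpr ⟨?_, fun R hR => ?_⟩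
    · rwa [one_smul] at this
    · rw [hx] at hb
      have := Place.lt_exp_iff_le_exp_sub_one.mp hb
      rwa [show (2 : ℤ) - 1 = 1 by norm_num] at this
    · apply R.1.map_sub_le (hσxR R hR)
      rw [map_mul]
      exact (mul_le_mul' (R.2.1 b) (hxR R hR)).trans_eq (one_mul _)
  obtain ⟨a, ha⟩ := mem_range_of_mem_L_pd hK (by omega) P₁ _ hy
  have hσx' : σ x = algebraMap k K a + algebraMap k K b * x := by
    rw [← ha]
    ring
  -- the values of `x` at `Q` and `Q'`
  have key : ∀ R : Place k K, R ≠ P₁ → comapAut R σ = R → ∀ c : k,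
      R.1 (x - algebraMap k K c) < 1 → a + b * c - c = 0 := by
    intro R hRP hR c hc
    have h4 : R.1 (σ (x - algebraMap k K c)) < 1 := by
      rw [← comapAut_apply, hR]
      exact hc
    rw [map_sub, σ.commutes, hσx'] at h4
    have e : algebraMap k K a + algebraMap k K b * x - algebraMap k K c =
        algebraMap k K b * (x - algebraMap k K c) + algebraMap k K (a + b * c - c) := by
      rw [map_sub, map_add, map_mul]
      ring
    rw [e] at h4
    have h5 : R.1 (algebraMap k K b * (x - algebraMap k K c)) < 1 := by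
      rw [map_mul]
      calc R.1 (algebraMap k K b) * R.1 (x - algebraMap k K c)
          ≤ 1 * R.1 (x - algebraMap k K c) := mul_le_mul' (R.2.1 b) le_rfl
        _ = R.1 (x - algebraMap k K c) := one_mul _
        _ < 1 := hc
    by_contra hne
    have h6 := Place.val_algebraMap_eq_one R hne
    have h7 : R.1 (algebraMap k K (a + b * c - c)) < 1 := by
      have e2 : algebraMap k K (a + b * c - c) =
          (algebraMap k K b * (x - algebraMap k K c) + algebraMap k K (a + b * c - c)) -
            algebraMap k K b * (x - algebraMap k K c) := by ring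
      rw [e2]
      exact Valuation.map_sub_lt _ h4 h5
    rw [h6] at h7
    exact lt_irrefl _ h7
  obtain ⟨c, hc⟩ := exists_tau hK Q (hxR Q hQP)
  obtain ⟨c', hc'⟩ := exists_tau hK Q' (hxR Q' hQ'P)
  have hcc' : c ≠ c' := by
    rintro rfl
    have hdz := double_zero_of_isPoleNumber_two hK P₁ x hx hxR hg Q hQP hQ2 c hc
    exact hQQ' (eq_of_double_zero hK P₁ x hx hxR c Q hdz Q' hc').symm
  have e1 := key Q hQP h2 c hc
  have e2 := key Q' hQ'P h3 c' hc'
  have hb1 : b = 1 := by
    have : (b - 1) * (c - c') = 0 := by linear_combination e1 - e2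
    rcases mul_eq_zero.mp this with h | h
    · exact sub_eq_zero.mp h
    · exact absurd (sub_eq_zero.mp h) hcc'
  have ha0 : a = 0 := by
    rw [hb1] at e1
    linear_combination e1
  rw [hσx', ha0, hb1, map_zero, map_one, zero_add, one_mul]

end degtwo

end Groth.Agent.H86.FF
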