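import Mathlib
import Groth.Agent.H86.WP9

/-!
# The dichotomy for the Weierstrass points of the canonical map
-/

set_option autoImplicit false
set_option linter.unusedSectionVars false

namespace Groth.Agent.H86.FF

open FunFld Module Groth.Agent.H55 IntermediateField

variable {k K : Type*} [Field k] [Field K] [Algebra k K] [IsAlgClosed k]

section canonical

variable (hK : IsFunctionField k K) (hg : 1 < genus k K)
  (hchar : ringChar k = 0 ∨ 2 * genus k K - 2 < ringChar k)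
  {C : Divisor k K} (hC : IsCanonical k K C) {n : ℕ} (φ : Fin (n + 1) → K)
  (hφ : LinearIndependent k φ) (hspan : Submodule.span k (Set.range φ) = L C)
  {s : K} {H : K →ₐ[k] PowerSeries K} (hH : LocRes.IsHasseFamily s H)
  (J : Fin n → ℕ) (hJ : IsOrders K (hcol (AlgHom.id k K) H φ) J)
  (Φ : Place k K → (K →ₐ[k] LaurentSeries k))
  (hΦ : ∀ P : Place k K, LocRes.IsExpansionAt P.1 (Φ P))

include hK hg hchar hC hφ hspan hH hJ hΦ in
theorem wp_dichotomy :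
    (2 * genus k K + 2 < Set.ncard {P : Place k K | wDiv (AlgHom.id k K) H Φ s φ J P ≠ 0} ∧
      ∀ σ : K ≃ₐ[k] K, (∀ P : Place k K, wDiv (AlgHom.id k K) H Φ s φ J P ≠ 0 →
        IsFixedPt (σ : K →ₐ[k] K) P) → σ = AlgEquiv.refl) ∨
    (Set.ncard {P : Place k K | wDiv (AlgHom.id k K) H Φ s φ J P ≠ 0} = 2 * genus k K + 2 ∧
      ∃ x : K, finrank k⟮x⟯ K = 2 ∧
        ∀ σ : K ≃ₐ[k] K, (∀ P : Place k K, wDiv (AlgHom.id k K) H Φ s φ J P ≠ 0 →
          IsFixedPt (σ : K →ₐ[k] K) P) ↔ σ x = x) := by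
  obtain ⟨hfin, hge, hmax⟩ := ncard_wp hK hg hchar hC φ hφ hspan hH J hJ Φ hΦ
  by_cases heq : Set.ncard {P : Place k K | wDiv (AlgHom.id k K) H Φ s φ J P ≠ 0} =
      2 * genus k K + 2
  · right
    refine ⟨heq, ?_⟩
    have hPN : ∀ P : Place k K, wDiv (AlgHom.id k K) H Φ s φ J P ≠ 0 → IsPoleNumber P 2 :=
      fun P hP => isPoleNumber_two_of_wDiv_max hK hg hchar hC φ hφ hspan hH J hJ Φ hΦ P
        (hmax heq P hP)
    have h3 : 2 < Set.ncard {P : Place k K | wDiv (AlgHom.id k K) H Φ s φ J P ≠ 0} := by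
      omega
    obtain ⟨P₁, Q, Q', hP₁, hQ, hQ', hPQ, hPQ', hQQ'⟩ := (Set.two_lt_ncard_iff hfin).mp h3
    obtain ⟨x, hx, hxR⟩ := hPN P₁ hP₁
    refine ⟨x, degtwo_finrank hK P₁ x hx hxR, fun σ => ⟨fun hfix => ?_, fun hσ P hP => ?_⟩⟩
    · exact degtwo_apply_eq_of_fixed hK P₁ x hx hxR hg σ Q Q' (Ne.symm hPQ) (Ne.symm hPQ') hQQ'
        (hPN Q hQ) ((isFixedPt_iff P₁ σ).mp (hfix P₁ hP₁)) ((isFixedPt_iff Q σ).mp (hfix Q hQ))
        ((isFixedPt_iff Q' σ).mp (hfix Q' hQ'))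
    · exact (isFixedPt_iff P σ).mpr
        (degtwo_fixed_of_apply_eq hK P₁ x hx hxR hg σ hσ P (hPN P hP))
  · left
    refine ⟨by omega, fun σ hfix => ?_⟩
    by_contra hσ
    have := (ncard_fixed_le hK σ hσ {P : Place k K | wDiv (AlgHom.id k K) H Φ s φ J P ≠ 0}
      (fun P hP => (isFixedPt_iff P σ).mp (hfix P hP))).2
    omega

end canonical

end Groth.Agent.H86.FF
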