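import Mathlib
import Groth.Agent.H86.WP10
import Groth.Agent.H86.HF1
import Groth.Agent.H86.EX2
import Groth.Agent.H63.HasseOrders

/-!
# Finiteness of the automorphism group in genus at least two
-/

set_option autoImplicit false
set_option linter.unusedSectionVars false

namespace Groth.Agent.H86.FF

open FunFld Module Groth.Agent.H55 IntermediateField

variable {k K : Type*} [Field k] [Field K] [Algebra k K]

/-- the transport of places is a right action -/
theorem comapAut_mul (P : Place k K) (σ τ : K ≃ₐ[k] K) :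
    comapAut P (σ * τ) = comapAut (comapAut P σ) τ := by
  apply Place.ext'
  intro x
  rw [comapAut_apply, comapAut_apply, comapAut_apply, AlgEquiv.mul_apply]

/-- an automorphism fixing `x` fixes `k(x)` -/
theorem apply_eq_of_mem_adjoin (σ : K ≃ₐ[k] K) (x : K) (hσ : σ x = x) (z : K)
    (hz : z ∈ k⟮x⟯) : σ z = z := by
  induction hz using IntermediateField.adjoin_induction with
  | mem y hy => rw [Set.mem_singleton_iff.mp hy]; exact hσ
  | algebraMap c => exact σ.commutes c
  | add y z _ _ hy hz => rw [map_add, hy, hz]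
  | inv y _ hy => rw [map_inv₀, hy]
  | mul y z _ _ hy hz => rw [map_mul, hy, hz]

/-- the automorphisms fixing `x` are finite in number when `K` is finite over `k(x)` -/
theorem finite_setOf_apply_eq (x : K) (hfin : FiniteDimensional k⟮x⟯ K) :
    {σ : K ≃ₐ[k] K | σ x = x}.Finite := by
  let f : {σ : K ≃ₐ[k] K | σ x = x} → (K →ₐ[k⟮x⟯] K) := fun σ =>
    { (σ.1 : K →+* K) with
      commutes' := fun r => apply_eq_of_mem_adjoin σ.1 x σ.2 r r.2 }
  have hf : Function.Injective f := by
    intro σ τ h
    apply Subtype.ext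
    ext z
    have := DFunLike.congr_fun h z
    exact this
  exact Set.finite_coe_iff.mp (Finite.of_injective f hf)

/-- a basis of a finite dimensional space of functions -/
theorem exists_basis_of_finrank (M : Submodule k K) [Module.Finite k M] (n : ℕ)
    (hrank : finrank k M = n + 1) :
    ∃ φ : Fin (n + 1) → K, LinearIndependent k φ ∧ Submodule.span k (Set.range φ) = M := by
  let b := Module.finBasisOfFinrankEq k M hrank
  refine ⟨fun i => ((b i : M) : K), ?_, ?_⟩
  · have := b.linearIndependent.map' M.subtype (Submodule.ker_subtype _)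
    exact this
  · have h1 : Set.range (fun i => ((b i : M) : K)) = M.subtype '' Set.range b := by
      ext x
      constructor
      · rintro ⟨i, rfl⟩
        exact ⟨b i, ⟨i, rfl⟩, rfl⟩
      · rintro ⟨_, ⟨i, rfl⟩, rfl⟩
        exact ⟨i, rfl⟩
    rw [h1, ← Submodule.map_span, b.span_eq, Submodule.map_subtype_top]

variable [IsAlgClosed k]

/-- **Finiteness of the automorphism group**: genus at least two, characteristic `0` or greater
than `2g - 2`. -/
theorem finite_aut (hK : IsFunctionField k K) (hg : 1 < genus k K)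
    (hchar : ringChar k = 0 ∨ 2 * genus k K - 2 < ringChar k) : Finite (K ≃ₐ[k] K) := by
  classical
  obtain ⟨C, hC⟩ := exists_canonical hK
  have hell := (canonical_ell_deg hK hC).1
  obtain ⟨n, hn⟩ : ∃ n, genus k K = n + 1 := ⟨genus k K - 1, by omega⟩
  haveI : Module.Finite k (L C) := L_finite hK _
  obtain ⟨φ, hφ, hspan⟩ := exists_basis_of_finrank (L C) n (by
    change ell C = n + 1
    omega)
  obtain ⟨s, H, hH⟩ := exists_hasseFamily hK
  obtain ⟨J, hJ, _⟩ := Groth.Agent.H63.HasseFF.exists_orders hK hH φ hφ (AlgHom.id k K)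
  choose Φ hΦ using fun P : Place k K => exists_expansion hK hH P
  set S : Set (Place k K) := {P : Place k K | wDiv (AlgHom.id k K) H Φ s φ J P ≠ 0} with hS
  have hSfin : S.Finite := (ncard_wp hK hg hchar hC φ hφ hspan hH J hJ Φ hΦ).1
  have hstable : ∀ σ : K ≃ₐ[k] K, ∀ P ∈ S, comapAut P σ ∈ S := by
    intro σ P hP
    obtain ⟨ρ, h2, hρg, hρ⟩ :=
      (wDiv_canonical_ne_zero_iff hK hg hchar hC φ hφ hspan hH J hJ Φ hΦ P).mp hP
    exact (wDiv_canonical_ne_zero_iff hK hg hchar hC φ hφ hspan hH J hJ Φ hΦ _).mpr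
      ⟨ρ, h2, hρg, (isPoleNumber_comapAut P σ ρ).mpr hρ⟩
  -- the kernel of the action is finite
  have hN : {σ : K ≃ₐ[k] K | ∀ P ∈ S, comapAut P σ = P}.Finite := by
    rcases wp_dichotomy hK hg hchar hC φ hφ hspan hH J hJ Φ hΦ with ⟨_, h⟩ | ⟨_, x, hx, h⟩
    · apply (Set.finite_singleton (AlgEquiv.refl : K ≃ₐ[k] K)).subset
      intro σ hσ
      exact h σ (fun P hP => (isFixedPt_iff P σ).mpr (hσ P hP))
    · have hfd : FiniteDimensional k⟮x⟯ K := Module.finite_of_finrank_pos (by omega)
      apply (finite_setOf_apply_eq x hfd).subset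
      intro σ hσ
      exact (h σ).mp (fun P hP => (isFixedPt_iff P σ).mpr (hσ P hP))
  -- the action map
  haveI : Finite S := hSfin.to_subtype
  let f : (K ≃ₐ[k] K) → (S → S) := fun σ P => ⟨comapAut P.1 σ, hstable σ P.1 P.2⟩
  rw [← Set.finite_univ_iff]
  apply Set.Finite.of_finite_fibers f (Set.toFinite _)
  intro b hb
  obtain ⟨σ₀, _, rfl⟩ := hb
  apply (hN.image (fun ρ => ρ * σ₀)).subset
  rintro τ ⟨_, hτ⟩
  refine ⟨τ * σ₀⁻¹, ?_, by group⟩
  intro P hP
  have h1 : comapAut P τ = comapAut P σ₀ := by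
    have := congrFun hτ ⟨P, hP⟩
    exact congrArg Subtype.val this
  rw [comapAut_mul, h1]
  exact comapAut_symm P σ₀

end Groth.Agent.H86.FF
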