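import Mathlib
import Groth.Agent.H86.PP1

set_option autoImplicit false

namespace Groth.Agent.H86.PP

open Polynomial Module

variable {k : Type*} [Field k]

theorem wronskian_mem_dvdSub {q : k} {a m : ℕ} {f g : k[X]} (hf : f ∈ dvdSub q a)
    (hg : g ∈ dvdSub q m) : wronskian f g ∈ dvdSub q (a + m - 1) := by
  rw [mem_dvdSub] at *
  unfold wronskian
  apply dvd_sub
  · have h1 := pow_sub_one_dvd_derivative_of_pow_dvd hg
    have h2 := mul_dvd_mul hf h1
    rw [← pow_add] at h2
    exact (pow_dvd_pow _ (by omega)).trans h2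
  · have h1 := pow_sub_one_dvd_derivative_of_pow_dvd hf
    have h2 := mul_dvd_mul h1 hg
    rw [← pow_add] at h2
    exact (pow_dvd_pow _ (by omega)).trans h2

theorem wronskian_mul_mul (G a b : k[X]) :
    wronskian (G * a) (G * b) = G ^ 2 * wronskian a b := by
  unfold wronskian
  rw [derivative_mul, derivative_mul]
  ring

/-- in characteristic zero, `W(f, g) = 0` with `f ≠ 0` forces `g` to be a multiple of `f` -/
theorem eq_smul_of_wronskian_eq_zero [CharZero k] {f g : k[X]} (hf : f ≠ 0)
    (h : wronskian f g = 0) : ∃ c : k, g = c • f := by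
  classical
  obtain ⟨a, ha⟩ := EuclideanDomain.gcd_dvd_left f g
  obtain ⟨b, hb⟩ := EuclideanDomain.gcd_dvd_right f g
  set G := EuclideanDomain.gcd f g with hG
  have hG0 : G ≠ 0 := by
    intro h0
    rw [h0, zero_mul] at ha
    exact hf ha
  have hcop : IsCoprime a b := by
    have hbez := EuclideanDomain.gcd_eq_gcd_ab f g
    rw [← hG] at hbez
    refine ⟨EuclideanDomain.gcdA f g, EuclideanDomain.gcdB f g, ?_⟩
    have : G * (EuclideanDomain.gcdA f g * a + EuclideanDomain.gcdB f g * b) = G * 1 := by
      rw [mul_one]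
      calc G * (EuclideanDomain.gcdA f g * a + EuclideanDomain.gcdB f g * b)
          = (G * a) * EuclideanDomain.gcdA f g + (G * b) * EuclideanDomain.gcdB f g := by ring
        _ = f * EuclideanDomain.gcdA f g + g * EuclideanDomain.gcdB f g := by rw [← ha, ← hb]
        _ = G := hbez.symm
    exact mul_left_cancel₀ hG0 this
  rw [ha, hb, wronskian_mul_mul] at h
  have hw : wronskian a b = 0 := by
    rcases mul_eq_zero.mp h with h | h
    · exact absurd (pow_eq_zero_iff (two_ne_zero)|>.mp h) hG0
    · exact h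
  obtain ⟨ha', hb'⟩ := hcop.wronskian_eq_zero_iff.mp hw
  have hac := eq_C_of_derivative_eq_zero ha'
  have hbc := eq_C_of_derivative_eq_zero hb'
  have ha0 : a.coeff 0 ≠ 0 := by
    intro h0
    rw [h0, C_0] at hac
    rw [hac, mul_zero] at ha
    exact hf ha
  refine ⟨b.coeff 0 / a.coeff 0, ?_⟩
  rw [hb, ha, hbc, hac, smul_eq_C_mul]
  simp only [coeff_C_zero]
  rw [div_eq_mul_inv, C_mul]
  have : C (a.coeff 0)⁻¹ * C (a.coeff 0) = 1 := by
    rw [← C_mul, inv_mul_cancel₀ ha0, C_1]
  calc G * C (b.coeff 0) = C (b.coeff 0) * (C (a.coeff 0)⁻¹ * C (a.coeff 0)) * G := by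
        rw [this]; ring
    _ = C (b.coeff 0) * C (a.coeff 0)⁻¹ * (G * C (a.coeff 0)) := by ring

theorem ker_wronskianBilin [CharZero k] {f : k[X]} (hf : f ≠ 0) :
    LinearMap.ker (wronskianBilin k f) = Submodule.span k {f} := by
  ext g
  rw [LinearMap.mem_ker, wronskianBilin_apply, Submodule.mem_span_singleton]
  constructor
  · intro h
    obtain ⟨c, hc⟩ := eq_smul_of_wronskian_eq_zero hf h
    exact ⟨c, hc.symm⟩
  · rintro ⟨c, rfl⟩
    rw [← wronskianBilin_apply, map_smul, wronskianBilin_apply, wronskian_self_eq_zero, smul_zero]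

theorem finrank_inf_span_singleton {M : Type*} [AddCommGroup M] [Module k M]
    (U : Submodule k M) {f : M} (hf : f ≠ 0) [Decidable (f ∈ U)] :
    finrank k ↥(U ⊓ Submodule.span k {f}) = if f ∈ U then 1 else 0 := by
  split_ifs with h
  · rw [inf_eq_right.mpr ((Submodule.span_singleton_le_iff_mem f U).mpr h)]
    exact finrank_span_singleton hf
  · have : U ⊓ Submodule.span k {f} = ⊥ := by
      rw [eq_bot_iff]
      rintro x ⟨hx1, hx2⟩
      rw [Submodule.mem_bot]
      obtain ⟨c, rfl⟩ := Submodule.mem_span_singleton.mp hx2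
      by_cases hc : c = 0
      · rw [hc, zero_smul]
      · exfalso
        apply h
        have := U.smul_mem c⁻¹ hx1
        rwa [smul_smul, inv_mul_cancel₀ hc, one_smul] at this
    rw [this, finrank_bot]

section local_analysis

variable [CharZero k] {V : Submodule k k[X]} {f : k[X]}

/-- the derived system `V' = W(f, V)` -/
noncomputable def der (f : k[X]) (V : Submodule k k[X]) : Submodule k k[X] :=
  V.map (wronskianBilin k f)

theorem finrank_der [FiniteDimensional k V] (hf : f ≠ 0) (hfV : f ∈ V) :
    finrank k ↥(der f V) + 1 = finrank k V := by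
  classical
  have h := finrank_map_add_finrank_inf_ker (wronskianBilin k f) V
  rw [ker_wronskianBilin hf, finrank_inf_span_singleton V hf, if_pos hfV] at h
  exact h

theorem der_le_dvdSub (q : k) : der f V ≤ dvdSub q (rootMultiplicity q f - 1) := by
  rintro x ⟨g, -, rfl⟩
  have h1 : f ∈ dvdSub q (rootMultiplicity q f) := pow_rootMultiplicity_dvd f q
  have h2 : g ∈ dvdSub q 0 := by rw [dvdSub_zero]; trivial
  have := wronskian_mem_dvdSub h1 h2
  rwa [Nat.add_zero] at this

theorem pd_le_pd_der [FiniteDimensional k V] (hf : f ≠ 0) (q : k) (m : ℕ) :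
    pd V q m ≤ pd (der f V) q (rootMultiplicity q f + m - 1) +
      (if m ≤ rootMultiplicity q f then 1 else 0) := by
  classical
  have : FiniteDimensional k ↥(V ⊓ dvdSub q m) := Submodule.finiteDimensional_inf_left _ _
  have h := finrank_map_add_finrank_inf_ker (wronskianBilin k f) (V ⊓ dvdSub q m)
  rw [ker_wronskianBilin hf, finrank_inf_span_singleton _ hf] at h
  have hle : (V ⊓ dvdSub q m).map (wronskianBilin k f) ≤
      der f V ⊓ dvdSub q (rootMultiplicity q f + m - 1) := by
    rintro x ⟨g, hg, rfl⟩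
    refine ⟨⟨g, hg.1, rfl⟩, ?_⟩
    exact wronskian_mem_dvdSub (pow_rootMultiplicity_dvd f q) hg.2
  have hfin : FiniteDimensional k ↥(der f V) := by
    unfold der
    infer_instance
  have : FiniteDimensional k ↥(der f V ⊓ dvdSub q (rootMultiplicity q f + m - 1)) :=
    Submodule.finiteDimensional_inf_left _ _
  have h2 := Submodule.finrank_mono hle
  unfold pd
  have h3 : (if f ∈ V ⊓ dvdSub q m then 1 else 0) ≤
      (if m ≤ rootMultiplicity q f then 1 else 0) := by
    by_cases hm : m ≤ rootMultiplicity q f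
    · rw [if_pos hm]; split_ifs <;> omega
    · rw [if_neg hm, if_neg]
      rintro ⟨-, h⟩
      exact hm ((le_rootMultiplicity_iff hf).mpr h)
  omega

end local_analysis

/-- abstract shift of sums of vanishing dimensions -/
theorem sum_shift {A A' : ℕ → ℕ} {r a M M' : ℕ} (hM' : a + M ≤ M')
    (h1 : ∀ m, 1 ≤ m → A m ≤ A' (a + m - 1) + (if m ≤ a then 1 else 0))
    (h2 : ∀ m, m + 1 ≤ a → r ≤ A' m) (h0 : A' 0 ≤ r) :
    (∑ j ∈ Finset.range M, A (j + 1)) + r * a ≤ (∑ j ∈ Finset.range M', A' (j + 1)) + r + a := by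
  rcases Nat.eq_zero_or_pos a with ha | ha
  · subst ha
    have e1 : ∑ j ∈ Finset.range M, A (j + 1) ≤ ∑ j ∈ Finset.range M, A' j := by
      apply Finset.sum_le_sum
      intro j _
      have := h1 (j + 1) (by omega)
      simpa using this
    have e2 : ∑ j ∈ Finset.range M, A' j ≤ (∑ j ∈ Finset.range M', A' (j + 1)) + r := by
      rcases Nat.eq_zero_or_pos M with hM | hM
      · subst hM; simp
      · obtain ⟨M0, rfl⟩ : ∃ M0, M = M0 + 1 := ⟨M - 1, by omega⟩
        rw [Finset.sum_range_succ']
        have : ∑ j ∈ Finset.range M0, A' (j + 1) ≤ ∑ j ∈ Finset.range M', A' (j + 1) :=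
          Finset.sum_le_sum_of_subset (Finset.range_subset_range.mpr (by omega))
        omega
    omega
  · obtain ⟨a0, rfl⟩ : ∃ a0, a = a0 + 1 := ⟨a - 1, by omega⟩
    have e1 : ∑ j ∈ Finset.range M, A (j + 1) ≤
        ∑ j ∈ Finset.range M, (A' (a0 + (j + 1)) + (if j < a0 + 1 then 1 else 0)) := by
      apply Finset.sum_le_sum
      intro j _
      have := h1 (j + 1) (by omega)
      have e : a0 + 1 + (j + 1) - 1 = a0 + (j + 1) := by omega
      rw [e] at this
      refine this.trans (Nat.add_le_add_left ?_ _)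
      split_ifs <;> omega
    rw [Finset.sum_add_distrib] at e1
    have e2 : ∑ j ∈ Finset.range M, (if j < a0 + 1 then 1 else 0) ≤ a0 + 1 := by
      rw [← Finset.card_filter]
      calc ((Finset.range M).filter (fun j => j < a0 + 1)).card
          ≤ (Finset.range (a0 + 1)).card := by
            apply Finset.card_le_card
            intro j hj
            rw [Finset.mem_filter] at hj
            exact Finset.mem_range.mpr hj.2
        _ = a0 + 1 := Finset.card_range _
    have e3 : (∑ j ∈ Finset.range a0, A' (j + 1)) + ∑ j ∈ Finset.range M, A' (a0 + (j + 1)) ≤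
        ∑ j ∈ Finset.range M', A' (j + 1) := by
      have := Finset.sum_range_add (fun j => A' (j + 1)) a0 M
      have e : ∀ j, a0 + j + 1 = a0 + (j + 1) := fun j => by omega
      simp only [e] at this
      rw [← this]
      exact Finset.sum_le_sum_of_subset (Finset.range_subset_range.mpr (by omega))
    have e4 : r * a0 ≤ ∑ j ∈ Finset.range a0, A' (j + 1) := by
      have : ∑ j ∈ Finset.range a0, r ≤ ∑ j ∈ Finset.range a0, A' (j + 1) := by
        apply Finset.sum_le_sum
        intro j hj
        rw [Finset.mem_range] at hj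
        exact h2 (j + 1) (by omega)
      rw [Finset.sum_const, Finset.card_range, smul_eq_mul, mul_comm] at this
      exact this
    have e5 : r * (a0 + 1) = r * a0 + r := by ring
    omega

end Groth.Agent.H86.PP
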