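import Mathlib
import Groth.Agent.H86.PP2

set_option autoImplicit false

namespace Groth.Agent.H86.PP

open Polynomial Module

variable {k : Type*} [Field k]

theorem exists_top_degree {V : Submodule k k[X]} {d : ℕ} (hV : V ≤ degreeLT k (d + 1))
    (hne : V ≠ ⊥) : ∃ f ∈ V, f ≠ 0 ∧ ∀ g ∈ V, natDegree g ≤ natDegree f := by
  classical
  obtain ⟨g0, hg0V, hg00⟩ := Submodule.exists_mem_ne_zero_of_ne_bot hne
  have hdeg : ∀ g ∈ V, g ≠ 0 → natDegree g ≤ d := fun g hg hg0 => by
    have := Wr.natDegree_lt_of_mem_degreeLT hg0 (hV hg)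
    omega
  let p : ℕ → Prop := fun n => ∃ g ∈ V, g ≠ 0 ∧ natDegree g = n
  have hp0 : p (natDegree g0) := ⟨g0, hg0V, hg00, rfl⟩
  obtain ⟨f, hfV, hf0, hfn⟩ : p (Nat.findGreatest p d) :=
    Nat.findGreatest_spec (hdeg g0 hg0V hg00) hp0
  refine ⟨f, hfV, hf0, fun g hg => ?_⟩
  by_cases hg0 : g = 0
  · rw [hg0, natDegree_zero]; exact Nat.zero_le _
  · rw [hfn]
    exact Nat.le_findGreatest (hdeg g hg hg0) ⟨g, hg, hg0, rfl⟩

theorem der_le_degreeLT {V : Submodule k k[X]} {f : k[X]} (hf : f ≠ 0)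
    (hmax : ∀ g ∈ V, natDegree g ≤ natDegree f) :
    der f V ≤ degreeLT k (2 * natDegree f - 2 + 1) := by
  rintro x ⟨g, hg, rfl⟩
  set d0 := natDegree f with hd0
  set c : k := g.coeff d0 / f.leadingCoeff with hc
  set g1 : k[X] := g - c • f with hg1
  have hlc : f.leadingCoeff ≠ 0 := leadingCoeff_ne_zero.mpr hf
  have hw : wronskianBilin k f g = wronskianBilin k f g1 := by
    rw [hg1, map_sub, map_smul, wronskianBilin_apply f f, wronskian_self_eq_zero, smul_zero,
      sub_zero]
  have hcoeff : g1.coeff d0 = 0 := by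
    rw [hg1, coeff_sub, coeff_smul, smul_eq_mul, hd0, coeff_natDegree, hc, hd0,
      div_mul_cancel₀ _ hlc, sub_self]
  have hdeg1 : natDegree g1 ≤ d0 := by
    rw [hg1]
    refine (natDegree_sub_le _ _).trans (max_le (hmax g hg) ?_)
    exact natDegree_smul_le c f
  rw [SetLike.mem_coe] at hg
  show wronskianBilin k f g ∈ degreeLT k (2 * d0 - 2 + 1)
  rw [hw, wronskianBilin_apply]
  by_cases hw0 : wronskian f g1 = 0
  · rw [hw0]; exact Submodule.zero_mem _
  have hg10 : g1 ≠ 0 := by
    intro h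
    rw [h, wronskian_zero_right] at hw0
    exact hw0 rfl
  have hlt : natDegree g1 < d0 := by
    by_contra hge
    have heq : natDegree g1 = d0 := by omega
    have : g1.leadingCoeff = 0 := by
      rw [leadingCoeff, heq, hcoeff]
    exact hg10 (leadingCoeff_eq_zero.mp this)
  have := natDegree_wronskian_lt_add hw0
  apply Wr.mem_degreeLT_of_natDegree_lt
  omega

theorem sum_rootMultiplicity [IsAlgClosed k] (f : k[X]) (S : Finset k)
    (hS : ∀ q, f.IsRoot q → q ∈ S) (hf : f ≠ 0) :
    ∑ q ∈ S, rootMultiplicity q f = natDegree f := by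
  classical
  have h1 : ∑ q ∈ S, rootMultiplicity q f = ∑ q ∈ f.roots.toFinset, rootMultiplicity q f := by
    symm
    apply Finset.sum_subset
    · intro q hq
      rw [Multiset.mem_toFinset, mem_roots hf] at hq
      exact hS q hq
    · intro q _ hq
      rw [Multiset.mem_toFinset, mem_roots hf] at hq
      exact rootMultiplicity_eq_zero hq
  rw [h1]
  have h2 : ∑ q ∈ f.roots.toFinset, rootMultiplicity q f =
      ∑ q ∈ f.roots.toFinset, f.roots.count q := by
    apply Finset.sum_congr rfl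
    intro q _
    rw [count_roots]
  rw [h2, Multiset.toFinset_sum_count_eq]
  exact splits_iff_card_roots.mp (IsAlgClosed.splits f)

theorem psum_mono (V : Submodule k k[X]) (q : k) {M M' : ℕ} (h : M ≤ M') :
    psum V q M ≤ psum V q M' :=
  Finset.sum_le_sum_of_subset (Finset.range_subset_range.mpr h)

theorem tri_le_psum {V : Submodule k k[X]} {r d : ℕ} (hV : V ≤ degreeLT k (d + 1))
    (hVr : finrank k V = r + 1) (q : k) {M : ℕ} (hM : d ≤ M) : FF.tri r ≤ psum V q M :=
  ((isVan_pd hV hVr q).tri_le_sum).trans (psum_mono V q hM)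

end Groth.Agent.H86.PP
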