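import Mathlib
import Groth.Agent.H86.PP3

set_option autoImplicit false

namespace Groth.Agent.H86.PP

open Polynomial Module

variable {k : Type*} [Field k] [IsAlgClosed k] [CharZero k]

/-- local inequality between the sums of vanishing orders of `V` and of its derived system -/
theorem psum_le_psum_der {V : Submodule k k[X]} {r d : ℕ} (hV : V ≤ degreeLT k (d + 1))
    (hVr : finrank k V = r + 1) {f : k[X]} (hf : f ≠ 0) (hfV : f ∈ V) (q : k) {M M' : ℕ}
    (hM' : rootMultiplicity q f + M ≤ M') :
    psum V q M + r * rootMultiplicity q f ≤ psum (der f V) q M' + r + rootMultiplicity q f := by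
  have hfin := finite_of_le_degreeLT hV
  have hr' : finrank k ↥(der f V) = r := by
    have := finrank_der hf hfV
    omega
  have hfin' : FiniteDimensional k ↥(der f V) := by
    unfold der
    infer_instance
  refine sum_shift (A := pd V q) (A' := pd (der f V) q) hM'
    (fun m _ => pd_le_pd_der hf q m) ?_ ?_
  · intro m hm
    have h1 : der f V ≤ dvdSub q m :=
      (der_le_dvdSub q).trans (dvdSub_anti q (by omega))
    unfold pd
    rw [inf_eq_left.mpr h1, hr']
  · have := pd_le (der f V) q 0
    omega

/-- **Plücker inequality** for spaces of polynomials, at finitely many points of the affine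
line: `∑ w(V, q) ≤ (r+1)(d-r)`, written additively. -/
theorem plucker : ∀ (n d : ℕ) (V : Submodule k k[X]), V ≤ degreeLT k (d + 1) →
    finrank k V = n → ∀ (S : Finset k) (M : ℕ), d ≤ M →
    (∑ q ∈ S, psum V q M) + n * (n - 1) ≤ n * d + S.card * FF.tri (n - 1) := by
  classical
  intro n
  induction n with
  | zero =>
    intro d V hV hn S M _
    have hfin := finite_of_le_degreeLT hV
    have h0 : ∀ q ∈ S, psum V q M = 0 := by
      intro q _
      unfold psum
      apply Finset.sum_eq_zero
      intro j _
      have := pd_le V q (j + 1)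
      omega
    rw [Finset.sum_eq_zero h0]
    simp
  | succ r ih =>
    intro d V hV hn S M hM
    have hfin := finite_of_le_degreeLT hV
    have hne : V ≠ ⊥ := by
      intro h
      rw [h, finrank_bot] at hn
      omega
    obtain ⟨f, hfV, hf0, hmax⟩ := exists_top_degree hV hne
    have hV' := der_le_degreeLT hf0 hmax
    obtain ⟨d0, hd0⟩ : ∃ d0, natDegree f = d0 := ⟨_, rfl⟩
    rw [hd0] at hmax hV'
    have hd0d : d0 ≤ d := by
      have := Wr.natDegree_lt_of_mem_degreeLT hf0 (hV hfV)
      omega
    -- `V` sits in degree `≤ d0`
    have hV0 : V ≤ degreeLT k (d0 + 1) := by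
      intro g hg
      apply Wr.mem_degreeLT_of_natDegree_lt
      have := hmax g hg
      omega
    have hrd0 : r ≤ d0 := by
      have := Submodule.finrank_mono hV0
      rw [Wr.finrank_degreeLT, hn] at this
      omega
    have hr' : finrank k ↥(der f V) = r := by
      have := finrank_der hf0 hfV
      omega
    set S' : Finset k := S ∪ f.roots.toFinset with hS'
    have hroots : ∀ q, f.IsRoot q → q ∈ S' := by
      intro q hq
      rw [hS', Finset.mem_union, Multiset.mem_toFinset, mem_roots hf0]
      exact Or.inr hq
    have hsum := sum_rootMultiplicity f S' hroots hf0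
    rw [hd0] at hsum
    have hmult : ∀ q ∈ S', rootMultiplicity q f ≤ d0 := by
      intro q hq
      rw [← hsum]
      exact Finset.single_le_sum (f := fun q => rootMultiplicity q f)
        (fun _ _ => Nat.zero_le _) hq
    have IH := ih (2 * d0 - 2) (der f V) hV' hr' S' (d0 + M) (by omega)
    have hloc : ∀ q ∈ S', psum V q M + r * rootMultiplicity q f ≤
        psum (der f V) q (d0 + M) + r + rootMultiplicity q f := by
      intro q hq
      exact psum_le_psum_der hV hn hf0 hfV q (by have := hmult q hq; omega)
    have hlocsum := Finset.sum_le_sum hloc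
    rw [Finset.sum_add_distrib, Finset.sum_add_distrib, Finset.sum_add_distrib, ← Finset.mul_sum,
      hsum, Finset.sum_const, smul_eq_mul] at hlocsum
    -- lower bound off `S`
    have hsplit : (∑ q ∈ S, psum V q M) + (S' \ S).card * FF.tri r ≤ ∑ q ∈ S', psum V q M := by
      have hsub : S ⊆ S' := Finset.subset_union_left
      rw [← Finset.sum_sdiff hsub, add_comm]
      apply Nat.add_le_add_right
      have : ∑ q ∈ S' \ S, FF.tri r ≤ ∑ q ∈ S' \ S, psum V q M :=
        Finset.sum_le_sum (fun q _ => tri_le_psum hV hn q hM)
      rw [Finset.sum_const, smul_eq_mul] at this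
      exact this
    have hcard : S'.card = S.card + (S' \ S).card := by
      have hsub : S ⊆ S' := Finset.subset_union_left
      rw [Finset.card_sdiff_of_subset hsub]
      have := Finset.card_le_card hsub
      omega
    simp only [Nat.add_sub_cancel]
    rcases Nat.eq_zero_or_pos r with hr0 | hrpos
    · subst hr0
      simp only [Nat.zero_mul, Nat.zero_add, Nat.add_zero, Nat.mul_zero, zero_add,
        Nat.one_mul, FF.tri] at *
      omega
    · obtain ⟨r0, rfl⟩ : ∃ r0, r = r0 + 1 := ⟨r - 1, by omega⟩
      obtain ⟨e, he⟩ : ∃ e, d0 = e + 1 := ⟨d0 - 1, by omega⟩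
      have htri := FF.tri_succ r0
      simp only [Nat.add_sub_cancel] at IH
      rw [he] at IH hlocsum hrd0
      have e2 : 2 * (e + 1) - 2 = 2 * e := by omega
      rw [e2] at IH
      rw [hcard] at IH hlocsum
      have hdd : e + 1 ≤ d := by omega
      -- all products as polynomial arithmetic
      nlinarith [Nat.mul_le_mul_left (r0 + 1 + 1) hdd, IH, hlocsum, hsplit, htri]

end Groth.Agent.H86.PP
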