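import Mathlib
import Groth.Agent.H86.TR1
import Groth.Agent.H86.PP4

set_option autoImplicit false

namespace Groth.Agent.H86.FF

open FunFld Module Groth.Agent.H55 Polynomial

variable {k K : Type*} [Field k] [Field K] [Algebra k K]

theorem dvdSub_eq (q : k) (m : ℕ) :
    PP.dvdSub q m = (Ideal.span {(X - C q) ^ m}).restrictScalars k := by
  ext f
  rw [PP.mem_dvdSub, Submodule.restrictScalars_mem, Ideal.mem_span_singleton]

theorem finrank_degreeLT_inf_dvdSub (q : k) (M m : ℕ) :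
    finrank k ↥(degreeLT k M ⊓ PP.dvdSub q m) = M - m := by
  rw [dvdSub_eq, Wr.finrank_degreeLT_inf_span _ ((monic_X_sub_C q).pow m), natDegree_pow,
    natDegree_X_sub_C, mul_one]

/-- the comparison map `p ↦ u⁻¹ p(t)` -/
noncomputable def Phi (t u : K) : k[X] →ₗ[k] K :=
  (LinearMap.mulLeft k u⁻¹) ∘ₗ (Polynomial.aeval t).toLinearMap

theorem Phi_apply (t u : K) (p : k[X]) : Phi t u p = u⁻¹ * Polynomial.aeval t p := rfl

variable [IsAlgClosed k] {P0 : Place k K} {t : K}

theorem Phi_injective (hK : IsFunctionField k K) (ht : IsCoord P0 t) {u : K} (hu : u ≠ 0) :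
    Function.Injective (Phi (k := k) t u) := by
  intro p q h
  rw [Phi_apply, Phi_apply] at h
  have := mul_left_cancel₀ (inv_ne_zero hu) h
  exact (transcendental_iff_injective.mp (ht.transcendental hK)) this

theorem IsCoord.ord_P0 (hK : IsFunctionField k K) (ht : IsCoord P0 t) : P0.ord t = -1 := by
  rw [Place.ord_eq_iff P0 ht.ne_zero, ht.val_P0 hK]
  simp

theorem IsCoord.ord_nonneg (ht : IsCoord P0 t) {R : Place k K} (hR : R ≠ P0) : 0 ≤ R.ord t :=
  (Place.ord_nonneg_iff R ht.ne_zero).mpr (ht.val_le_one hR)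

theorem IsCoord.pow_mem_L (hK : IsFunctionField k K) (ht : IsCoord P0 t) {i e : ℕ} (h : i ≤ e) :
    t ^ i ∈ L (Finsupp.single P0 (e : ℤ) : Divisor k K) := by
  classical
  rw [mem_L_iff_ord (pow_ne_zero _ ht.ne_zero)]
  intro R
  rw [Place.ord_pow, Finsupp.single_apply]
  by_cases hR : R = P0
  · subst hR
    rw [if_pos rfl, ht.ord_P0 hK]
    have : (i : ℤ) ≤ e := by exact_mod_cast h
    linarith
  · rw [if_neg (Ne.symm hR)]
    have := ht.ord_nonneg hR
    have hi : (0 : ℤ) ≤ i := by positivity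
    nlinarith

theorem IsCoord.aeval_mem_L (hK : IsFunctionField k K) (ht : IsCoord P0 t) {p : k[X]} {e : ℕ}
    (h : natDegree p ≤ e) :
    Polynomial.aeval t p ∈ L (Finsupp.single P0 (e : ℤ) : Divisor k K) := by
  rw [Polynomial.aeval_eq_sum_range]
  apply Submodule.sum_mem
  intro i hi
  rw [Finset.mem_range] at hi
  exact Submodule.smul_mem _ _ (ht.pow_mem_L hK (by omega))

/-- `Φ` maps polynomials of degree `≤ d` divisible by `(X - τ)^n` into `L(D - nP)` -/
theorem Phi_mem (hK : IsFunctionField k K) (ht : IsCoord P0 t) {D : Divisor k K} {d : ℕ}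
    {u : K} (hu0 : u ≠ 0) (hu : div k u = D - Finsupp.single P0 (d : ℤ))
    {P : Place k K} {τ : k}
    (hτ : div k (t - algebraMap k K τ) = Finsupp.single P (1 : ℤ) - Finsupp.single P0 (1 : ℤ))
    {n : ℕ} {p : k[X]} (hp : p ∈ degreeLT k (d + 1)) (hdvd : (X - C τ) ^ n ∣ p) :
    Phi t u p ∈ L (D - Finsupp.single P (n : ℤ)) := by
  classical
  by_cases hp0 : p = 0
  · rw [hp0, map_zero]; exact Submodule.zero_mem _
  obtain ⟨p1, rfl⟩ := hdvd
  have hp10 : p1 ≠ 0 := right_ne_zero_of_mul hp0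
  have hmon : ((X - C τ) ^ n : k[X]).Monic := (monic_X_sub_C τ).pow n
  have hdeg := Wr.natDegree_lt_of_mem_degreeLT hp0 hp
  rw [natDegree_mul hmon.ne_zero hp10, natDegree_pow, natDegree_X_sub_C, mul_one] at hdeg
  have hs0 : t - algebraMap k K τ ≠ 0 := (ht.sub_const τ).ne_zero
  have hx0 : u⁻¹ * (t - algebraMap k K τ) ^ n ≠ 0 :=
    mul_ne_zero (inv_ne_zero hu0) (pow_ne_zero _ hs0)
  have hPhi : Phi t u ((X - C τ) ^ n * p1) =
      (u⁻¹ * (t - algebraMap k K τ) ^ n) * Polynomial.aeval t p1 := by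
    rw [Phi_apply, map_mul, map_pow, map_sub, Polynomial.aeval_X, Polynomial.aeval_C, mul_assoc]
  rw [hPhi, mul_mem_L_iff hK _ _ _ hx0]
  have hdiv : D - Finsupp.single P (n : ℤ) + div k (u⁻¹ * (t - algebraMap k K τ) ^ n) =
      Finsupp.single P0 ((d - n : ℕ) : ℤ) := by
    rw [div_mul hK (inv_ne_zero hu0) (pow_ne_zero _ hs0), div_inv hK, div_pow hK, hu, hτ]
    ext R
    simp only [Finsupp.add_apply, Finsupp.sub_apply, Finsupp.neg_apply, Finsupp.smul_apply,
      Finsupp.single_apply, nsmul_eq_mul]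
    have e : ((d - n : ℕ) : ℤ) = (d : ℤ) - n := by omega
    rw [e]
    split_ifs <;> ring
  rw [hdiv]
  exact ht.aeval_mem_L hK (by omega)

/-- `L(D - nP)` is the image under `Φ` of the polynomials of degree `≤ d` divisible by
`(X - τ)^n` -/
theorem L_eq_map (hK : IsFunctionField k K) (hg : genus k K = 0) (ht : IsCoord P0 t)
    {D : Divisor k K} {d : ℕ} (hD : D.deg = d)
    {u : K} (hu0 : u ≠ 0) (hu : div k u = D - Finsupp.single P0 (d : ℤ))
    {P : Place k K} {τ : k}
    (hτ : div k (t - algebraMap k K τ) = Finsupp.single P (1 : ℤ) - Finsupp.single P0 (1 : ℤ))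
    {n : ℕ} (hn : n ≤ d + 1) :
    (degreeLT k (d + 1) ⊓ PP.dvdSub τ n).map (Phi t u) = L (D - Finsupp.single P (n : ℤ)) := by
  have hfin := L_finite hK (D - Finsupp.single P (n : ℤ))
  apply Submodule.eq_of_le_of_finrank_eq
  · rintro x ⟨p, ⟨hp1, hp2⟩, rfl⟩
    exact Phi_mem hK ht hu0 hu hτ hp1 hp2
  · rw [LinearEquiv.finrank_eq
      (Submodule.equivMapOfInjective (Phi t u) (Phi_injective hK ht hu0) _).symm,
      finrank_degreeLT_inf_dvdSub]
    have := ell_genus_zero hK hg (D - Finsupp.single P (n : ℤ)) (by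
      rw [Divisor.deg_sub, deg_single_one hK, hD]; omega)
    rw [Divisor.deg_sub, deg_single_one hK, hD] at this
    unfold ell at this
    omega

end Groth.Agent.H86.FF
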