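import Mathlib
import Groth.Agent.H86.TR2

set_option autoImplicit false

namespace Groth.Agent.H86.FF

open FunFld Module Groth.Agent.H55 Polynomial

variable {k K : Type*} [Field k] [Field K] [Algebra k K] [IsAlgClosed k]

/-- there is a place outside any finite set of places (genus zero) -/
theorem exists_place_notMem (hK : IsFunctionField k K) (hg : genus k K = 0)
    (T : Finset (Place k K)) : ∃ P0 : Place k K, P0 ∉ T := by
  classical
  rcases T.eq_empty_or_nonempty with hT | ⟨P1, hP1⟩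
  · obtain ⟨x, hx, -⟩ := hK.1
    obtain ⟨P, -⟩ := Groth.Agent.H55.exists_zero hK hx
    exact ⟨P, by rw [hT]; exact Finset.notMem_empty P⟩
  · obtain ⟨t1, ht1⟩ := exists_coord hK hg P1
    let τf : Place k K → k := fun P =>
      if h : P ≠ P1 then Classical.choose (exists_tau hK P (ht1.val_le_one h)) else 0
    have hτf : ∀ P, P ≠ P1 → P.1 (t1 - algebraMap k K (τf P)) < 1 := by
      intro P h
      simp only [τf, dif_pos h]
      exact Classical.choose_spec (exists_tau hK P (ht1.val_le_one h))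
    have hinf : Infinite k := IsAlgClosed.instInfinite
    obtain ⟨τ, hτ⟩ := Infinite.exists_notMem_finset (T.image τf)
    have hx := ht1.sub_const τ
    obtain ⟨P0, hP0⟩ := Groth.Agent.H55.exists_zero hK (hx.transcendental hK)
    refine ⟨P0, ?_⟩
    intro hmem
    have hne : P0 ≠ P1 := by
      rintro rfl
      rw [hx.val_P0 hK] at hP0
      exact absurd hP0 (not_lt.mpr (le_of_lt (by
        rw [← WithZero.exp_zero]
        exact WithZero.exp_lt_exp.mpr (by omega))))
    have h1 := hτf P0 hne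
    have h2 : P0.1 ((t1 - algebraMap k K τ) - (t1 - algebraMap k K (τf P0))) < 1 :=
      Valuation.map_sub_lt _ hP0 h1
    have h3 : (t1 - algebraMap k K τ) - (t1 - algebraMap k K (τf P0)) =
        algebraMap k K (τf P0 - τ) := by
      rw [map_sub]; ring
    rw [h3, Place.val_algebraMap_eq_one P0 (by
      intro h0
      apply hτ
      rw [Finset.mem_image]
      exact ⟨P0, hmem, (sub_eq_zero.mp h0)⟩)] at h2
    exact lt_irrefl _ h2

/-- a function with divisor `D - d P0` -/
theorem exists_u (hK : IsFunctionField k K) (hg : genus k K = 0) {D : Divisor k K} {d : ℕ}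
    (hD : D.deg = d) (P0 : Place k K) :
    ∃ u : K, u ≠ 0 ∧ div k u = D - Finsupp.single P0 (d : ℤ) := by
  have hdeg : FunFld.Divisor.deg (Finsupp.single P0 (d : ℤ) - D) = 0 := by
    rw [Divisor.deg_sub, deg_single_one hK, hD, sub_self]
  have hell := ell_genus_zero hK hg (Finsupp.single P0 (d : ℤ) - D) (by rw [hdeg]; omega)
  rw [hdeg] at hell
  have hne : L (Finsupp.single P0 (d : ℤ) - D) ≠ ⊥ :=
    (ell_pos_iff hK _).mp (by omega)
  obtain ⟨u, hu0, hu⟩ := exists_div_eq_of_deg_zero hK _ hdeg hne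
  exact ⟨u, hu0, by rw [hu, neg_sub]⟩

section transfer

variable (hK : IsFunctionField k K) (hg : genus k K = 0) {P0 : Place k K} {t : K}
  (ht : IsCoord P0 t) {D : Divisor k K} {d : ℕ} (hD : D.deg = d)
  {u : K} (hu0 : u ≠ 0) (hu : div k u = D - Finsupp.single P0 (d : ℤ))
  {V : Submodule k K} (hV : V ≤ L D)
include hK hg ht hD hu0 hu hV

theorem L_le_range {P1 : Place k K} {τ1 : k}
    (hτ1 : div k (t - algebraMap k K τ1) =
      Finsupp.single P1 (1 : ℤ) - Finsupp.single P0 (1 : ℤ)) :
    L D = (degreeLT k (d + 1)).map (Phi t u) := by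
  have := L_eq_map hK hg ht hD hu0 hu hτ1 (n := 0) (by omega)
  rw [PP.dvdSub_zero, inf_top_eq, Nat.cast_zero, Finsupp.single_zero, sub_zero] at this
  exact this.symm

theorem comap_le_degreeLT {P1 : Place k K} {τ1 : k}
    (hτ1 : div k (t - algebraMap k K τ1) =
      Finsupp.single P1 (1 : ℤ) - Finsupp.single P0 (1 : ℤ)) :
    V.comap (Phi t u) ≤ degreeLT k (d + 1) := by
  intro p hp
  have h1 : Phi t u p ∈ L D := hV hp
  rw [L_le_range hK hg ht hD hu0 hu hV hτ1] at h1
  obtain ⟨p', hp', heq⟩ := h1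
  rw [← Phi_injective hK ht hu0 heq]
  exact hp'

theorem finrank_comap {P1 : Place k K} {τ1 : k}
    (hτ1 : div k (t - algebraMap k K τ1) =
      Finsupp.single P1 (1 : ℤ) - Finsupp.single P0 (1 : ℤ)) :
    finrank k ↥(V.comap (Phi t u)) = finrank k V := by
  have hle : V ≤ LinearMap.range (Phi (k := k) t u) := by
    refine hV.trans ?_
    rw [L_le_range hK hg ht hD hu0 hu hV hτ1]
    exact LinearMap.map_le_range
  have h1 := Submodule.map_comap_eq_of_le hle
  have h2 := (Submodule.equivMapOfInjective (Phi t u) (Phi_injective hK ht hu0)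
    (V.comap (Phi t u))).finrank_eq
  rw [h1] at h2
  exact h2

theorem pd_comap_eq {P1 : Place k K} {τ1 : k}
    (hτ1 : div k (t - algebraMap k K τ1) =
      Finsupp.single P1 (1 : ℤ) - Finsupp.single P0 (1 : ℤ))
    {P : Place k K} {τ : k}
    (hτ : div k (t - algebraMap k K τ) = Finsupp.single P (1 : ℤ) - Finsupp.single P0 (1 : ℤ))
    {n : ℕ} (hn : n ≤ d + 1) :
    PP.pd (V.comap (Phi t u)) τ n = vdim V D P (n : ℤ) := by
  unfold PP.pd vdim
  have hW := comap_le_degreeLT hK hg ht hD hu0 hu hV hτ1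
  have hmap : (V.comap (Phi t u) ⊓ PP.dvdSub τ n).map (Phi t u) =
      V ⊓ L (D - Finsupp.single P (n : ℤ)) := by
    apply le_antisymm
    · rintro x ⟨p, ⟨hp1, hp2⟩, rfl⟩
      exact ⟨hp1, Phi_mem hK ht hu0 hu hτ (hW hp1) hp2⟩
    · rintro x ⟨hx1, hx2⟩
      rw [SetLike.mem_coe, ← L_eq_map hK hg ht hD hu0 hu hτ hn] at hx2
      obtain ⟨p, ⟨-, hp2⟩, rfl⟩ := hx2
      exact ⟨p, ⟨hx1, hp2⟩, rfl⟩
  rw [← hmap]
  exact (Submodule.equivMapOfInjective (Phi t u) (Phi_injective hK ht hu0) _).finrank_eq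

theorem psum_comap_eq {P1 : Place k K} {τ1 : k}
    (hτ1 : div k (t - algebraMap k K τ1) =
      Finsupp.single P1 (1 : ℤ) - Finsupp.single P0 (1 : ℤ))
    {P : Place k K} {τ : k}
    (hτ : div k (t - algebraMap k K τ) = Finsupp.single P (1 : ℤ) - Finsupp.single P0 (1 : ℤ)) :
    PP.psum (V.comap (Phi t u)) τ d = vsum V D P d := by
  unfold PP.psum vsum
  apply Finset.sum_congr rfl
  intro n hn
  rw [Finset.mem_range] at hn
  rw [pd_comap_eq hK hg ht hD hu0 hu hV hτ1 hτ (by omega)]
  simp only [Nat.cast_add, Nat.cast_one]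

end transfer

/-- **Plücker inequality** on a function field of genus zero: for finitely many places,
`∑ w(V, P) ≤ (r+1)(d-r)`, written additively in terms of the sums of vanishing orders. -/
theorem ff_plucker [CharZero k] (hK : IsFunctionField k K) (hg : genus k K = 0)
    {V : Submodule k K} {D : Divisor k K} (hV : V ≤ L D) {r d : ℕ}
    (hVr : finrank k V = r + 1) (hD : D.deg = d) (T : Finset (Place k K)) :
    (∑ P ∈ T, vsum V D P d) + r * (r + 1) ≤ (r + 1) * d + T.card * tri r := by
  classical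
  rcases T.eq_empty_or_nonempty with hT | ⟨P1, hP1⟩
  · rw [hT, Finset.sum_empty, Finset.card_empty, zero_mul, zero_add, add_zero, mul_comm]
    exact Nat.mul_le_mul_left _ (r_le_d hK hV hVr hD)
  obtain ⟨P0, hP0⟩ := exists_place_notMem hK hg T
  obtain ⟨t, ht⟩ := exists_coord hK hg P0
  obtain ⟨u, hu0, hu⟩ := exists_u hK hg hD P0
  have hne : ∀ P ∈ T, P ≠ P0 := fun P hP h => hP0 (h ▸ hP)
  let τf : Place k K → k := fun P =>
    if h : P ≠ P0 then Classical.choose (exists_tau hK P (ht.val_le_one h)) else 0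
  have hτf : ∀ P, P ≠ P0 → div k (t - algebraMap k K (τf P)) =
      Finsupp.single P (1 : ℤ) - Finsupp.single P0 (1 : ℤ) := by
    intro P h
    apply ht.div_sub hK h
    simp only [τf, dif_pos h]
    exact Classical.choose_spec (exists_tau hK P (ht.val_le_one h))
  have hinj : Set.InjOn τf T := by
    intro P hP Q hQ hPQ
    have h1 := hτf P (hne P hP)
    have h2 := hτf Q (hne Q hQ)
    rw [hPQ, h2] at h1
    have h3 : (Finsupp.single Q (1 : ℤ) : Divisor k K) = Finsupp.single P (1 : ℤ) :=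
      sub_left_injective h1
    have h4 := DFunLike.congr_fun h3 P
    rw [Finsupp.single_apply, Finsupp.single_apply, if_pos rfl] at h4
    by_contra hne'
    rw [if_neg (fun h => hne' h.symm)] at h4
    omega
  have hτ1 := hτf P1 (hne P1 hP1)
  have hW := comap_le_degreeLT hK hg ht hD hu0 hu hV hτ1
  have hWr : finrank k ↥(V.comap (Phi t u)) = r + 1 := by
    rw [finrank_comap hK hg ht hD hu0 hu hV hτ1, hVr]
  have hpl := PP.plucker (r + 1) d (V.comap (Phi t u)) hW hWr (T.image τf) d le_rfl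
  rw [Finset.sum_image hinj, Finset.card_image_of_injOn hinj, Nat.add_sub_cancel] at hpl
  have hsum : ∑ P ∈ T, PP.psum (V.comap (Phi t u)) (τf P) d = ∑ P ∈ T, vsum V D P d := by
    apply Finset.sum_congr rfl
    intro P hP
    exact psum_comap_eq hK hg ht hD hu0 hu hV hτ1 (hτf P (hne P hP))
  rw [hsum] at hpl
  rw [mul_comm r (r + 1)]
  exact hpl

end Groth.Agent.H86.FF
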