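import Mathlib
import Groth.Agent.H86.TR3

set_option autoImplicit false

namespace Groth.Agent.H86.FF

open FunFld Module Groth.Agent.H55

variable {k K : Type*} [Field k] [Field K] [Algebra k K] [IsAlgClosed k] [CharZero k]

section
variable (hK : IsFunctionField k K) (hg : genus k K = 0)
    {V : Submodule k K} {D : Divisor k K} (hV : V ≤ L D) {r d : ℕ}
    (hVr : finrank k V = r + 1) (hD : D.deg = d)
include hK hg hV hVr hD

theorem plucker3 {P1 P2 P3 : Place k K} (h12 : P1 ≠ P2) (h13 : P1 ≠ P3) (h23 : P2 ≠ P3) :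
    vsum V D P1 d + vsum V D P2 d + vsum V D P3 d + r * (r + 1) ≤ (r + 1) * d + 3 * tri r := by
  classical
  have := ff_plucker hK hg hV hVr hD ({P1, P2, P3} : Finset (Place k K))
  rw [Finset.sum_insert (by simp [h12, h13]), Finset.sum_insert (by simp [h23]),
    Finset.sum_singleton, Finset.card_insert_of_notMem (by simp [h12, h13]),
    Finset.card_insert_of_notMem (by simp [h23]), Finset.card_singleton] at this
  omega

theorem plucker4 {P1 P2 P3 P4 : Place k K} (h12 : P1 ≠ P2) (h13 : P1 ≠ P3) (h14 : P1 ≠ P4)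
    (h23 : P2 ≠ P3) (h24 : P2 ≠ P4) (h34 : P3 ≠ P4) :
    vsum V D P1 d + vsum V D P2 d + vsum V D P3 d + vsum V D P4 d + r * (r + 1) ≤
      (r + 1) * d + 4 * tri r := by
  classical
  have := ff_plucker hK hg hV hVr hD ({P1, P2, P3, P4} : Finset (Place k K))
  rw [Finset.sum_insert (by simp [h12, h13, h14]), Finset.sum_insert (by simp [h23, h24]),
    Finset.sum_insert (by simp [h34]),
    Finset.sum_singleton, Finset.card_insert_of_notMem (by simp [h12, h13, h14]),
    Finset.card_insert_of_notMem (by simp [h23, h24]),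
    Finset.card_insert_of_notMem (by simp [h34]), Finset.card_singleton] at this
  omega

/-- Plücker with three optional extra points carrying lower bounds for their weights -/
theorem plucker4opt (P1 P2 P3 P4 : Place k K) (c1 c2 c3 : Prop) (x1 x2 x3 : ℕ)
    (h1 : c1 → x1 + tri r ≤ vsum V D P1 d) (h1' : ¬ c1 → x1 = 0)
    (h2 : c2 → x2 + tri r ≤ vsum V D P2 d) (h2' : ¬ c2 → x2 = 0)
    (h3 : c3 → x3 + tri r ≤ vsum V D P3 d) (h3' : ¬ c3 → x3 = 0)
    (d12 : c1 → c2 → P1 ≠ P2) (d13 : c1 → c3 → P1 ≠ P3) (d23 : c2 → c3 → P2 ≠ P3)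
    (d14 : c1 → P1 ≠ P4) (d24 : c2 → P2 ≠ P4) (d34 : c3 → P3 ≠ P4) :
    vsum V D P4 d + x1 + x2 + x3 + tri r ≤ (r + 1) * d := by
  classical
  have ht := two_mul_tri r
  have hsingle := vsum_add_tri_le hK hV hVr hD P4
  by_cases hc1 : c1 <;> by_cases hc2 : c2 <;> by_cases hc3 : c3
  · have := plucker4 hK hg hV hVr hD (d12 hc1 hc2) (d13 hc1 hc3) (d14 hc1) (d23 hc2 hc3)
      (d24 hc2) (d34 hc3)
    have := h1 hc1; have := h2 hc2; have := h3 hc3
    omega
  · have := plucker3 hK hg hV hVr hD (d12 hc1 hc2) (d14 hc1) (d24 hc2)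
    have := h1 hc1; have := h2 hc2; have := h3' hc3
    omega
  · have := plucker3 hK hg hV hVr hD (d13 hc1 hc3) (d14 hc1) (d34 hc3)
    have := h1 hc1; have := h2' hc2; have := h3 hc3
    omega
  · have := vsum_add_vsum_le hK hV hVr hD (d14 hc1)
    have := h1 hc1; have := h2' hc2; have := h3' hc3
    omega
  · have := plucker3 hK hg hV hVr hD (d23 hc2 hc3) (d24 hc2) (d34 hc3)
    have := h1' hc1; have := h2 hc2; have := h3 hc3
    omega
  · have := vsum_add_vsum_le hK hV hVr hD (d24 hc2)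
    have := h1' hc1; have := h2 hc2; have := h3' hc3
    omega
  · have := vsum_add_vsum_le hK hV hVr hD (d34 hc3)
    have := h1' hc1; have := h2' hc2; have := h3 hc3
    omega
  · have := h1' hc1; have := h2' hc2; have := h3' hc3
    omega

end

end Groth.Agent.H86.FF
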