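import Mathlib
import Groth.Agent.H86.LLS7

set_option autoImplicit false

namespace Groth.Agent.H86.FF

open FunFld Module Groth.Agent.H55

/-- along a chain ending in a component of positive genus, every earlier component has at
least a cusp at its lower node. -/
theorem chain_cusp (k : Type*) [Field k] [IsAlgClosed k]
    (n : ℕ) (U : Fin (n + 1) → Type*) [∀ l, Field (U l)] [∀ l, Algebra k (U l)]
    (hU : ∀ l, IsFunctionField k (U l))
    (d r : ℕ) (D : ∀ l, Divisor k (U l)) (hD : ∀ l, (D l).deg = d)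
    (V : ∀ l, Submodule k (U l)) (hV : ∀ l, V l ≤ L (D l))
    (hVr : ∀ l, Module.finrank k ↥(V l) = r + 1)
    (A B : ∀ l, Place k (U l))
    (hAB : ∀ l : Fin (n + 1), 0 < (l : ℕ) → (l : ℕ) < n → A l ≠ B l)
    (hcomp : ∀ (l : Fin n) (m : ℕ), m ≤ d + 1 →
      vdim (V l.castSucc) (D l.castSucc) (B l.castSucc) (m : ℤ) +
        vdim (V l.succ) (D l.succ) (A l.succ) ((d : ℤ) + 1 - m) = r + 1)
    (hpos : 0 < genus k (U (Fin.last n)))
    (j : Fin n) : r ≤ vdim (V j.castSucc) (D j.castSucc) (B j.castSucc) 2 := by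
  rcases Nat.eq_zero_or_pos d with hd0 | hdpos
  · have := r_le_d (hU j.castSucc) (hV _) (hVr _) (hD _)
    have hr0 : r = 0 := by omega
    rw [hr0]
    exact Nat.zero_le _
  -- the step: a bound at the upper node of the next component gives the cusp
  have step : ∀ j : Fin n,
      vdim (V j.succ) (D j.succ) (A j.succ) ((d : ℤ) + 1 - (2 : ℕ)) ≤ 1 →
      r ≤ vdim (V j.castSucc) (D j.castSucc) (B j.castSucc) 2 := by
    intro j h
    have := hcomp j 2 (by omega)
    have e : (((2 : ℕ) : ℤ)) = (2 : ℤ) := by norm_num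
    rw [e] at this h
    omega
  have key : ∀ i : ℕ, ∀ j : Fin n, (j : ℕ) + i + 1 = n →
      r ≤ vdim (V j.castSucc) (D j.castSucc) (B j.castSucc) 2 := by
    intro i
    induction i with
    | zero =>
      intro j hj
      apply step
      have hlast : ∀ l : Fin (n + 1), l = Fin.last n →
          vdim (V l) (D l) (A l) ((d : ℤ) + 1 - (2 : ℕ)) ≤ 1 := by
        rintro l rfl
        have h1 : vdim (V (Fin.last n)) (D (Fin.last n)) (A (Fin.last n))
            ((d : ℤ) + 1 - (2 : ℕ)) ≤
            ell (D (Fin.last n) - Finsupp.single (A (Fin.last n)) ((d : ℤ) + 1 - (2 : ℕ))) := by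
          unfold vdim
          have := L_finite (hU (Fin.last n))
            (D (Fin.last n) - Finsupp.single (A (Fin.last n)) ((d : ℤ) + 1 - (2 : ℕ)))
          exact Submodule.finrank_mono inf_le_right
        have h2 := ell_le_one_of_deg_one (hU (Fin.last n)) hpos
          (D (Fin.last n) - Finsupp.single (A (Fin.last n)) ((d : ℤ) + 1 - (2 : ℕ)))
          (by rw [Divisor.deg_sub, deg_single_one (hU _), hD]; push_cast; ring)
        omega
      exact hlast j.succ (Fin.ext (by simp only [Fin.val_succ, Fin.val_last]; omega))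
    | succ i ih =>
      intro j hj
      apply step
      have hjn : (j : ℕ) + 1 < n := by omega
      have ih' := ih ⟨(j : ℕ) + 1, hjn⟩ (by simp only; omega)
      have hnext : ∀ l : Fin (n + 1), l = (⟨(j : ℕ) + 1, hjn⟩ : Fin n).castSucc →
          vdim (V l) (D l) (A l) ((d : ℤ) + 1 - (2 : ℕ)) ≤ 1 := by
        rintro l rfl
        have hA := vdim_add_le (hU _) (hV (⟨(j : ℕ) + 1, hjn⟩ : Fin n).castSucc)
          (hAB (⟨(j : ℕ) + 1, hjn⟩ : Fin n).castSucc (by simp) (by simpa using hjn))
          (m := (d : ℤ) + 1 - (2 : ℕ)) (n := (2 : ℤ)) (by rw [hD]; push_cast; omega)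
        rw [hVr] at hA
        omega
      exact hnext j.succ (Fin.ext rfl)
  exact key (n - 1 - j) j (by have := j.2; omega)

end Groth.Agent.H86.FF
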