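import Mathlib
import Groth.Agent.H86.LLS8

set_option autoImplicit false

namespace Groth.Agent.H86.FF

open FunFld Module Groth.Agent.H55

/-- pure combinatorics of weights along a backbone -/
theorem backbone_core (N : ℕ) (α β ρ : ℕ → ℕ) (C tr : ℕ)
    (hcompat : ∀ j, j < N → β j + α (j + 1) = C)
    (hinner : ∀ j, 0 < j → j < N → α j + β j + ρ j ≤ C)
    (hfirst : 0 < N → β 0 + ρ 0 + tr ≤ C)
    (hlast : 0 < N → α N + ρ N + tr ≤ C) :
    (∀ i, 0 < i → i ≤ N → (∑ j ∈ Finset.range i, ρ j) + tr ≤ α i) ∧
    (∀ i, i < N → ((∑ j ∈ Finset.range (N + 1), ρ j) - ∑ j ∈ Finset.range (i + 1), ρ j) + tr ≤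
      β i) := by
  have hmono : ∀ i, i ≤ N → ∑ j ∈ Finset.range (i + 1), ρ j ≤ ∑ j ∈ Finset.range (N + 1), ρ j :=
    fun i hi => Finset.sum_le_sum_of_subset (Finset.range_subset_range.mpr (by omega))
  constructor
  · intro i hi0
    induction i with
    | zero => omega
    | succ i ih =>
      intro hiN
      rcases Nat.eq_zero_or_pos i with h0 | hpos
      · subst h0
        have h1 := hcompat 0 (by omega)
        have h2 := hfirst (by omega)
        simp only [Finset.sum_range_one, Nat.zero_add] at *
        omega
      · have h1 := hcompat i (by omega)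
        have h2 := hinner i hpos (by omega)
        have h3 := ih hpos (by omega)
        rw [Finset.sum_range_succ]
        omega
  · have key : ∀ e i, i + e + 1 = N →
        ((∑ j ∈ Finset.range (N + 1), ρ j) - ∑ j ∈ Finset.range (i + 1), ρ j) + tr ≤ β i := by
      intro e
      induction e with
      | zero =>
        intro i hi
        have hiN : i + 1 = N := by omega
        have h1 := hcompat i (by omega)
        have h2 := hlast (by omega)
        rw [hiN] at h1
        have h3 : ∑ j ∈ Finset.range (N + 1), ρ j = (∑ j ∈ Finset.range (i + 1), ρ j) + ρ N := by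
          rw [Finset.sum_range_succ, hiN]
        omega
      | succ e ih =>
        intro i hi
        have h1 := hcompat i (by omega)
        have h2 := hinner (i + 1) (by omega) (by omega)
        have h3 := ih (i + 1) (by omega)
        have h4 : ∑ j ∈ Finset.range (i + 1 + 1), ρ j =
            (∑ j ∈ Finset.range (i + 1), ρ j) + ρ (i + 1) := Finset.sum_range_succ _ _
        have h5 := hmono (i + 1) (by omega)
        omega
    intro i hi
    exact key (N - 1 - i) i (by omega)

/-- counting a finset of `Fin (N+1)` through indicator sums over `range` -/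
theorem card_mul_eq_sum (N r : ℕ) (T : Finset (Fin (N + 1))) :
    ∑ j ∈ Finset.range (N + 1), (if h : j < N + 1 then (if (⟨j, h⟩ : Fin (N + 1)) ∈ T then r else 0)
      else 0) = r * T.card := by
  rw [← Fin.sum_univ_eq_sum_range (fun j => if h : j < N + 1 then
    (if (⟨j, h⟩ : Fin (N + 1)) ∈ T then r else 0) else 0) (N + 1)]
  have : ∀ i : Fin (N + 1), (if h : (i : ℕ) < N + 1 then
      (if (⟨(i : ℕ), h⟩ : Fin (N + 1)) ∈ T then r else 0) else 0) = if i ∈ T then r else 0 := by
    intro i
    rw [dif_pos i.2]
  simp only [this]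
  rw [Finset.sum_ite_mem, Finset.univ_inter, Finset.sum_const, smul_eq_mul, mul_comm]

end Groth.Agent.H86.FF
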