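import Mathlib
import Groth.Agent.H86.BB1

set_option autoImplicit false

namespace Groth.Agent.H86.FF

open FunFld Module Groth.Agent.H55

/-- weights at the two nodes of a backbone component: lower bounds coming from the tails on
either side. -/
theorem backbone_pkg (k : Type*) [Field k] [IsAlgClosed k] [CharZero k]
    (N : ℕ) (Z : Fin (N + 1) → Type*) [∀ i, Field (Z i)] [∀ i, Algebra k (Z i)]
    (hZ : ∀ i, IsFunctionField k (Z i)) (hrat : ∀ i, genus k (Z i) = 0)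
    (d r : ℕ) (D : ∀ i, Divisor k (Z i)) (hD : ∀ i, (D i).deg = d)
    (V : ∀ i, Submodule k (Z i)) (hV : ∀ i, V i ≤ L (D i))
    (hVr : ∀ i, Module.finrank k ↥(V i) = r + 1)
    (A B : ∀ i, Place k (Z i))
    (hAB : ∀ i : Fin (N + 1), 0 < (i : ℕ) → (i : ℕ) < N → A i ≠ B i)
    (hcomp : ∀ (l : Fin N) (m : ℕ), m ≤ d + 1 →
      vdim (V l.castSucc) (D l.castSucc) (B l.castSucc) (m : ℤ) +
        vdim (V l.succ) (D l.succ) (A l.succ) ((d : ℤ) + 1 - m) = r + 1)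
    (T : Finset (Fin (N + 1))) (Q : ∀ i, Place k (Z i))
    (hQA : ∀ i ∈ T, 0 < (i : ℕ) → Q i ≠ A i) (hQB : ∀ i ∈ T, (i : ℕ) < N → Q i ≠ B i)
    (hcusp : ∀ i ∈ T, r ≤ vdim (V i) (D i) (Q i) 2)
    (i : Fin (N + 1)) :
    ∃ a b q : ℕ, a + b + q = r * T.card ∧ q = (if i ∈ T then r else 0) ∧
      (0 < (i : ℕ) → a + tri r ≤ vsum (V i) (D i) (A i) d) ∧ (¬ 0 < (i : ℕ) → a = 0) ∧
      ((i : ℕ) < N → b + tri r ≤ vsum (V i) (D i) (B i) d) ∧ (¬ (i : ℕ) < N → b = 0) := by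
  classical
  let α : ℕ → ℕ := fun j => if h : j < N + 1 then
    vsum (V ⟨j, h⟩) (D ⟨j, h⟩) (A ⟨j, h⟩) d else 0
  let β : ℕ → ℕ := fun j => if h : j < N + 1 then
    vsum (V ⟨j, h⟩) (D ⟨j, h⟩) (B ⟨j, h⟩) d else 0
  let ρ : ℕ → ℕ := fun j => if h : j < N + 1 then
    (if (⟨j, h⟩ : Fin (N + 1)) ∈ T then r else 0) else 0
  have hα : ∀ l : Fin (N + 1), α (l : ℕ) = vsum (V l) (D l) (A l) d := by
    intro l
    simp only [α, dif_pos l.2]
  have hβ : ∀ l : Fin (N + 1), β (l : ℕ) = vsum (V l) (D l) (B l) d := by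
    intro l
    simp only [β, dif_pos l.2]
  have hρ : ∀ l : Fin (N + 1), ρ (l : ℕ) = if l ∈ T then r else 0 := by
    intro l
    simp only [ρ, dif_pos l.2]
  have htot : ∑ j ∈ Finset.range (N + 1), ρ j = r * T.card := card_mul_eq_sum N r T
  have ht2 := two_mul_tri r
  -- the numeric hypotheses
  have hcompat : ∀ j, j < N → β j + α (j + 1) = (r + 1) * d := by
    intro j hj
    have h1 := vsum_compat (B (⟨j, hj⟩ : Fin N).castSucc) (A (⟨j, hj⟩ : Fin N).succ)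
      (hcomp ⟨j, hj⟩)
    have e1 : β j = vsum (V (⟨j, hj⟩ : Fin N).castSucc) (D (⟨j, hj⟩ : Fin N).castSucc)
        (B (⟨j, hj⟩ : Fin N).castSucc) d := hβ (⟨j, hj⟩ : Fin N).castSucc
    have e2 : α (j + 1) = vsum (V (⟨j, hj⟩ : Fin N).succ) (D (⟨j, hj⟩ : Fin N).succ)
        (A (⟨j, hj⟩ : Fin N).succ) d := hα (⟨j, hj⟩ : Fin N).succ
    rw [e1, e2]
    exact h1
  -- cusp contribution at a component of `T`
  have hQlow : ∀ l ∈ T, tri r + r ≤ vsum (V l) (D l) (Q l) d := fun l hl =>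
    vsum_cusp (hZ l) (hV l) (hVr l) (hD l) (Q l) (hcusp l hl)
  have hinner : ∀ j, 0 < j → j < N → α j + β j + ρ j ≤ (r + 1) * d := by
    intro j hj0 hjN
    have hj : j < N + 1 := by omega
    have e1 := hα ⟨j, hj⟩
    have e2 := hβ ⟨j, hj⟩
    have e3 := hρ ⟨j, hj⟩
    simp only at e1 e2 e3
    rw [e1, e2, e3]
    by_cases hT : (⟨j, hj⟩ : Fin (N + 1)) ∈ T
    · rw [if_pos hT]
      have h1 := plucker3 (hZ _) (hrat _) (hV _) (hVr _) (hD ⟨j, hj⟩)
        (hAB ⟨j, hj⟩ hj0 hjN) (hQA _ hT hj0).symm (hQB _ hT hjN).symm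
      have h2 := hQlow _ hT
      omega
    · rw [if_neg hT]
      have h1 := vsum_add_vsum_le (hZ _) (hV _) (hVr _) (hD ⟨j, hj⟩) (hAB ⟨j, hj⟩ hj0 hjN)
      omega
  have hfirst : 0 < N → β 0 + ρ 0 + tri r ≤ (r + 1) * d := by
    intro hN
    have e2 := hβ ⟨0, by omega⟩
    have e3 := hρ ⟨0, by omega⟩
    simp only at e2 e3
    rw [e2, e3]
    by_cases hT : (⟨0, by omega⟩ : Fin (N + 1)) ∈ T
    · rw [if_pos hT]
      have h1 := vsum_add_vsum_le (hZ _) (hV _) (hVr _) (hD ⟨0, by omega⟩)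
        (hQB _ hT hN).symm
      have h2 := hQlow _ hT
      omega
    · rw [if_neg hT]
      have h1 := vsum_add_tri_le (hZ _) (hV _) (hVr _) (hD ⟨0, by omega⟩) (B ⟨0, by omega⟩)
      omega
  have hlast : 0 < N → α N + ρ N + tri r ≤ (r + 1) * d := by
    intro hN
    have e1 := hα ⟨N, by omega⟩
    have e3 := hρ ⟨N, by omega⟩
    simp only at e1 e3
    rw [e1, e3]
    by_cases hT : (⟨N, by omega⟩ : Fin (N + 1)) ∈ T
    · rw [if_pos hT]
      have h1 := vsum_add_vsum_le (hZ _) (hV _) (hVr _) (hD ⟨N, by omega⟩)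
        (hQA _ hT hN).symm
      have h2 := hQlow _ hT
      omega
    · rw [if_neg hT]
      have h1 := vsum_add_tri_le (hZ _) (hV _) (hVr _) (hD ⟨N, by omega⟩) (A ⟨N, by omega⟩)
      omega
  obtain ⟨hF, hB⟩ := backbone_core N α β ρ ((r + 1) * d) (tri r) hcompat hinner hfirst hlast
  have hmono : ∑ j ∈ Finset.range ((i : ℕ) + 1), ρ j ≤ ∑ j ∈ Finset.range (N + 1), ρ j :=
    Finset.sum_le_sum_of_subset (Finset.range_subset_range.mpr (by have := i.2; omega))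
  have hsucc : ∑ j ∈ Finset.range ((i : ℕ) + 1), ρ j =
      (∑ j ∈ Finset.range (i : ℕ), ρ j) + ρ (i : ℕ) := Finset.sum_range_succ _ _
  refine ⟨∑ j ∈ Finset.range (i : ℕ), ρ j,
    (∑ j ∈ Finset.range (N + 1), ρ j) - ∑ j ∈ Finset.range ((i : ℕ) + 1), ρ j, ρ (i : ℕ),
    ?_, hρ i, ?_, ?_, ?_, ?_⟩
  · rw [← htot]
    omega
  · intro h0
    rw [← hα i]
    exact hF (i : ℕ) h0 (by have := i.2; omega)
  · intro h0
    have : (i : ℕ) = 0 := by omega
    rw [this, Finset.range_zero, Finset.sum_empty]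
  · intro hN
    rw [← hβ i]
    exact hB (i : ℕ) hN
  · intro hN
    have hiN : (i : ℕ) = N := by have := i.2; omega
    rw [hiN]
    omega

end Groth.Agent.H86.FF
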