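import Groth.Prelude.Def_FibCat2
import Mathlib.CategoryTheory.Sites.Grothendieck

set_option autoImplicit false
set_option backward.isDefEq.respectTransparency false
universe v₅ u₅ v₄ u₄ v₃ u₃ v₂ u₂ v u

open CategoryTheory

namespace Groth.Agent.H86

variable {C : Type u} [Category.{v} C]

section Whisker

variable {𝒳 : BasedCategory.{v₂, u₂} C} {𝒴 : BasedCategory.{v₃, u₃} C}
  {𝒵 : BasedCategory.{v₄, u₄} C}

/-- left whiskering of a based natural isomorphism -/
def bWhiskerLeftIso (F : 𝒳 ⥤ᵇ 𝒴) {G H : 𝒴 ⥤ᵇ 𝒵} (α : G ≅ H) :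
    BasedFunctor.comp F G ≅ BasedFunctor.comp F H :=
  BasedNatIso.mkNatIso
    (Functor.isoWhiskerLeft F.toFunctor ((BasedNatTrans.forgetful _ _).mapIso α))
    (fun a => α.hom.isHomLift (F.w_obj a))

/-- right whiskering of a based natural isomorphism -/
def bWhiskerRightIso {F G : 𝒳 ⥤ᵇ 𝒴} (α : F ≅ G) (H : 𝒴 ⥤ᵇ 𝒵) :
    BasedFunctor.comp F H ≅ BasedFunctor.comp G H :=
  BasedNatIso.mkNatIso
    (Functor.isoWhiskerRight ((BasedNatTrans.forgetful _ _).mapIso α) H.toFunctor)
    (fun a => by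
      have : 𝒴.p.IsHomLift (𝟙 (𝒳.p.obj a)) (α.hom.toNatTrans.app a) := inferInstance
      exact BasedFunctor.preserves_isHomLift H (𝟙 (𝒳.p.obj a)) (α.hom.toNatTrans.app a))

end Whisker

section OverMap

/-- the based functor `C/V ⥤ C/U` attached to `h : V ⟶ U` -/
abbrev overMapB {U V : C} (h : V ⟶ U) : FibCat.overCat V ⥤ᵇ FibCat.overCat U :=
  ⟨Over.map h, Over.mapForget_eq h⟩

/-- compatibility of `overMapB` with composition -/
def overMapBComp {U V W : C} (h' : W ⟶ V) (h : V ⟶ U) :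
    overMapB (h' ≫ h) ≅ BasedFunctor.comp (overMapB h') (overMapB h) :=
  BasedNatIso.mkNatIso (Over.mapComp h' h) (fun a => by
    apply IsHomLift.of_fac' _ _ _ rfl rfl
    simp only [Over.mapComp, NatIso.ofComponents_hom_app, eqToHom_refl, Category.comp_id,
      Category.id_comp]
    rfl)

end OverMap

end Groth.Agent.H86
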