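import Mathlib.RingTheory.Length
import Mathlib.RingTheory.FiniteLength
import Mathlib.LinearAlgebra.Quotient.Basic
import Mathlib.LinearAlgebra.Prod

/-! Length count: purity of `ι` in a right exact sequence `S → M × S → M → 0` (last map semilinear). -/

set_option autoImplicit false

namespace Groth.Agent.H86.FL

open Function

section

variable {R : Type*} [CommRing R]

/-- the submodule `a X` -/
def aSub (a : R) (X : Type*) [AddCommGroup X] [Module R X] : Submodule R X :=
  LinearMap.range (LinearMap.lsmul R X a)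

lemma mem_aSub {a : R} {X : Type*} [AddCommGroup X] [Module R X] {x : X} :
    x ∈ aSub a X ↔ ∃ y : X, a • y = x := by
  simp [aSub, LinearMap.mem_range]

lemma length_eq_of_semilinear_bijective (σ : R →+* R) [RingHomSurjective σ]
    {X Y : Type*} [AddCommGroup X] [Module R X] [AddCommGroup Y] [Module R Y]
    (g : X →ₛₗ[σ] Y) (hg : Bijective g) : Module.length R X = Module.length R Y := by
  apply WithBot.coe_injective
  rw [Module.coe_length, Module.coe_length,
    Order.krullDim_eq_of_orderIso (Submodule.orderIsoMapComapOfBijective g hg)]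

lemma length_quot_ker_eq (σ : R →+* R) [RingHomSurjective σ]
    {X Y : Type*} [AddCommGroup X] [Module R X] [AddCommGroup Y] [Module R Y]
    (g : X →ₛₗ[σ] Y) (hg : Surjective g) :
    Module.length R (X ⧸ LinearMap.ker g) = Module.length R Y := by
  refine length_eq_of_semilinear_bijective σ ((LinearMap.ker g).liftQ g le_rfl) ⟨?_, ?_⟩
  · exact LinearMap.ker_eq_bot.mp (Submodule.ker_liftQ_eq_bot' _ _ rfl)
  · intro y
    obtain ⟨x, rfl⟩ := hg y
    exact ⟨Submodule.Quotient.mk x, rfl⟩

/-- `(M × S)/a ≅ M/a × S/a` on lengths -/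
lemma length_quot_prod (a : R) (M S : Type*) [AddCommGroup M] [Module R M]
    [AddCommGroup S] [Module R S] :
    Module.length R ((M × S) ⧸ aSub a (M × S)) =
      Module.length R (M ⧸ aSub a M) + Module.length R (S ⧸ aSub a S) := by
  let f : (M × S) →ₗ[R] (M ⧸ aSub a M) × (S ⧸ aSub a S) :=
    LinearMap.prodMap (aSub a M).mkQ (aSub a S).mkQ
  have hf : Surjective f := by
    rintro ⟨x, y⟩
    obtain ⟨m, rfl⟩ := Submodule.mkQ_surjective _ x
    obtain ⟨s, rfl⟩ := Submodule.mkQ_surjective _ y
    exact ⟨(m, s), rfl⟩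
  have hk : LinearMap.ker f = aSub a (M × S) := by
    ext ⟨m, s⟩
    simp only [LinearMap.mem_ker, f, LinearMap.prodMap_apply, Prod.mk_eq_zero,
      Submodule.mkQ_apply, Submodule.Quotient.mk_eq_zero, mem_aSub]
    constructor
    · rintro ⟨⟨m', rfl⟩, ⟨s', rfl⟩⟩
      exact ⟨(m', s'), rfl⟩
    · rintro ⟨⟨m', s'⟩, h⟩
      simp only [Prod.smul_mk, Prod.mk.injEq] at h
      exact ⟨⟨m', h.1⟩, ⟨s', h.2⟩⟩
  rw [← Module.length_prod, ← (f.quotKerEquivOfSurjective hf).length_eq,
    (Submodule.quotEquivOfEq _ _ hk).length_eq]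

/-- **Length count.** In a complex `S → M × S → M → 0` which is right exact, the last map
being `σ`-semilinear with `σ a = a`, the first map is `a`-pure. -/
theorem pure_of_count (σ : R →+* R) [RingHomSurjective σ] (a : R) (ha : σ a = a)
    {M S : Type*} [AddCommGroup M] [Module R M] [AddCommGroup S] [Module R S]
    (hM : IsFiniteLength R M) (hS : IsFiniteLength R S)
    (ι : S →ₗ[R] M × S) (Φ : M × S →ₛₗ[σ] M) (hΦι : ∀ s, Φ (ι s) = 0)
    (hsurj : Surjective Φ) (hker : ∀ t, Φ t = 0 → ∃ s, ι s = t)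
    (s : S) (hs : ι s ∈ aSub a (M × S)) : s ∈ aSub a S := by
  let Ψ : M × S →ₛₗ[σ] (M ⧸ aSub a M) := (aSub a M).mkQ.comp Φ
  have hΨ : Surjective Ψ := (Submodule.mkQ_surjective _).comp hsurj
  have h1 : Module.length R ((M × S) ⧸ LinearMap.ker Ψ) = Module.length R (M ⧸ aSub a M) :=
    length_quot_ker_eq σ Ψ hΨ
  have hΨmem : ∀ t, t ∈ LinearMap.ker Ψ ↔ Φ t ∈ aSub a M := by
    intro t
    simp [Ψ, LinearMap.mem_ker, Submodule.Quotient.mk_eq_zero]
  have haK : aSub a (M × S) ≤ LinearMap.ker Ψ := by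
    intro t ht
    obtain ⟨t', rfl⟩ := mem_aSub.mp ht
    rw [hΨmem, map_smulₛₗ, ha]
    exact mem_aSub.mpr ⟨_, rfl⟩
  let f : S →ₗ[R] (M × S) ⧸ aSub a (M × S) := (aSub a (M × S)).mkQ.comp ι
  let f' : S ⧸ LinearMap.ker f →ₗ[R] (M × S) ⧸ aSub a (M × S) :=
    (LinearMap.ker f).liftQ f le_rfl
  have hf' : Injective f' := LinearMap.ker_eq_bot.mp (Submodule.ker_liftQ_eq_bot' _ _ rfl)
  let g : (M × S) ⧸ aSub a (M × S) →ₗ[R] (M × S) ⧸ LinearMap.ker Ψ := Submodule.factor haK
  have hg : Surjective g := Submodule.factor_surjective haK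
  have hex : Function.Exact f' g := by
    intro y
    obtain ⟨t, rfl⟩ := Submodule.mkQ_surjective _ y
    constructor
    · intro h
      have ht : Φ t ∈ aSub a M := by
        rw [← hΨmem]
        simpa [g, Submodule.factor_mk, Submodule.Quotient.mk_eq_zero] using h
      obtain ⟨m, hm⟩ := mem_aSub.mp ht
      obtain ⟨t', rfl⟩ := hsurj m
      have h0 : Φ (t - a • t') = 0 := by
        rw [map_sub, map_smulₛₗ, ha, hm, sub_self]
      obtain ⟨s', hs'⟩ := hker _ h0
      refine ⟨Submodule.Quotient.mk s', ?_⟩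
      change (aSub a (M × S)).mkQ (ι s') = (aSub a (M × S)).mkQ t
      rw [hs', map_sub, sub_eq_self]
      simp only [Submodule.mkQ_apply, Submodule.Quotient.mk_eq_zero]
      exact mem_aSub.mpr ⟨_, rfl⟩
    · rintro ⟨x, hx⟩
      obtain ⟨s', rfl⟩ := Submodule.mkQ_surjective _ x
      rw [← hx]
      change (Submodule.factor haK) ((aSub a (M × S)).mkQ (ι s')) = 0
      rw [Submodule.factor_mk, Submodule.mkQ_apply, Submodule.Quotient.mk_eq_zero, hΨmem, hΦι]
      exact zero_mem _
  have h2 := Module.length_eq_add_of_exact f' g hf' hg hex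
  have h3 := length_quot_prod a M S
  have hMfin : Module.length R (M ⧸ aSub a M) ≠ ⊤ :=
    ne_top_of_le_ne_top (Module.length_ne_top_iff.mpr hM)
      (Module.length_le_of_surjective _ (Submodule.mkQ_surjective (aSub a M)))
  have hSfin : Module.length R (S ⧸ aSub a S) ≠ ⊤ :=
    ne_top_of_le_ne_top (Module.length_ne_top_iff.mpr hS)
      (Module.length_le_of_surjective _ (Submodule.mkQ_surjective (aSub a S)))
  have h4 : Module.length R (S ⧸ LinearMap.ker f) = Module.length R (S ⧸ aSub a S) := by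
    rw [h3, h1, add_comm (Module.length R (S ⧸ LinearMap.ker f))] at h2
    exact (WithTop.add_left_inj hMfin).mp h2.symm
  have hle : aSub a S ≤ LinearMap.ker f := by
    intro x hx
    obtain ⟨x', rfl⟩ := mem_aSub.mp hx
    rw [LinearMap.mem_ker]
    change (aSub a (M × S)).mkQ (ι (a • x')) = 0
    rw [map_smul, Submodule.mkQ_apply, Submodule.Quotient.mk_eq_zero]
    exact mem_aSub.mpr ⟨_, rfl⟩
  have heq : aSub a S = LinearMap.ker f := by
    by_contra hne
    have hlt : aSub a S < LinearMap.ker f := lt_of_le_of_ne hle hne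
    rw [Module.length_quotient, Module.length_quotient] at h4
    have hfin : Order.coheight (aSub a S) < ⊤ := by
      rw [← Module.length_quotient]; exact hSfin.lt_top
    have hfin' : Order.coheight (LinearMap.ker f) < ⊤ := by rw [h4]; exact hfin
    have := Order.coheight_strictAnti hlt hfin'
    rw [h4] at this
    exact lt_irrefl _ this
  rw [heq]
  simpa [f, LinearMap.mem_ker, Submodule.Quotient.mk_eq_zero] using hs

end

end Groth.Agent.H86.FL
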