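import Mathlib.Algebra.Module.PID
import Mathlib.RingTheory.DiscreteValuationRing.Basic

/-! A pure submodule of a finitely generated torsion module over a DVR is a direct summand. -/

set_option autoImplicit false

namespace Groth.Agent.H86.FL

open DirectSum

universe u v

lemma isCompl_ker_range_of_section {R : Type*} [Ring R] {N P : Type*} [AddCommGroup N]
    [Module R N] [AddCommGroup P] [Module R P] (f : N →ₗ[R] P) (s : P →ₗ[R] N)
    (h : ∀ y, f (s y) = y) :
    IsCompl (LinearMap.ker f) (LinearMap.range s) := by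
  constructor
  · rw [Submodule.disjoint_def]
    rintro x hx ⟨y, rfl⟩
    rw [LinearMap.mem_ker, h] at hx
    rw [hx, map_zero]
  · rw [codisjoint_iff, eq_top_iff]
    intro x _
    have : x = (x - s (f x)) + s (f x) := by abel
    rw [this]
    refine Submodule.add_mem_sup ?_ ⟨_, rfl⟩
    rw [LinearMap.mem_ker, map_sub, h, sub_self]

/-- A pure submodule of a finitely generated torsion module over a DVR has a complement. -/
theorem exists_isCompl_of_pure {R : Type u} [CommRing R] [IsDomain R]
    [IsDiscreteValuationRing R]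
    (ϖ : R) (hϖ : Irreducible ϖ) {N : Type v} [AddCommGroup N] [Module R N] [Module.Finite R N]
    (htors : Module.IsTorsion R N) (N' : Submodule R N)
    (hpure : ∀ (n : ℕ) (x : N), ϖ ^ n • x ∈ N' → ∃ a ∈ N', ϖ ^ n • a = ϖ ^ n • x) :
    ∃ Q : Submodule R N, IsCompl N' Q := by
  classical
  have htorsQ : Module.IsTorsion R (N ⧸ N') := by
    intro y
    obtain ⟨x, rfl⟩ := Submodule.mkQ_surjective _ y
    obtain ⟨a, ha⟩ := @htors x
    refine ⟨a, ?_⟩
    rw [Submonoid.smul_def] at ha ⊢
    rw [← map_smul, ha, map_zero]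
  obtain ⟨ι, _, q, hq, e, ⟨E⟩⟩ := Module.equiv_directSum_of_isTorsion htorsQ
  have hlift : ∀ j : ι, ∃ u : N,
      N'.mkQ u = E.symm (DirectSum.lof R ι (fun j => R ⧸ R ∙ q j ^ e j) j
        (Submodule.Quotient.mk 1)) ∧ q j ^ e j • u = 0 := by
    intro j
    set v := E.symm (DirectSum.lof R ι (fun j => R ⧸ R ∙ q j ^ e j) j
        (Submodule.Quotient.mk 1)) with hv
    obtain ⟨u', hu'⟩ := Submodule.mkQ_surjective N' v
    obtain ⟨c, hc⟩ := IsDiscreteValuationRing.associated_of_irreducible R hϖ (hq j)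
    have hqv : q j ^ e j • v = 0 := by
      rw [hv, ← map_smul, ← map_smul, ← Submodule.Quotient.mk_smul, smul_eq_mul, mul_one,
        (Submodule.Quotient.mk_eq_zero _).mpr (Submodule.mem_span_singleton_self _), map_zero,
        map_zero]
    have hcu : IsUnit ((c : R) ^ e j) := (c.isUnit).pow _
    have hϖv : ϖ ^ e j • u' ∈ N' := by
      rw [← Submodule.Quotient.mk_eq_zero, Submodule.Quotient.mk_smul, ← Submodule.mkQ_apply,
        hu']
      have h1 : (c : R) ^ e j • (ϖ ^ e j • v) = 0 := by
        rw [smul_smul, ← mul_pow, mul_comm, hc, hqv]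
      exact hcu.smul_eq_zero.mp h1
    obtain ⟨a, haN, ha⟩ := hpure (e j) u' hϖv
    refine ⟨u' - a, ?_, ?_⟩
    · rw [map_sub, hu', Submodule.mkQ_apply _ a, (Submodule.Quotient.mk_eq_zero _).mpr haN,
        sub_zero]
    · rw [← hc, mul_pow, mul_comm, mul_smul, smul_sub, ha, sub_self, smul_zero]
  choose u hu1 hu2 using hlift
  let sj : ∀ j, (R ⧸ R ∙ q j ^ e j) →ₗ[R] N := fun j =>
    (R ∙ q j ^ e j).liftQ (LinearMap.toSpanSingleton R N (u j)) (by
      rw [Submodule.span_singleton_le_iff_mem, LinearMap.mem_ker,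
        LinearMap.toSpanSingleton_apply]
      exact hu2 j)
  let s : (⨁ j, R ⧸ R ∙ q j ^ e j) →ₗ[R] N := DirectSum.toModule R ι N sj
  have hs : ∀ y, N'.mkQ (s y) = E.symm y := by
    intro y
    have : N'.mkQ.comp s = E.symm.toLinearMap := by
      apply DirectSum.linearMap_ext
      intro j
      apply Submodule.linearMap_qext
      ext
      change N'.mkQ (s (lof R ι (fun j => R ⧸ R ∙ q j ^ e j) j (Submodule.Quotient.mk 1))) =
        E.symm (lof R ι (fun j => R ⧸ R ∙ q j ^ e j) j (Submodule.Quotient.mk 1))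
      rw [← hu1 j]
      simp only [s, DirectSum.toModule_lof, sj, Submodule.liftQ_apply,
        LinearMap.toSpanSingleton_apply, one_smul]
    exact LinearMap.congr_fun this y
  refine ⟨LinearMap.range (s.comp E.toLinearMap), ?_⟩
  have := isCompl_ker_range_of_section N'.mkQ (s.comp E.toLinearMap) (by intro y; simp [hs])
  rwa [Submodule.ker_mkQ] at this

end Groth.Agent.H86.FL
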