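import Groth.Agent.H86.FL1
import Mathlib.RingTheory.Nakayama
import Mathlib.RingTheory.LocalRing.MaximalIdeal.Basic
import Mathlib.RingTheory.Jacobson.Ideal
import Mathlib.RingTheory.Artinian.Module
import Mathlib.RingTheory.Noetherian.Basic

/-! Fontaine–Laffaille gluing: purity of the maps `α i`. -/

set_option autoImplicit false

namespace Groth.Agent.H86.FL

open Function

section Kill

variable {R : Type*} [CommRing R] [IsLocalRing R]

/-- a finite length module over a local ring is killed by a power of any non-unit -/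
lemma exists_pow_smul_eq_zero (ϖ : R) (hϖ : ¬ IsUnit ϖ) {N : Type*} [AddCommGroup N] [Module R N]
    (hN : IsFiniteLength R N) : ∃ m : ℕ, ∀ x : N, ϖ ^ m • x = 0 := by
  obtain ⟨hnoeth, hart⟩ := isFiniteLength_iff_isNoetherian_isArtinian.mp hN
  let f : ℕ →o (Submodule R N)ᵒᵈ :=
    ⟨fun n => OrderDual.toDual (aSub (ϖ ^ n) N), by
      intro n m hnm
      change aSub (ϖ ^ m) N ≤ aSub (ϖ ^ n) N
      intro x hx
      obtain ⟨y, rfl⟩ := mem_aSub.mp hx
      refine mem_aSub.mpr ⟨ϖ ^ (m - n) • y, ?_⟩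
      rw [smul_smul, ← pow_add, Nat.add_sub_cancel' hnm]⟩
  obtain ⟨n, hn⟩ := IsArtinian.monotone_stabilizes f
  have h1 : aSub (ϖ ^ n) N = aSub (ϖ ^ (n + 1)) N :=
    congrArg OrderDual.ofDual (hn (n + 1) (Nat.le_succ n))
  have h2 : aSub (ϖ ^ n) N = ⊥ := by
    apply Submodule.eq_bot_of_le_smul_of_le_jacobson_bot (Ideal.span {ϖ}) _
      (IsNoetherian.noetherian _)
    · intro x hx
      rw [h1] at hx
      obtain ⟨y, rfl⟩ := mem_aSub.mp hx
      rw [pow_succ', mul_smul]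
      exact Submodule.smul_mem_smul (Ideal.mem_span_singleton_self ϖ) (mem_aSub.mpr ⟨y, rfl⟩)
    · rw [IsLocalRing.jacobson_eq_maximalIdeal ⊥ bot_ne_top, Ideal.span_singleton_le_iff_mem,
        IsLocalRing.mem_maximalIdeal, mem_nonunits_iff]
      exact hϖ
  refine ⟨n, fun x => ?_⟩
  have : ϖ ^ n • x ∈ aSub (ϖ ^ n) N := mem_aSub.mpr ⟨x, rfl⟩
  rw [h2] at this
  simpa using this

end Kill

section Glue

universe u v

variable {R : Type u} [CommRing R] (N : ℕ → Type v) [∀ i, AddCommGroup (N i)]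
  [∀ i, Module R (N i)]

/-- families `(z_j)_{j}` with `z_j ∈ N (j+1)` vanishing for `j ≥ r` -/
def Ssub (r : ℕ) : Submodule R (∀ j : ℕ, N (j + 1)) where
  carrier := {z | ∀ j, r ≤ j → z j = 0}
  add_mem' := by
    intro a b ha hb j hj
    simp [ha j hj, hb j hj]
  zero_mem' := by
    intro j _
    rfl
  smul_mem' := by
    intro c a ha j hj
    simp [ha j hj]

variable {N}

lemma mem_Ssub {r : ℕ} {z : ∀ j : ℕ, N (j + 1)} :
    z ∈ Ssub (R := R) N r ↔ ∀ j, r ≤ j → z j = 0 := Iff.rfl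

lemma isFiniteLength_Ssub (hfl : ∀ i, IsFiniteLength R (N i)) (r : ℕ) :
    IsFiniteLength R (Ssub (R := R) N r) := by
  have hpi : IsFiniteLength R (∀ j : Fin r, N ((j : ℕ) + 1)) := by
    rw [isFiniteLength_iff_isNoetherian_isArtinian]
    haveI : ∀ j : Fin r, IsNoetherian R (N ((j : ℕ) + 1)) := fun j =>
      (isFiniteLength_iff_isNoetherian_isArtinian.mp (hfl _)).1
    haveI : ∀ j : Fin r, IsArtinian R (N ((j : ℕ) + 1)) := fun j =>
      (isFiniteLength_iff_isNoetherian_isArtinian.mp (hfl _)).2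
    exact ⟨inferInstance, inferInstance⟩
  let g : Ssub (R := R) N r →ₗ[R] (∀ j : Fin r, N ((j : ℕ) + 1)) :=
    LinearMap.pi fun j => (LinearMap.proj (j : ℕ)).comp (Ssub (R := R) N r).subtype
  refine hpi.of_injective (f := g) ?_
  intro a b hab
  ext j
  by_cases hj : j < r
  · exact congrFun hab ⟨j, hj⟩
  · push Not at hj
    rw [a.2 j hj, b.2 j hj]

variable (σ : R →+* R) (ϖ : R) (r : ℕ)
  (α : ∀ i, N (i + 1) →ₗ[R] N i) (φ : ∀ i, N i →ₛₗ[σ] N 0)

/-- the map `ι` -/
noncomputable def iotaMap : Ssub (R := R) N r →ₗ[R] N 0 × Ssub (R := R) N r :=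
  LinearMap.prod ((α 0).comp ((LinearMap.proj 0).comp (Ssub (R := R) N r).subtype))
    (LinearMap.codRestrict (Ssub (R := R) N r)
      ((LinearMap.pi fun j : ℕ => (α (j + 1)).comp (LinearMap.proj (j + 1)) -
        ϖ • (LinearMap.proj j : (∀ j : ℕ, N (j + 1)) →ₗ[R] N (j + 1))).comp
          (Ssub (R := R) N r).subtype)
      (by
        intro z j hj
        simp [z.2 j hj, z.2 (j + 1) (Nat.le_succ_of_le hj)]))

lemma iotaMap_fst (z : Ssub (R := R) N r) : (iotaMap ϖ r α z).1 = α 0 (z.1 0) := rfl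

lemma iotaMap_snd (z : Ssub (R := R) N r) (j : ℕ) :
    (iotaMap ϖ r α z).2.1 j = α (j + 1) (z.1 (j + 1)) - ϖ • z.1 j := rfl

/-- the map `Φ` -/
noncomputable def phiMap : N 0 × Ssub (R := R) N r →ₛₗ[σ] N 0 :=
  (φ 0).comp (LinearMap.fst R (N 0) (Ssub (R := R) N r)) +
    (Finset.range r).sum fun j => (φ (j + 1)).comp
      ((LinearMap.proj j).comp ((Ssub (R := R) N r).subtype.comp
        (LinearMap.snd R (N 0) (Ssub (R := R) N r))))

lemma phiMap_apply (t : N 0 × Ssub (R := R) N r) :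
    phiMap σ r φ t = φ 0 t.1 + (Finset.range r).sum fun j => φ (j + 1) (t.2.1 j) := by
  simp [phiMap, LinearMap.sum_apply]

end Glue

section Main

universe u v

variable {R : Type u} [CommRing R] {N : ℕ → Type v} [∀ i, AddCommGroup (N i)]
  [∀ i, Module R (N i)]
variable (σ : R →+* R) (ϖ : R) (r : ℕ)
  (α : ∀ i, N (i + 1) →ₗ[R] N i) (φ : ∀ i, N i →ₛₗ[σ] N 0)

lemma phiMap_iotaMap (hσϖ : σ ϖ = ϖ)
    (hφ : ∀ i, i < r → ∀ y : N (i + 1), φ i (α i y) = ϖ • φ (i + 1) y)
    (z : Ssub (R := R) N r) : phiMap σ r φ (iotaMap ϖ r α z) = 0 := by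
  have hc : ∀ j, φ j (α j (z.1 j)) = ϖ • φ (j + 1) (z.1 j) := by
    intro j
    by_cases hj : j < r
    · exact hφ j hj _
    · push Not at hj
      simp [z.2 j hj]
  rw [phiMap_apply, iotaMap_fst, hc 0]
  have hsum : ∀ j ∈ Finset.range r, φ (j + 1) ((iotaMap ϖ r α z).2.1 j) =
      ϖ • φ (j + 1 + 1) (z.1 (j + 1)) - ϖ • φ (j + 1) (z.1 j) := by
    intro j _
    rw [iotaMap_snd, map_sub, hc (j + 1), map_smulₛₗ, hσϖ]
  rw [Finset.sum_congr rfl hsum,
    Finset.sum_range_sub (fun j => ϖ • φ (j + 1) (z.1 j)) r, z.2 r le_rfl]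
  simp

variable [RingHomSurjective σ]

theorem alpha_pure (hσϖ : σ ϖ = ϖ) (hfl : ∀ i, IsFiniteLength R (N i))
    (hφ : ∀ i, i < r → ∀ y : N (i + 1), φ i (α i y) = ϖ • φ (i + 1) y)
    (hsurj : ∀ m : N 0, ∃ y : (i : ℕ) → N i, (∀ i, r < i → y i = 0) ∧
      (Finset.range (r + 1)).sum (fun i => φ i (y i)) = m)
    (hker : ∀ y : (i : ℕ) → N i, (∀ i, r < i → y i = 0) →
      (Finset.range (r + 1)).sum (fun i => φ i (y i)) = 0 →
        ∃ z : (i : ℕ) → N (i + 1), (∀ i, r ≤ i → z i = 0) ∧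
          y 0 = α 0 (z 0) ∧ ∀ i, y (i + 1) = α (i + 1) (z (i + 1)) - ϖ • z i)
    (n : ℕ) : ∀ i, i < r → ∀ (x : N (i + 1)) (y : N i), α i x = ϖ ^ n • y →
      ∃ x' : N (i + 1), x = ϖ ^ n • x' := by
  classical
  have hS : Surjective (phiMap σ r φ) := by
    intro m
    obtain ⟨y, hy0, hy⟩ := hsurj m
    refine ⟨(y 0, ⟨fun j => y (j + 1), fun j hj => hy0 (j + 1) (Nat.lt_succ_of_le hj)⟩), ?_⟩
    rw [phiMap_apply, ← hy, Finset.sum_range_succ', add_comm]
  have hK : ∀ t, phiMap σ r φ t = 0 → ∃ s, iotaMap ϖ r α s = t := by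
    rintro ⟨m, z⟩ ht
    let y : (i : ℕ) → N i := fun i => Nat.rec (motive := N) m (fun j _ => z.1 j) i
    have hy0 : ∀ i, r < i → y i = 0 := by
      intro i hi
      cases i with
      | zero => exact absurd hi (Nat.not_lt_zero _)
      | succ j => exact z.2 j (Nat.lt_succ_iff.mp hi)
    have hy : (Finset.range (r + 1)).sum (fun i => φ i (y i)) = 0 := by
      rw [Finset.sum_range_succ', add_comm, ← ht, phiMap_apply]
      rfl
    obtain ⟨z', hz'0, hz'1, hz'2⟩ := hker y hy0 hy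
    refine ⟨⟨z', hz'0⟩, ?_⟩
    refine Prod.ext ?_ (Subtype.ext (funext fun j => ?_))
    · rw [iotaMap_fst]
      exact hz'1.symm
    · rw [iotaMap_snd]
      exact (hz'2 j).symm
  induction n with
  | zero =>
    intro i _ x y _
    exact ⟨x, by rw [pow_zero, one_smul]⟩
  | succ n ih =>
    intro i hi x y hxy
    obtain ⟨x₁, hx₁⟩ := ih i hi x (ϖ • y) (by rw [hxy, pow_succ, mul_smul])
    let z : Ssub (R := R) N r := ⟨Pi.single i x, by
      intro j hj
      exact Pi.single_eq_of_ne (M := fun j : ℕ => N (j + 1)) (show j ≠ i by omega) x⟩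
    let Y : (j : ℕ) → N j := Pi.single i y - Pi.single (i + 1) x₁
    let t : N 0 × Ssub (R := R) N r := (Y 0, ⟨fun j => Y (j + 1), by
      intro j hj
      simp only [Y, Pi.sub_apply]
      rw [Pi.single_eq_of_ne (show j + 1 ≠ i by omega),
        Pi.single_eq_of_ne (show j + 1 ≠ i + 1 by omega), sub_zero]⟩)
    have hzt : iotaMap ϖ r α z = ϖ ^ (n + 1) • t := by
      refine Prod.ext ?_ (Subtype.ext (funext fun j => ?_))
      · rw [iotaMap_fst]
        change α 0 ((Pi.single i x : (j : ℕ) → N (j + 1)) 0) = ϖ ^ (n + 1) • Y 0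
        simp only [Y, Pi.sub_apply]
        rw [Pi.single_eq_of_ne (show (0 : ℕ) ≠ i + 1 by omega), sub_zero]
        rcases Nat.eq_zero_or_pos i with rfl | hpos
        · rw [Pi.single_eq_same, Pi.single_eq_same, hxy]
        · rw [Pi.single_eq_of_ne (show (0 : ℕ) ≠ i by omega),
            Pi.single_eq_of_ne (show (0 : ℕ) ≠ i by omega), map_zero, smul_zero]
      · rw [iotaMap_snd]
        change α (j + 1) ((Pi.single i x : (j : ℕ) → N (j + 1)) (j + 1)) -
          ϖ • (Pi.single i x : (j : ℕ) → N (j + 1)) j = ϖ ^ (n + 1) • Y (j + 1)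
        simp only [Y, Pi.sub_apply]
        by_cases h1 : j + 1 = i
        · subst h1
          rw [Pi.single_eq_same, Pi.single_eq_same,
            Pi.single_eq_of_ne (show j ≠ j + 1 by omega),
            Pi.single_eq_of_ne (show j + 1 ≠ j + 1 + 1 by omega), smul_zero, sub_zero, sub_zero,
            hxy]
        · by_cases h2 : j = i
          · subst h2
            rw [Pi.single_eq_same, Pi.single_eq_same,
              Pi.single_eq_of_ne (show j + 1 ≠ j by omega),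
              Pi.single_eq_of_ne (show j + 1 ≠ j by omega), map_zero, zero_sub, zero_sub, hx₁,
              smul_neg, smul_smul, pow_succ']
          · rw [Pi.single_eq_of_ne h1, Pi.single_eq_of_ne h2,
              Pi.single_eq_of_ne h1, Pi.single_eq_of_ne (show j + 1 ≠ i + 1 by omega)]
            simp
    have hmem := pure_of_count σ (ϖ ^ (n + 1)) (by rw [map_pow, hσϖ]) (hfl 0)
      (isFiniteLength_Ssub hfl r) (iotaMap ϖ r α) (phiMap σ r φ)
      (phiMap_iotaMap σ ϖ r α φ hσϖ hφ) hS hK z (mem_aSub.mpr ⟨t, hzt.symm⟩)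
    obtain ⟨z', hz'⟩ := mem_aSub.mp hmem
    refine ⟨z'.1 i, ?_⟩
    have := congrArg (fun w : Ssub (R := R) N r => w.1 i) hz'
    simp only [z] at this
    rw [Pi.single_eq_same] at this
    exact this.symm

end Main

end Groth.Agent.H86.FL
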