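import Mathlib
import Groth.Agent.H55.WExt2
import Groth.Agent.H55.FFBasic
import Groth.Agent.H86.ZT4

/-!
# FR1: places of `k̄K` fixed by the Frobenius map are those defined over `k`
-/

set_option autoImplicit false

namespace Groth.Agent.H86.Frob

open FunFld Module Groth.Agent.H55 Polynomial

attribute [-instance] FunFld.Place.algRes

section general

variable {k K kb Kb : Type*} [Field k] [Field K] [Algebra k K] [Field kb] [Algebra k kb]
  [Field Kb] [Algebra K Kb] [Algebra kb Kb]

/-- `<` version of the compatibility of two valuation rings. -/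
theorem lt_one_iff_of_le_one_iff (Q : Place kb Kb) (P : Place k K)
    (hP : ∀ x : K, Q.1 (algebraMap K Kb x) ≤ 1 ↔ P.1 x ≤ 1) (x : K) :
    Q.1 (algebraMap K Kb x) < 1 ↔ P.1 x < 1 := by
  by_cases hx : x = 0
  · subst hx
    simp
  have hx' : algebraMap K Kb x ≠ 0 := by
    rwa [Ne, map_eq_zero_iff _ (algebraMap K Kb).injective]
  have hQ0 : 0 < Q.1 (algebraMap K Kb x) := zero_lt_iff.mpr ((Valuation.ne_zero_iff _).mpr hx')
  have hP0 : 0 < P.1 x := zero_lt_iff.mpr ((Valuation.ne_zero_iff _).mpr hx)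
  have h1 := hP x⁻¹
  rw [map_inv₀, map_inv₀, map_inv₀, inv_le_one₀ hQ0, inv_le_one₀ hP0] at h1
  have h2 := hP x
  constructor
  · intro h
    rcases lt_or_eq_of_le (h2.mp h.le) with h3 | h3
    · exact h3
    · exact absurd (le_antisymm h.le (h1.mpr h3.ge)) h.ne
  · intro h
    rcases lt_or_eq_of_le (h2.mpr h.le) with h3 | h3
    · exact h3
    · exact absurd (le_antisymm h.le (h1.mp h3.ge)) h.ne

/-- a place of degree one is rational -/
theorem exists_sub_lt_one {p : Place k K} (hp : p.deg = 1) {a : K} (ha : p.1 a ≤ 1) :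
    ∃ c : k, p.1 (a - algebraMap k K c) < 1 := by
  have h1 : finrank k (IsLocalRing.ResidueField p.O) = 1 := hp
  have hone : (1 : IsLocalRing.ResidueField p.O) ≠ 0 := one_ne_zero
  obtain ⟨c, hc⟩ := (finrank_eq_one_iff_of_nonzero' _ hone).mp h1
    (IsLocalRing.residue p.O ⟨a, ha⟩)
  refine ⟨c, ?_⟩
  have h2 : c • (1 : IsLocalRing.ResidueField p.O) =
      IsLocalRing.residue p.O (algebraMap k p.O c) := by
    rw [Algebra.smul_def, mul_one]
    rfl
  rw [h2, ← sub_eq_zero, ← map_sub, Place.residue_eq_zero_iff] at hc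
  have h3 : p.1 (algebraMap k K c - a) < 1 := hc
  rwa [← Valuation.map_neg, neg_sub] at h3

/-- the key computation: a `k`-linearly independent combination with integral coefficients, one
of which is `1`, is a unit at `Q`. -/
theorem val_sum_eq_one
    (hc : ∀ c : k, algebraMap K Kb (algebraMap k K c) = algebraMap kb Kb (algebraMap k kb c))
    (Q : Place kb Kb) (P : Place k K)
    (hP : ∀ x : K, Q.1 (algebraMap K Kb x) ≤ 1 ↔ P.1 x ≤ 1) (hdeg : P.deg = 1)
    {I : Type*} (B : I → kb) (hB : LinearIndependent k B) (s : Finset I) (y : I → K)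
    (hy : ∀ l ∈ s, P.1 (y l) ≤ 1) (l₀ : I) (hl₀ : l₀ ∈ s) (hy₀ : y l₀ = 1) :
    Q.1 (∑ l ∈ s, algebraMap K Kb (y l) * algebraMap kb Kb (B l)) = 1 := by
  classical
  have hex : ∀ l, ∃ c : k, l ∈ s → P.1 (y l - algebraMap k K c) < 1 := by
    intro l
    by_cases hl : l ∈ s
    · obtain ⟨c, hc⟩ := exists_sub_lt_one hdeg (hy l hl)
      exact ⟨c, fun _ => hc⟩
    · exact ⟨0, fun h => absurd h hl⟩
  choose a ha using hex
  have ha₀ : a l₀ ≠ 0 := by
    intro h0
    have := ha l₀ hl₀
    rw [hy₀, h0, map_zero, sub_zero, map_one] at this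
    exact lt_irrefl _ this
  have hsplit : ∑ l ∈ s, algebraMap K Kb (y l) * algebraMap kb Kb (B l) =
      algebraMap kb Kb (∑ l ∈ s, a l • B l) +
        ∑ l ∈ s, algebraMap K Kb (y l - algebraMap k K (a l)) * algebraMap kb Kb (B l) := by
    rw [map_sum, ← Finset.sum_add_distrib]
    apply Finset.sum_congr rfl
    intro l _
    rw [Algebra.smul_def, map_mul, ← hc, map_sub]
    ring
  have hne : ∑ l ∈ s, a l • B l ≠ 0 := by
    intro h0
    exact ha₀ (linearIndependent_iff'.mp hB s a h0 l₀ hl₀)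
  have h1 : Q.1 (algebraMap kb Kb (∑ l ∈ s, a l • B l)) = 1 := Place.val_algebraMap_eq_one Q hne
  have h2 : Q.1 (∑ l ∈ s, algebraMap K Kb (y l - algebraMap k K (a l)) * algebraMap kb Kb (B l))
      < 1 := by
    apply Valuation.map_sum_lt _ one_ne_zero
    intro l hl
    rw [map_mul]
    have h3 : Q.1 (algebraMap K Kb (y l - algebraMap k K (a l))) < 1 :=
      (lt_one_iff_of_le_one_iff Q P hP _).mpr (ha l hl)
    have h4 : Q.1 (algebraMap kb Kb (B l)) ≤ 1 := Q.2.1 _
    calc Q.1 (algebraMap K Kb (y l - algebraMap k K (a l))) * Q.1 (algebraMap kb Kb (B l))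
        ≤ Q.1 (algebraMap K Kb (y l - algebraMap k K (a l))) * 1 := mul_le_mul_right h4 _
      _ < 1 := by rw [mul_one]; exact h3
  rw [hsplit, Valuation.map_add_eq_of_lt_left, h1]
  rw [h1]
  exact h2

/-- `K̄` is spanned over `K` by the image of a `k`-basis of `k̄`. -/
theorem span_basis_eq_top
    (hc : ∀ c : k, algebraMap K Kb (algebraMap k K c) = algebraMap kb Kb (algebraMap k kb c))
    (hgen : Algebra.adjoin K (Set.range (algebraMap kb Kb)) = ⊤)
    {I : Type*} (B : Basis I k kb) :
    Submodule.span K (Set.range fun l => algebraMap kb Kb (B l)) = ⊤ := by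
  have h1 : Subalgebra.toSubmodule (Algebra.adjoin K (Set.range (algebraMap kb Kb))) =
      (Submodule.span K (Set.range (algebraMap kb Kb)) : Submodule K Kb) := by
    rw [Algebra.adjoin_eq_span]
    congr 1
    have : (Set.range (algebraMap kb Kb) : Set Kb) =
        (MonoidHom.mrange ((algebraMap kb Kb : kb →+* Kb) : kb →* Kb) : Set Kb) := rfl
    rw [this, Submonoid.closure_eq]
  rw [eq_top_iff]
  have h2 : (⊤ : Submodule K Kb) = Submodule.span K (Set.range (algebraMap kb Kb)) := by
    rw [← h1, hgen]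
    rfl
  rw [h2]
  apply Submodule.span_le.mpr
  rintro _ ⟨c, rfl⟩
  have h3 : c = ∑ l ∈ (B.repr c).support, (B.repr c) l • B l := by
    conv_lhs => rw [← B.linearCombination_repr c]
    rfl
  rw [h3, map_sum]
  apply Submodule.sum_mem
  intro l _
  rw [Algebra.smul_def, map_mul, ← hc]
  have : algebraMap K Kb (algebraMap k K ((B.repr c) l)) * algebraMap kb Kb (B l) =
      (algebraMap k K ((B.repr c) l)) • algebraMap kb Kb (B l) := by
    rw [Algebra.smul_def]
  rw [this]
  exact Submodule.smul_mem _ _ (Submodule.subset_span ⟨l, rfl⟩)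

/-- over a place of degree one, the Frobenius map raises the valuation to the `q`-th power. -/
theorem val_frob_eq
    (hc : ∀ c : k, algebraMap K Kb (algebraMap k K c) = algebraMap kb Kb (algebraMap k kb c))
    (hgen : Algebra.adjoin K (Set.range (algebraMap kb Kb)) = ⊤) (q : ℕ) (hq : q ≠ 0)
    (F : Kb →+* Kb) (hF1 : ∀ c : kb, F (algebraMap kb Kb c) = algebraMap kb Kb c)
    (hF2 : ∀ x : K, F (algebraMap K Kb x) = algebraMap K Kb x ^ q)
    (Q : Place kb Kb) (P : Place k K)
    (hP : ∀ x : K, Q.1 (algebraMap K Kb x) ≤ 1 ↔ P.1 x ≤ 1) (hdeg : P.deg = 1)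
    {I : Type*} (B : Basis I k kb) (z : Kb) :
    Q.1 (F z) = Q.1 z ^ q := by
  classical
  have hz : z ∈ Submodule.span K (Set.range fun l => algebraMap kb Kb (B l)) := by
    rw [span_basis_eq_top hc hgen B]
    exact Submodule.mem_top
  obtain ⟨x, hx⟩ := Finsupp.mem_span_range_iff_exists_finsupp.mp hz
  set s := x.support with hs
  have hzsum : z = ∑ l ∈ s, algebraMap K Kb (x l) * algebraMap kb Kb (B l) := by
    rw [← hx, Finsupp.sum]
    apply Finset.sum_congr rfl
    intro l _
    rw [Algebra.smul_def]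
  by_cases hempty : s = ∅
  · rw [hzsum, hempty, Finset.sum_empty, map_zero, map_zero, zero_pow hq]
  have hne : s.Nonempty := Finset.nonempty_iff_ne_empty.mpr hempty
  obtain ⟨l₀, hl₀, hmax⟩ := Finset.exists_max_image s (fun l => Q.1 (algebraMap K Kb (x l))) hne
  have hx₀ : x l₀ ≠ 0 := Finsupp.mem_support_iff.mp hl₀
  have hx₀' : algebraMap K Kb (x l₀) ≠ 0 := by
    rwa [Ne, map_eq_zero_iff _ (algebraMap K Kb).injective]
  have hQ₀ : 0 < Q.1 (algebraMap K Kb (x l₀)) :=
    zero_lt_iff.mpr ((Valuation.ne_zero_iff _).mpr hx₀')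
  set y : I → K := fun l => x l / x l₀ with hy
  have hyP : ∀ l ∈ s, P.1 (y l) ≤ 1 := by
    intro l hl
    rw [← hP]
    show Q.1 (algebraMap K Kb (x l / x l₀)) ≤ 1
    rw [map_div₀, map_div₀]
    exact (div_le_one₀ hQ₀).mpr (hmax l hl)
  have hy₀ : y l₀ = 1 := div_self hx₀
  have hw := val_sum_eq_one hc Q P hP hdeg B B.linearIndependent s y hyP l₀ hl₀ hy₀
  have hyqP : ∀ l ∈ s, P.1 (y l ^ q) ≤ 1 := fun l hl => by
    rw [map_pow]
    exact pow_le_one₀ zero_le (hyP l hl)
  have hw' := val_sum_eq_one hc Q P hP hdeg B B.linearIndependent s (fun l => y l ^ q) hyqP l₀ hl₀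
    (by simp only [hy₀, one_pow])
  have hz1 : z = algebraMap K Kb (x l₀) *
      ∑ l ∈ s, algebraMap K Kb (y l) * algebraMap kb Kb (B l) := by
    rw [hzsum, Finset.mul_sum]
    apply Finset.sum_congr rfl
    intro l _
    rw [← mul_assoc, ← map_mul]
    show _ = algebraMap K Kb (x l₀ * (x l / x l₀)) * _
    rw [mul_div_cancel₀ _ hx₀]
  have hz2 : F z = algebraMap K Kb (x l₀) ^ q *
      ∑ l ∈ s, algebraMap K Kb (y l ^ q) * algebraMap kb Kb (B l) := by
    rw [hz1, map_mul, hF2, map_sum]
    congr 1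
    apply Finset.sum_congr rfl
    intro l _
    rw [map_mul, hF2, hF1, map_pow]
  calc Q.1 (F z) = Q.1 (algebraMap K Kb (x l₀)) ^ q := by
        rw [hz2, map_mul, hw', mul_one, map_pow]
    _ = Q.1 z ^ q := by
        conv_rhs => rw [hz1, map_mul, hw, mul_one]

/-- `K̄` is algebraic over `K`. -/
theorem isAlgebraic_of_adjoin [Algebra.IsAlgebraic k kb]
    (hc : ∀ c : k, algebraMap K Kb (algebraMap k K c) = algebraMap kb Kb (algebraMap k kb c))
    (hgen : Algebra.adjoin K (Set.range (algebraMap kb Kb)) = ⊤) :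
    Algebra.IsAlgebraic K Kb := by
  have hint : ∀ c : kb, IsIntegral K (algebraMap kb Kb c) := by
    intro c
    obtain ⟨p, hp, hpc⟩ := (Algebra.IsAlgebraic.isAlgebraic (R := k) c).isIntegral
    refine ⟨p.map (algebraMap k K), hp.map _, ?_⟩
    rw [eval₂_map]
    have : (algebraMap K Kb).comp (algebraMap k K) = (algebraMap kb Kb).comp (algebraMap k kb) :=
      RingHom.ext hc
    rw [this, ← hom_eval₂, hpc, map_zero]
  have hall : ∀ z : Kb, IsIntegral K z := by
    intro z
    have hz : z ∈ Algebra.adjoin K (Set.range (algebraMap kb Kb)) := by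
      rw [hgen]
      trivial
    have hle : Algebra.adjoin K (Set.range (algebraMap kb Kb)) ≤ integralClosure K Kb :=
      Algebra.adjoin_le (by rintro _ ⟨c, rfl⟩; exact hint c)
    exact hle hz
  exact ⟨fun z => (hall z).isAlgebraic⟩

theorem one_le_val_prod (Q : Place kb Kb) (m : Multiset Kb) (h : ∀ a ∈ m, 1 ≤ Q.1 a) :
    1 ≤ Q.1 m.prod := by
  induction m using Multiset.induction_on with
  | empty => simp
  | cons a m ih =>
    rw [Multiset.prod_cons, map_mul]
    exact one_le_mul_of_one_le_of_one_le (h a (Multiset.mem_cons_self a m))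
      (ih fun b hb => h b (Multiset.mem_cons_of_mem hb))

/-- a place of `K̄` stable under the Frobenius map lies over a place of degree one. -/
theorem exists_place_of_fixed [Finite k] [IsAlgClosed kb] [Algebra.IsAlgebraic k kb]
    (hK : IsFunctionField k K)
    (hc : ∀ c : k, algebraMap K Kb (algebraMap k K c) = algebraMap kb Kb (algebraMap k kb c))
    (hgen : Algebra.adjoin K (Set.range (algebraMap kb Kb)) = ⊤)
    (F : Kb →+* Kb) (hF1 : ∀ c : kb, F (algebraMap kb Kb c) = algebraMap kb Kb c)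
    (hF2 : ∀ x : K, F (algebraMap K Kb x) = algebraMap K Kb x ^ Nat.card k)
    (Q : Place kb Kb) (hfix : ∀ z : Kb, Q.1 z < 1 → Q.1 (F z) < 1) :
    ∃ P : Place k K, (∀ x : K, Q.1 (algebraMap K Kb x) ≤ 1 ↔ P.1 x ≤ 1) ∧ P.deg = 1 := by
  classical
  letI : Algebra k Kb := ((algebraMap K Kb).comp (algebraMap k K)).toAlgebra
  haveI : IsScalarTower k K Kb := IsScalarTower.of_algebraMap_eq fun _ => rfl
  haveI := isAlgebraic_of_adjoin hc hgen
  let Q' : Place k Kb := ⟨Q.1, fun c => by
    show Q.1 (algebraMap K Kb (algebraMap k K c)) ≤ 1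
    rw [hc]
    exact Q.2.1 _, Q.2.2⟩
  obtain ⟨P, e, he⟩ := exists_place_under hK Q'
  have hle : ∀ x : K, Q.1 (algebraMap K Kb x) ≤ 1 ↔ P.1 x ≤ 1 :=
    fun x => isOverWith_le_one_iff he x
  have hlt : ∀ x : K, Q.1 (algebraMap K Kb x) < 1 ↔ P.1 x < 1 :=
    fun x => isOverWith_lt_one_iff he x
  refine ⟨P, hle, ?_⟩
  have hrat : ∀ x : K, P.1 x ≤ 1 → ∃ c : k, P.1 (x - algebraMap k K c) < 1 := by
    intro x hx
    obtain ⟨c, hcx⟩ : ∃ c : kb, Q.1 (algebraMap K Kb x - algebraMap kb Kb c) < 1 := by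
      haveI hfd := Place.finiteDimensional_residue hK P
      haveI hfd' : @Module.Finite k (IsLocalRing.ResidueField P.O) _ _ Algebra.toModule := hfd
      set xO : P.O := ⟨x, hx⟩ with hxO
      set xb := IsLocalRing.residue P.O xO with hxb
      have hxbint : IsIntegral k xb := Algebra.IsIntegral.isIntegral xb
      obtain ⟨p, hpm, hp0⟩ := hxbint
      have h1 : IsLocalRing.residue P.O (eval₂ (algebraMap k P.O) xO p) = 0 := by
        rw [hom_eval₂]
        exact hp0
      rw [Place.residue_eq_zero_iff] at h1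
      have h2 : ((eval₂ (algebraMap k P.O) xO p : P.O) : K) = eval₂ (algebraMap k K) x p := by
        have := hom_eval₂ p (algebraMap k P.O) (P.O.subtype) xO
        exact this
      rw [h2, ← hlt, hom_eval₂] at h1
      have h3 : (algebraMap K Kb).comp (algebraMap k K) =
          (algebraMap kb Kb).comp (algebraMap k kb) := RingHom.ext hc
      rw [h3, ← eval₂_map] at h1
      have hsplit := (IsAlgClosed.splits (p.map (algebraMap k kb))).eq_prod_roots_of_monic
        (hpm.map _)
      rw [hsplit] at h1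
      have h4 : eval₂ (algebraMap kb Kb) (algebraMap K Kb x)
          (((p.map (algebraMap k kb)).roots.map (X - C ·)).prod) =
          (((p.map (algebraMap k kb)).roots.map
            fun r => algebraMap K Kb x - algebraMap kb Kb r)).prod := by
        have := map_multiset_prod (eval₂RingHom (algebraMap kb Kb) (algebraMap K Kb x))
          ((p.map (algebraMap k kb)).roots.map (X - C ·))
        rw [coe_eval₂RingHom] at this
        rw [this, Multiset.map_map]
        congr 1
        apply Multiset.map_congr rfl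
        intro r _
        simp
      rw [h4] at h1
      by_contra hcon
      push Not at hcon
      have := one_le_val_prod Q ((p.map (algebraMap k kb)).roots.map
          fun r => algebraMap K Kb x - algebraMap kb Kb r) (fun a ha => by
        obtain ⟨r, -, rfl⟩ := Multiset.mem_map.mp ha
        exact hcon r)
      exact absurd h1 (not_lt.mpr this)
    -- Frobenius
    have h5 := hfix _ hcx
    rw [map_sub, hF1, hF2] at h5
    letI : Fintype k := Fintype.ofFinite k
    obtain ⟨p, hp, n, hprime, hcard⟩ := FiniteField.card' k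
    haveI : Fact p.Prime := ⟨hprime⟩
    haveI : CharP Kb p := charP_of_injective_algebraMap (algebraMap k Kb).injective p
    have hq : Nat.card k = p ^ (n : ℕ) := by rw [Nat.card_eq_fintype_card, hcard]
    have h6 : Q.1 ((algebraMap K Kb x - algebraMap kb Kb c) ^ Nat.card k) < 1 := by
      rw [map_pow]
      exact pow_lt_one₀ zero_le hcx (by rw [hq]; exact (pow_pos hprime.pos _).ne')
    rw [hq, sub_pow_char_pow, ← hq] at h6
    have h7 : Q.1 (algebraMap kb Kb (c ^ Nat.card k - c)) < 1 := by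
      have : algebraMap kb Kb (c ^ Nat.card k - c) =
          (algebraMap K Kb x ^ Nat.card k - algebraMap kb Kb c) -
            (algebraMap K Kb x ^ Nat.card k - algebraMap kb Kb c ^ Nat.card k) := by
        rw [map_sub, map_pow]
        ring
      rw [this]
      exact lt_of_le_of_lt (Valuation.map_sub _ _ _) (max_lt h5 h6)
    have h8 : c ^ Nat.card k = c := by
      by_contra hne
      have := Place.val_algebraMap_eq_one Q (sub_ne_zero.mpr hne)
      rw [this] at h7
      exact lt_irrefl _ h7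
    have hq1 : 1 < Nat.card k := Finite.one_lt_card
    obtain ⟨c₀, rfl⟩ := Zeta.mem_range_of_pow_eq (algebraMap k kb) rfl hq1 h8
    refine ⟨c₀, ?_⟩
    rw [← hlt, map_sub, hc]
    exact hcx
  unfold FunFld.Place.deg
  rw [finrank_eq_one_iff_of_nonzero' (1 : IsLocalRing.ResidueField P.O) one_ne_zero]
  intro w
  obtain ⟨⟨x, hx⟩, rfl⟩ := IsLocalRing.residue_surjective w
  obtain ⟨c, hc'⟩ := hrat x ((Valuation.mem_valuationSubring_iff _ _).mp hx)
  refine ⟨c, ?_⟩
  have h2 : c • (1 : IsLocalRing.ResidueField P.O) =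
      IsLocalRing.residue P.O (algebraMap k P.O c) := by
    rw [Algebra.smul_def, mul_one]
    rfl
  rw [h2, ← sub_eq_zero, ← map_sub, Place.residue_eq_zero_iff]
  show P.1 (algebraMap k K c - x) < 1
  rwa [← Valuation.map_neg, neg_sub]

end general

end Groth.Agent.H86.Frob
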