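import Groth.Agent.H86.FinAlg
import Mathlib.RingTheory.Idempotents
import Mathlib.RingTheory.Ideal.Quotient.Operations

set_option autoImplicit false
universe u v

namespace Groth.Agent.H86

section

variable (k : Type u) [Field k] [IsAlgClosed k] (A : Type v) [CommRing A] [Algebra k A]
  [Module.Finite k A]

/-- the evaluation map to functions on characters -/
noncomputable abbrev evPi : A →ₐ[k] ((A →ₐ[k] k) → k) :=
  AlgHom.pi (R := k) (fun f : A →ₐ[k] k => f)

omit [IsAlgClosed k] [Module.Finite k A] in
theorem evPi_apply (a : A) (f : A →ₐ[k] k) : evPi k A a f = f a := rfl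

/-- complete orthogonal idempotents indexed by characters, dual to the characters -/
theorem exists_coi [Fintype (A →ₐ[k] k)] [DecidableEq (A →ₐ[k] k)] :
    ∃ e : (A →ₐ[k] k) → A, CompleteOrthogonalIdempotents e ∧
      ∀ f g : A →ₐ[k] k, g (e f) = if g = f then 1 else 0 := by
  have hnil : ∀ x ∈ RingHom.ker (evPi k A).toRingHom, IsNilpotent x := by
    intro x hx
    have : x ∈ RingHom.ker (evPi k A) := hx
    rw [ker_pi_algHom] at this
    exact this
  have hsurj : ∀ c : (A →ₐ[k] k) → k, c ∈ (evPi k A).toRingHom.range := by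
    intro c
    obtain ⟨a, ha⟩ := pi_algHom_surjective k A c
    exact ⟨a, ha⟩
  obtain ⟨e, he, hπe⟩ := CompleteOrthogonalIdempotents.lift_of_isNilpotent_ker
    (evPi k A).toRingHom hnil
    (CompleteOrthogonalIdempotents.single (fun _ : (A →ₐ[k] k) => k)) (fun i => hsurj _)
  refine ⟨e, he, fun f g => ?_⟩
  have h1 : evPi k A (e f) = Pi.single f 1 := congrFun hπe f
  have h2 := congrFun h1 g
  rw [evPi_apply] at h2
  rw [h2, Pi.single_apply]

variable {k A}

/-- the linear section of the evaluation map attached to a family of idempotents -/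
noncomputable def secLin [Fintype (A →ₐ[k] k)] (e : (A →ₐ[k] k) → A) :
    ((A →ₐ[k] k) → k) →ₗ[k] A :=
  ∑ f, (LinearMap.proj f : ((A →ₐ[k] k) → k) →ₗ[k] k).smulRight (e f)

omit [IsAlgClosed k] [Module.Finite k A] in
theorem secLin_apply [Fintype (A →ₐ[k] k)] (e : (A →ₐ[k] k) → A) (c : (A →ₐ[k] k) → k) :
    secLin e c = ∑ f, c f • e f := by
  simp [secLin, LinearMap.sum_apply]

/-- the algebra section of the evaluation map attached to complete orthogonal idempotents -/
noncomputable def secAlg [Fintype (A →ₐ[k] k)] (e : (A →ₐ[k] k) → A)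
    (he : CompleteOrthogonalIdempotents e) : ((A →ₐ[k] k) → k) →ₐ[k] A :=
  AlgHom.ofLinearMap (secLin e)
    (by
      rw [secLin_apply]
      simp only [Pi.one_apply, one_smul]
      exact he.complete)
    (by
      classical
      intro c d
      simp only [secLin_apply, Pi.mul_apply]
      rw [Finset.sum_mul_sum]
      apply Finset.sum_congr rfl
      intro f _
      rw [Finset.sum_eq_single f]
      · rw [smul_mul_smul_comm, (he.idem f).eq]
      · intro g _ hgf
        rw [smul_mul_smul_comm, he.ortho (Ne.symm hgf), smul_zero]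
      · simp)

theorem secAlg_apply [Fintype (A →ₐ[k] k)] (e : (A →ₐ[k] k) → A)
    (he : CompleteOrthogonalIdempotents e) (c : (A →ₐ[k] k) → k) :
    secAlg e he c = ∑ f, c f • e f := secLin_apply e c

theorem evPi_secAlg [Fintype (A →ₐ[k] k)] [DecidableEq (A →ₐ[k] k)] (e : (A →ₐ[k] k) → A)
    (he : CompleteOrthogonalIdempotents e)
    (hdual : ∀ f g : A →ₐ[k] k, g (e f) = if g = f then 1 else 0)
    (c : (A →ₐ[k] k) → k) : evPi k A (secAlg e he c) = c := by
  funext g
  rw [evPi_apply, secAlg_apply, map_sum, Finset.sum_eq_single g]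
  · rw [map_smul, hdual, if_pos rfl, smul_eq_mul, mul_one]
  · intro f _ hfg
    rw [map_smul, hdual, if_neg (Ne.symm hfg), smul_zero]
  · simp

/-- every element is a combination of the idempotents modulo the nilradical -/
theorem sub_secAlg_evPi_mem_nilradical [Fintype (A →ₐ[k] k)] [DecidableEq (A →ₐ[k] k)]
    (e : (A →ₐ[k] k) → A) (he : CompleteOrthogonalIdempotents e)
    (hdual : ∀ f g : A →ₐ[k] k, g (e f) = if g = f then 1 else 0) (a : A) :
    a - secAlg e he (evPi k A a) ∈ nilradical A := by
  rw [← ker_pi_algHom k A, RingHom.mem_ker, map_sub, evPi_secAlg e he hdual, sub_self]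

/-- an idempotent is a sum of the basic idempotents -/
theorem idempotent_eq_secAlg [Fintype (A →ₐ[k] k)] [DecidableEq (A →ₐ[k] k)]
    (e : (A →ₐ[k] k) → A) (he : CompleteOrthogonalIdempotents e)
    (hdual : ∀ f g : A →ₐ[k] k, g (e f) = if g = f then 1 else 0) (a : A)
    (ha : IsIdempotentElem a) : a = secAlg e he (evPi k A a) := by
  apply eq_of_isNilpotent_sub_of_isIdempotentElem ha
  · exact (ha.map (evPi k A)).map (secAlg e he)
  · exact sub_secAlg_evPi_mem_nilradical e he hdual a

end

end Groth.Agent.H86
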