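import Groth.Agent.H86.FinAlg2
import Mathlib.RingTheory.Derivation.Basic
import Mathlib.RingTheory.Ideal.IdempotentFG
import Mathlib.RingTheory.Noetherian.Nilpotent
import Mathlib.LinearAlgebra.Basis.VectorSpace

set_option autoImplicit false
universe u v

namespace Groth.Agent.H86

section

variable {k : Type u} [Field k] {A : Type v} [CommRing A] [Algebra k A]

/-- derivations kill idempotents -/
theorem derivation_idempotent_eq_zero (D : Derivation k A A) (e : A) (he : IsIdempotentElem e) :
    D e = 0 := by
  have h1 : D e = e * D e + e * D e := by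
    conv_lhs => rw [← he.eq, Derivation.leibniz]
    simp [smul_eq_mul]
  have h2 : e * D e = 0 := by
    have h3 : e * D e = e * D e + e * D e := by
      conv_lhs => rw [h1]
      rw [mul_add, ← mul_assoc, he.eq]
    have h4 : e * D e + 0 = e * D e + e * D e := by rw [add_zero]; exact h3
    exact (add_left_cancel h4).symm
  rw [h1, h2, add_zero]

variable [IsAlgClosed k] [Module.Finite k A]

/-- a non-reduced finite algebra over an algebraically closed field has a nonzero derivation -/
theorem exists_derivation_ne_zero (hA : ¬ IsReduced A) : ∃ D : Derivation k A A, D ≠ 0 := by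
  classical
  have := finite_algHom k A
  cases nonempty_fintype (A →ₐ[k] k)
  obtain ⟨e, he, hdual⟩ := exists_coi k A
  have hnoeth : IsNoetherianRing A := IsNoetherianRing.of_finite k A
  have hN0 : nilradical A ≠ ⊥ := by
    intro h0
    apply hA
    rw [← nilradical_eq_bot_iff]
    exact h0
  obtain ⟨r, hr⟩ := IsNoetherianRing.isNilpotent_nilradical A
  -- minimal exponent killing the nilradical
  have hex : ∃ j, nilradical A ^ j = 0 := ⟨r, hr⟩
  set r₀ := Nat.find hex with hr₀
  have hr₀spec : nilradical A ^ r₀ = 0 := Nat.find_spec hex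
  have hr₀pos : 2 ≤ r₀ := by
    by_contra hlt
    push Not at hlt
    interval_cases r₀
    · rw [pow_zero, Ideal.one_eq_top, Ideal.zero_eq_bot] at hr₀spec
      have : nilradical A ≤ ⊤ := le_top
      rw [hr₀spec] at this
      exact hN0 (le_bot_iff.mp this)
    · rw [pow_one] at hr₀spec
      exact hN0 hr₀spec
  have hmin : nilradical A ^ (r₀ - 1) ≠ 0 := Nat.find_min hex (by omega)
  obtain ⟨z₀, hz₀mem, hz₀ne⟩ : ∃ z₀ ∈ nilradical A ^ (r₀ - 1), z₀ ≠ 0 := by
    by_contra hcon
    push Not at hcon
    apply hmin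
    rw [Ideal.zero_eq_bot, eq_bot_iff]
    intro x hx
    rw [Ideal.mem_bot]
    exact hcon x hx
  have hz₀N : z₀ ∈ nilradical A := by
    have : nilradical A ^ (r₀ - 1) ≤ nilradical A ^ 1 := Ideal.pow_le_pow_right (by omega)
    rw [pow_one] at this
    exact this hz₀mem
  have hNz₀ : ∀ n ∈ nilradical A, n * z₀ = 0 := by
    intro n hn
    have : n * z₀ ∈ nilradical A ^ r₀ := by
      have h1 : r₀ = 1 + (r₀ - 1) := by omega
      rw [h1, pow_add, pow_one]
      exact Ideal.mul_mem_mul hn hz₀mem
    rw [hr₀spec] at this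
    exact this
  -- choose a component
  obtain ⟨f, hf⟩ : ∃ f, e f * z₀ ≠ 0 := by
    by_contra hcon
    push Not at hcon
    apply hz₀ne
    calc z₀ = (∑ f, e f) * z₀ := by rw [he.complete, one_mul]
      _ = ∑ f, e f * z₀ := Finset.sum_mul _ _ _
      _ = 0 := Finset.sum_eq_zero fun f _ => hcon f
  set z := e f * z₀ with hz
  have hzN : z ∈ nilradical A := Ideal.mul_mem_left _ _ hz₀N
  have hNz : ∀ n ∈ nilradical A, n * z = 0 := by
    intro n hn
    rw [hz, mul_left_comm, hNz₀ n hn, mul_zero]
  have haz : ∀ a : A, a * z = f a • z := by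
    intro a
    have h1 := sub_secAlg_evPi_mem_nilradical e he hdual a
    have h2 := hNz _ h1
    rw [sub_mul, sub_eq_zero] at h2
    rw [h2, secAlg_apply, Finset.sum_mul, Finset.sum_eq_single f]
    · rw [smul_mul_assoc, hz, ← mul_assoc, (he.idem f).eq]
      rfl
    · intro g _ hgf
      rw [smul_mul_assoc, hz, ← mul_assoc, he.ortho hgf, zero_mul, smul_zero]
    · simp
  -- the maximal ideal
  set m : Ideal A := RingHom.ker f with hm
  have hzm : z ∈ m := by
    rw [hm, RingHom.mem_ker]
    have : IsNilpotent z := hzN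
    exact (this.map f).eq_zero
  have hmz : ∀ a ∈ m, a * z = 0 := by
    intro a ha
    rw [haz a, (RingHom.mem_ker).mp ha, zero_smul]
  have hm2 : m * m ≠ m := by
    intro hidem
    have hfg : m.FG := (isNoetherianRing_iff_ideal_fg A).mp hnoeth m
    obtain ⟨ε, hε, hmε⟩ := (Ideal.isIdempotentElem_iff_of_fg m hfg).mp hidem
    have hεm : ε ∈ m := by
      rw [hmε]
      exact Ideal.mem_span_singleton_self ε
    have hzε : z ∈ Ideal.span {ε} := by
      have := hzm
      rw [hmε] at this
      exact this
    obtain ⟨y, hy⟩ := Ideal.mem_span_singleton'.mp hzε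
    have : z = 0 := by
      calc z = y * ε := hy.symm
        _ = y * (ε * ε) := by rw [hε.eq]
        _ = ε * (y * ε) := by ring
        _ = ε * z := by rw [hy]
        _ = 0 := hmz ε hεm
    exact hf this
  obtain ⟨x, hxm, hxm2⟩ : ∃ x ∈ m, x ∉ m * m := by
    by_contra hcon
    push Not at hcon
    exact hm2 (le_antisymm Ideal.mul_le_right fun x hx => hcon x hx)
  obtain ⟨μ, hμx, hμ⟩ := Submodule.exists_le_ker_of_notMem
    (p := (m * m).restrictScalars k) (v := x) hxm2
  let lam : A →ₗ[k] k := μ - (μ 1) • f.toLinearMap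
  have hlam : ∀ a, lam a = μ a - μ 1 * f a := fun a => by
    simp [lam]
  have hlam' : ∀ a, lam a = μ (a - f a • 1) := fun a => by
    rw [hlam, map_sub, map_smul, smul_eq_mul, mul_comm]
  have hleib : ∀ a b, lam (a * b) = f a * lam b + f b * lam a := by
    intro a b
    have hprod : (a - f a • 1) * (b - f b • 1) ∈ m * m := by
      apply Ideal.mul_mem_mul
      · rw [hm, RingHom.mem_ker, map_sub, map_smul, map_one, smul_eq_mul, mul_one, sub_self]
      · rw [hm, RingHom.mem_ker, map_sub, map_smul, map_one, smul_eq_mul, mul_one, sub_self]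
    have h0 : μ ((a - f a • 1) * (b - f b • 1)) = 0 := hμ hprod
    have hdecomp : a * b - f (a * b) • 1 =
        (a - f a • 1) * (b - f b • 1) + f a • (b - f b • 1) + f b • (a - f a • 1) := by
      rw [map_mul]
      simp only [Algebra.smul_def, mul_one, map_mul]
      ring
    rw [hlam', hdecomp, map_add, map_add, h0, zero_add, map_smul, map_smul, ← hlam', ← hlam',
      smul_eq_mul, smul_eq_mul]
  let D : Derivation k A A := Derivation.mk' (lam.smulRight z) (by
    intro a b
    simp only [LinearMap.smulRight_apply, smul_eq_mul]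
    rw [hleib, mul_smul_comm, mul_smul_comm, haz a, haz b, smul_smul, smul_smul, ← add_smul]
    congr 1
    ring)
  refine ⟨D, fun hD => ?_⟩
  have h1 : D x = 0 := by rw [hD]; rfl
  have h2 : D x = lam x • z := rfl
  rw [h2, hlam, (RingHom.mem_ker).mp hxm, mul_zero, sub_zero] at h1
  rcases smul_eq_zero.mp h1 with h3 | h3
  · exact hμx h3
  · exact hf h3

end

end Groth.Agent.H86
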