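import Mathlib
import Groth.Agent.H86.GM1

/-!
# GM3: separability and primitive elements in the constant field extension;
extension of ring homomorphisms to an algebraic closure
-/

set_option autoImplicit false

namespace Groth.Agent.H86.GeoModel

open FunFld Module IntermediateField Polynomial

section twist

variable {A Ω : Type*} [Field A] [Field Ω]

/-- a copy of `Ω`, seen as an `A`-algebra through a given ring homomorphism -/
def TwΩ (_φ : A →+* Ω) : Type _ := Ω

noncomputable instance (φ : A →+* Ω) : Field (TwΩ φ) := inferInstanceAs (Field Ω)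

instance (φ : A →+* Ω) [IsAlgClosed Ω] : IsAlgClosed (TwΩ φ) := inferInstanceAs (IsAlgClosed Ω)

noncomputable instance (φ : A →+* Ω) : Algebra A (TwΩ φ) := RingHom.toAlgebra (φ : A →+* Ω)

/-- every ring homomorphism into an algebraically closed field extends to an algebraic
extension which is itself algebraically closed -/
theorem exists_ringHom_extension [Algebra A Ω] [IsAlgClosed Ω] [Algebra.IsAlgebraic A Ω]
    (φ : A →+* Ω) : ∃ ψ : Ω →+* Ω, ∀ a : A, ψ (algebraMap A Ω a) = φ a := by
  let f : Ω →ₐ[A] TwΩ φ := IsAlgClosed.lift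
  refine ⟨(f : Ω →+* TwΩ φ), fun a => ?_⟩
  exact f.commutes a

end twist

section const

variable {k K kb Kb : Type*} [Field k] [Field K] [Algebra k K] [Field kb] [Algebra k kb]
  [Field Kb] [Algebra K Kb] [Algebra kb Kb] [Algebra k Kb]
  [IsScalarTower k K Kb] [IsScalarTower k kb Kb]

/-- a subfield containing the images of `K` and `kb` is everything -/
theorem mem_subfield_of_adjoin_eq_top
    (hgen : Algebra.adjoin K (Set.range (algebraMap kb Kb)) = ⊤) (S : Subfield Kb)
    (hK : ∀ z : K, algebraMap K Kb z ∈ S) (hkb : ∀ c : kb, algebraMap kb Kb c ∈ S) (w : Kb) :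
    w ∈ S := by
  have hw : w ∈ Algebra.adjoin K (Set.range (algebraMap kb Kb)) := by
    rw [hgen]
    trivial
  induction hw using Algebra.adjoin_induction with
  | mem w hw =>
    obtain ⟨c, rfl⟩ := hw
    exact hkb c
  | algebraMap z => exact hK z
  | add w w' _ _ hw hw' => exact add_mem hw hw'
  | mul w w' _ _ hw hw' => exact mul_mem hw hw'

/-- the map `k(x) → kb(x)` -/
noncomputable def jHom (x : K) : k⟮x⟯ →+* kb⟮algebraMap K Kb x⟯ :=
  ((algebraMap K Kb).comp (algebraMap k⟮x⟯ K)).codRestrict _
    (fun c => algebraMap_mem_adjoin (kb := kb) (Kb := Kb) c.2)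

theorem algebraMap_jHom (x : K) (c : k⟮x⟯) :
    algebraMap kb⟮algebraMap K Kb x⟯ Kb (jHom (kb := kb) (Kb := Kb) x c) =
      algebraMap K Kb (c : K) := rfl

theorem algebraMap_comp_jHom (x : K) :
    (algebraMap kb⟮algebraMap K Kb x⟯ Kb).comp (jHom (kb := kb) (Kb := Kb) x) =
      (algebraMap K Kb).comp (algebraMap k⟮x⟯ K) := rfl

/-- the image of a polynomial over `k(x)` killing `z` kills the image of `z` -/
theorem aeval_map_jHom (x : K) (m : Polynomial k⟮x⟯) (z : K) :
    aeval (algebraMap K Kb z) (m.map (jHom (kb := kb) (Kb := Kb) x)) =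
      algebraMap K Kb (aeval z m) := by
  rw [aeval_def, eval₂_map, algebraMap_comp_jHom, ← hom_eval₂, ← aeval_def]

/-- separability is preserved by the constant field extension -/
theorem isSeparable_adjoin {x : K} [Algebra.IsSeparable k⟮x⟯ K]
    (hgen : Algebra.adjoin K (Set.range (algebraMap kb Kb)) = ⊤) :
    Algebra.IsSeparable kb⟮algebraMap K Kb x⟯ Kb := by
  set Lb := kb⟮algebraMap K Kb x⟯ with hLb
  have hK : ∀ z : K, IsSeparable Lb (algebraMap K Kb z) := by
    intro z
    have h1 : IsSeparable k⟮x⟯ z := Algebra.IsSeparable.isSeparable k⟮x⟯ z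
    have h2 : ((minpoly k⟮x⟯ z).map (jHom (kb := kb) (Kb := Kb) x)).Separable :=
      Polynomial.Separable.map h1
    have h3 : aeval (algebraMap K Kb z) ((minpoly k⟮x⟯ z).map (jHom (kb := kb) (Kb := Kb) x)) = 0 := by
      rw [aeval_map_jHom, minpoly.aeval, map_zero]
    exact h2.of_dvd (minpoly.dvd _ _ h3)
  rw [← separableClosure.eq_top_iff, eq_top_iff]
  intro w _
  apply mem_subfield_of_adjoin_eq_top hgen (separableClosure Lb Kb).toSubfield
  · intro z
    exact mem_separableClosure_iff.mpr (hK z)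
  · intro c
    exact (separableClosure Lb Kb).algebraMap_mem (algebraMap kb Lb c)

/-- a primitive element of `K/k(x)` is a primitive element of `Kb/kb(x)` -/
theorem adjoin_primitive {x θ : K} (hθ : k⟮x⟯⟮θ⟯ = ⊤)
    (hgen : Algebra.adjoin K (Set.range (algebraMap kb Kb)) = ⊤) :
    kb⟮algebraMap K Kb x⟯⟮algebraMap K Kb θ⟯ = ⊤ := by
  set Lb := kb⟮algebraMap K Kb x⟯ with hLb
  set T := Lb⟮algebraMap K Kb θ⟯ with hT
  let M : IntermediateField k⟮x⟯ K :=
    Subfield.toIntermediateField (T.toSubfield.comap (algebraMap K Kb))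
      (fun c => T.algebraMap_mem (jHom (kb := kb) (Kb := Kb) x c))
  have hM : k⟮x⟯⟮θ⟯ ≤ M := by
    rw [adjoin_simple_le_iff]
    show algebraMap K Kb θ ∈ T
    exact mem_adjoin_simple_self Lb _
  rw [eq_top_iff]
  intro w _
  apply mem_subfield_of_adjoin_eq_top hgen T.toSubfield
  · intro z
    have : z ∈ M := hM (hθ ▸ (IntermediateField.mem_top : z ∈ (⊤ : IntermediateField k⟮x⟯ K)))
    exact this
  · intro c
    exact T.algebraMap_mem (algebraMap kb Lb c)

end const

end Groth.Agent.H86.GeoModel
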