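import Mathlib
import Groth.Agent.H86.GM3
import Groth.Agent.H55.Plane1
import Groth.Agent.H55.Sep1
import Groth.Agent.H55.WExt2

/-!
# GM4: a Galois closure of the geometric model together with a Frobenius
-/

set_option autoImplicit false

universe u v w

namespace Groth.Agent.H86.GeoModel

open FunFld Module IntermediateField Polynomial Groth.Agent.H55

variable {k : Type u} {K : Type v} {kb : Type*} {Kb : Type w} [Field k] [Finite k] [Field K]
  [Algebra k K] [Field kb] [Algebra k kb]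
  [Field Kb] [Algebra K Kb] [Algebra kb Kb] [Algebra k Kb]
  [IsScalarTower k K Kb] [IsScalarTower k kb Kb] [IsAlgClosed kb] [Algebra.IsAlgebraic k kb]

/-- **the Galois model**: a rational subfield `Lb = kb(x)`, a finite Galois extension `Eb` of `Lb`
containing `Kb`, and an extension `Φ` of the Frobenius to `Eb` whose values are `q`-th powers. -/
theorem exists_galois_model (hK : IsFunctionField k K)
    (hgen : Algebra.adjoin K (Set.range (algebraMap kb Kb)) = ⊤)
    (F : Kb →ₐ[kb] Kb) (hF : ∀ x : K, F (algebraMap K Kb x) = algebraMap K Kb x ^ Nat.card k) :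
    ∃ (Lb Eb : Type w) (_ : Field Lb) (_ : Field Eb) (_ : Algebra kb Lb) (_ : Algebra kb Eb)
      (_ : Algebra Lb Kb) (_ : Algebra Lb Eb) (_ : Algebra Kb Eb) (_ : IsScalarTower kb Lb Eb)
      (_ : IsScalarTower kb Kb Eb) (_ : IsScalarTower Lb Kb Eb) (_ : FiniteDimensional Lb Eb)
      (_ : IsGalois Lb Eb),
      IsFunctionField kb Lb ∧ IsFunctionField kb Eb ∧ ∃ x : Lb, kb⟮x⟯ = ⊤ ∧
        ∃ Φ : Eb →ₐ[kb] Eb,
          (∀ z : Kb, Φ (algebraMap Kb Eb z) = algebraMap Kb Eb (F z)) ∧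
          Φ (algebraMap Lb Eb x) = algebraMap Lb Eb x ^ Nat.card k ∧
          ∀ w : Eb, ∃ v : Eb, Φ w = v ^ Nat.card k := by
  classical
  haveI : Fintype k := Fintype.ofFinite k
  obtain ⟨p, hchar⟩ := CharP.exists k
  haveI := hchar
  obtain ⟨n, hp, hcard⟩ := FiniteField.card k p
  haveI : Fact p.Prime := ⟨hp⟩
  have hq : Nat.card k = p ^ (n : ℕ) := by rw [Nat.card_eq_fintype_card, hcard]
  have hqpos : 0 < Nat.card k := Nat.card_pos
  -- a separating element and a primitive element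
  obtain ⟨x, hxtr, hsep⟩ := exists_separating hK (isGeometric_of_perfectField k K hK)
  haveI := hsep
  haveI : FiniteDimensional k⟮x⟯ K := finiteDimensional_adjoin_of_transcendental hK hxtr
  obtain ⟨θ, hθ⟩ := Field.exists_primitive_element k⟮x⟯ K
  have hKb : IsFunctionField kb Kb := isFunctionField_of_adjoin hK hgen
  set xb := algebraMap K Kb x with hxb
  have hxbtr : Transcendental kb xb := transcendental_algebraMap_of_isAlgebraic hxtr
  haveI : FiniteDimensional kb⟮xb⟯ Kb := finiteDimensional_adjoin (k := k) hgen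
  haveI : Algebra.IsSeparable kb⟮xb⟯ Kb := isSeparable_adjoin (k := k) hgen
  have hθb : kb⟮xb⟯⟮algebraMap K Kb θ⟯ = ⊤ := adjoin_primitive hθ hgen
  -- the algebraic closure and its Frobenius
  haveI : CharP Kb p := charP_of_injective_algebraMap (algebraMap k Kb).injective p
  haveI : CharP (AlgebraicClosure Kb) p :=
    charP_of_injective_algebraMap (algebraMap Kb (AlgebraicClosure Kb)).injective p
  haveI : ExpChar (AlgebraicClosure Kb) p := ExpChar.prime hp
  let Fr : AlgebraicClosure Kb ≃+* AlgebraicClosure Kb :=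
    iterateFrobeniusEquiv (AlgebraicClosure Kb) p n
  have hFr : ∀ w : AlgebraicClosure Kb, Fr w = w ^ Nat.card k := by
    intro w
    rw [hq]
    exact iterateFrobeniusEquiv_def (AlgebraicClosure Kb) p n w
  let ψ₀ : Kb →+* AlgebraicClosure Kb :=
    (Fr.symm : AlgebraicClosure Kb →+* AlgebraicClosure Kb).comp
      ((algebraMap Kb (AlgebraicClosure Kb)).comp (F : Kb →+* Kb))
  have hψ₀ : ∀ z : Kb, Fr (ψ₀ z) = algebraMap Kb (AlgebraicClosure Kb) (F z) := by
    intro z
    exact Fr.apply_symm_apply _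
  have hψ₀K : ∀ z : K, ψ₀ (algebraMap K Kb z) =
      algebraMap Kb (AlgebraicClosure Kb) (algebraMap K Kb z) := by
    intro z
    apply Fr.injective
    rw [hψ₀, hF, map_pow, hFr]
  have hψ₀kb : ∀ c : kb, ∃ c' : kb, ψ₀ (algebraMap kb Kb c) =
      algebraMap Kb (AlgebraicClosure Kb) (algebraMap kb Kb c') := by
    intro c
    obtain ⟨c', hc'⟩ := IsAlgClosed.exists_pow_nat_eq c hqpos
    refine ⟨c', ?_⟩
    apply Fr.injective
    rw [hψ₀, F.commutes, hFr, ← map_pow, ← map_pow, hc']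
  obtain ⟨ψ, hψ⟩ := exists_ringHom_extension ψ₀
  have hΦcoe : ∀ z : Kb, Fr (ψ (algebraMap Kb (AlgebraicClosure Kb) z)) =
      algebraMap Kb (AlgebraicClosure Kb) (F z) := by
    intro z
    rw [hψ, hψ₀]
  -- the polynomial and its splitting field
  let j := jHom (k := k) (kb := kb) (Kb := Kb) x
  let P : Polynomial kb⟮xb⟯ := (minpoly k⟮x⟯ θ).map j
  have hPsep : P.Separable := Polynomial.Separable.map (Algebra.IsSeparable.isSeparable k⟮x⟯ θ)
  have hP0 : P ≠ 0 :=
    ((minpoly.monic (Algebra.IsIntegral.isIntegral (R := k⟮x⟯) θ)).map j).ne_zero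
  let Eb : IntermediateField kb⟮xb⟯ (AlgebraicClosure Kb) :=
    IntermediateField.adjoin kb⟮xb⟯ (P.rootSet (AlgebraicClosure Kb))
  haveI hsplit : P.IsSplittingField kb⟮xb⟯ Eb :=
    IntermediateField.adjoin_rootSet_isSplittingField (IsAlgClosed.splits _)
  haveI hgal : IsGalois kb⟮xb⟯ Eb := IsGalois.of_separable_splitting_field hPsep
  haveI hfinE : FiniteDimensional kb⟮xb⟯ Eb := Polynomial.IsSplittingField.finiteDimensional Eb P
  have hcompj : (algebraMap kb⟮xb⟯ (AlgebraicClosure Kb)).comp j =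
      (algebraMap Kb (AlgebraicClosure Kb)).comp
        ((algebraMap K Kb).comp (algebraMap k⟮x⟯ K)) := rfl
  -- `Kb` lies in `Eb`
  have hθroot : algebraMap Kb (AlgebraicClosure Kb) (algebraMap K Kb θ) ∈
      P.rootSet (AlgebraicClosure Kb) := by
    rw [Polynomial.mem_rootSet]
    refine ⟨hP0, ?_⟩
    rw [aeval_def, eval₂_map, hcompj, ← RingHom.comp_assoc, ← RingHom.comp_apply, ← hom_eval₂,
      ← aeval_def, minpoly.aeval, map_zero]
  have hKbE : ∀ z : Kb, algebraMap Kb (AlgebraicClosure Kb) z ∈ Eb := by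
    intro z
    let M : IntermediateField kb⟮xb⟯ Kb :=
      Eb.comap (IsScalarTower.toAlgHom kb⟮xb⟯ Kb (AlgebraicClosure Kb))
    have hM : kb⟮xb⟯⟮algebraMap K Kb θ⟯ ≤ M := by
      rw [adjoin_simple_le_iff]
      show algebraMap Kb (AlgebraicClosure Kb) (algebraMap K Kb θ) ∈ Eb
      exact IntermediateField.subset_adjoin _ _ hθroot
    have : z ∈ M := hM (hθb ▸ (IntermediateField.mem_top : z ∈ (⊤ : IntermediateField kb⟮xb⟯ Kb)))
    exact this
  -- stability of `Eb` under `ψ`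
  have hψL : ∀ l : kb⟮xb⟯, ψ (algebraMap kb⟮xb⟯ (AlgebraicClosure Kb) l) ∈ Eb := by
    intro l
    let N : IntermediateField kb Kb :=
      Subfield.toIntermediateField
        ((algebraMap kb⟮xb⟯ (AlgebraicClosure Kb)).fieldRange.comap ψ₀)
        (fun c => by
          obtain ⟨c', hc'⟩ := hψ₀kb c
          exact ⟨algebraMap kb kb⟮xb⟯ c', hc'.symm⟩)
    have hN : kb⟮xb⟯ ≤ N := by
      rw [adjoin_simple_le_iff]
      exact ⟨AdjoinSimple.gen kb xb, (hψ₀K x).symm⟩
    obtain ⟨l', hl'⟩ : ∃ l' : kb⟮xb⟯, algebraMap kb⟮xb⟯ (AlgebraicClosure Kb) l' = ψ₀ (l : Kb) :=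
      hN l.2
    have h1 : algebraMap kb⟮xb⟯ (AlgebraicClosure Kb) l =
        algebraMap Kb (AlgebraicClosure Kb) (l : Kb) := rfl
    rw [h1, hψ, ← hl']
    exact Eb.algebraMap_mem l'
  have hroot : ∀ r ∈ P.rootSet (AlgebraicClosure Kb), ψ r ∈ P.rootSet (AlgebraicClosure Kb) := by
    intro r hr
    rw [Polynomial.mem_rootSet] at hr ⊢
    refine ⟨hr.1, ?_⟩
    have h1 := hr.2
    rw [aeval_def, eval₂_map] at h1 ⊢
    have hcomp : ψ.comp ((algebraMap kb⟮xb⟯ (AlgebraicClosure Kb)).comp j) =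
        (algebraMap kb⟮xb⟯ (AlgebraicClosure Kb)).comp j := by
      ext c
      show ψ (algebraMap Kb (AlgebraicClosure Kb) (algebraMap K Kb (c : K))) = _
      rw [hψ, hψ₀K]
      rfl
    rw [← hcomp, ← hom_eval₂, h1, map_zero]
  have hstab : ∀ w ∈ Eb, ψ w ∈ Eb := by
    let M : IntermediateField kb⟮xb⟯ (AlgebraicClosure Kb) :=
      Subfield.toIntermediateField (Eb.toSubfield.comap ψ) hψL
    have hM : Eb ≤ M :=
      IntermediateField.adjoin_le_iff.mpr
        (fun r hr => IntermediateField.subset_adjoin _ _ (hroot r hr))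
    exact fun w hw => hM hw
  -- the structure on `Eb`
  letI algKbEb : Algebra Kb Eb :=
    ((algebraMap Kb (AlgebraicClosure Kb)).codRestrict Eb hKbE).toAlgebra
  have hcoeKb : ∀ z : Kb, ((algebraMap Kb Eb z : Eb) : AlgebraicClosure Kb) =
      algebraMap Kb (AlgebraicClosure Kb) z := fun _ => rfl
  have hcoeLb : ∀ l : kb⟮xb⟯, ((algebraMap kb⟮xb⟯ Eb l : Eb) : AlgebraicClosure Kb) =
      algebraMap Kb (AlgebraicClosure Kb) (l : Kb) := fun _ => rfl
  have tow1 : IsScalarTower kb kb⟮xb⟯ Eb := inferInstance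
  have tow2 : IsScalarTower kb Kb Eb := by
    apply IsScalarTower.of_algebraMap_eq
    intro c
    apply Subtype.ext
    rw [hcoeKb]
    exact IsScalarTower.algebraMap_apply kb Kb (AlgebraicClosure Kb) c
  have tow3 : IsScalarTower kb⟮xb⟯ Kb Eb := by
    apply IsScalarTower.of_algebraMap_eq
    intro l
    apply Subtype.ext
    rw [hcoeKb]
    rfl
  haveI : FiniteDimensional Kb Eb := FiniteDimensional.right kb⟮xb⟯ Kb Eb
  have hLb : IsFunctionField kb kb⟮xb⟯ := isFunctionField_adjoin hxbtr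
  have hEb : IsFunctionField kb Eb :=
    ⟨W.weak_of_finite (K := Kb) (K' := Eb) hKb.weak, fun y hy => mem_range_of_isAlgebraic hy⟩
  -- the Frobenius on `Eb`
  let Φr : Eb →+* Eb :=
    ((Fr : AlgebraicClosure Kb →+* AlgebraicClosure Kb).comp
      (ψ.comp (algebraMap Eb (AlgebraicClosure Kb)))).codRestrict Eb (fun w => by
        show Fr (ψ (w : AlgebraicClosure Kb)) ∈ Eb
        rw [hFr]
        exact pow_mem (hstab _ w.2) _)
  have hΦr : ∀ w : Eb, ((Φr w : Eb) : AlgebraicClosure Kb) = Fr (ψ (w : AlgebraicClosure Kb)) :=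
    fun _ => rfl
  let Φ : Eb →ₐ[kb] Eb :=
    { Φr with
      commutes' := fun c => by
        apply Subtype.ext
        show Fr (ψ (algebraMap Kb (AlgebraicClosure Kb) (algebraMap kb Kb c))) =
          algebraMap Kb (AlgebraicClosure Kb) (algebraMap kb Kb c)
        rw [hΦcoe, F.commutes] }
  have hΦ : ∀ w : Eb, ((Φ w : Eb) : AlgebraicClosure Kb) = Fr (ψ (w : AlgebraicClosure Kb)) :=
    fun _ => rfl
  refine ⟨kb⟮xb⟯, Eb, inferInstance, inferInstance, inferInstance, inferInstance, inferInstance,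
    inferInstance, algKbEb, tow1, tow2, tow3, hfinE, hgal, hLb, hEb,
    AdjoinSimple.gen kb xb, adjoin_gen_eq_top xb, Φ, ?_, ?_, ?_⟩
  · intro z
    apply Subtype.ext
    rw [hΦ, hcoeKb, hcoeKb, hΦcoe]
  · apply Subtype.ext
    rw [hΦ, hcoeLb, SubmonoidClass.coe_pow, hcoeLb, hΦcoe]
    show algebraMap Kb (AlgebraicClosure Kb) (F (algebraMap K Kb x)) = _
    rw [hF, map_pow]
    rfl
  · intro w
    refine ⟨⟨ψ (w : AlgebraicClosure Kb), hstab _ w.2⟩, ?_⟩
    apply Subtype.ext
    rw [hΦ, SubmonoidClass.coe_pow, hFr]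

end Groth.Agent.H86.GeoModel
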