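import Mathlib
import Groth.Agent.H86.HS6
import Groth.Agent.H86.SR2

set_option autoImplicit false
set_option linter.unusedSectionVars false

namespace Groth.Agent.H86.FF

open FunFld Module Groth.Agent.H55

variable {k K : Type*} [Field k] [Field K] [Algebra k K]

theorem mem_L_sub_single (C : Divisor k K) (P : Place k K) (m : ℕ) (f : K) :
    f ∈ L (C - Finsupp.single P (m : ℤ)) ↔ f ∈ L C ∧ P.1 f ≤ WithZero.exp (C P - m) := by
  classical
  constructor
  · intro hf
    refine ⟨fun Q => (hf Q).trans ?_, ?_⟩
    · rw [WithZero.exp_le_exp, Finsupp.sub_apply, Finsupp.single_apply]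
      split_ifs <;> omega
    · have := hf P
      rwa [Finsupp.sub_apply, Finsupp.single_eq_same] at this
  · rintro ⟨hf, hP⟩ Q
    by_cases hQ : Q = P
    · subst hQ
      rw [Finsupp.sub_apply, Finsupp.single_eq_same]
      exact hP
    · rw [Finsupp.sub_apply, Finsupp.single_apply, if_neg (Ne.symm hQ), sub_zero]
      exact hf Q

variable [IsAlgClosed k]

section canonical

variable (hK : IsFunctionField k K) {C : Divisor k K} (hC : IsCanonical k K C) (P : Place k K)

include hK hC in
/-- `j + 1` is a gap at `P` iff some differential vanishes to order exactly `j` at `P` -/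
theorem gap_iff (j : ℕ) :
    L (Finsupp.single P ((j : ℤ) + 1)) = L (Finsupp.single P (j : ℤ)) ↔
      ∃ f ∈ L C, P.1 f = WithZero.exp (C P - j) := by
  classical
  have hle1 : (Finsupp.single P (j : ℤ) : Divisor k K) ≤ Finsupp.single P ((j : ℤ) + 1) := by
    intro Q
    rw [Finsupp.single_apply, Finsupp.single_apply]
    split_ifs <;> omega
  have hle2 : C - Finsupp.single P (((j + 1 : ℕ) : ℤ)) ≤ C - Finsupp.single P ((j : ℕ) : ℤ) := by
    intro Q
    rw [Finsupp.sub_apply, Finsupp.sub_apply, Finsupp.single_apply, Finsupp.single_apply]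
    push_cast
    split_ifs <;> omega
  have hcast : (Finsupp.single P ((j : ℤ) + 1) : Divisor k K) =
      Finsupp.single P (((j + 1 : ℕ) : ℤ)) := by push_cast; rfl
  have rr1 := riemann_roch hK hC (Finsupp.single P ((j : ℤ) + 1))
  have rr2 := riemann_roch hK hC (Finsupp.single P (j : ℤ))
  rw [deg_single_one hK] at rr1 rr2
  rw [hcast] at rr1
  have m1 := ell_mono hK hle1
  have m2 := ell_mono hK hle2
  have hfin1 := L_finite hK (Finsupp.single P ((j : ℤ) + 1))
  have hfin2 := L_finite hK (C - Finsupp.single P ((j : ℕ) : ℤ))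
  constructor
  · intro heq
    have hAB : ell (Finsupp.single P ((j : ℤ) + 1)) = ell (Finsupp.single P (j : ℤ)) := by
      unfold ell; rw [heq]
    have hne : L (C - Finsupp.single P (((j + 1 : ℕ) : ℤ))) ≠ L (C - Finsupp.single P ((j : ℕ) : ℤ)) := by
      intro h
      have : ell (C - Finsupp.single P (((j + 1 : ℕ) : ℤ))) = ell (C - Finsupp.single P ((j : ℕ) : ℤ)) := by
        unfold ell; rw [h]
      rw [hcast] at hAB
      omega
    obtain ⟨f, hf1, hf2⟩ := SetLike.exists_of_lt (lt_of_le_of_ne (L_mono hle2) hne)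
    rw [mem_L_sub_single] at hf1 hf2
    refine ⟨f, hf1.1, le_antisymm hf1.2 ?_⟩
    by_contra hcon
    push Not at hcon
    apply hf2
    refine ⟨hf1.1, ?_⟩
    have := Place.lt_exp_iff_le_exp_sub_one.mp hcon
    have e : C P - (j : ℤ) - 1 = C P - ((j + 1 : ℕ) : ℤ) := by push_cast; ring
    rwa [e] at this
  · rintro ⟨f, hf, hv⟩
    have hf1 : f ∈ L (C - Finsupp.single P ((j : ℕ) : ℤ)) := by
      rw [mem_L_sub_single]
      exact ⟨hf, hv.le⟩
    have hf2 : f ∉ L (C - Finsupp.single P (((j + 1 : ℕ) : ℤ))) := by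
      rw [mem_L_sub_single]
      rintro ⟨-, h⟩
      rw [hv, WithZero.exp_le_exp] at h
      push_cast at h
      omega
    have hlt : L (C - Finsupp.single P (((j + 1 : ℕ) : ℤ))) < L (C - Finsupp.single P ((j : ℕ) : ℤ)) :=
      lt_of_le_of_ne (L_mono hle2) (fun h => hf2 (h ▸ hf1))
    have hlt' := Submodule.finrank_lt_finrank_of_lt hlt
    have hAB : ell (Finsupp.single P ((j : ℤ) + 1)) ≤ ell (Finsupp.single P (j : ℤ)) := by
      rw [hcast]
      unfold ell at rr1 rr2 ⊢
      omega
    symm
    apply Submodule.eq_of_le_of_finrank_le (L_mono hle1)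
    exact hAB

include hK hC in
/-- the canonical system has no base points -/
theorem canonical_bpf (hg : 1 ≤ genus k K) : ∃ f ∈ L C, P.1 f = WithZero.exp (C P) := by
  classical
  have h := (gap_iff hK hC P 0).mp (by
    apply le_antisymm
    · intro a ha
      have ha' : a ∈ L (Finsupp.single P (1 : ℤ) : Divisor k K) := by
        simpa using ha
      obtain ⟨c, rfl⟩ := const_of_mem_L_single hK hg P ha'
      intro Q
      refine (Q.2.1 c).trans ?_
      rw [← WithZero.exp_zero, WithZero.exp_le_exp, Finsupp.single_apply]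
      split_ifs <;> simp
    · apply L_mono
      intro Q
      rw [Finsupp.single_apply, Finsupp.single_apply]
      split_ifs <;> simp)
  simpa using h

end canonical

end Groth.Agent.H86.FF
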