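import Mathlib
import Groth.Agent.H86.HS6
import Groth.Prelude.Def_W4bk4goldsch45

set_option autoImplicit false
set_option linter.unusedSectionVars false

namespace Groth.Agent.H86.FF

open FunFld Module Groth.Agent.H55

variable {k K : Type*} [Field k] [Field K] [Algebra k K] [IsAlgClosed k]

theorem exists_const_sub_lt (hK : IsFunctionField k K) (P : Place k K) (u : K) (hu : P.1 u ≤ 1) :
    ∃ c : k, P.1 (u - algebraMap k K c) < 1 := by
  obtain ⟨c, hc⟩ := (algebraMap_res_bijective hK P).2 (evalP P u)
  refine ⟨c, ?_⟩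
  have hc1 : P.1 (algebraMap k K c) ≤ 1 := P.2.1 c
  have hd1 : P.1 (u - algebraMap k K c) ≤ 1 := P.1.map_sub_le hu hc1
  rw [← evalP_eq_zero_iff P hd1]
  have : u = (u - algebraMap k K c) + algebraMap k K c := by ring
  have h2 := evalP_add P hd1 hc1
  rw [← this, evalP_algebraMap, hc] at h2
  exact (add_eq_right.mp h2.symm)

/-- a nonsingular effective normalized map has a section vanishing to order exactly one -/
theorem exists_order_one (hK : IsFunctionField k K) (P : Place k K) {n : ℕ}
    (φ : Fin (n + 1) → K) (heff : (1 : K) ∈ Submodule.span k (Set.range φ))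
    (hnorm : ∀ i, P.1 (φ i) ≤ 1) (hns : IsNonsingularAt φ P) :
    ∃ f ∈ Submodule.span k (Set.range φ), P.1 f = WithZero.exp (-1 : ℤ) := by
  obtain ⟨t, ht⟩ := P.2.2 (WithZero.exp (-1 : ℤ))
  have ht1 : P.1 t ≤ 1 := by rw [ht]; exact Place.exp_neg_one_lt_one.le
  obtain ⟨j, hφj, hmax, u, hu, w, hw, hw1, hzw⟩ := hns t ht1
  have hvj : P.1 (φ j) = 1 := by
    apply le_antisymm (hnorm j)
    obtain ⟨γ, hγ⟩ := (Submodule.mem_span_range_iff_exists_fun k).mp heff
    have : P.1 (∑ i, γ i • φ i) ≤ P.1 (φ j) := by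
      apply Valuation.map_sum_le
      intro i _
      rw [Algebra.smul_def, map_mul]
      calc P.1 (algebraMap k K (γ i)) * P.1 (φ i) ≤ 1 * P.1 (φ j) :=
        mul_le_mul' (P.2.1 _) (hmax i)
        _ = P.1 (φ j) := one_mul _
    rwa [hγ, map_one] at this
  by_contra hno
  push Not at hno
  have hgen : ∀ i, ∃ c : k, P.1 (φ i / φ j - algebraMap k K c) ≤ WithZero.exp (-2 : ℤ) := by
    intro i
    have hxi : P.1 (φ i / φ j) ≤ 1 := by
      rw [map_div₀, hvj, div_one]
      exact hnorm i
    obtain ⟨c, hc⟩ := exists_const_sub_lt hK P _ hxi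
    refine ⟨c, ?_⟩
    have hle := le_exp_neg_one_of_lt_one hc
    have hne : P.1 (φ i / φ j - algebraMap k K c) ≠ WithZero.exp (-1 : ℤ) := by
      intro heq
      apply hno (φ i - c • φ j)
      · exact Submodule.sub_mem _ (Submodule.subset_span ⟨i, rfl⟩)
          (Submodule.smul_mem _ _ (Submodule.subset_span ⟨j, rfl⟩))
      · have : φ i - c • φ j = φ j * (φ i / φ j - algebraMap k K c) := by
          rw [Algebra.smul_def]; field_simp
        rw [this, map_mul, hvj, one_mul, heq]
    have := Place.lt_exp_iff_le_exp_sub_one.mp (lt_of_le_of_ne hle hne)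
    exact this
  have hall : ∀ a ∈ Algebra.adjoin k (Set.range fun i => φ i / φ j),
      ∃ c : k, P.1 (a - algebraMap k K c) ≤ WithZero.exp (-2 : ℤ) := by
    intro a ha
    induction ha using Algebra.adjoin_induction with
    | mem x hx =>
      obtain ⟨i, rfl⟩ := hx
      exact hgen i
    | algebraMap r =>
      exact ⟨r, by rw [sub_self, map_zero]; exact zero_le⟩
    | add x y _ _ hx hy =>
      obtain ⟨c, hc⟩ := hx
      obtain ⟨d, hd⟩ := hy
      refine ⟨c + d, ?_⟩
      have : x + y - algebraMap k K (c + d) = (x - algebraMap k K c) + (y - algebraMap k K d) := by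
        rw [map_add]; ring
      rw [this]
      exact P.1.map_add_le hc hd
    | mul x y _ _ hx hy =>
      obtain ⟨c, hc⟩ := hx
      obtain ⟨d, hd⟩ := hy
      refine ⟨c * d, ?_⟩
      have : x * y - algebraMap k K (c * d) =
          (x - algebraMap k K c) * y + algebraMap k K c * (y - algebraMap k K d) := by
        rw [map_mul]; ring
      rw [this]
      have hy1 : P.1 y ≤ 1 := by
        have : y = (y - algebraMap k K d) + algebraMap k K d := by ring
        rw [this]
        refine P.1.map_add_le (hd.trans ?_) (P.2.1 d)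
        rw [← WithZero.exp_zero, WithZero.exp_le_exp]
        omega
      apply P.1.map_add_le
      · rw [map_mul]
        calc P.1 (x - algebraMap k K c) * P.1 y ≤ WithZero.exp (-2 : ℤ) * 1 :=
          mul_le_mul' hc hy1
          _ = WithZero.exp (-2 : ℤ) := mul_one _
      · rw [map_mul]
        calc P.1 (algebraMap k K c) * P.1 (y - algebraMap k K d) ≤ 1 * WithZero.exp (-2 : ℤ) :=
          mul_le_mul' (P.2.1 c) hd
          _ = WithZero.exp (-2 : ℤ) := one_mul _
  obtain ⟨c, hc⟩ := hall u hu
  have hvu : P.1 u = WithZero.exp (-1 : ℤ) := by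
    rw [← hzw, map_mul, hw1, mul_one, ht]
  have hlt21 : WithZero.exp (-2 : ℤ) < WithZero.exp (-1 : ℤ) := by
    rw [WithZero.exp_lt_exp]; omega
  by_cases hc0 : c = 0
  · rw [hc0, map_zero, sub_zero, hvu] at hc
    exact absurd hc (not_le.mpr hlt21)
  · have hvc : P.1 (algebraMap k K c) = 1 := Place.val_algebraMap_eq_one P hc0
    have hlt : P.1 (u - algebraMap k K c) < P.1 (algebraMap k K c) := by
      rw [hvc]
      refine lt_of_le_of_lt hc ?_
      rw [← WithZero.exp_zero, WithZero.exp_lt_exp]
      omega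
    have := P.1.map_add_eq_of_lt_left hlt
    rw [add_sub_cancel, hvu, hvc] at this
    exact absurd this Place.exp_neg_one_lt_one.ne

end Groth.Agent.H86.FF
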