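import Mathlib
import Groth.Agent.H86.HS12
import Groth.Agent.H63.CoordChange

set_option autoImplicit false
set_option linter.unusedSectionVars false

namespace Groth.Agent.H86.FF

open FunFld Module Groth.Agent.H55 MvPolynomial

section taylor

variable {R : Type*} [CommRing R] {σ : Type*} [Fintype σ] [DecidableEq σ]
  {A : Type*} [CommRing A] [Algebra R A]

/-- first-order Taylor expansion of a multivariate polynomial modulo the square of an ideal -/
theorem aeval_add_sub_mem_sq (I : Ideal A) (b h : σ → A) (hh : ∀ i, h i ∈ I)
    (p : MvPolynomial σ R) :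
    aeval (fun i => b i + h i) p - aeval b p - ∑ i, aeval b (pderiv i p) * h i ∈ I ^ 2 := by
  induction p using MvPolynomial.induction_on with
  | C a =>
    simp
  | add p q hp hq =>
    have : aeval (fun i => b i + h i) (p + q) - aeval b (p + q) -
        ∑ i, aeval b (pderiv i (p + q)) * h i =
        (aeval (fun i => b i + h i) p - aeval b p - ∑ i, aeval b (pderiv i p) * h i) +
        (aeval (fun i => b i + h i) q - aeval b q - ∑ i, aeval b (pderiv i q) * h i) := by
      simp only [map_add, add_mul, Finset.sum_add_distrib]
      ring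
    rw [this]
    exact Ideal.add_mem _ hp hq
  | mul_X p i hp =>
    obtain ⟨r, hr⟩ : ∃ r, r = aeval (fun i => b i + h i) p - aeval b p -
        ∑ l, aeval b (pderiv l p) * h l := ⟨_, rfl⟩
    rw [← hr] at hp
    have hL : ∑ l, aeval b (pderiv l p) * h l ∈ I :=
      Ideal.sum_mem _ fun l _ => Ideal.mul_mem_left _ _ (hh l)
    have hsum : ∑ l, aeval b (pderiv l (p * X i)) * h l =
        b i * ∑ l, aeval b (pderiv l p) * h l + aeval b p * h i := by
      simp only [Derivation.leibniz, pderiv_X, smul_eq_mul, map_add, map_mul, aeval_X, add_mul,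
        Finset.sum_add_distrib]
      rw [add_comm]
      congr 1
      · rw [Finset.mul_sum]
        apply Finset.sum_congr rfl
        intro l _
        ring
      · rw [Finset.sum_eq_single i]
        · simp
        · intro l _ hl
          simp [Pi.single_apply, hl]
        · simp
    have : aeval (fun i => b i + h i) (p * X i) - aeval b (p * X i) -
        ∑ l, aeval b (pderiv l (p * X i)) * h l =
        r * (b i + h i) + (∑ l, aeval b (pderiv l p) * h l) * h i := by
      rw [hsum, map_mul, map_mul, aeval_X, aeval_X, hr]
      ring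
    rw [this]
    apply Ideal.add_mem
    · exact Ideal.mul_mem_right _ _ hp
    · rw [pow_two]
      exact Ideal.mul_mem_mul hL (hh i)

end taylor


section tangent

theorem aeval_algebraMap_eq {R : Type*} [CommRing R] {σ : Type*} {B : Type*} [CommRing B]
    [Algebra R B] (b : σ → R) (p : MvPolynomial σ R) :
    aeval (fun i => algebraMap R B (b i)) p = algebraMap R B (eval b p) := by
  induction p using MvPolynomial.induction_on with
  | C a => simp
  | add p q hp hq => simp [hp, hq]
  | mul_X p i hp => simp [hp]

variable {k K : Type*} [Field k] [Field K] [Algebra k K]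

theorem val_le_of_mem_maxIdeal_sq (P : Place k K) (z : P.O)
    (hz : z ∈ IsLocalRing.maximalIdeal P.O ^ 2) : P.1 (z : K) ≤ WithZero.exp (-2 : ℤ) := by
  rw [pow_two] at hz
  induction hz using Submodule.mul_induction_on' with
  | mem_mul_mem x hx y hy =>
    have hx' : P.1 (x : K) < 1 := (Valuation.mem_maximalIdeal_iff _ _).mp hx
    have hy' : P.1 (y : K) < 1 := (Valuation.mem_maximalIdeal_iff _ _).mp hy
    have h1 := le_exp_neg_one_of_lt_one hx'
    have h2 := le_exp_neg_one_of_lt_one hy'
    change P.1 ((x : K) * (y : K)) ≤ _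
    rw [map_mul]
    calc P.1 (x : K) * P.1 (y : K) ≤ WithZero.exp (-1 : ℤ) * WithZero.exp (-1 : ℤ) :=
      mul_le_mul' h1 h2
      _ = WithZero.exp (-2 : ℤ) := by rw [← WithZero.exp_add]; rfl
  | add x _ y _ hx hy =>
    change P.1 ((x : K) + (y : K)) ≤ _
    exact P.1.map_add_le hx hy

variable [IsAlgClosed k]

/-- the tangent form at the image of `P` vanishes to order at least two -/
theorem tangent_form_val (hK : IsFunctionField k K) (f : MvPolynomial (Fin 3) k) {d : ℕ}
    (hhom : f.IsHomogeneous d) (P : Place k K) (a : Fin 3 → P.O) (hfa : aeval a f = 0)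
    (c : Fin 3 → k)
    (hc : ∀ i, algebraMap k (IsLocalRing.ResidueField P.O) (c i) =
      aeval (fun l => IsLocalRing.residue P.O (a l)) (pderiv i f)) :
    P.1 ((∑ i, c i • a i : P.O) : K) ≤ WithZero.exp (-2 : ℤ) := by
  classical
  have hbij := algebraMap_res_bijective hK P
  have hex : ∀ i, ∃ b : k, algebraMap k (IsLocalRing.ResidueField P.O) b =
      IsLocalRing.residue P.O (a i) := fun i => hbij.2 _
  choose b hb using hex
  obtain ⟨h, hh⟩ : ∃ h : Fin 3 → P.O, ∀ i, h i = a i - algebraMap k P.O (b i) := ⟨_, fun _ => rfl⟩
  have hres : ∀ x : k, IsLocalRing.residue P.O (algebraMap k P.O x) =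
      algebraMap k (IsLocalRing.ResidueField P.O) x := fun x => rfl
  have hhm : ∀ i, h i ∈ IsLocalRing.maximalIdeal P.O := by
    intro i
    rw [← IsLocalRing.residue_eq_zero_iff, hh, map_sub, hres, hb, sub_self]
  have ha : a = fun i => algebraMap k P.O (b i) + h i := by
    funext i
    rw [hh]; ring
  have hT := aeval_add_sub_mem_sq (R := k) (IsLocalRing.maximalIdeal P.O)
    (fun i => algebraMap k P.O (b i)) h hhm f
  rw [← ha, hfa, zero_sub] at hT
  have hconst : ∀ p : MvPolynomial (Fin 3) k,
      aeval (fun i => algebraMap k P.O (b i)) p = algebraMap k P.O (eval b p) := by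
    intro p
    exact aeval_algebraMap_eq b p
  have hconst' : ∀ p : MvPolynomial (Fin 3) k,
      aeval (fun l => IsLocalRing.residue P.O (a l)) p =
        algebraMap k (IsLocalRing.ResidueField P.O) (eval b p) := by
    intro p
    rw [← aeval_algebraMap_eq b p]
    congr 2
    funext l
    exact (hb l).symm
  have hc' : ∀ i, c i = eval b (pderiv i f) := by
    intro i
    apply hbij.1
    rw [hc i, hconst']
  -- the value of `f` at the image point vanishes
  have hfb : eval b f = 0 := by
    apply hbij.1
    rw [map_zero]
    have h1 : IsLocalRing.residue P.O (-aeval (fun i => algebraMap k P.O (b i)) f -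
        ∑ i, aeval (fun i => algebraMap k P.O (b i)) (pderiv i f) * h i) = 0 := by
      rw [IsLocalRing.residue_eq_zero_iff]
      exact Ideal.pow_le_self two_ne_zero hT
    rw [map_sub, map_neg, map_sum, hconst, hres] at h1
    have h2 : ∑ i, IsLocalRing.residue P.O
        (aeval (fun i => algebraMap k P.O (b i)) (pderiv i f) * h i) = 0 := by
      apply Finset.sum_eq_zero
      intro i _
      rw [map_mul, (IsLocalRing.residue_eq_zero_iff _).mpr (hhm i), mul_zero]
    rw [h2, sub_zero, neg_eq_zero] at h1
    exact h1
  -- Euler's identity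
  have heuler : ∑ i, b i * eval b (pderiv i f) = 0 := by
    have := congrArg (eval b) hhom.sum_X_mul_pderiv
    rw [map_sum] at this
    simp only [map_mul, eval_X, map_nsmul, hfb, smul_zero] at this
    exact this
  have hsum : (∑ i, c i • a i : P.O) =
      -(-aeval (fun i => algebraMap k P.O (b i)) f -
        ∑ i, aeval (fun i => algebraMap k P.O (b i)) (pderiv i f) * h i) := by
    rw [hconst, hfb, map_zero, neg_zero, zero_sub, neg_neg]
    have h3 : ∀ i, c i • a i = algebraMap k P.O (c i * b i) +
        aeval (fun i => algebraMap k P.O (b i)) (pderiv i f) * h i := by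
      intro i
      rw [hconst, ← hc' i, Algebra.smul_def, hh, map_mul]
      ring
    simp_rw [h3]
    rw [Finset.sum_add_distrib, ← map_sum]
    have h4 : ∑ i, c i * b i = 0 := by
      rw [← heuler]
      apply Finset.sum_congr rfl
      intro i _
      rw [hc' i, mul_comm]
    rw [h4, map_zero, zero_add]
  rw [hsum]
  exact val_le_of_mem_maxIdeal_sq P _ (Ideal.neg_mem_iff _ |>.mpr hT)

end tangent

end Groth.Agent.H86.FF
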