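import Mathlib
import Groth.Agent.H55.FFCond7
import Groth.Agent.H86.HS12

set_option autoImplicit false
set_option linter.unusedSectionVars false

namespace Groth.Agent.H86.FF

open FunFld Module Groth.Agent.H55

variable {k K : Type*} [Field k] [Field K] [Algebra k K] [IsAlgClosed k]

/-- a finite set of places on which a nonzero function is bounded below -/
theorem exists_nat_exp_le_val (S : Finset (Place k K)) (r : K) (hr : r ≠ 0) :
    ∃ N : ℕ, ∀ Q ∈ S, WithZero.exp (-(N : ℤ)) ≤ Q.1 r := by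
  classical
  have hex : ∀ Q : Place k K, ∃ m : ℕ, WithZero.exp (-(m : ℤ)) ≤ Q.1 r := by
    intro Q
    have hv : Q.1 r ≠ 0 := (map_ne_zero Q.1).mpr hr
    obtain ⟨m, hm⟩ := exists_nat_le_exp (Q.1 r)⁻¹
    refine ⟨m, ?_⟩
    rw [WithZero.exp_neg]
    exact (inv_le_comm₀ (zero_lt_iff.mpr hv) (zero_lt_iff.mpr WithZero.exp_ne_zero)).mp hm
  choose m hm using hex
  refine ⟨S.sup m, fun Q hQ => le_trans ?_ (hm Q)⟩
  rw [WithZero.exp_le_exp]
  have : m Q ≤ S.sup m := Finset.le_sup hQ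
  omega

section bound

variable (hK : IsFunctionField k K) {n : ℕ} (φ : Fin (n + 1) → K)

include hK in
/-- a chart place with a different image is separated by an element of the chart algebra -/
theorem exists_separating (P R : Place k K) (j : Fin (n + 1)) (hj0 : φ j ≠ 0)
    (hjP : ∀ i, P.1 (φ i) ≤ P.1 (φ j)) (hjR : ∀ i, R.1 (φ i) ≤ R.1 (φ j))
    (hne : ¬ SameImage φ P R) :
    ∃ a ∈ Algebra.adjoin k (Set.range fun i => φ i / φ j), R.1 a < 1 ∧ P.1 a = 1 := by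
  by_contra hno
  push Not at hno
  apply hne
  refine ⟨j, hj0, hjP, hjR, fun i => ?_⟩
  have hR0 : 0 < R.1 (φ j) := zero_lt_iff.mpr ((map_ne_zero R.1).mpr hj0)
  have hP0 : 0 < P.1 (φ j) := zero_lt_iff.mpr ((map_ne_zero P.1).mpr hj0)
  have hRi : R.1 (φ i / φ j) ≤ 1 := by
    rw [map_div₀]; exact (div_le_one₀ hR0).mpr (hjR i)
  have hPi : P.1 (φ i / φ j) ≤ 1 := by
    rw [map_div₀]; exact (div_le_one₀ hP0).mpr (hjP i)
  obtain ⟨c, hc⟩ := exists_const_sub_lt hK R _ hRi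
  refine ⟨c, ?_, hc⟩
  have hmem : φ i / φ j - algebraMap k K c ∈ Algebra.adjoin k (Set.range fun i => φ i / φ j) :=
    Subalgebra.sub_mem _ (Algebra.subset_adjoin ⟨i, rfl⟩) (Subalgebra.algebraMap_mem _ c)
  have h1 := hno _ hmem hc
  have h2 : P.1 (φ i / φ j - algebraMap k K c) ≤ 1 := P.1.map_sub_le hPi (P.2.1 c)
  exact lt_of_le_of_ne h2 h1

include hK in
/-- S12532: high order of vanishing over the image point forces membership in the local ring -/
theorem exists_bound_inLocRing (hn : 1 ≤ n) (hφ : LinearIndependent k φ)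
    (hbir : IntermediateField.adjoin k (Set.range fun i => φ i / φ 0) = ⊤) (P : Place k K) :
    ∃ N : ℕ, ∀ z : K, (∀ Q : Place k K, SameImage φ P Q → Q.1 z ≤ WithZero.exp (-(N : ℤ))) →
      InLocRing φ P z := by
  classical
  have hinf : Infinite k := inferInstance
  have hφ0 : ∀ i, φ i ≠ 0 := fun i => hφ.ne_zero i
  obtain ⟨W, hW⟩ : ∃ W, W = Submodule.span k (Set.range φ) := ⟨_, rfl⟩
  obtain ⟨D, hD⟩ : ∃ D, D = mapDiv k φ := ⟨_, rfl⟩
  have hmd : MapData W D := by rw [hW, hD]; exact mapData_of_map hK φ hφ0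
  obtain ⟨j, hj0, hjP⟩ := exists_max_entry φ P ⟨0, hφ0 0⟩
  have hφW : ∀ i, φ i ∈ W := fun i => by rw [hW]; exact Submodule.subset_span ⟨i, rfl⟩
  have hsW : φ j ∈ W := hφW j
  have hfrac := frac_chart φ hφ0 hbir j
  rw [← hW] at hfrac
  obtain ⟨r, hrA, hr0, hr⟩ := exists_conductor hK hmd hsW hj0 hfrac
  have hfib := (finite_fibres hK hn φ hφ).2 P
  obtain ⟨N, hN⟩ := exists_nat_exp_le_val hfib.toFinset r hr0
  have hAeq : ratioAlg W (φ j) = Algebra.adjoin k (Set.range fun i => φ i / φ j) := by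
    rw [hW]; exact ratioAlg_eq_adjoin_range φ j
  refine ⟨N, fun z hz => ?_⟩
  rw [inLocRing_iff]
  refine ⟨j, hj0, hjP, ?_⟩
  rw [← hW]
  by_cases hz0 : z = 0
  · exact ⟨0, Subalgebra.zero_mem _, 1, Subalgebra.one_mem _, map_one _, by rw [hz0, zero_mul]⟩
  -- fibre places lie in the chart
  have hfibchart : ∀ Q, SameImage φ P Q → ∀ i, Q.1 (φ i) ≤ Q.1 (φ j) := by
    rintro Q ⟨j', hj'0, hj'P, hj'Q, hc⟩ i
    obtain ⟨c, hcP, hcQ⟩ := hc j
    have hP0 : P.1 (φ j') ≠ 0 := (map_ne_zero P.1).mpr hj'0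
    have hvP : P.1 (φ j / φ j') = 1 := by
      rw [map_div₀, le_antisymm (hj'P j) (hjP j')]
      exact div_self hP0
    have hc0 : c ≠ 0 := by
      intro h0
      have := (val_lt_one_iff_const_zero P hcP).mpr h0
      rw [hvP] at this
      exact lt_irrefl _ this
    have hvQ := val_eq_one_of_const_ne_zero Q hcQ hc0
    have hQ0 : Q.1 (φ j') ≠ 0 := (map_ne_zero Q.1).mpr hj'0
    rw [map_div₀, div_eq_one_iff_eq hQ0] at hvQ
    rw [hvQ]
    exact hj'Q i
  obtain ⟨y, hy⟩ : ∃ y, y = z / r := ⟨_, rfl⟩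
  have hy0 : y ≠ 0 := by rw [hy]; exact div_ne_zero hz0 hr0
  have hyfib : ∀ Q, SameImage φ P Q → Q.1 y ≤ 1 := by
    intro Q hQ
    have h1 := hz Q hQ
    have h2 := hN Q (by rw [Set.Finite.mem_toFinset]; exact hQ)
    have hv : (0 : WithZero (Multiplicative ℤ)) < Q.1 r := zero_lt_iff.mpr ((map_ne_zero Q.1).mpr hr0)
    rw [hy, map_div₀, div_le_one₀ hv]
    exact h1.trans h2
  have hbadfin : {R : Place k K | 1 < R.1 y}.Finite := Place.finite_poles hK hy0
  have hsep : ∀ R : Place k K, ∃ a ∈ ratioAlg W (φ j), P.1 a = 1 ∧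
      ((∀ i, R.1 (φ i) ≤ R.1 (φ j)) → 1 < R.1 y → R.1 a < 1) := by
    intro R
    by_cases hcase : (∀ i, R.1 (φ i) ≤ R.1 (φ j)) ∧ 1 < R.1 y
    · have hne : ¬ SameImage φ P R := fun h => absurd (hyfib R h) (not_le.mpr hcase.2)
      obtain ⟨a, haA, haR, haP⟩ := exists_separating hK φ P R j hj0 hjP hcase.1 hne
      exact ⟨a, by rw [hAeq]; exact haA, haP, fun _ _ => haR⟩
    · exact ⟨1, Subalgebra.one_mem _, map_one _, fun h1 h2 => absurd ⟨h1, h2⟩ hcase⟩
  choose a haA haP haR using hsep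
  have hexp : ∀ R : Place k K, ∃ m : ℕ, R.1 y ≤ WithZero.exp (m : ℤ) :=
    fun R => exists_nat_le_exp _
  choose m hm using hexp
  obtain ⟨w₁, hw₁⟩ : ∃ w₁, w₁ = ∏ R ∈ hbadfin.toFinset, a R ^ m R := ⟨_, rfl⟩
  have hw₁A : w₁ ∈ ratioAlg W (φ j) := by
    rw [hw₁]
    exact Subalgebra.prod_mem _ fun R _ => Subalgebra.pow_mem _ (haA R) _
  have hw₁P : P.1 w₁ = 1 := by
    rw [hw₁, map_prod]
    apply Finset.prod_eq_one
    intro R _
    rw [map_pow, haP, one_pow]
  have hreg : ∀ T : Place k K, T.1 (φ j) = WithZero.exp (D T) → T.1 (w₁ * y) ≤ 1 := by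
    intro T hT
    have hTmax : ∀ w ∈ W, T.1 w ≤ T.1 (φ j) := (hmd.least_iff hsW T).mpr hT
    have hAle : ∀ b ∈ ratioAlg W (φ j), T.1 b ≤ 1 := ratioAlg_val_le hTmax hj0
    by_cases hpole : 1 < T.1 y
    · have hTmem : T ∈ hbadfin.toFinset := by
        rw [Set.Finite.mem_toFinset]; exact hpole
      have h1 : T.1 (a T) ≤ WithZero.exp (-1 : ℤ) :=
        le_exp_neg_one_of_lt_one (haR T (fun i => hTmax _ (hφW i)) hpole)
      have h2 : T.1 (∏ R ∈ hbadfin.toFinset.erase T, a R ^ m R) ≤ 1 := by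
        rw [map_prod]
        apply Finset.prod_le_one'
        intro R _
        rw [map_pow]
        exact pow_le_one' (hAle _ (haA R)) _
      rw [hw₁, ← Finset.mul_prod_erase _ _ hTmem, map_mul, map_mul, map_pow]
      calc T.1 (a T) ^ m T * T.1 (∏ R ∈ hbadfin.toFinset.erase T, a R ^ m R) * T.1 y
          ≤ WithZero.exp (-1 : ℤ) ^ m T * 1 * WithZero.exp (m T : ℤ) :=
            mul_le_mul' (mul_le_mul' (pow_le_pow_left' h1 _) h2) (hm T)
        _ = 1 := by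
            rw [mul_one, exp_neg_one_pow, ← WithZero.exp_add, neg_add_cancel, WithZero.exp_zero]
    · push Not at hpole
      rw [map_mul]
      exact mul_le_one' (hAle _ hw₁A) hpole
  have h3 := hr (w₁ * y) hreg
  refine ⟨r * (w₁ * y), h3, w₁, hw₁A, hw₁P, ?_⟩
  rw [hy]
  field_simp

end bound

end Groth.Agent.H86.FF
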