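import Mathlib.RingTheory.PowerSeries.Inverse
import Mathlib.Algebra.BigOperators.NatAntidiagonal

/-!
# Multiplicative filtrations and power series whose `n`-th coefficient lies in the `n`-th step
-/

set_option autoImplicit false

namespace Groth.Agent.H86.KE

open PowerSeries Finset

universe u

/-- A decreasing multiplicative filtration of a commutative ring by additive subgroups. -/
structure MFilt (R : Type u) [CommRing R] where
  M : ℕ → AddSubgroup R
  one_mem : (1 : R) ∈ M 0
  mul_mem : ∀ (a b : ℕ) (x y : R), x ∈ M a → y ∈ M b → x * y ∈ M (a + b)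
  anti : ∀ a b : ℕ, a ≤ b → M b ≤ M a

variable {R : Type u} [CommRing R] (F : MFilt R)

/-- A power series is good when its `n`-th coefficient lies in the `n`-th step. -/
def MFilt.Good (G : PowerSeries R) : Prop := ∀ n, coeff n G ∈ F.M n

namespace MFilt

theorem mem_of_le {a b : ℕ} (h : a ≤ b) {x : R} (hx : x ∈ F.M b) : x ∈ F.M a := F.anti a b h hx

theorem good_one : F.Good 1 := by
  intro n
  rw [coeff_one]
  split_ifs with h
  · subst h; exact F.one_mem
  · exact zero_mem _

theorem good_zero : F.Good 0 := by
  intro n
  rw [map_zero]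
  exact zero_mem _

theorem good_add {G H : PowerSeries R} (hG : F.Good G) (hH : F.Good H) : F.Good (G + H) := by
  intro n
  rw [map_add]
  exact add_mem (hG n) (hH n)

theorem good_neg {G : PowerSeries R} (hG : F.Good G) : F.Good (-G) := by
  intro n
  rw [map_neg]
  exact neg_mem (hG n)

theorem good_sum {ι : Type*} (s : Finset ι) (G : ι → PowerSeries R) (hG : ∀ i ∈ s, F.Good (G i)) :
    F.Good (∑ i ∈ s, G i) := by
  intro n
  rw [map_sum]
  exact sum_mem fun i hi => hG i hi n

theorem good_mul {G H : PowerSeries R} (hG : F.Good G) (hH : F.Good H) : F.Good (G * H) := by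
  intro n
  rw [coeff_mul]
  refine sum_mem fun p hp => ?_
  have h := F.mul_mem p.1 p.2 _ _ (hG p.1) (hH p.2)
  rwa [Finset.mem_antidiagonal.mp hp] at h

theorem good_pow {G : PowerSeries R} (hG : F.Good G) (n : ℕ) : F.Good (G ^ n) := by
  induction n with
  | zero => rw [pow_zero]; exact F.good_one
  | succ n ih => rw [pow_succ]; exact F.good_mul ih hG

theorem good_prod {ι : Type*} (s : Finset ι) (G : ι → PowerSeries R) (hG : ∀ i ∈ s, F.Good (G i)) :
    F.Good (∏ i ∈ s, G i) := by
  classical
  induction s using Finset.induction_on with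
  | empty => rw [Finset.prod_empty]; exact F.good_one
  | insert i s hi ih =>
    rw [Finset.prod_insert hi]
    exact F.good_mul (hG i (Finset.mem_insert_self i s))
      (ih fun j hj => hG j (Finset.mem_insert_of_mem hj))

theorem good_C_mul_X_pow {a : R} {j : ℕ} (ha : a ∈ F.M j) : F.Good (C a * X ^ j) := by
  intro n
  rw [coeff_C_mul, coeff_X_pow]
  split_ifs with h
  · subst h; rwa [mul_one]
  · rw [mul_zero]; exact zero_mem _

theorem good_one_add_C_mul_X {a : R} (ha : a ∈ F.M 1) : F.Good (1 + C a * X) := by
  apply F.good_add F.good_one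
  have := F.good_C_mul_X_pow (j := 1) ha
  rwa [pow_one] at this

/-- A two-sided inverse of a good series with constant coefficient one is good. -/
theorem good_inv {G H : PowerSeries R} (hG : F.Good G) (h0 : constantCoeff G = 1)
    (hGH : G * H = 1) : F.Good H := by
  intro n
  induction n using Nat.strong_induction_on with
  | _ n ih =>
    have hc : coeff n (G * H) = coeff n (1 : PowerSeries R) := by rw [hGH]
    rw [coeff_mul, Finset.Nat.sum_antidiagonal_eq_sum_range_succ_mk, Finset.sum_range_succ',
      coeff_zero_eq_constantCoeff_apply, h0, one_mul, Nat.sub_zero] at hc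
    have hn : coeff n H = coeff n (1 : PowerSeries R) -
        ∑ i ∈ range n, coeff (i + 1) G * coeff (n - (i + 1)) H := by
      rw [← hc]; ring
    rw [hn]
    apply sub_mem
    · rw [coeff_one]
      split_ifs with h
      · subst h; exact F.one_mem
      · exact zero_mem _
    · refine sum_mem fun i hi => ?_
      have hi' := Finset.mem_range.mp hi
      have h := F.mul_mem (i + 1) (n - (i + 1)) _ _ (hG (i + 1)) (ih (n - (i + 1)) (by omega))
      have e : i + 1 + (n - (i + 1)) = n := by omega
      rwa [e] at h

end MFilt

end Groth.Agent.H86.KE
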