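import Groth.Agent.H86.KE2

/-!
# The weight filtration `Σ_i F^{k-i}K (ℓ-1)^i` on the elementary extension
-/

set_option autoImplicit false

namespace Groth.Agent.H86.KE

open LambdaRing PowerSeries Finset

universe u

variable {K : Type u} [CommRing K] [LambdaOps K] (P : PosStructure K) (e : K)

/-- The candidate filtration `Σ_{i ≤ r} F^{k-i}K (ℓ-1)^i`. -/
noncomputable def Mf (r k : ℕ) : AddSubgroup (AdjoinRoot (KRR.extPoly P e)) :=
  ⨆ i ∈ Finset.range (r + 1), AddSubgroup.map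
    ((AddMonoidHom.mulRight ((AdjoinRoot.root (KRR.extPoly P e) - 1) ^ i)).comp
      (AdjoinRoot.of (KRR.extPoly P e)).toAddMonoidHom) (gammaFiltration P (k - i))

variable {P e}

theorem mem_Mf {r k i : ℕ} (hi : i ≤ r) {x : K} (hx : x ∈ gammaFiltration P (k - i)) :
    AdjoinRoot.of (KRR.extPoly P e) x * (AdjoinRoot.root (KRR.extPoly P e) - 1) ^ i ∈
      Mf P e r k := by
  unfold Mf
  have h1 : AdjoinRoot.of (KRR.extPoly P e) x * (AdjoinRoot.root (KRR.extPoly P e) - 1) ^ i ∈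
      AddSubgroup.map
        ((AddMonoidHom.mulRight ((AdjoinRoot.root (KRR.extPoly P e) - 1) ^ i)).comp
          (AdjoinRoot.of (KRR.extPoly P e)).toAddMonoidHom) (gammaFiltration P (k - i)) :=
    ⟨x, hx, rfl⟩
  have h2 := le_iSup₂ (f := fun i (_ : i ∈ Finset.range (r + 1)) => AddSubgroup.map
        ((AddMonoidHom.mulRight ((AdjoinRoot.root (KRR.extPoly P e) - 1) ^ i)).comp
          (AdjoinRoot.of (KRR.extPoly P e)).toAddMonoidHom) (gammaFiltration P (k - i)))
    i (Finset.mem_range.mpr (by omega))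
  exact h2 h1

theorem Mf_le {r k : ℕ} {S : AddSubgroup (AdjoinRoot (KRR.extPoly P e))}
    (h : ∀ i, i ≤ r → ∀ x ∈ gammaFiltration P (k - i),
      AdjoinRoot.of (KRR.extPoly P e) x * (AdjoinRoot.root (KRR.extPoly P e) - 1) ^ i ∈ S) :
    Mf P e r k ≤ S := by
  unfold Mf
  refine iSup₂_le fun i hi => ?_
  rintro _ ⟨x, hx, rfl⟩
  exact h i (by have := Finset.mem_range.mp hi; omega) x hx

/-- induction principle for membership in `Mf` -/
theorem Mf_induction {r k : ℕ} {C : AdjoinRoot (KRR.extPoly P e) → Prop}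
    (h0 : C 0) (hadd : ∀ x y, C x → C y → C (x + y)) (hneg : ∀ x, C x → C (-x))
    (h : ∀ i, i ≤ r → ∀ x ∈ gammaFiltration P (k - i),
      C (AdjoinRoot.of (KRR.extPoly P e) x * (AdjoinRoot.root (KRR.extPoly P e) - 1) ^ i))
    {y : AdjoinRoot (KRR.extPoly P e)} (hy : y ∈ Mf P e r k) : C y := by
  let S : AddSubgroup (AdjoinRoot (KRR.extPoly P e)) :=
    { carrier := {y | C y}
      zero_mem' := h0
      add_mem' := fun {a b} ha hb => hadd a b ha hb
      neg_mem' := fun {a} ha => hneg a ha }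
  exact (Mf_le (S := S) h) hy

theorem Mf_anti {r k k' : ℕ} (hk : k ≤ k') : Mf P e r k' ≤ Mf P e r k := by
  apply Mf_le
  intro i hi x hx
  exact mem_Mf hi (Groth.Agent.H17.gammaFiltration_antitone P (by omega) hx)

theorem of_mul_mem_Mf {r a b : ℕ} {x : K} (hx : x ∈ gammaFiltration P a)
    {y : AdjoinRoot (KRR.extPoly P e)} (hy : y ∈ Mf P e r b) :
    AdjoinRoot.of (KRR.extPoly P e) x * y ∈ Mf P e r (a + b) := by
  refine Mf_induction (C := fun y => AdjoinRoot.of (KRR.extPoly P e) x * y ∈ Mf P e r (a + b))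
    ?_ ?_ ?_ ?_ hy
  · show _ * 0 ∈ _
    rw [mul_zero]; exact zero_mem _
  · intro y y' hy hy'
    show _ * (y + y') ∈ _
    rw [mul_add]; exact add_mem hy hy'
  · intro y hy
    show _ * (-y) ∈ _
    rw [mul_neg]; exact neg_mem hy
  · intro i hi x' hx'
    show _ * (_ * _) ∈ _
    rw [← mul_assoc, ← map_mul]
    apply mem_Mf hi
    exact Groth.Agent.H17.gammaFiltration_antitone P (by omega)
      (Groth.Agent.H17.mul_mem_gammaFiltration P a (b - i) x x' hx hx')

theorem one_mem_Mf (r : ℕ) : (1 : AdjoinRoot (KRR.extPoly P e)) ∈ Mf P e r 0 := by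
  have := mem_Mf (P := P) (e := e) (r := r) (k := 0) (i := 0) (Nat.zero_le r) (x := 1)
    (by rw [Groth.Agent.H17.gammaFiltration_zero]; trivial)
  simpa using this

/-- variant of `mem_Mf` with `1 - ℓ` instead of `ℓ - 1` -/
theorem mem_Mf' {r k i : ℕ} (hi : i ≤ r) {x : K} (hx : x ∈ gammaFiltration P (k - i)) :
    AdjoinRoot.of (KRR.extPoly P e) x * (1 - AdjoinRoot.root (KRR.extPoly P e)) ^ i ∈
      Mf P e r k := by
  have h1 : (1 - AdjoinRoot.root (KRR.extPoly P e)) ^ i =
      (-1 : AdjoinRoot (KRR.extPoly P e)) ^ i * (AdjoinRoot.root (KRR.extPoly P e) - 1) ^ i := by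
    rw [← mul_pow]; congr 1; ring
  rw [h1]
  rcases Nat.even_or_odd i with he | ho
  · rw [he.neg_one_pow, one_mul]; exact mem_Mf hi hx
  · rw [ho.neg_one_pow, neg_one_mul, mul_neg]; exact neg_mem (mem_Mf hi hx)

/-- `(ℓ-1)^{r+1}` lies in the `(r+1)`-st step. -/
theorem z_pow_mem_Mf (he : e ∈ P.pos) (r : ℕ) (hr : P.aug e = r + 1) :
    (AdjoinRoot.root (KRR.extPoly P e) - 1) ^ (r + 1) ∈ Mf P e r (r + 1) := by
  have hm : (P.aug e).toNat = r + 1 := by rw [hr]; rfl
  have hrel := one_sub_root_rel P e he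
  rw [hm, Finset.sum_range_succ'] at hrel
  simp only [Nat.sub_zero] at hrel
  have hg0 : gamma 0 (e - ((r + 1 : ℕ) : K)) = 1 := by simp [gamma]
  rw [hg0, map_one, one_mul] at hrel
  have hy : (1 - AdjoinRoot.root (KRR.extPoly P e)) ^ (r + 1) ∈ Mf P e r (r + 1) := by
    rw [eq_neg_of_add_eq_zero_right hrel]
    apply neg_mem
    refine sum_mem fun s hs => ?_
    have hs' := Finset.mem_range.mp hs
    apply mem_Mf' (by omega)
    have haug : P.aug (e - ((r + 1 : ℕ) : K)) = 0 := by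
      rw [map_sub, map_natCast, hr]; push_cast; ring
    have := Groth.Agent.H17.gamma_mem_gammaFiltration P (s + 1) _ haug
    exact Groth.Agent.H17.gammaFiltration_antitone P (by omega) this
  have h1 : (AdjoinRoot.root (KRR.extPoly P e) - 1) ^ (r + 1) =
      (-1 : AdjoinRoot (KRR.extPoly P e)) ^ (r + 1) *
        (1 - AdjoinRoot.root (KRR.extPoly P e)) ^ (r + 1) := by
    rw [← mul_pow]; congr 1; ring
  rw [h1]
  rcases Nat.even_or_odd (r + 1) with he' | ho
  · rw [he'.neg_one_pow, one_mul]; exact hy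
  · rw [ho.neg_one_pow, neg_one_mul]; exact neg_mem hy

theorem z_mul_mem_Mf (he : e ∈ P.pos) (r : ℕ) (hr : P.aug e = r + 1) {b : ℕ}
    {y : AdjoinRoot (KRR.extPoly P e)} (hy : y ∈ Mf P e r b) :
    (AdjoinRoot.root (KRR.extPoly P e) - 1) * y ∈ Mf P e r (b + 1) := by
  refine Mf_induction
    (C := fun y => (AdjoinRoot.root (KRR.extPoly P e) - 1) * y ∈ Mf P e r (b + 1)) ?_ ?_ ?_ ?_ hy
  · show _ * 0 ∈ _
    rw [mul_zero]; exact zero_mem _
  · intro y y' hy hy'
    show _ * (y + y') ∈ _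
    rw [mul_add]; exact add_mem hy hy'
  · intro y hy
    show _ * (-y) ∈ _
    rw [mul_neg]; exact neg_mem hy
  · intro i hi x hx
    show _ * (_ * _) ∈ _
    have h1 : (AdjoinRoot.root (KRR.extPoly P e) - 1) *
        (AdjoinRoot.of (KRR.extPoly P e) x * (AdjoinRoot.root (KRR.extPoly P e) - 1) ^ i) =
        AdjoinRoot.of (KRR.extPoly P e) x * (AdjoinRoot.root (KRR.extPoly P e) - 1) ^ (i + 1) := by
      rw [pow_succ]; ring
    rw [h1]
    by_cases hir : i + 1 ≤ r
    · apply mem_Mf hir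
      have : b + 1 - (i + 1) = b - i := by omega
      rwa [this]
    · have hir' : i = r := by omega
      subst hir'
      have := of_mul_mem_Mf (r := i) hx (z_pow_mem_Mf he i hr)
      exact Mf_anti (by omega) this

theorem z_pow_mul_mem_Mf (he : e ∈ P.pos) (r : ℕ) (hr : P.aug e = r + 1) {b : ℕ}
    {y : AdjoinRoot (KRR.extPoly P e)} (hy : y ∈ Mf P e r b) (i : ℕ) :
    (AdjoinRoot.root (KRR.extPoly P e) - 1) ^ i * y ∈ Mf P e r (b + i) := by
  induction i with
  | zero => simpa using hy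
  | succ i ih =>
    rw [pow_succ', mul_assoc, ← add_assoc]
    exact z_mul_mem_Mf he r hr ih

theorem mul_mem_Mf (he : e ∈ P.pos) (r : ℕ) (hr : P.aug e = r + 1) {a b : ℕ}
    {x y : AdjoinRoot (KRR.extPoly P e)} (hx : x ∈ Mf P e r a) (hy : y ∈ Mf P e r b) :
    x * y ∈ Mf P e r (a + b) := by
  refine Mf_induction (C := fun x => x * y ∈ Mf P e r (a + b)) ?_ ?_ ?_ ?_ hx
  · show 0 * y ∈ _
    rw [zero_mul]; exact zero_mem _
  · intro x x' hx hx'
    show (x + x') * y ∈ _
    rw [add_mul]; exact add_mem hx hx'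
  · intro x hx
    show (-x) * y ∈ _
    rw [neg_mul]; exact neg_mem hx
  · intro i hi x' hx'
    show _ * _ * y ∈ _
    rw [mul_assoc]
    have h1 := z_pow_mul_mem_Mf he r hr hy i
    have h2 := of_mul_mem_Mf hx' h1
    exact Mf_anti (by omega) h2

/-- The filtration `Mf` as a multiplicative filtration. -/
noncomputable def filt (he : e ∈ P.pos) (r : ℕ) (hr : P.aug e = r + 1) :
    MFilt (AdjoinRoot (KRR.extPoly P e)) where
  M := Mf P e r
  one_mem := one_mem_Mf r
  mul_mem := fun _ _ _ _ hx hy => mul_mem_Mf he r hr hx hy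
  anti := fun _ _ h => Mf_anti h

theorem Mf_zero_eq_top (he : e ∈ P.pos) (r : ℕ) (hr : P.aug e = r + 1) : Mf P e r 0 = ⊤ := by
  rw [eq_top_iff]
  rintro y -
  have hz : ∀ n : ℕ, (AdjoinRoot.root (KRR.extPoly P e) - 1) ^ n ∈ Mf P e r 0 := by
    intro n
    have := z_pow_mul_mem_Mf he r hr (one_mem_Mf (P := P) (e := e) r) n
    rw [mul_one] at this
    exact Mf_anti (Nat.zero_le _) this
  have hroot : ∀ n : ℕ, (AdjoinRoot.root (KRR.extPoly P e)) ^ n ∈ Mf P e r 0 := by
    intro n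
    have h1 : AdjoinRoot.root (KRR.extPoly P e) = (AdjoinRoot.root (KRR.extPoly P e) - 1) + 1 := by
      ring
    rw [h1, add_pow]
    refine sum_mem fun j _ => ?_
    rw [one_pow, mul_one, ← nsmul_eq_mul']
    exact nsmul_mem (hz j) _
  induction y using AdjoinRoot.induction_on with
  | ih p =>
    induction p using Polynomial.induction_on' with
    | add p q hp hq => rw [map_add]; exact add_mem hp hq
    | monomial n a =>
      rw [← Polynomial.C_mul_X_pow_eq_monomial, map_mul, map_pow, AdjoinRoot.mk_C, AdjoinRoot.mk_X]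
      have := of_mul_mem_Mf (P := P) (e := e) (r := r) (a := 0) (x := a)
        (by rw [Groth.Agent.H17.gammaFiltration_zero]; trivial) (hroot n)
      simpa using this

end Groth.Agent.H86.KE
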