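import Groth.Agent.H86.KE3

/-!
# γ-series of elements of the elementary extension are good for the weight filtration
-/

set_option autoImplicit false

namespace Groth.Agent.H86.KE

open LambdaRing PowerSeries Finset

universe u

variable {K : Type u} [CommRing K] [LambdaOps K]

/-- `Σ λ^j(a) X^j (1-X)^{n-j} = Σ γ^j(a-n) X^j` as polynomials. -/
theorem poly_id (P : PosStructure K) (a : K) (ha : a ∈ P.pos) (n : ℕ) (hn : (n : ℤ) = P.aug a) :
    (∑ j ∈ range (n + 1), Polynomial.C (LambdaOps.lam j a) * Polynomial.X ^ j *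
        (1 - Polynomial.X) ^ (n - j) : Polynomial K) =
      ∑ j ∈ range (n + 1), Polynomial.C (gamma j (a - (n : K))) * Polynomial.X ^ j := by
  set Q : Polynomial K := ∑ j ∈ range (n + 1), Polynomial.C (LambdaOps.lam j a) *
    Polynomial.X ^ j * (1 - Polynomial.X) ^ (n - j) with hQdef
  have hQ : (Q : PowerSeries K) = Groth.Agent.H17.gammaSeries (a - (n : K)) := by
    rw [Groth.Agent.H17.gammaSeries_pos_sub P a ha n hn]
    change Polynomial.coeToPowerSeries.ringHom Q = _
    simp only [Q, map_sum, map_mul, map_pow, map_sub, map_one,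
      Polynomial.coeToPowerSeries.ringHom_apply, Polynomial.coe_C, Polynomial.coe_X]
  have hcoeff : ∀ i, gamma i (a - (n : K)) = Q.coeff i := by
    intro i
    rw [← Polynomial.coeff_coe, hQ]
    simp [Groth.Agent.H17.gammaSeries]
  have hdeg : Q.natDegree ≤ n := by
    apply Polynomial.natDegree_sum_le_of_forall_le
    intro i hi
    have him : i ≤ n := by
      have := Finset.mem_range.mp hi
      omega
    refine (Polynomial.natDegree_mul_le).trans ?_
    have h1 := Polynomial.natDegree_C_mul_X_pow_le (LambdaOps.lam i a) i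
    have h2 := Groth.Agent.H17.natDegree_one_sub_X_pow_le (K := K) (n - i)
    omega
  conv_lhs => rw [Polynomial.as_sum_range' Q (n + 1) (by omega)]
  refine Finset.sum_congr rfl fun j _ => ?_
  rw [hcoeff, Polynomial.C_mul_X_pow_eq_monomial]

section series

variable {R : Type u} [CommRing R]

/-- The homogenised form of `poly_id`, transported along a ring homomorphism. -/
theorem series_id (P : PosStructure K) (a : K) (ha : a ∈ P.pos) (n : ℕ) (hn : (n : ℤ) = P.aug a)
    (φ : K →+* R) (u : R) :
    (∑ j ∈ range (n + 1), C (φ (LambdaOps.lam j a) * u ^ j) * X ^ j * (1 - X) ^ (n - j) :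
        PowerSeries R) =
      ∑ j ∈ range (n + 1), C (φ (gamma j (a - (n : K))) * u ^ j) * X ^ j *
        (1 + C (u - 1) * X) ^ (n - j) := by
  set W : PowerSeries R := 1 + C (u - 1) * X with hW
  set Winv : PowerSeries R := W.invOfUnit 1 with hWinv
  have hWW : W * Winv = 1 := by
    apply PowerSeries.mul_invOfUnit
    simp [hW]
  have h1Y : 1 - C u * X * Winv = (1 - X) * Winv := by
    have : (1 - X : PowerSeries R) = W - C u * X := by
      rw [hW, map_sub, map_one]; ring
    rw [this, sub_mul, hWW]
  have h := congrArg (Polynomial.eval₂ ((C : R →+* PowerSeries R).comp φ) (C u * X * Winv))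
    (poly_id P a ha n hn)
  simp only [Polynomial.eval₂_finset_sum, Polynomial.eval₂_mul, Polynomial.eval₂_C,
    Polynomial.eval₂_pow, Polynomial.eval₂_X, Polynomial.eval₂_sub, Polynomial.eval₂_one,
    RingHom.comp_apply] at h
  have h2 := congrArg (· * W ^ n) h
  simp only [Finset.sum_mul] at h2
  have hWp : ∀ q : ℕ, Winv ^ q * W ^ q = 1 := by
    intro q
    rw [← mul_pow, mul_comm, hWW, one_pow]
  have hl : ∀ j ∈ range (n + 1),
      C (φ (LambdaOps.lam j a)) * (C u * X * Winv) ^ j * (1 - C u * X * Winv) ^ (n - j) * W ^ n =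
        C (φ (LambdaOps.lam j a) * u ^ j) * X ^ j * (1 - X) ^ (n - j) := by
    intro j hj
    have hjn : j ≤ n := by
      have := Finset.mem_range.mp hj
      omega
    have hn' : W ^ n = W ^ j * W ^ (n - j) := by
      rw [← pow_add]; congr 1; omega
    rw [h1Y, hn', map_mul, map_pow]
    simp only [mul_pow]
    linear_combination (C (φ (LambdaOps.lam j a)) * (C u) ^ j * X ^ j * (1 - X) ^ (n - j) *
      (Winv ^ (n - j) * W ^ (n - j))) * hWp j +
      (C (φ (LambdaOps.lam j a)) * (C u) ^ j * X ^ j * (1 - X) ^ (n - j)) * hWp (n - j)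
  have hr : ∀ j ∈ range (n + 1),
      C (φ (gamma j (a - (n : K)))) * (C u * X * Winv) ^ j * W ^ n =
        C (φ (gamma j (a - (n : K))) * u ^ j) * X ^ j * W ^ (n - j) := by
    intro j hj
    have hjn : j ≤ n := by
      have := Finset.mem_range.mp hj
      omega
    have hn' : W ^ n = W ^ j * W ^ (n - j) := by
      rw [← pow_add]; congr 1; omega
    rw [hn', map_mul, map_pow]
    simp only [mul_pow]
    linear_combination (C (φ (gamma j (a - (n : K)))) * (C u) ^ j * X ^ j * W ^ (n - j)) * hWp j
  rw [Finset.sum_congr rfl hl, Finset.sum_congr rfl hr] at h2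
  exact h2

end series

section good

variable {P : PosStructure K} {e : K} [LambdaOps (AdjoinRoot (KRR.extPoly P e))]
  (Pe : PosStructure (AdjoinRoot (KRR.extPoly P e)))
  (hext : IsExtension P Pe (AdjoinRoot.of (KRR.extPoly P e)))
  (hline : Pe.IsLine (AdjoinRoot.root (KRR.extPoly P e)))
  (hsplit : HasSplitting (AdjoinRoot (KRR.extPoly P e)) Pe)
  (he : e ∈ P.pos) (r : ℕ) (hr : P.aug e = r + 1)

include hext hline hsplit in
theorem good_gammaSeries_of_mul_pow (a : K) (ha : a ∈ P.pos) (i : ℕ) :
    (filt he r hr).Good (Groth.Agent.H17.gammaSeries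
      (AdjoinRoot.of (KRR.extPoly P e) a * AdjoinRoot.root (KRR.extPoly P e) ^ i -
        (((P.aug a).toNat : ℕ) : AdjoinRoot (KRR.extPoly P e)))) := by
  set n := (P.aug a).toNat with hn
  have hn' : (n : ℤ) = P.aug a := Int.toNat_of_nonneg (P.aug_pos a ha).le
  set ℓ := AdjoinRoot.root (KRR.extPoly P e) with hℓ
  have hli : Pe.IsLine (ℓ ^ i) := Groth.Agent.H17.isLine_pow Pe hline i
  have hb : AdjoinRoot.of (KRR.extPoly P e) a * ℓ ^ i ∈ Pe.pos :=
    Pe.mul_mem _ _ (hext.pos_subset a ha) hli.1
  have hbaug : (n : ℤ) = Pe.aug (AdjoinRoot.of (KRR.extPoly P e) a * ℓ ^ i) := by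
    rw [map_mul, hli.2, mul_one, hext.aug_comp, hn']
  rw [Groth.Agent.H17.gammaSeries_pos_sub Pe _ hb n hbaug]
  have hlam : ∀ j, LambdaOps.lam j (AdjoinRoot.of (KRR.extPoly P e) a * ℓ ^ i) =
      AdjoinRoot.of (KRR.extPoly P e) (LambdaOps.lam j a) * (ℓ ^ i) ^ j := by
    intro j
    rw [lam_mul_line Pe hsplit (hext.pos_subset a ha) hli, hext.isLambdaHom]
  simp only [hlam]
  rw [series_id P a ha n hn' (AdjoinRoot.of (KRR.extPoly P e)) (ℓ ^ i)]
  have htop : ∀ y : AdjoinRoot (KRR.extPoly P e), y ∈ Mf P e r 0 := by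
    intro y; rw [Mf_zero_eq_top he r hr]; trivial
  have haug0 : P.aug (a - (n : K)) = 0 := by
    rw [map_sub, map_natCast, ← hn']; ring
  have hw : ℓ ^ i - 1 ∈ Mf P e r 1 := by
    rw [← mul_geom_sum]
    have := z_mul_mem_Mf he r hr (htop (∑ q ∈ range i, ℓ ^ q))
    rw [zero_add] at this
    exact this
  apply MFilt.good_sum
  intro j _
  apply MFilt.good_mul
  · apply MFilt.good_C_mul_X_pow
    have := of_mul_mem_Mf (r := r)
      (Groth.Agent.H17.gamma_mem_gammaFiltration P j _ haug0) (htop ((ℓ ^ i) ^ j))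
    rw [add_zero] at this
    exact this
  · apply MFilt.good_pow
    exact MFilt.good_one_add_C_mul_X (filt he r hr) hw

theorem constantCoeff_gammaSeries {R : Type u} [CommRing R] [LambdaOps R] (x : R) :
    constantCoeff (Groth.Agent.H17.gammaSeries x) = 1 := by
  rw [← coeff_zero_eq_constantCoeff_apply, Groth.Agent.H17.coeff_gammaSeries]
  simp [gamma]

include hext hline hsplit in
/-- The γ-series of every element of augmentation zero is good. -/
theorem good_gammaSeries (x : AdjoinRoot (KRR.extPoly P e)) :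
    (filt he r hr).Good (Groth.Agent.H17.gammaSeries
      (x - ((Pe.aug x : ℤ) : AdjoinRoot (KRR.extPoly P e)))) := by
  let G : AddSubgroup (AdjoinRoot (KRR.extPoly P e)) :=
    { carrier := {x | (filt he r hr).Good (Groth.Agent.H17.gammaSeries
        (x - ((Pe.aug x : ℤ) : AdjoinRoot (KRR.extPoly P e))))}
      zero_mem' := by
        show (filt he r hr).Good _
        rw [map_zero, Int.cast_zero, sub_zero, Groth.Agent.H17.gammaSeries_zero]
        exact MFilt.good_one _
      add_mem' := by
        intro x y hx hy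
        show (filt he r hr).Good _
        have : x + y - ((Pe.aug (x + y) : ℤ) : AdjoinRoot (KRR.extPoly P e)) =
            (x - ((Pe.aug x : ℤ) : AdjoinRoot (KRR.extPoly P e))) +
              (y - ((Pe.aug y : ℤ) : AdjoinRoot (KRR.extPoly P e))) := by
          rw [map_add]; push_cast; ring
        rw [this, Groth.Agent.H17.gammaSeries_add]
        exact MFilt.good_mul _ hx hy
      neg_mem' := by
        intro x hx
        show (filt he r hr).Good _
        have h1 : -x - ((Pe.aug (-x) : ℤ) : AdjoinRoot (KRR.extPoly P e)) =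
            -(x - ((Pe.aug x : ℤ) : AdjoinRoot (KRR.extPoly P e))) := by
          rw [map_neg]; push_cast; ring
        rw [h1]
        refine MFilt.good_inv _ hx (constantCoeff_gammaSeries _) ?_
        rw [← Groth.Agent.H17.gammaSeries_add, add_neg_cancel, Groth.Agent.H17.gammaSeries_zero] }
  have hpos : ∀ (a : K), a ∈ P.pos → ∀ i : ℕ,
      AdjoinRoot.of (KRR.extPoly P e) a * AdjoinRoot.root (KRR.extPoly P e) ^ i ∈ G := by
    intro a ha i
    show (filt he r hr).Good _
    have := good_gammaSeries_of_mul_pow Pe hext hline hsplit he r hr a ha i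
    have haug : Pe.aug (AdjoinRoot.of (KRR.extPoly P e) a *
        AdjoinRoot.root (KRR.extPoly P e) ^ i) = ((P.aug a).toNat : ℤ) := by
      rw [map_mul, (Groth.Agent.H17.isLine_pow Pe hline i).2, mul_one, hext.aug_comp,
        Int.toNat_of_nonneg (P.aug_pos a ha).le]
    rw [haug, Int.cast_natCast]
    exact this
  have hall : ∀ (a : K) (i : ℕ),
      AdjoinRoot.of (KRR.extPoly P e) a * AdjoinRoot.root (KRR.extPoly P e) ^ i ∈ G := by
    intro a i
    obtain ⟨e1, e2, h1, h2, rfl⟩ := P.exists_sub a
    rw [map_sub, sub_mul]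
    exact sub_mem (hpos e1 h1 i) (hpos e2 h2 i)
  have hx : x ∈ G := by
    induction x using AdjoinRoot.induction_on with
    | ih p =>
      induction p using Polynomial.induction_on' with
      | add p q hp hq => rw [map_add]; exact add_mem hp hq
      | monomial n a =>
        rw [← Polynomial.C_mul_X_pow_eq_monomial, map_mul, map_pow, AdjoinRoot.mk_C,
          AdjoinRoot.mk_X]
        exact hall a n
  exact hx

end good

end Groth.Agent.H86.KE
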