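import Groth.Agent.H86.KE4

/-!
# The γ-filtration of the elementary extension
-/

set_option autoImplicit false

namespace Groth.Agent.H86.KE

open LambdaRing PowerSeries Finset

universe u

variable {K : Type u} [CommRing K] [LambdaOps K]
  {P : PosStructure K} {e : K} [LambdaOps (AdjoinRoot (KRR.extPoly P e))]
  (Pe : PosStructure (AdjoinRoot (KRR.extPoly P e)))
  (hext : IsExtension P Pe (AdjoinRoot.of (KRR.extPoly P e)))
  (hline : Pe.IsLine (AdjoinRoot.root (KRR.extPoly P e)))
  (hsplit : HasSplitting (AdjoinRoot (KRR.extPoly P e)) Pe)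
  (he : e ∈ P.pos) (r : ℕ) (hr : P.aug e = r + 1)

include hext hline hsplit he hr in
theorem gamma_mem_Mf (n : ℕ) (x : AdjoinRoot (KRR.extPoly P e)) (hx : Pe.aug x = 0) :
    gamma n x ∈ Mf P e r n := by
  have h := good_gammaSeries Pe hext hline hsplit he r hr x n
  rw [hx, Int.cast_zero, sub_zero, Groth.Agent.H17.coeff_gammaSeries] at h
  exact h

include hext hline hsplit he hr in
theorem list_prod_mem_Mf (l : List (ℕ × AdjoinRoot (KRR.extPoly P e)))
    (hl : ∀ p ∈ l, Pe.aug p.2 = 0) :
    (l.map fun p => gamma p.1 p.2).prod ∈ Mf P e r (l.map Prod.fst).sum := by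
  induction l with
  | nil => simpa using one_mem_Mf (P := P) (e := e) r
  | cons p l ih =>
    simp only [List.map_cons, List.prod_cons, List.sum_cons]
    exact mul_mem_Mf he r hr
      (gamma_mem_Mf Pe hext hline hsplit he r hr p.1 p.2 (hl p List.mem_cons_self))
      (ih fun q hq => hl q (List.mem_cons_of_mem _ hq))

include hext hline hsplit he hr in
theorem gammaFiltration_le_Mf (k : ℕ) : gammaFiltration Pe k ≤ Mf P e r k := by
  by_cases hk : k = 0
  · subst hk
    rw [Mf_zero_eq_top he r hr]
    exact le_top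
  · rw [Groth.Agent.H17.gammaFiltration_pos Pe hk, AddSubgroup.closure_le]
    rintro y ⟨l, hl0, hlsum, rfl⟩
    exact Mf_anti hlsum (list_prod_mem_Mf Pe hext hline hsplit he r hr l hl0)

include hext hline in
theorem Mf_le_gammaFiltration (k : ℕ) : Mf P e r k ≤ gammaFiltration Pe k := by
  apply Mf_le
  intro i hi x hx
  have h1 : AdjoinRoot.of (KRR.extPoly P e) x ∈ gammaFiltration Pe (k - i) :=
    map_mem_gammaFiltration P Pe _ hext.isLambdaHom hext.aug_comp (k - i) hx
  have hz : Pe.aug (AdjoinRoot.root (KRR.extPoly P e) - 1) = 0 := by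
    rw [map_sub, hline.2, map_one, sub_self]
  have h2 := Groth.Agent.H17.pow_mem_gammaFiltration Pe
    (Groth.Agent.H17.mem_gammaFiltration_one_of_aug Pe _ hz) i
  have h3 := Groth.Agent.H17.mul_mem_gammaFiltration Pe _ _ _ _ h1 h2
  exact Groth.Agent.H17.gammaFiltration_antitone Pe (by omega) h3

include hext hline hsplit he hr in
/-- The γ-filtration of the elementary extension. -/
theorem gammaFiltration_eq_Mf (k : ℕ) : gammaFiltration Pe k = Mf P e r k :=
  le_antisymm (gammaFiltration_le_Mf Pe hext hline hsplit he r hr k)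
    (Mf_le_gammaFiltration Pe hext hline r k)

end Groth.Agent.H86.KE
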