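import Groth.Prelude.Def_KGr
import Groth.Agent.H17.AdamsGamma

/-!
# The extended Rees ring of the γ-filtration: membership by coefficients
-/

set_option autoImplicit false

namespace Groth.Agent.H86.KG

open LambdaRing LaurentPolynomial

universe v

variable {K : Type v} [CommRing K] [LambdaOps K] (P : PosStructure K)

/-- `F^n` indexed by integers: `Fz i = F^(-i)` for `i ≤ 0` and everything for `i ≥ 0`. -/
def Fz (i : ℤ) : AddSubgroup K := gammaFiltration P (-i).toNat

theorem Fz_of_nonneg {i : ℤ} (hi : 0 ≤ i) : Fz P i = ⊤ := by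
  have : (-i).toNat = 0 := by omega
  rw [Fz, this, Groth.Agent.H17.gammaFiltration_zero]

theorem Fz_neg_natCast (n : ℕ) : Fz P (-(n : ℤ)) = gammaFiltration P n := by
  rw [Fz, neg_neg, Int.toNat_natCast]

theorem Fz_mul {i k : ℤ} {a b : K} (ha : a ∈ Fz P i) (hb : b ∈ Fz P k) : a * b ∈ Fz P (i + k) := by
  have h := Groth.Agent.H17.mul_mem_gammaFiltration P _ _ a b ha hb
  exact Groth.Agent.H17.gammaFiltration_antitone P (by omega) h

theorem coeff_C_mul_T (a : K) (n i : ℤ) :
    (C a * T n : LaurentPolynomial K).coeff i = if n = i then a else 0 := by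
  rw [← single_eq_C_mul_T, AddMonoidAlgebra.coeff_single, Finsupp.single_apply]

theorem C_mul_T_mem_rees {i : ℤ} {a : K} (ha : a ∈ Fz P i) : C a * T i ∈ KGr.rees P := by
  rcases le_or_gt i 0 with hi | hi
  · apply Subring.subset_closure
    right
    refine ⟨(-i).toNat, a, ha, ?_⟩
    congr 2
    omega
  · have h1 : C a * T (-((0 : ℕ) : ℤ)) ∈ KGr.rees P := by
      apply Subring.subset_closure
      right
      exact ⟨0, a, by rw [Groth.Agent.H17.gammaFiltration_zero]; trivial, rfl⟩
    have h2 : (T 1 : LaurentPolynomial K) ∈ KGr.rees P :=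
      Subring.subset_closure (Set.mem_insert _ _)
    have h3 : C a * T i = C a * T (-((0 : ℕ) : ℤ)) * T 1 ^ i.toNat := by
      rw [T_pow, mul_T_assoc]
      congr 2
      simp only [Nat.cast_zero, neg_zero, zero_add, mul_one]
      omega
    rw [h3]
    exact Subring.mul_mem _ h1 (Subring.pow_mem _ h2 _)

theorem mem_rees_iff (f : LaurentPolynomial K) :
    f ∈ KGr.rees P ↔ ∀ i : ℤ, f.coeff i ∈ Fz P i := by
  classical
  constructor
  · intro hf
    unfold KGr.rees at hf
    induction hf using Subring.closure_induction with
    | mem x hx =>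
      intro i
      rcases hx with rfl | ⟨n, a, ha, rfl⟩
      · rw [T_apply]
        split_ifs with h
        · subst h; rw [Fz_of_nonneg P (by omega)]; trivial
        · exact zero_mem _
      · rw [coeff_C_mul_T]
        split_ifs with h
        · subst h; rw [Fz_neg_natCast]; exact ha
        · exact zero_mem _
    | zero => intro i; exact zero_mem _
    | one =>
      intro i
      have : (1 : LaurentPolynomial K) = C 1 * T 0 := by simp
      rw [this, coeff_C_mul_T]
      split_ifs with h
      · subst h; rw [Fz_of_nonneg P le_rfl]; trivial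
      · exact zero_mem _
    | add x y _ _ hx hy =>
      intro i
      rw [AddMonoidAlgebra.coeff_add, Finsupp.add_apply]
      exact add_mem (hx i) (hy i)
    | neg x _ hx =>
      intro i
      rw [AddMonoidAlgebra.coeff_neg, Finsupp.neg_apply]
      exact neg_mem (hx i)
    | mul x y _ _ hx hy =>
      intro i
      rw [AddMonoidAlgebra.coeff_mul]
      refine AddSubgroup.sum_mem _ fun a _ => AddSubgroup.sum_mem _ fun b _ => ?_
      show (if a + b = i then x.coeff a * y.coeff b else 0) ∈ Fz P i
      split_ifs with h
      · subst h; exact Fz_mul P (hx a) (hy b)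
      · exact zero_mem _
  · intro h
    have h1 : f = f.coeff.sum fun i a => C a * T i := by
      simp_rw [← single_eq_C_mul_T]
      exact (AddMonoidAlgebra.sum_coeff_single f).symm
    rw [h1]
    exact Subring.sum_mem _ fun i _ => C_mul_T_mem_rees P (h i)

end Groth.Agent.H86.KG
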