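import Mathlib.Algebra.Polynomial.Basis
import Mathlib.Algebra.Polynomial.AlgebraMap
import Mathlib.RingTheory.TensorProduct.Basic
import Mathlib.Algebra.Algebra.Bilinear
import Mathlib.Data.Nat.Choose.Sum

/-!
# Umbral calculus for the binomial transform: the transform of a product of sequences
-/

set_option autoImplicit false

namespace Groth.Agent.H86.KG

open Finset Polynomial
open scoped TensorProduct

variable {R : Type*} [CommRing R]

/-- the binomial transform `Σ_m (-1)^(m+i) C(i,m) α_m` -/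
def bt (α : ℕ → R) (i : ℕ) : R :=
  ∑ m ∈ range (i + 1), (-1) ^ (m + i) * α m * (i.choose m : R)

/-- the `R`-linear functional on `R[X]` with `X^m ↦ α m` -/
noncomputable def umb (α : ℕ → R) : R[X] →ₗ[R] R :=
  (Polynomial.basisMonomials R).constr R α

theorem umb_X_pow (α : ℕ → R) (m : ℕ) : umb α (X ^ m) = α m := by
  have h := (Polynomial.basisMonomials R).constr_basis R α m
  rw [Polynomial.coe_basisMonomials] at h
  rw [X_pow_eq_monomial]
  exact h

theorem umb_sub_one_pow (α : ℕ → R) (i : ℕ) : umb α ((X - 1) ^ i) = bt α i := by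
  rw [sub_pow, map_sum]
  unfold bt
  refine Finset.sum_congr rfl fun m _ => ?_
  have h : ((-1 : R[X]) ^ (m + i) * X ^ m * 1 ^ (i - m) * (i.choose m : R[X])) =
      ((-1) ^ (m + i) * (i.choose m : R) : R) • (X ^ m : R[X]) := by
    rw [Polynomial.smul_eq_C_mul]; simp only [map_mul, map_pow, map_neg, map_one, map_natCast]; ring
  rw [h, map_smul, umb_X_pow, smul_eq_mul]
  ring

/-- the functional on `R[X] ⊗ R[X]` with `X^i ⊗ X^j ↦ α i * β j` -/
noncomputable def umb2 (α β : ℕ → R) : R[X] ⊗[R] R[X] →ₗ[R] R :=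
  (LinearMap.mul' R R).comp (TensorProduct.map (umb α) (umb β))

theorem umb2_tmul (α β : ℕ → R) (p q : R[X]) : umb2 α β (p ⊗ₜ[R] q) = umb α p * umb β q := by
  unfold umb2
  rw [LinearMap.comp_apply, TensorProduct.map_tmul, LinearMap.mul'_apply]

variable (R) in
/-- the element `U = (X - 1) ⊗ 1` -/
noncomputable def uU : R[X] ⊗[R] R[X] := (X - 1) ⊗ₜ[R] 1
variable (R) in
/-- the element `V = 1 ⊗ (X - 1)` -/
noncomputable def uV : R[X] ⊗[R] R[X] := 1 ⊗ₜ[R] (X - 1)
variable (R) in
/-- the element `W = X ⊗ X` -/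
noncomputable def uW : R[X] ⊗[R] R[X] := X ⊗ₜ[R] X

variable (R) in
theorem uW_sub_one : uW R - 1 = (uU R + uV R) + uU R * uV R := by
  unfold uW uU uV
  rw [Algebra.TensorProduct.tmul_mul_tmul, Algebra.TensorProduct.one_def, mul_one, one_mul,
    TensorProduct.sub_tmul, TensorProduct.tmul_sub, TensorProduct.sub_tmul, TensorProduct.tmul_sub,
    TensorProduct.tmul_sub]
  abel

theorem umb2_uW_pow (α β : ℕ → R) (m : ℕ) : umb2 α β (uW R ^ m) = α m * β m := by
  unfold uW
  rw [Algebra.TensorProduct.tmul_pow, umb2_tmul, umb_X_pow, umb_X_pow]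

theorem umb2_uU_pow_mul_uV_pow (α β : ℕ → R) (i j : ℕ) :
    umb2 α β (uU R ^ i * uV R ^ j) = bt α i * bt β j := by
  unfold uU uV
  rw [Algebra.TensorProduct.tmul_pow, Algebra.TensorProduct.tmul_pow,
    Algebra.TensorProduct.tmul_mul_tmul, one_pow, one_pow, mul_one, one_mul, umb2_tmul,
    umb_sub_one_pow, umb_sub_one_pow]

theorem umb2_uW_sub_one_pow (α β : ℕ → R) (k : ℕ) :
    umb2 α β ((uW R - 1) ^ k) = bt (fun m => α m * β m) k := by
  rw [sub_pow, map_sum]
  unfold bt
  refine Finset.sum_congr rfl fun m _ => ?_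
  have h : ((-1 : R[X] ⊗[R] R[X]) ^ (m + k) * uW R ^ m * 1 ^ (k - m) *
      (k.choose m : R[X] ⊗[R] R[X])) =
      ((-1) ^ (m + k) * (k.choose m : ℤ) : ℤ) • (uW R ^ m) := by
    rw [zsmul_eq_mul]; push_cast; ring
  rw [h, map_zsmul, umb2_uW_pow, zsmul_eq_mul]
  push_cast
  ring

/-- **The binomial transform of a product of sequences.** -/
theorem bt_mul (α β : ℕ → R) (k : ℕ) :
    bt (fun m => α m * β m) k =
      ∑ r ∈ range (k + 1), ∑ p ∈ range (r + 1),
        (r.choose p * k.choose r : ℕ) • (bt α (p + (k - r)) * bt β ((r - p) + (k - r))) := by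
  rw [← umb2_uW_sub_one_pow, uW_sub_one R, add_pow, map_sum]
  refine Finset.sum_congr rfl fun r _ => ?_
  rw [add_pow, Finset.sum_mul, Finset.sum_mul, map_sum]
  refine Finset.sum_congr rfl fun p _ => ?_
  have h : uU R ^ p * uV R ^ (r - p) * (r.choose p : R[X] ⊗[R] R[X]) *
      (uU R * uV R) ^ (k - r) * (k.choose r : R[X] ⊗[R] R[X]) =
      (r.choose p * k.choose r : ℕ) • (uU R ^ (p + (k - r)) * uV R ^ ((r - p) + (k - r))) := by
    rw [nsmul_eq_mul, mul_pow, pow_add, pow_add]; push_cast; ring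
  rw [h, map_nsmul, umb2_uU_pow_mul_uV_pow]

end Groth.Agent.H86.KG
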