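import Groth.Agent.H86.KG9
import Groth.Agent.H86.KG10

/-!
# The Chern character is multiplicative
-/

set_option autoImplicit false

namespace Groth.Agent.H86.KG

open LambdaRing Finset
open scoped TensorProduct

universe v

/-! ### truncated Cauchy products -/

section Cauchy

variable {G : Type*} [CommRing G] [Algebra ℚ G]

theorem sum_range_antidiagonal (d : ℕ) (f : ℕ → ℕ → G)
    (hf : ∀ p q, p ≤ d → q ≤ d → d < p + q → f p q = 0) :
    ∑ k ∈ range (d + 1), ∑ x ∈ antidiagonal k, f x.1 x.2 =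
      ∑ p ∈ range (d + 1), ∑ q ∈ range (d + 1), f p q := by
  rw [← Finset.sum_product']
  have h1 : ∑ x ∈ range (d + 1) ×ˢ range (d + 1), f x.1 x.2 =
      ∑ x ∈ (range (d + 1) ×ˢ range (d + 1)).filter (fun x => x.1 + x.2 ≤ d), f x.1 x.2 := by
    rw [Finset.sum_filter]
    refine Finset.sum_congr rfl fun x hx => ?_
    rw [Finset.mem_product, Finset.mem_range, Finset.mem_range] at hx
    split_ifs with h
    · rfl
    · exact hf _ _ (by omega) (by omega) (by omega)
  rw [h1, ← Finset.sum_fiberwise_of_maps_to (g := fun x : ℕ × ℕ => x.1 + x.2) (t := range (d + 1))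
    (fun x hx => by
      rw [Finset.mem_filter] at hx
      exact Finset.mem_range.mpr (by omega))]
  refine Finset.sum_congr rfl fun k hk => ?_
  rw [Finset.mem_range] at hk
  refine Finset.sum_congr ?_ fun _ _ => rfl
  ext x
  simp only [Finset.mem_antidiagonal, Finset.mem_filter, Finset.mem_product, Finset.mem_range]
  omega

theorem trunc_exp_mul (d : ℕ) (A B C : ℕ → G)
    (hC : ∀ k, k ≤ d → C k = ∑ p ∈ range (k + 1), (k.choose p : ℕ) • (A p * B (k - p)))
    (hAB : ∀ p q, p ≤ d → q ≤ d → d < p + q → A p * B q = 0) :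
    ∑ k ∈ range (d + 1), ((1 : ℚ) / (k.factorial : ℚ)) • C k =
      (∑ p ∈ range (d + 1), ((1 : ℚ) / (p.factorial : ℚ)) • A p) *
        (∑ q ∈ range (d + 1), ((1 : ℚ) / (q.factorial : ℚ)) • B q) := by
  set f : ℕ → ℕ → G := fun p q =>
    (((1 : ℚ) / (p.factorial : ℚ)) * ((1 : ℚ) / (q.factorial : ℚ))) • (A p * B q) with hf
  have hf0 : ∀ p q, p ≤ d → q ≤ d → d < p + q → f p q = 0 := by
    intro p q hp hq hpq
    rw [hf]
    simp only
    rw [hAB p q hp hq hpq, smul_zero]
  have hR : (∑ p ∈ range (d + 1), ((1 : ℚ) / (p.factorial : ℚ)) • A p) *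
      (∑ q ∈ range (d + 1), ((1 : ℚ) / (q.factorial : ℚ)) • B q) =
      ∑ p ∈ range (d + 1), ∑ q ∈ range (d + 1), f p q := by
    rw [Finset.sum_mul_sum]
    refine Finset.sum_congr rfl fun p _ => Finset.sum_congr rfl fun q _ => ?_
    rw [hf]
    simp only
    rw [smul_mul_smul_comm]
  rw [hR, ← sum_range_antidiagonal d f hf0]
  refine Finset.sum_congr rfl fun k hk => ?_
  rw [Finset.mem_range] at hk
  rw [Finset.Nat.sum_antidiagonal_eq_sum_range_succ f k, hC k (by omega), Finset.smul_sum]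
  refine Finset.sum_congr rfl fun p hp => ?_
  rw [Finset.mem_range] at hp
  rw [hf]
  simp only
  rw [← Nat.cast_smul_eq_nsmul ℚ, smul_smul]
  congr 1
  have h := Nat.choose_mul_factorial_mul_factorial (show p ≤ k by omega)
  have h' : ((k.choose p : ℕ) : ℚ) * (p.factorial : ℚ) * ((k - p).factorial : ℚ) =
      (k.factorial : ℚ) := by exact_mod_cast h
  have h1 : (p.factorial : ℚ) ≠ 0 := by positivity
  have h2 : ((k - p).factorial : ℚ) ≠ 0 := by positivity
  have h3 : (k.factorial : ℚ) ≠ 0 := by positivity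
  field_simp
  rw [← h']

end Cauchy

variable {K : Type v} [CommRing K] [LambdaOps K] (P : PosStructure K)

/-! ### `φ_k` of a product -/

theorem phi_eq_bt (k : ℕ) (y : K) : phi P k y = bt (fun m => adams P m y) k := rfl

theorem phi_zero_of_aug (y : K) (hy : P.aug y = 0) : phi P 0 y = 0 := by
  unfold phi
  rw [Finset.sum_range_one, adams_zero_eq, hy]
  simp

theorem phi_mem_self (hK : HasSplitting K P) (y : K) (hy : P.aug y = 0) (i : ℕ) :
    phi P i y ∈ gammaFiltration P i := by
  rcases Nat.eq_zero_or_pos i with rfl | hi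
  · rw [Groth.Agent.H17.gammaFiltration_zero]; trivial
  · rw [← pk_eq_phi P hK y hy i hi]
    exact pk_mem P y hy i hi

theorem phi_mul_sub_mem (hK : HasSplitting K P) (a b : K) (ha : P.aug a = 0) (hb : P.aug b = 0)
    (k : ℕ) :
    phi P k (a * b) - ∑ p ∈ range (k + 1), (k.choose p : ℕ) • (phi P p a * phi P (k - p) b) ∈
      gammaFiltration P (k + 1) := by
  have h1 : phi P k (a * b) = bt (fun m => adams P m a * adams P m b) k := by
    rw [phi_eq_bt]
    congr 1
    funext m
    exact Groth.Agent.H17.adams_mul P hK m a b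
  rw [h1, bt_mul, Finset.sum_range_succ]
  have h2 : ∑ p ∈ range (k + 1), (k.choose p * k.choose k : ℕ) •
      (bt (fun m => adams P m a) (p + (k - k)) * bt (fun m => adams P m b) ((k - p) + (k - k))) =
      ∑ p ∈ range (k + 1), (k.choose p : ℕ) • (phi P p a * phi P (k - p) b) := by
    refine Finset.sum_congr rfl fun p _ => ?_
    rw [Nat.sub_self, add_zero, add_zero, Nat.choose_self, mul_one]
    rfl
  rw [h2, add_sub_cancel_right]
  refine AddSubgroup.sum_mem _ fun r hr => AddSubgroup.sum_mem _ fun p hp => ?_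
  rw [Finset.mem_range] at hr hp
  refine AddSubgroup.nsmul_mem _ ?_ _
  have h3 := Groth.Agent.H17.mul_mem_gammaFiltration P _ _ _ _
    (phi_mem_self P hK a ha (p + (k - r))) (phi_mem_self P hK b hb ((r - p) + (k - r)))
  exact Groth.Agent.H17.gammaFiltration_antitone P (by omega) h3

theorem grK_nsmul (n : ℕ) (m : ℕ) {x : K} (hx : x ∈ gammaFiltration P n) :
    KGr.grK P (n : ℤ) (m • x) = m • KGr.grK P (n : ℤ) x := by
  have := grK_zsmul P n (m : ℤ) hx
  rwa [natCast_zsmul, natCast_zsmul] at this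

theorem grK_phi_mul (hK : HasSplitting K P) (a b : K) (ha : P.aug a = 0) (hb : P.aug b = 0)
    (k : ℕ) :
    KGr.grK P (k : ℤ) (phi P k (a * b)) =
      ∑ p ∈ range (k + 1), (k.choose p : ℕ) •
        (KGr.grK P (p : ℤ) (phi P p a) * KGr.grK P ((k - p : ℕ) : ℤ) (phi P (k - p) b)) := by
  have hterm : ∀ p ∈ range (k + 1), phi P p a * phi P (k - p) b ∈ gammaFiltration P k := by
    intro p hp
    rw [Finset.mem_range] at hp
    have := Groth.Agent.H17.mul_mem_gammaFiltration P _ _ _ _
      (phi_mem_self P hK a ha p) (phi_mem_self P hK b hb (k - p))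
    rwa [Nat.add_sub_cancel' (by omega : p ≤ k)] at this
  have hS : ∑ p ∈ range (k + 1), (k.choose p : ℕ) • (phi P p a * phi P (k - p) b) ∈
      gammaFiltration P k :=
    AddSubgroup.sum_mem _ fun p hp => AddSubgroup.nsmul_mem _ (hterm p hp) _
  have h1 := phi_mul_sub_mem P hK a b ha hb k
  have h2 : phi P k (a * b) =
      (phi P k (a * b) - ∑ p ∈ range (k + 1), (k.choose p : ℕ) • (phi P p a * phi P (k - p) b)) +
        ∑ p ∈ range (k + 1), (k.choose p : ℕ) • (phi P p a * phi P (k - p) b) := by ring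
  rw [h2, grK_add P k (Groth.Agent.H17.gammaFiltration_antitone P (Nat.le_succ k) h1) hS,
    grK_eq_zero_of_mem P k h1, zero_add,
    grK_sum P k _ _ (fun p hp => AddSubgroup.nsmul_mem _ (hterm p hp) _)]
  refine Finset.sum_congr rfl fun p hp => ?_
  rw [grK_nsmul P k _ (hterm p hp)]
  rw [Finset.mem_range] at hp
  have h3 := grK_mul P p (k - p) (phi_mem_self P hK a ha p) (phi_mem_self P hK b hb (k - p))
  rw [Nat.add_sub_cancel' (by omega : p ≤ k)] at h3
  rw [h3]

/-! ### the Chern character on the augmentation ideal -/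

theorem chK_eq_of_aug (hK : HasSplitting K P) (d : ℕ) (hd : gammaFiltration P (d + 1) = ⊥) (a : K)
    (ha : P.aug a = 0) :
    KGr.chK P d a =
      ∑ k ∈ range (d + 1), ((1 : ℚ) / (k.factorial : ℚ)) • KGr.grK P (k : ℤ) (phi P k a) := by
  rw [chK_eq P d a hd, ha, Finset.sum_range_succ', phi_zero_of_aug P a ha]
  simp only [Int.cast_zero, map_zero, zero_add, sub_zero]
  rw [grK_zero P 0, smul_zero, add_zero]
  refine Finset.sum_congr rfl fun k _ => ?_
  rw [pk_eq_phi P hK a ha (k + 1) (by omega)]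

theorem chK_mul_of_aug (hK : HasSplitting K P) (d : ℕ) (hd : gammaFiltration P (d + 1) = ⊥)
    (a b : K) (ha : P.aug a = 0) (hb : P.aug b = 0) :
    KGr.chK P d (a * b) = KGr.chK P d a * KGr.chK P d b := by
  have hab : P.aug (a * b) = 0 := by rw [map_mul, ha, zero_mul]
  rw [chK_eq_of_aug P hK d hd _ hab, chK_eq_of_aug P hK d hd a ha, chK_eq_of_aug P hK d hd b hb]
  refine trunc_exp_mul d (fun p => KGr.grK P (p : ℤ) (phi P p a))
    (fun q => KGr.grK P (q : ℤ) (phi P q b)) (fun k => KGr.grK P (k : ℤ) (phi P k (a * b)))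
    (fun k _ => grK_phi_mul P hK a b ha hb k) ?_
  intro p q _ _ hpq
  rw [← grK_mul P p q (phi_mem_self P hK a ha p) (phi_mem_self P hK b hb q)]
  have h1 := Groth.Agent.H17.mul_mem_gammaFiltration P _ _ _ _
    (phi_mem_self P hK a ha p) (phi_mem_self P hK b hb q)
  have h2 := Groth.Agent.H17.gammaFiltration_antitone P (show d + 1 ≤ p + q by omega) h1
  rw [hd, AddSubgroup.mem_bot] at h2
  rw [h2]
  exact grK_zero P (p + q)

/-! ### the general case -/

theorem chK_eq_aug_add (d : ℕ) (hd : gammaFiltration P (d + 1) = ⊥) (x : K) :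
    KGr.chK P d x = algebraMap ℚ (KGr.Gr P) ((P.aug x : ℤ) : ℚ) +
      KGr.chK P d (x - ((P.aug x : ℤ) : K)) := by
  have h0 := Groth.Agent.H17.aug_sub_aug P x
  rw [chK_eq P d x hd, chK_eq P d (x - ((P.aug x : ℤ) : K)) hd, h0]
  simp only [Int.cast_zero, map_zero, zero_add, sub_zero]

theorem chK_one (d : ℕ) (hd : gammaFiltration P (d + 1) = ⊥) : KGr.chK P d (1 : K) = 1 := by
  rw [chK_eq P d 1 hd]
  have h1 : (1 : K) - ((P.aug (1 : K) : ℤ) : K) = 0 := by
    rw [map_one, Int.cast_one, sub_self]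
  rw [h1, Finset.sum_eq_zero, add_zero, map_one P.aug, Int.cast_one, map_one]
  intro k _
  rw [pk_zero_right, grK_zero P (k + 1), smul_zero]

theorem chK_zsmul (d : ℕ) (hd : gammaFiltration P (d + 1) = ⊥) (m : ℤ) (x : K) :
    KGr.chK P d (m • x) = m • KGr.chK P d x := by
  rw [← chHom_apply P d hd, map_zsmul, chHom_apply]

/-- **The Chern character is multiplicative.** -/
theorem chK_mul (hK : HasSplitting K P) (d : ℕ) (hd : gammaFiltration P (d + 1) = ⊥) (x y : K) :
    KGr.chK P d (x * y) = KGr.chK P d x * KGr.chK P d y := by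
  set x' := x - ((P.aug x : ℤ) : K) with hx'
  set y' := y - ((P.aug y : ℤ) : K) with hy'
  have hx0 : P.aug x' = 0 := Groth.Agent.H17.aug_sub_aug P x
  have hy0 : P.aug y' = 0 := Groth.Agent.H17.aug_sub_aug P y
  have h1 : x * y - ((P.aug (x * y) : ℤ) : K) =
      (P.aug x) • y' + (P.aug y) • x' + x' * y' := by
    rw [map_mul, zsmul_eq_mul, zsmul_eq_mul, hx', hy']
    push_cast
    ring
  rw [chK_eq_aug_add P d hd (x * y), h1, chK_add P d hd, chK_add P d hd, chK_zsmul P d hd,
    chK_zsmul P d hd, chK_mul_of_aug P hK d hd x' y' hx0 hy0, chK_eq_aug_add P d hd x,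
    chK_eq_aug_add P d hd y, ← hx', ← hy']
  simp only [map_mul, Int.cast_mul, map_intCast, zsmul_eq_mul]
  ring

end Groth.Agent.H86.KG
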