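import Groth.Agent.H86.KG11
import Groth.Agent.H41.LambdaInv
import Groth.Agent.H43.Newton
import Groth.Prelude.Def_W4bkmilneecrracsp2Inv

/-!
# Exact identities for `λ_{-1}(e^∨)`, Newton's relations for `λ`/`ψ`, and `ch ∘ ψ^j`
-/

set_option autoImplicit false

namespace Groth.Agent.H86.KG

open LambdaRing PowerSeries Finset
open scoped TensorProduct

universe v

variable {K : Type v} [CommRing K] [LambdaOps K] (P : PosStructure K)

/-! ### exact identities from the splitting principle -/

theorem gamma_pos_sub_eq_zero (hK : HasSplitting K P) (e : K) (he : e ∈ P.pos) (j : ℕ)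
    (hj : (P.aug e).toNat < j) : gamma j (e - ((P.aug e).toNat : K)) = 0 := by
  classical
  obtain ⟨L, _, _, P', f, hf, n, y, hy, hsum, hn⟩ := Groth.Agent.H41.exists_split_fin P hK e he
  apply hf.injective
  rw [hn] at hj ⊢
  rw [Groth.Agent.H17.map_gamma f hf.isLambdaHom, map_sub, map_natCast, ← hsum, map_zero,
    Groth.Agent.H43.gamma_sum_sub_card (Groth.Agent.H41.lam_one_of_lines P') n y
      (fun i k hk => Groth.Agent.H41.lam_line_eq_zero P' (hy i) k hk) j,
    Finset.powersetCard_eq_empty.mpr (by simpa using hj), Finset.sum_empty]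

theorem lam_top_sum_lines {L : Type v} [CommRing L] [LambdaOps L] (P' : PosStructure L) {n : ℕ}
    (y : Fin n → L) (hy : ∀ i, P'.IsLine (y i)) : LambdaOps.lam n (∑ i, y i) = ∏ i, y i := by
  classical
  have hpn : (univ : Finset (Fin n)).powersetCard n = {univ} := by
    have := Finset.powersetCard_self (univ : Finset (Fin n))
    rwa [Finset.card_univ, Fintype.card_fin] at this
  rw [Groth.Agent.H41.lam_sum_lines P' y hy, hpn, Finset.sum_singleton]

/-- `λ_{-1}(e^∨) · λ^m(e) = γ^m(e - m)` -/
theorem lamAlt_inv_mul_lam_top (inv : K → K) (hS : HasInvSplitting P inv) (e : K) (he : e ∈ P.pos) :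
    (∑ i ∈ range ((P.aug e).toNat + 1), (-1 : K) ^ i * LambdaOps.lam i (inv e)) *
        LambdaOps.lam (P.aug e).toNat e =
      gamma (P.aug e).toNat (e - ((P.aug e).toNat : K)) := by
  classical
  obtain ⟨L, _, _, P', inv', f, hf, hV', hcomp, n, y, hy, hsum, hn⟩ :=
    Groth.Agent.H41.exists_inv_split hS e he
  apply hf.injective
  rw [hn, map_mul, map_sum, Groth.Agent.H17.map_gamma f hf.isLambdaHom, map_sub, map_natCast,
    hf.isLambdaHom, ← hsum, Groth.Agent.H41.gamma_top_sum_lines P' y hy, lam_top_sum_lines P' y hy]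
  have h1 : ∑ i ∈ range (n + 1), f ((-1 : K) ^ i * LambdaOps.lam i (inv e)) =
      ∏ j, (1 - inv' (y j)) := by
    rw [← Groth.Agent.H41.lamAlt_sum_lines P' (fun j => inv' (y j))
      (fun j => hV'.inv_line _ (hy j))]
    refine Finset.sum_congr rfl fun i _ => ?_
    rw [map_mul, map_pow, map_neg, map_one, hf.isLambdaHom, hcomp, ← hsum,
      Groth.Agent.H41.inv_finset_sum hV']
  rw [h1, ← Finset.prod_mul_distrib]
  refine Finset.prod_congr rfl fun j _ => ?_
  rw [sub_mul, one_mul, hV'.inv_mul_self (y j) (hy j)]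

/-! ### Newton's relations between `λ^i` and `ψ^j` -/

theorem coeff_lamNeg (x : K) (i : ℕ) :
    coeff i (Groth.Agent.H17.lamNeg x) = (-1) ^ i * LambdaOps.lam i x := by
  unfold Groth.Agent.H17.lamNeg
  rw [coeff_rescale, Groth.Agent.H17.coeff_lamSeries]

theorem newton_lam_adams (x : K) (k : ℕ) :
    (k : K) * LambdaOps.lam k x =
      newtonRHS (fun i => LambdaOps.lam i x) (fun j => adams P j x) k := by
  have h1 : Groth.Agent.H17.lamNeg x * (C ((P.aug x : ℤ) : K) - adamsSeries P x) =
      X * derivative K (Groth.Agent.H17.lamNeg x) := by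
    rw [Groth.Agent.H17.adamsSeries_eq, sub_sub_cancel, Groth.Agent.H17.dlogLam]
    calc Groth.Agent.H17.lamNeg x *
          (X * (derivative K (Groth.Agent.H17.lamNeg x) * Groth.Agent.H17.lamNegInv x))
        = X * derivative K (Groth.Agent.H17.lamNeg x) *
          (Groth.Agent.H17.lamNeg x * Groth.Agent.H17.lamNegInv x) := by ring
      _ = _ := by rw [Groth.Agent.H17.lamNeg_mul_inv, mul_one]
  have h2 := congrArg (coeff k) h1
  rw [coeff_mul] at h2
  have hr : coeff k (X * derivative K (Groth.Agent.H17.lamNeg x)) =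
      (-1) ^ k * ((k : K) * LambdaOps.lam k x) := by
    rcases k with _ | k
    · simp
    · rw [coeff_succ_X_mul, coeff_derivative, coeff_lamNeg]
      push_cast
      ring
  rw [hr] at h2
  have hl : ∀ a ∈ antidiagonal k,
      coeff a.1 (Groth.Agent.H17.lamNeg x) * coeff a.2 (C ((P.aug x : ℤ) : K) - adamsSeries P x) =
      if a.1 < k then -((-1 : K) ^ a.1 * LambdaOps.lam a.1 x * adams P a.2 x) else 0 := by
    intro a ha
    rw [Finset.mem_antidiagonal] at ha
    rw [coeff_lamNeg, map_sub]
    split_ifs with hlt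
    · rw [coeff_C, if_neg (by omega)]
      unfold adams
      ring
    · have ha2 : a.2 = 0 := by omega
      rw [ha2, coeff_zero_C]
      have := adams_zero_eq P x
      unfold adams at this
      rw [this, sub_self, mul_zero]
  rw [Finset.sum_congr rfl hl, ← Finset.sum_filter, Finset.sum_neg_distrib] at h2
  unfold newtonRHS
  have h3 : (k : K) * LambdaOps.lam k x =
      (-1) ^ k * ((-1) ^ k * ((k : K) * LambdaOps.lam k x)) := by
    rw [← mul_assoc, ← pow_add, Even.neg_one_pow ⟨k, rfl⟩, one_mul]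
  rw [h3, ← h2, pow_succ]
  ring

/-! ### the Chern character as a ring homomorphism -/

/-- the Chern character as a ring homomorphism -/
noncomputable def chRingHom (hK : HasSplitting K P) (d : ℕ) (hd : gammaFiltration P (d + 1) = ⊥) :
    K →+* KGr.Gr P where
  toFun := KGr.chK P d
  map_one' := chK_one P d hd
  map_mul' := chK_mul P hK d hd
  map_zero' := (chHom P d hd).map_zero
  map_add' := chK_add P d hd

theorem chRingHom_apply (hK : HasSplitting K P) (d : ℕ) (hd : gammaFiltration P (d + 1) = ⊥)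
    (x : K) : chRingHom P hK d hd x = KGr.chK P d x := rfl

/-! ### `ch ∘ ψ^j` -/

theorem adams_intCast (j : ℕ) (n : ℤ) : adams P j ((n : K)) = (n : K) := by
  have h := map_zsmul (Groth.Agent.H17.adamsAddHom P j) n (1 : K)
  have h2 : Groth.Agent.H17.adamsAddHom P j (1 : K) = 1 := Groth.Agent.H17.adams_one P j
  rw [h2, zsmul_eq_mul, mul_one] at h
  exact h

theorem adams_phi_comm (hK : HasSplitting K P) (j k : ℕ) (y : K) :
    phi P k (adams P j y) = adams P j (phi P k y) := by
  unfold phi
  have h := map_sum (Groth.Agent.H17.adamsRingHom P hK j)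
    (fun m => (-1 : K) ^ (m + k) * adams P m y * (k.choose m : K)) (range (k + 1))
  have h' : adams P j (∑ m ∈ range (k + 1), (-1 : K) ^ (m + k) * adams P m y * (k.choose m : K)) =
      ∑ m ∈ range (k + 1),
        adams P j ((-1 : K) ^ (m + k) * adams P m y * (k.choose m : K)) := h
  rw [h']
  refine Finset.sum_congr rfl fun m _ => ?_
  have h1 : adams P j ((-1 : K) ^ (m + k) * adams P m y * (k.choose m : K)) =
      (-1 : K) ^ (m + k) * adams P j (adams P m y) * (k.choose m : K) := by
    have := map_mul (Groth.Agent.H17.adamsRingHom P hK j) ((-1 : K) ^ (m + k) * adams P m y)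
      (k.choose m : K)
    have h2 := map_mul (Groth.Agent.H17.adamsRingHom P hK j) ((-1 : K) ^ (m + k)) (adams P m y)
    have h3 : Groth.Agent.H17.adamsRingHom P hK j ((-1 : K) ^ (m + k)) = (-1 : K) ^ (m + k) := by
      rw [map_pow, map_neg, map_one]
    have h4 : Groth.Agent.H17.adamsRingHom P hK j (k.choose m : K) = (k.choose m : K) :=
      map_natCast _ _
    rw [h2, h3, h4] at this
    exact this
  rw [h1, Groth.Agent.H17.adams_adams P hK j m y, Groth.Agent.H17.adams_adams P hK m j y,
    mul_comm j m]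

theorem grK_adams (hK : HasSplitting K P) (j : ℕ) (hj : 1 ≤ j) (k : ℕ) (z : K)
    (hz : z ∈ gammaFiltration P k) :
    KGr.grK P (k : ℤ) (adams P j z) = ((j : ℚ) ^ k) • KGr.grK P (k : ℤ) z := by
  have h1 := Groth.Agent.H17.adams_sub_pow_mul_mem P hK j hj k z hz
  have h2 : adams P j z = (adams P j z - (j : K) ^ k * z) + ((j : ℤ) ^ k) • z := by
    rw [zsmul_eq_mul]; push_cast; ring
  rw [h2, grK_add P k (Groth.Agent.H17.gammaFiltration_antitone P (Nat.le_succ k) h1)
    (AddSubgroup.zsmul_mem _ hz _), grK_eq_zero_of_mem P k h1, zero_add, grK_zsmul P k _ hz,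
    ← Int.cast_smul_eq_zsmul ℚ]
  push_cast
  rfl

/-- `ch(ψ^j y) = Σ_k (j^k/k!) [φ_k y]_k` on the augmentation ideal -/
theorem chK_adams_of_aug (hK : HasSplitting K P) (d : ℕ) (hd : gammaFiltration P (d + 1) = ⊥)
    (j : ℕ) (hj : 1 ≤ j) (y : K) (hy : P.aug y = 0) :
    KGr.chK P d (adams P j y) =
      ∑ k ∈ range (d + 1), ((j : ℚ) ^ k / (k.factorial : ℚ)) • KGr.grK P (k : ℤ) (phi P k y) := by
  have hy' : P.aug (adams P j y) = 0 := by
    rw [Groth.Agent.H17.aug_adams P hK j hj, hy]
  rw [chK_eq_of_aug P hK d hd _ hy']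
  refine Finset.sum_congr rfl fun k _ => ?_
  rw [adams_phi_comm P hK j k y, grK_adams P hK j hj k _ (phi_mem_self P hK y hy k), smul_smul]
  congr 1
  ring

end Groth.Agent.H86.KG
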