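import Groth.Agent.H86.KG12
import Groth.Agent.H43.Isobaric
import Mathlib.RingTheory.MvPolynomial.Homogeneous
import Mathlib.RingTheory.MvPolynomial.WeightedHomogeneous

/-!
# Evaluating symmetric polynomials in `m` variables at the Chern classes
-/

set_option autoImplicit false

namespace Groth.Agent.H86.KG

open LambdaRing Finset MvPolynomial
open scoped TensorProduct

universe v

variable {K : Type v} [CommRing K] [LambdaOps K] (P : PosStructure K)

/-! ### products of classes -/

theorem Hi_mul {a b : ℕ} {u v : KGr.Gr P} (hu : u ∈ Hi P a) (hv : v ∈ Hi P b) :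
    u * v ∈ Hi P (a + b) := by
  unfold Hi at hu
  induction hu using Submodule.span_induction with
  | mem u hu =>
    obtain ⟨m1, hm1, y1, rfl⟩ := hu
    unfold Hi at hv
    induction hv using Submodule.span_induction with
    | mem v hv =>
      obtain ⟨m2, hm2, y2, rfl⟩ := hv
      rw [gQ_mul]
      exact gQ_mem_Hi P (by omega) _
    | zero => rw [mul_zero]; exact zero_mem _
    | add v w _ _ hv hw => rw [mul_add]; exact add_mem hv hw
    | smul q v _ hv => rw [mul_smul_comm]; exact Submodule.smul_mem _ _ hv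
  | zero => rw [zero_mul]; exact zero_mem _
  | add u w _ _ hu hw => rw [add_mul]; exact add_mem hu hw
  | smul q u _ hu => rw [smul_mul_assoc]; exact Submodule.smul_mem _ _ hu

theorem Hi_pow {a : ℕ} {u : KGr.Gr P} (hu : u ∈ Hi P a) (n : ℕ) : u ^ n ∈ Hi P (n * a) := by
  induction n with
  | zero => rw [pow_zero, Nat.zero_mul]; exact mem_Hi_zero P 1
  | succ n ih =>
    rw [pow_succ, Nat.succ_mul]
    exact Hi_mul P ih hu

theorem Hi_prod {ι : Type*} (t : Finset ι) (a : ι → ℕ) (u : ι → KGr.Gr P)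
    (hu : ∀ i ∈ t, u i ∈ Hi P (a i)) : ∏ i ∈ t, u i ∈ Hi P (∑ i ∈ t, a i) := by
  classical
  induction t using Finset.induction_on with
  | empty => rw [Finset.prod_empty, Finset.sum_empty]; exact mem_Hi_zero P 1
  | insert i t hi ih =>
    rw [Finset.prod_insert hi, Finset.sum_insert hi]
    exact Hi_mul P (hu i (Finset.mem_insert_self i t))
      (ih fun j hj => hu j (Finset.mem_insert_of_mem hj))

theorem eq_zero_of_mem_Hi (d : ℕ) (hd : gammaFiltration P (d + 1) = ⊥) (n : ℕ) (hn : d < n)
    (u : KGr.Gr P) (hu : u ∈ Hi P n) : u = 0 := by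
  have h : Hi P n ≤ ⊥ := by
    refine Submodule.span_le.mpr ?_
    rintro w ⟨m, hm, y, rfl⟩
    rw [gQ_eq_zero_of_gt P d hd m (by omega) y]
    exact zero_mem _
  exact (Submodule.mem_bot ℚ).mp (h hu)

theorem chern_mem_Hi (i : ℕ) (x : K) : KGr.chern P i x ∈ Hi P i := by
  rw [chern_eq]
  exact gQ_mem_Hi P le_rfl _

/-! ### evaluation at the Chern classes, `m` variables -/

variable (m : ℕ) (x : K)

theorem aeval_esy' (hc : ∀ i, m < i → KGr.chern P i x = 0) (i : ℕ) :
    aeval (cpt P m x) (esy m i) = KGr.chern P i x := by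
  rcases Nat.eq_zero_or_pos i with rfl | hi
  · rw [esy_zero, map_one, chern_zero]
  · rcases le_or_gt i m with hle | hgt
    · obtain ⟨j, rfl⟩ := Nat.exists_eq_add_of_le' hi
      have := esy_succ m ⟨j, by omega⟩
      simp only at this
      rw [this, aeval_X]
      rfl
    · rw [esy_of_gt m i hgt, map_zero, hc i hgt]

theorem aeval_newt' (hc : ∀ i, m < i → KGr.chern P i x = 0) (k : ℕ) (hk : 1 ≤ k) :
    aeval (cpt P m x) (newt m k) = KGr.grK P (k : ℤ) (pk k (x - (P.aug x : K))) := by
  refine newton_unique (fun i => KGr.chern P i x) (fun i => aeval (cpt P m x) (newt m i))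
    (fun i => KGr.grK P (i : ℤ) (pk i (x - (P.aug x : K)))) (chern_zero P x) ?_ k hk
  intro k
  rw [← chern_rec P x k]
  have h := congrArg (aeval (cpt P m x)) (esy_newt_rec m k)
  rw [map_mul, map_natCast, aeval_esy' P m x hc] at h
  rw [h]
  have h2 : aeval (cpt P m x) (newtonRHS (esy m) (newt m) k) =
      newtonRHS (fun i => aeval (cpt P m x) (esy m i)) (fun i => aeval (cpt P m x) (newt m i)) k := by
    unfold newtonRHS
    simp only [map_mul, map_pow, map_neg, map_one, map_sum]
  rw [h2]
  simp only [aeval_esy' P m x hc]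

/-- evaluation of symmetric polynomials in `m` variables at the Chern classes of `x` -/
noncomputable def theta : symmetricSubalgebra (Fin m) ℚ →ₐ[ℚ] KGr.Gr P :=
  (aeval (cpt P m x)).comp (esInv m : symmetricSubalgebra (Fin m) ℚ ≃ₐ[ℚ] _).toAlgHom

theorem theta_apply (s : symmetricSubalgebra (Fin m) ℚ) :
    theta P m x s = aeval (cpt P m x) (esInv m s) := rfl

theorem theta_esymm (hc : ∀ i, m < i → KGr.chern P i x = 0) (k : ℕ) :
    theta P m x ⟨esymm (Fin m) ℚ k, esymm_isSymmetric _ _ k⟩ = KGr.chern P k x :=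
  aeval_esy' P m x hc k

theorem theta_psum (hc : ∀ i, m < i → KGr.chern P i x = 0) (k : ℕ) (hk : 1 ≤ k) :
    theta P m x ⟨psum (Fin m) ℚ k, psum_isSymmetric _ _ k⟩ =
      KGr.grK P (k : ℤ) (pk k (x - (P.aug x : K))) :=
  aeval_newt' P m x hc k hk

theorem theta_psum_zero :
    theta P m x ⟨psum (Fin m) ℚ 0, psum_isSymmetric _ _ 0⟩ = (m : KGr.Gr P) := by
  rw [theta_apply]
  have := newt_zero m
  unfold newt at this
  rw [this, map_natCast]

/-! ### weights -/

theorem esymm_isHomogeneous' (k : ℕ) :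
    IsWeightedHomogeneous (fun _ : Fin m => (1 : ℕ)) (esymm (Fin m) ℚ k) k := by
  rw [esymm]
  apply IsWeightedHomogeneous.sum
  intro s hs
  rw [Finset.mem_powersetCard] at hs
  have : (k : ℕ) = ∑ _i ∈ s, 1 := by simp [hs.2]
  rw [this]
  exact IsWeightedHomogeneous.prod _ _ _ fun i _ => isWeightedHomogeneous_X ℚ _ i

theorem aeval_esymm_injective :
    Function.Injective (aeval (fun i : Fin m => esymm (Fin m) ℚ ((i : ℕ) + 1)) :
      MvPolynomial (Fin m) ℚ → MvPolynomial (Fin m) ℚ) := by
  intro p q hpq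
  apply esymmAlgHom_fin_injective ℚ (le_refl m)
  apply Subtype.ext
  rw [esymmAlgHom_apply, esymmAlgHom_apply]
  exact hpq

theorem aeval_esymm_esInv (s : symmetricSubalgebra (Fin m) ℚ) :
    aeval (fun i : Fin m => esymm (Fin m) ℚ ((i : ℕ) + 1)) (esInv m s) =
      (s : MvPolynomial (Fin m) ℚ) := by
  rw [← esymmAlgHom_apply]
  have := (esymmAlgEquiv (Fin m) ℚ (Fintype.card_fin m)).apply_symm_apply s
  rw [esymmAlgEquiv_apply] at this
  rw [this]

/-- isobaric polynomials in the Chern classes land in the right degree -/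
theorem aeval_cpt_mem_Hi {Q : MvPolynomial (Fin m) ℚ} {n : ℕ}
    (hQ : IsWeightedHomogeneous (fun i : Fin m => (i : ℕ) + 1) Q n) :
    aeval (cpt P m x) Q ∈ Hi P n := by
  induction hQ using IsWeightedHomogeneous.induction_on with
  | zero => rw [map_zero]; exact zero_mem _
  | add p q hp hq ihp ihq => rw [map_add]; exact add_mem ihp ihq
  | monomial s r hr =>
    rw [aeval_monomial, ← hr, Finsupp.weight_apply, ← Algebra.smul_def]
    refine Submodule.smul_mem _ _ ?_
    rw [Finsupp.prod, Finsupp.sum]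
    refine Hi_prod P s.support _ _ fun i _ => ?_
    have h1 : cpt P m x i ∈ Hi P ((i : ℕ) + 1) := chern_mem_Hi P _ x
    have h2 := Hi_pow P h1 (s i)
    rwa [← smul_eq_mul] at h2

theorem theta_eq_zero_of_isHomogeneous (d : ℕ) (hd : gammaFiltration P (d + 1) = ⊥)
    (s : symmetricSubalgebra (Fin m) ℚ) (n : ℕ) (hn : d < n)
    (hs : (s : MvPolynomial (Fin m) ℚ).IsHomogeneous n) : theta P m x s = 0 := by
  have h1 : IsWeightedHomogeneous (fun i : Fin m => (i : ℕ) + 1) (esInv m s) n := by
    refine Groth.Agent.H43.isWeightedHomogeneous_of_aeval_injective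
      (w' := fun _ : Fin m => (1 : ℕ))
      (f := fun i : Fin m => esymm (Fin m) ℚ ((i : ℕ) + 1))
      (fun i => esymm_isHomogeneous' m _) (aeval_esymm_injective m) ?_
    rw [aeval_esymm_esInv]
    exact hs
  exact eq_zero_of_mem_Hi P d hd n hn _ (aeval_cpt_mem_Hi P m x h1)

theorem isSymmetric_homogeneousComponent {f : MvPolynomial (Fin m) ℚ} (hf : f.IsSymmetric)
    (n : ℕ) : (homogeneousComponent n f).IsSymmetric := by
  intro e
  rw [rename_homogeneousComponent, hf e]

/-- symmetric polynomials of order `> d` are killed -/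
theorem theta_eq_zero_of_highDeg (d : ℕ) (hd : gammaFiltration P (d + 1) = ⊥)
    (s : symmetricSubalgebra (Fin m) ℚ)
    (hs : ∀ k, k ≤ d → homogeneousComponent k (s : MvPolynomial (Fin m) ℚ) = 0) :
    theta P m x s = 0 := by
  have h1 : s = ∑ k ∈ range ((s : MvPolynomial (Fin m) ℚ).totalDegree + 1),
      (⟨homogeneousComponent k (s : MvPolynomial (Fin m) ℚ),
        isSymmetric_homogeneousComponent m s.2 k⟩ : symmetricSubalgebra (Fin m) ℚ) := by
    apply Subtype.ext
    rw [AddSubmonoidClass.coe_finsetSum]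
    exact (sum_homogeneousComponent _).symm
  rw [h1, map_sum]
  refine Finset.sum_eq_zero fun k _ => ?_
  rcases Nat.lt_or_ge d k with hk | hk
  · exact theta_eq_zero_of_isHomogeneous P m x d hd _ k hk (homogeneousComponent_isHomogeneous k _)
  · have : (⟨homogeneousComponent k (s : MvPolynomial (Fin m) ℚ),
        isSymmetric_homogeneousComponent m s.2 k⟩ : symmetricSubalgebra (Fin m) ℚ) = 0 :=
      Subtype.ext (hs k hk)
    rw [this, map_zero]

end Groth.Agent.H86.KG
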