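import Groth.Prelude.Def_KGr
import Mathlib.RingTheory.PowerSeries.Trunc
import Mathlib.RingTheory.PowerSeries.Exp
import Mathlib.NumberTheory.Bernoulli
import Mathlib.RingTheory.MvPolynomial.Homogeneous

/-!
# Truncated exponential and Todd series; polynomials of high order
-/

set_option autoImplicit false

namespace Groth.Agent.H86.KG

open Finset

section OneVar

open PowerSeries

/-- two power series agree below degree `n` -/
def Agree (n : ℕ) (f g : ℚ⟦X⟧) : Prop := ∀ k, k < n → coeff k f = coeff k g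

theorem Agree.refl (n : ℕ) (f : ℚ⟦X⟧) : Agree n f f := fun _ _ => rfl

theorem Agree.symm {n : ℕ} {f g : ℚ⟦X⟧} (h : Agree n f g) : Agree n g f :=
  fun k hk => (h k hk).symm

theorem Agree.trans {n : ℕ} {f g h : ℚ⟦X⟧} (h1 : Agree n f g) (h2 : Agree n g h) : Agree n f h :=
  fun k hk => (h1 k hk).trans (h2 k hk)

theorem Agree.sub {n : ℕ} {f g f' g' : ℚ⟦X⟧} (h1 : Agree n f g) (h2 : Agree n f' g') :
    Agree n (f - f') (g - g') := fun k hk => by
  rw [map_sub, map_sub, h1 k hk, h2 k hk]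

theorem Agree.mul {n : ℕ} {f g f' g' : ℚ⟦X⟧} (h1 : Agree n f g) (h2 : Agree n f' g') :
    Agree n (f * f') (g * g') := fun k hk => by
  rw [coeff_mul, coeff_mul]
  refine Finset.sum_congr rfl fun a ha => ?_
  rw [Finset.mem_antidiagonal] at ha
  rw [h1 a.1 (by omega), h2 a.2 (by omega)]

theorem Agree.pow {n : ℕ} {f g : ℚ⟦X⟧} (h : Agree n f g) (j : ℕ) : Agree n (f ^ j) (g ^ j) := by
  induction j with
  | zero => rw [pow_zero, pow_zero]; exact Agree.refl n 1
  | succ j ih => rw [pow_succ, pow_succ]; exact ih.mul h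

theorem agree_trunc (n : ℕ) (f : ℚ⟦X⟧) : Agree n ((trunc n f : Polynomial ℚ) : ℚ⟦X⟧) f :=
  fun k hk => by rw [Polynomial.coeff_coe, coeff_trunc, if_pos hk]

theorem dvd_of_agree {n : ℕ} {p q : Polynomial ℚ} (h : Agree n (p : ℚ⟦X⟧) (q : ℚ⟦X⟧)) :
    (Polynomial.X : Polynomial ℚ) ^ n ∣ p - q := by
  rw [Polynomial.X_pow_dvd_iff]
  intro k hk
  have := h k hk
  rw [Polynomial.coeff_coe, Polynomial.coeff_coe] at this
  rw [Polynomial.coeff_sub, this, sub_self]

variable (d : ℕ)

theorem expTrunc_eq_trunc : KGr.expTrunc d = trunc (d + 1) (exp ℚ) := by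
  ext k
  unfold KGr.expTrunc
  rw [coeff_trunc, Polynomial.finsetSum_coeff]
  simp only [Polynomial.coeff_C_mul_X_pow]
  rw [Finset.sum_ite_eq, coeff_exp]
  simp only [Finset.mem_range, Algebra.algebraMap_self, RingHom.id_apply]

theorem toddTrunc_eq_trunc : KGr.toddTrunc d = trunc (d + 1) (bernoulli'PowerSeries ℚ) := by
  ext k
  unfold KGr.toddTrunc
  rw [coeff_trunc, Polynomial.finsetSum_coeff]
  simp only [Polynomial.coeff_C_mul_X_pow]
  rw [Finset.sum_ite_eq, bernoulli'PowerSeries, coeff_mk]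
  simp only [Finset.mem_range, Algebra.algebraMap_self, RingHom.id_apply]

/-- the truncated exponential of `jX` -/
noncomputable def expScaled (j : ℕ) : Polynomial ℚ :=
  ∑ n ∈ range (d + 1), Polynomial.C ((j : ℚ) ^ n / (n.factorial : ℚ)) * Polynomial.X ^ n

theorem expScaled_eq_trunc (j : ℕ) :
    expScaled d j = trunc (d + 1) (rescale (j : ℚ) (exp ℚ)) := by
  ext k
  unfold expScaled
  rw [coeff_trunc, Polynomial.finsetSum_coeff]
  simp only [Polynomial.coeff_C_mul_X_pow]
  rw [Finset.sum_ite_eq, coeff_rescale, coeff_exp]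
  simp only [Finset.mem_range, Algebra.algebraMap_self, RingHom.id_apply]
  split_ifs
  · ring
  · rfl

/-- `E^j ≡ exp(jX)` modulo `X^{d+1}` -/
theorem X_pow_dvd_expTrunc_pow_sub (j : ℕ) :
    (Polynomial.X : Polynomial ℚ) ^ (d + 1) ∣ KGr.expTrunc d ^ j - expScaled d j := by
  apply dvd_of_agree
  rw [Polynomial.coe_pow, expTrunc_eq_trunc, expScaled_eq_trunc]
  refine ((agree_trunc (d + 1) (exp ℚ)).pow j).trans ?_
  rw [exp_pow_eq_rescale_exp]
  exact (agree_trunc (d + 1) _).symm

/-- `β(X)(e^X - 1) ≡ X e^X` modulo `X^{d+1}` -/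
theorem X_pow_dvd_todd_mul_exp_sub (d : ℕ) :
    (Polynomial.X : Polynomial ℚ) ^ (d + 1) ∣
      KGr.toddTrunc d * (KGr.expTrunc d - 1) - Polynomial.X * KGr.expTrunc d := by
  apply dvd_of_agree
  rw [Polynomial.coe_mul, Polynomial.coe_mul, Polynomial.coe_sub, Polynomial.coe_one,
    Polynomial.coe_X, expTrunc_eq_trunc, toddTrunc_eq_trunc]
  have h1 := agree_trunc (d + 1) (exp ℚ)
  have h2 := agree_trunc (d + 1) (bernoulli'PowerSeries ℚ)
  refine (h2.mul (h1.sub (Agree.refl _ 1))).trans ?_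
  rw [bernoulli'PowerSeries_mul_exp_sub_one]
  exact (Agree.refl _ X).mul h1.symm

end OneVar

section ManyVar

open MvPolynomial

variable (m d : ℕ)

/-- the ideal generated by the `X_i^{d+1}` -/
noncomputable def Jd : Ideal (MvPolynomial (Fin m) ℚ) :=
  Ideal.span (Set.range fun i : Fin m => (X i : MvPolynomial (Fin m) ℚ) ^ (d + 1))

theorem support_degree_of_mem_Jd {f : MvPolynomial (Fin m) ℚ} (hf : f ∈ Jd m d) :
    ∀ s ∈ f.support, d < s.degree := by
  unfold Jd at hf
  induction hf using Submodule.span_induction with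
  | mem f hf =>
    obtain ⟨i, rfl⟩ := hf
    intro s hs
    simp only at hs
    rw [X_pow_eq_monomial, support_monomial, if_neg one_ne_zero, Finset.mem_singleton] at hs
    rw [hs, Finsupp.degree_single]
    omega
  | zero => intro s hs; simp at hs
  | add f g _ _ hf hg =>
    intro s hs
    rcases Finset.mem_union.mp (support_add hs) with h | h
    · exact hf s h
    · exact hg s h
  | smul a g _ hg =>
    intro s hs
    rw [smul_eq_mul] at hs
    have h1 := support_mul a g hs
    rw [Finset.mem_add] at h1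
    obtain ⟨s1, _, s2, hs2, rfl⟩ := h1
    have := hg s2 hs2
    rw [map_add]
    omega

theorem homogeneousComponent_of_mem_Jd {f : MvPolynomial (Fin m) ℚ} (hf : f ∈ Jd m d) (k : ℕ)
    (hk : k ≤ d) : homogeneousComponent k f = 0 := by
  apply homogeneousComponent_eq_zero'
  intro s hs
  have := support_degree_of_mem_Jd m d hf s hs
  omega

theorem aeval_mem_Jd_of_dvd (i : Fin m) {p : Polynomial ℚ}
    (hp : (Polynomial.X : Polynomial ℚ) ^ (d + 1) ∣ p) :
    Polynomial.aeval (X i : MvPolynomial (Fin m) ℚ) p ∈ Jd m d := by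
  obtain ⟨q, rfl⟩ := hp
  rw [map_mul, map_pow, Polynomial.aeval_X]
  exact Ideal.mul_mem_right _ _ (Ideal.subset_span ⟨i, rfl⟩)

/-- products are congruent when the factors are -/
theorem prod_sub_prod_mem {ι : Type*} (I : Ideal (MvPolynomial (Fin m) ℚ)) (t : Finset ι)
    (a b : ι → MvPolynomial (Fin m) ℚ) (h : ∀ i ∈ t, a i - b i ∈ I) :
    ∏ i ∈ t, a i - ∏ i ∈ t, b i ∈ I := by
  classical
  induction t using Finset.induction_on with
  | empty => simp
  | insert i t hi ih =>
    rw [Finset.prod_insert hi, Finset.prod_insert hi]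
    have h1 : a i * ∏ j ∈ t, a j - b i * ∏ j ∈ t, b j =
        (a i - b i) * ∏ j ∈ t, a j + b i * (∏ j ∈ t, a j - ∏ j ∈ t, b j) := by ring
    rw [h1]
    exact I.add_mem (I.mul_mem_right _ (h i (Finset.mem_insert_self i t)))
      (I.mul_mem_left _ (ih fun j hj => h j (Finset.mem_insert_of_mem hj)))

end ManyVar

end Groth.Agent.H86.KG
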