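import Groth.Agent.H86.KG13
import Groth.Agent.H86.KG14

/-!
# `ch(λ^k e) = θ(e_k(exp x_1, …, exp x_m))`
-/

set_option autoImplicit false

namespace Groth.Agent.H86.KG

open LambdaRing Finset MvPolynomial
open scoped TensorProduct

universe v

section Sym

variable (m : ℕ)

/-- `Σ_i q(X_i)` as a symmetric polynomial -/
noncomputable def sumP (q : Polynomial ℚ) : symmetricSubalgebra (Fin m) ℚ :=
  ⟨∑ i : Fin m, Polynomial.aeval (X i : MvPolynomial (Fin m) ℚ) q, KGr.isSymmetric_sum_aeval m q⟩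

/-- `Π_i q(X_i)` as a symmetric polynomial -/
noncomputable def prodP (q : Polynomial ℚ) : symmetricSubalgebra (Fin m) ℚ :=
  ⟨∏ i : Fin m, Polynomial.aeval (X i : MvPolynomial (Fin m) ℚ) q, KGr.isSymmetric_prod_aeval m q⟩

theorem sumP_val (q : Polynomial ℚ) :
    (sumP m q : MvPolynomial (Fin m) ℚ) = ∑ i : Fin m, Polynomial.aeval (X i) q := rfl

theorem prodP_val (q : Polynomial ℚ) :
    (prodP m q : MvPolynomial (Fin m) ℚ) = ∏ i : Fin m, Polynomial.aeval (X i) q := rfl

theorem prodP_mul (p q : Polynomial ℚ) : prodP m (p * q) = prodP m p * prodP m q := by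
  apply Subtype.ext
  rw [MulMemClass.coe_mul, prodP_val, prodP_val, prodP_val, ← Finset.prod_mul_distrib]
  refine Finset.prod_congr rfl fun i _ => ?_
  rw [map_mul]

variable (d : ℕ)

/-- the family `E_i = exp_{≤ d}(X_i)` -/
noncomputable def Ei (i : Fin m) : MvPolynomial (Fin m) ℚ :=
  Polynomial.aeval (X i : MvPolynomial (Fin m) ℚ) (KGr.expTrunc d)

theorem rename_Ei (σ : Equiv.Perm (Fin m)) (i : Fin m) : rename σ (Ei m d i) = Ei m d (σ i) := by
  unfold Ei
  rw [← Polynomial.aeval_algHom_apply, rename_X]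

theorem isSymmetric_aeval_Ei {s : MvPolynomial (Fin m) ℚ} (hs : s.IsSymmetric) :
    (aeval (Ei m d) s).IsSymmetric := by
  intro σ
  have h1 : rename σ (aeval (Ei m d) s) = aeval (fun i => rename σ (Ei m d i)) s := by
    rw [← comp_aeval]; rfl
  rw [h1]
  have h2 : (fun i => rename σ (Ei m d i)) = Ei m d ∘ σ := by
    funext i; exact rename_Ei m d σ i
  rw [h2, ← aeval_rename, hs σ]

/-- `e_k(E_1, …, E_m)` as a symmetric polynomial -/
noncomputable def ekE (k : ℕ) : symmetricSubalgebra (Fin m) ℚ :=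
  ⟨aeval (Ei m d) (esymm (Fin m) ℚ k), isSymmetric_aeval_Ei m d (esymm_isSymmetric _ _ k)⟩

theorem ekE_val (k : ℕ) :
    (ekE m d k : MvPolynomial (Fin m) ℚ) = (Finset.univ.val.map (Ei m d)).esymm k :=
  aeval_esymm_eq_multiset_esymm (Fin m) ℚ k (Ei m d)

theorem sumP_pow_val (r : ℕ) :
    (sumP m (KGr.expTrunc d ^ r) : MvPolynomial (Fin m) ℚ) =
      ((Finset.univ.val.map (Ei m d)).map (· ^ r)).sum := by
  rw [sumP_val, Multiset.map_map]
  simp only [map_pow]
  rfl

/-- `Σ_i exp_{≤d}(r X_i) = Σ_n (r^n/n!) p_n` -/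
theorem sumP_expScaled (r : ℕ) :
    sumP m (expScaled d r) = ∑ n ∈ range (d + 1), ((r : ℚ) ^ n / (n.factorial : ℚ)) •
      (⟨psum (Fin m) ℚ n, psum_isSymmetric _ _ n⟩ : symmetricSubalgebra (Fin m) ℚ) := by
  apply Subtype.ext
  rw [sumP_val, AddSubmonoidClass.coe_finsetSum]
  unfold expScaled
  simp only [map_sum, map_mul, Polynomial.aeval_C, map_pow, Polynomial.aeval_X, SetLike.val_smul]
  rw [Finset.sum_comm]
  refine Finset.sum_congr rfl fun n _ => ?_
  rw [psum, Finset.smul_sum]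
  refine Finset.sum_congr rfl fun i _ => ?_
  rw [Algebra.smul_def]

theorem sumP_sub_mem_Jd (r : ℕ) :
    ((sumP m (KGr.expTrunc d ^ r) - sumP m (expScaled d r) : symmetricSubalgebra (Fin m) ℚ) :
      MvPolynomial (Fin m) ℚ) ∈ Jd m d := by
  rw [AddSubgroupClass.coe_sub, sumP_val, sumP_val, ← Finset.sum_sub_distrib]
  refine (Jd m d).sum_mem fun i _ => ?_
  rw [← map_sub]
  exact aeval_mem_Jd_of_dvd m d i (X_pow_dvd_expTrunc_pow_sub d r)

end Sym

variable {K : Type v} [CommRing K] [LambdaOps K] (P : PosStructure K)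

theorem natCast_toNat_aug {e : K} (he : e ∈ P.pos) :
    (((P.aug e).toNat : ℕ) : K) = ((P.aug e : ℤ) : K) := by
  have h : ((P.aug e).toNat : ℤ) = P.aug e := Int.toNat_of_nonneg (P.aug_pos e he).le
  conv_rhs => rw [← h]
  push_cast
  rfl

theorem chern_eq_zero_of_pos (hK : HasSplitting K P) (e : K) (he : e ∈ P.pos) (i : ℕ)
    (hi : (P.aug e).toNat < i) : KGr.chern P i e = 0 := by
  unfold KGr.chern
  rw [← natCast_toNat_aug P he, gamma_pos_sub_eq_zero P hK e he i hi]
  exact grK_zero P i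

theorem theta_eq_of_sub_mem_Jd (d : ℕ) (hd : gammaFiltration P (d + 1) = ⊥) (m : ℕ) (x : K)
    (s t : symmetricSubalgebra (Fin m) ℚ)
    (h : ((s - t : symmetricSubalgebra (Fin m) ℚ) : MvPolynomial (Fin m) ℚ) ∈ Jd m d) :
    theta P m x s = theta P m x t := by
  have := theta_eq_zero_of_highDeg P m x d hd (s - t)
    (fun k hk => homogeneousComponent_of_mem_Jd m d h k hk)
  rw [map_sub, sub_eq_zero] at this
  exact this

/-- `ch(ψ^r e) = θ(Σ_i E_i^r)` -/
theorem theta_sumP_pow (hK : HasSplitting K P) (d : ℕ) (hd : gammaFiltration P (d + 1) = ⊥)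
    (e : K) (he : e ∈ P.pos) (r : ℕ) (hr : 1 ≤ r) :
    theta P (P.aug e).toNat e (sumP (P.aug e).toNat (KGr.expTrunc d ^ r)) =
      KGr.chK P d (adams P r e) := by
  set m := (P.aug e).toNat with hm
  have hc : ∀ i, m < i → KGr.chern P i e = 0 := fun i hi => chern_eq_zero_of_pos P hK e he i hi
  rw [theta_eq_of_sub_mem_Jd P d hd m e _ _ (sumP_sub_mem_Jd m d r), sumP_expScaled, map_sum]
  -- the Chern character side
  have hy : P.aug (e - ((P.aug e : ℤ) : K)) = 0 := Groth.Agent.H17.aug_sub_aug P e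
  have h1 : adams P r e = ((P.aug e : ℤ) : K) + adams P r (e - ((P.aug e : ℤ) : K)) := by
    rw [Groth.Agent.H17.adams_sub, adams_intCast]; ring
  have h2 : KGr.chK P d (((P.aug e : ℤ) : K)) = (m : KGr.Gr P) := by
    rw [← natCast_toNat_aug P he, ← chRingHom_apply P hK d hd, map_natCast]
  rw [h1, chK_add P d hd, h2, chK_adams_of_aug P hK d hd r hr _ hy, Finset.sum_range_succ',
    Finset.sum_range_succ']
  have h3 : ((r : ℚ) ^ 0 / ((0 : ℕ).factorial : ℚ)) •
      theta P m e ⟨psum (Fin m) ℚ 0, psum_isSymmetric _ _ 0⟩ = (m : KGr.Gr P) := by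
    rw [theta_psum_zero, pow_zero, Nat.factorial_zero, Nat.cast_one, div_one, one_smul]
  have h4 : ((r : ℚ) ^ 0 / ((0 : ℕ).factorial : ℚ)) •
      KGr.grK P ((0 : ℕ) : ℤ) (phi P 0 (e - ((P.aug e : ℤ) : K))) = 0 := by
    rw [phi_zero_of_aug P _ hy, grK_zero P 0, smul_zero]
  rw [map_smul, h3, h4, add_zero, add_comm]
  congr 1
  refine Finset.sum_congr rfl fun n _ => ?_
  rw [map_smul, theta_psum P m e hc (n + 1) (by omega), pk_eq_phi P hK _ hy (n + 1) (by omega)]

/-- **`ch(λ^k e) = θ(e_k(E_1, …, E_m))`.** -/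
theorem theta_ekE (hK : HasSplitting K P) (d : ℕ) (hd : gammaFiltration P (d + 1) = ⊥)
    (e : K) (he : e ∈ P.pos) (k : ℕ) (hk : k ≤ (P.aug e).toNat) :
    theta P (P.aug e).toNat e (ekE (P.aug e).toNat d k) = KGr.chK P d (LambdaOps.lam k e) := by
  set m := (P.aug e).toNat with hm
  haveI : IsAddTorsionFree (KGr.Gr P) := IsAddTorsionFree.of_module_rat (KGr.Gr P)
  refine Groth.Agent.H43.transfer_e
    ((symmetricSubalgebra (Fin m) ℚ).val : symmetricSubalgebra (Fin m) ℚ →+* MvPolynomial (Fin m) ℚ)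
    Subtype.val_injective
    ((theta P m e : symmetricSubalgebra (Fin m) ℚ →+* KGr.Gr P))
    (Finset.univ.val.map (Ei m d))
    (fun k => ekE m d k) (fun r => sumP m (KGr.expTrunc d ^ r)) m
    (fun k _ => ekE_val m d k) (fun r _ _ => sumP_pow_val m d r)
    (fun k => KGr.chK P d (LambdaOps.lam k e)) (fun r => KGr.chK P d (adams P r e))
    ?_ ?_ ?_ k hk
  · rw [LambdaOps.lam_zero, chK_one P d hd]
  · intro k _ _
    have h := congrArg (chRingHom P hK d hd) (newton_lam_adams P e k)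
    rw [map_mul, map_natCast] at h
    unfold Groth.Agent.H43.NewtonRel
    rw [chRingHom_apply] at h
    rw [h]
    unfold newtonRHS
    simp only [map_mul, map_pow, map_neg, map_one, map_sum, chRingHom_apply]
  · intro r hr _
    exact theta_sumP_pow P hK d hd e he r hr

end Groth.Agent.H86.KG
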