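import Groth.Agent.H86.KG15

/-!
# The Todd class in `m ≤ d` variables
-/

set_option autoImplicit false

namespace Groth.Agent.H86.KG

open LambdaRing Finset MvPolynomial
open scoped TensorProduct

universe v

section Kill

theorem prod_dite_fin {M : Type*} [CommMonoid M] (m d : ℕ) (hmd : m ≤ d) (G : Fin m → M) :
    ∏ j : Fin d, (if h : (j : ℕ) < m then G ⟨j, h⟩ else 1) = ∏ i, G i := by
  set F' : ℕ → M := fun j => if h : j < m then G ⟨j, h⟩ else 1 with hF'
  have h1 : ∏ j : Fin d, (if h : (j : ℕ) < m then G ⟨j, h⟩ else 1) = ∏ j : Fin d, F' j := rfl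
  rw [h1, Fin.prod_univ_eq_prod_range F' d,
    ← Finset.prod_subset (Finset.range_subset_range.mpr hmd) (fun j _ hj => by
      rw [Finset.mem_range, not_lt] at hj
      rw [hF']
      simp only
      rw [dif_neg (by omega)]),
    ← Fin.prod_univ_eq_prod_range F' m]
  refine Finset.prod_congr rfl fun i _ => ?_
  rw [hF']
  simp only
  rw [dif_pos i.2]

variable (m d : ℕ)

/-- the substitution killing the variables of index `≥ m` -/
noncomputable def killFn : Fin d → MvPolynomial (Fin m) ℚ :=
  fun j => if h : (j : ℕ) < m then X ⟨j, h⟩ else 0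

/-- the algebra map killing the variables of index `≥ m` -/
noncomputable def kill : MvPolynomial (Fin d) ℚ →ₐ[ℚ] MvPolynomial (Fin m) ℚ := aeval (killFn m d)

theorem kill_X (j : Fin d) : kill m d (X j) = killFn m d j := aeval_X _ _

theorem esymm_eq_zero_of_gt (k : ℕ) (hk : m < k) : esymm (Fin m) ℚ k = 0 := by
  rw [esymm, Finset.powersetCard_eq_empty.mpr (by simpa using hk), Finset.sum_empty]

theorem esymm_eq_coeff (k : ℕ) :
    esymm (Fin m) ℚ k = PowerSeries.coeff k
      (∏ i : Fin m, (1 + PowerSeries.C (X i : MvPolynomial (Fin m) ℚ) * PowerSeries.X)) := by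
  classical
  rw [Groth.Agent.H17.coeff_prod_one_add_C_mul_X, esymm]

theorem kill_esymm (hmd : m ≤ d) (k : ℕ) : kill m d (esymm (Fin d) ℚ k) = esymm (Fin m) ℚ k := by
  classical
  rw [esymm, map_sum]
  simp only [map_prod, kill_X]
  rw [← Groth.Agent.H17.coeff_prod_one_add_C_mul_X, esymm_eq_coeff]
  congr 1
  rw [← prod_dite_fin m d hmd]
  refine Finset.prod_congr rfl fun j _ => ?_
  unfold killFn
  split_ifs with h
  · rfl
  · rw [map_zero, zero_mul, add_zero]

theorem aeval_esymm_kill (hmd : m ≤ d) (Q : MvPolynomial (Fin d) ℚ) :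
    aeval (fun i : Fin m => esymm (Fin m) ℚ ((i : ℕ) + 1)) (kill m d Q) =
      kill m d (aeval (fun j : Fin d => esymm (Fin d) ℚ ((j : ℕ) + 1)) Q) := by
  have h : (aeval (fun i : Fin m => esymm (Fin m) ℚ ((i : ℕ) + 1))).comp (kill m d) =
      (kill m d).comp (aeval (fun j : Fin d => esymm (Fin d) ℚ ((j : ℕ) + 1))) := by
    apply MvPolynomial.algHom_ext
    intro j
    rw [AlgHom.comp_apply, AlgHom.comp_apply, kill_X, aeval_X, kill_esymm m d hmd]
    unfold killFn
    split_ifs with h
    · rw [aeval_X]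
    · rw [map_zero, esymm_eq_zero_of_gt m _ (by omega)]
  exact congrArg (fun f => f Q) h

theorem kill_aeval_X (j : Fin d) (p : Polynomial ℚ) :
    kill m d (Polynomial.aeval (X j : MvPolynomial (Fin d) ℚ) p) =
      Polynomial.aeval (killFn m d j) p := by
  rw [← Polynomial.aeval_algHom_apply, kill_X]

theorem toddTrunc_coeff_zero : (KGr.toddTrunc d).coeff 0 = 1 := by
  unfold KGr.toddTrunc
  rw [Polynomial.finsetSum_coeff]
  simp only [Polynomial.coeff_C_mul_X_pow]
  rw [Finset.sum_eq_single 0]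
  · simp
  · intro b _ hb
    rw [if_neg (by omega)]
  · intro h
    simp at h

/-- the Todd polynomial in `d` variables becomes the Todd polynomial in `m` variables -/
theorem kill_toddPoly (hmd : m ≤ d) :
    kill m d (KGr.toddPoly d) = esInv m (prodP m (KGr.toddTrunc d)) := by
  rw [AlgEquiv.eq_symm_apply]
  apply Subtype.ext
  rw [esymmAlgEquiv_apply, esymmAlgHom_apply, aeval_esymm_kill m d hmd, ← esymmAlgHom_apply,
    ← esymmAlgEquiv_apply (Fin d) ℚ (Fintype.card_fin d)]
  unfold KGr.toddPoly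
  rw [AlgEquiv.apply_symm_apply, prodP_val, map_prod, ← prod_dite_fin m d hmd]
  refine Finset.prod_congr rfl fun j _ => ?_
  rw [kill_aeval_X]
  unfold killFn
  split_ifs with h
  · rfl
  · rw [← Polynomial.coeff_zero_eq_aeval_zero', toddTrunc_coeff_zero, map_one]

end Kill

variable {K : Type v} [CommRing K] [LambdaOps K] (P : PosStructure K)

theorem aeval_cpt_kill (m d : ℕ) (x : K) (hc : ∀ i, m < i → KGr.chern P i x = 0)
    (Q : MvPolynomial (Fin d) ℚ) :
    aeval (cpt P d x) Q = aeval (cpt P m x) (kill m d Q) := by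
  have h : (aeval (cpt P d x) : MvPolynomial (Fin d) ℚ →ₐ[ℚ] KGr.Gr P) =
      (aeval (cpt P m x)).comp (kill m d) := by
    apply MvPolynomial.algHom_ext
    intro j
    rw [AlgHom.comp_apply, aeval_X, kill_X]
    unfold killFn
    split_ifs with h
    · rw [aeval_X]; rfl
    · rw [map_zero]
      exact hc _ (by omega)
  exact congrArg (fun f => f Q) h

/-- the Todd class through `m` variables -/
theorem tdK_eq_theta (m d : ℕ) (hmd : m ≤ d) (x : K) (hc : ∀ i, m < i → KGr.chern P i x = 0) :
    KGr.tdK P d x = theta P m x (prodP m (KGr.toddTrunc d)) := by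
  unfold KGr.tdK
  have h0 : (fun i : Fin d => KGr.chern P (i.1 + 1) x) = cpt P d x := rfl
  rw [h0, aeval_cpt_kill P m d x hc, kill_toddPoly m d hmd, theta_apply]

end Groth.Agent.H86.KG
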