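import Groth.Agent.H86.KG16
import Mathlib.RingTheory.Polynomial.Vieta

/-!
# `td(e) · ch(λ_{-1}(e^∨)) = c^m(e)`
-/

set_option autoImplicit false

namespace Groth.Agent.H86.KG

open LambdaRing Finset MvPolynomial
open scoped TensorProduct

universe v

theorem prod_one_sub_eq {R : Type*} [CommRing R] {ι : Type*} [Fintype ι] (a : ι → R) :
    ∏ i, (1 - a i) =
      ∑ j ∈ range (Fintype.card ι + 1), (-1) ^ j * (Finset.univ.val.map a).esymm j := by
  have h := congrArg (Polynomial.eval 1)
    (Multiset.prod_X_sub_X_eq_sum_esymm (Finset.univ.val.map a))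
  rw [Polynomial.eval_multiset_prod, Multiset.map_map, Polynomial.eval_finsetSum] at h
  have h1 : (Multiset.map (Polynomial.eval 1 ∘ fun t => (Polynomial.X : Polynomial R) -
      Polynomial.C t) (Finset.univ.val.map a)).prod = ∏ i, (1 - a i) := by
    rw [Multiset.map_map]
    simp only [Function.comp_def, Polynomial.eval_sub, Polynomial.eval_X, Polynomial.eval_C]
    rfl
  rw [h1] at h
  rw [h]
  have hc : Multiset.card (Finset.univ.val.map a) = Fintype.card ι := by
    rw [Multiset.card_map]; rfl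
  rw [hc]
  refine Finset.sum_congr rfl fun j _ => ?_
  simp

section Sym

variable (m d : ℕ)

theorem prodP_one_sub_expTrunc :
    prodP m (1 - KGr.expTrunc d) = ∑ j ∈ range (m + 1), ((-1 : ℚ) ^ j) • ekE m d j := by
  apply Subtype.ext
  rw [prodP_val, AddSubmonoidClass.coe_finsetSum]
  have h := prod_one_sub_eq (Ei m d)
  rw [Fintype.card_fin] at h
  simp only [map_sub, map_one, SetLike.val_smul, ekE_val]
  rw [show (∏ i : Fin m, (1 - Polynomial.aeval (X i : MvPolynomial (Fin m) ℚ) (KGr.expTrunc d))) =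
    ∏ i : Fin m, (1 - Ei m d i) from rfl, h]
  refine Finset.sum_congr rfl fun j _ => ?_
  rw [Algebra.smul_def, map_pow, map_neg, map_one]

theorem prodP_neg (q : Polynomial ℚ) : prodP m (-q) = ((-1 : ℚ) ^ m) • prodP m q := by
  apply Subtype.ext
  rw [prodP_val, SetLike.val_smul, prodP_val]
  simp only [map_neg]
  rw [Finset.prod_neg, Finset.card_univ, Fintype.card_fin, Algebra.smul_def, map_pow, map_neg,
    map_one]

theorem prodP_X : prodP m Polynomial.X = ⟨esymm (Fin m) ℚ m, esymm_isSymmetric _ _ m⟩ := by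
  apply Subtype.ext
  rw [prodP_val]
  simp only [Polynomial.aeval_X]
  have hpn : (univ : Finset (Fin m)).powersetCard m = {univ} := by
    have := Finset.powersetCard_self (univ : Finset (Fin m))
    rwa [Finset.card_univ, Fintype.card_fin] at this
  rw [esymm, hpn, Finset.sum_singleton]

theorem ekE_top : ekE m d m = prodP m (KGr.expTrunc d) := by
  apply Subtype.ext
  rw [prodP_val]
  show aeval (Ei m d) (esymm (Fin m) ℚ m) = _
  have hpn : (univ : Finset (Fin m)).powersetCard m = {univ} := by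
    have := Finset.powersetCard_self (univ : Finset (Fin m))
    rwa [Finset.card_univ, Fintype.card_fin] at this
  rw [esymm, hpn, Finset.sum_singleton, map_prod]
  simp only [aeval_X]
  rfl

/-- the Todd relation modulo high order terms -/
theorem prodP_todd_sub_mem_Jd :
    ((prodP m (KGr.toddTrunc d * (KGr.expTrunc d - 1)) -
        prodP m (Polynomial.X * KGr.expTrunc d) : symmetricSubalgebra (Fin m) ℚ) :
      MvPolynomial (Fin m) ℚ) ∈ Jd m d := by
  rw [AddSubgroupClass.coe_sub, prodP_val, prodP_val]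
  refine prod_sub_prod_mem m (Jd m d) Finset.univ _ _ fun i _ => ?_
  rw [← map_sub]
  exact aeval_mem_Jd_of_dvd m d i (X_pow_dvd_todd_mul_exp_sub d)

end Sym

variable {K : Type v} [CommRing K] [LambdaOps K] (P : PosStructure K)

theorem neg_one_pow_smul (j : ℕ) (v : KGr.Gr P) : ((-1 : ℚ) ^ j) • v = (-1) ^ j * v := by
  have h : ((-1 : ℚ) ^ j) • v = (((-1 : ℚ) ^ j) • (1 : KGr.Gr P)) * v := by
    rw [smul_mul_assoc, one_mul]
  rw [h, ← Algebra.algebraMap_eq_smul_one, map_pow, map_neg, map_one]

/-- `ch(λ_{-1}(e)) = θ(Π (1 - E_i))` -/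
theorem theta_prodP_one_sub (hK : HasSplitting K P) (d : ℕ) (hd : gammaFiltration P (d + 1) = ⊥)
    (e : K) (he : e ∈ P.pos) :
    theta P (P.aug e).toNat e (prodP (P.aug e).toNat (1 - KGr.expTrunc d)) =
      KGr.chK P d (∑ i ∈ range ((P.aug e).toNat + 1), (-1 : K) ^ i * LambdaOps.lam i e) := by
  rw [prodP_one_sub_expTrunc, map_sum, ← chRingHom_apply P hK d hd, map_sum]
  refine Finset.sum_congr rfl fun j hj => ?_
  rw [Finset.mem_range] at hj
  rw [map_smul, theta_ekE P hK d hd e he j (by omega), map_mul, map_pow, map_neg, map_one,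
    chRingHom_apply, neg_one_pow_smul]

/-- **`td(e) · ch(λ_{-1}(e^∨)) = c^m(e)`.** -/
theorem tdK_mul_chK (hK : HasSplitting K P) (d : ℕ) (hd : gammaFiltration P (d + 1) = ⊥)
    (inv : K → K) (hS : HasInvSplitting P inv) (e : K) (he : e ∈ P.pos) :
    KGr.tdK P d e *
        KGr.chK P d (∑ i ∈ range ((P.aug e).toNat + 1), (-1 : K) ^ i * LambdaOps.lam i (inv e)) =
      KGr.chern P (P.aug e).toNat e := by
  set m := (P.aug e).toNat with hm
  set z := ∑ i ∈ range (m + 1), (-1 : K) ^ i * LambdaOps.lam i (inv e) with hz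
  set w := LambdaOps.lam m e with hw
  have hzw : z * w = gamma m (e - (m : K)) := lamAlt_inv_mul_lam_top P inv hS e he
  have hwu : IsUnit w := P.isUnit_lam e he
  have haug : P.aug (e - (m : K)) = 0 := by
    rw [natCast_toNat_aug P he]; exact Groth.Agent.H17.aug_sub_aug P e
  rcases Nat.lt_or_ge d m with hgt | hle
  · -- both sides vanish
    have hg : gamma m (e - (m : K)) = 0 := by
      have h1 := Groth.Agent.H17.gamma_mem_gammaFiltration P m _ haug
      have h2 := Groth.Agent.H17.gammaFiltration_antitone P (show d + 1 ≤ m by omega) h1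
      rwa [hd, AddSubgroup.mem_bot] at h2
    have hz0 : z = 0 := by
      rw [hg] at hzw
      exact (hwu.mul_left_eq_zero).mp hzw
    rw [hz0, chern_of_gt P d e hd m hgt]
    have : KGr.chK P d (0 : K) = 0 := (chHom P d hd).map_zero
    rw [this, mul_zero]
  · -- the main case
    have hc : ∀ i, m < i → KGr.chern P i e = 0 := fun i hi => chern_eq_zero_of_pos P hK e he i hi
    have hchw : IsUnit (KGr.chK P d w) := hwu.map (chRingHom P hK d hd)
    apply hchw.mul_left_injective
    show KGr.tdK P d e * KGr.chK P d z * KGr.chK P d w = KGr.chern P m e * KGr.chK P d w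
    rw [mul_assoc, ← chK_mul P hK d hd, hzw]
    -- `γ^m(e - m) = (-1)^m λ_{-1}(e)`
    have ha := Groth.Agent.H41.lamAlt_eq_gamma P hK e he
    rw [← hm] at ha
    have hg : gamma m (e - (m : K)) =
        (-1 : K) ^ m * ∑ i ∈ range (m + 1), (-1 : K) ^ i * LambdaOps.lam i e := by
      rw [ha, ← mul_assoc, ← pow_add, Even.neg_one_pow ⟨m, rfl⟩, one_mul]
    rw [hg, chK_mul P hK d hd, ← theta_prodP_one_sub P hK d hd e he,
      tdK_eq_theta P m d hle e hc, ← theta_ekE P hK d hd e he m le_rfl, ← theta_esymm P m e hc m,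
      ← prodP_X, ekE_top]
    have h1 : KGr.chK P d ((-1 : K) ^ m) = ((-1 : ℚ) ^ m) • (1 : KGr.Gr P) := by
      rw [← chRingHom_apply P hK d hd, map_pow, map_neg, map_one, neg_one_pow_smul, mul_one]
    rw [h1, smul_mul_assoc, one_mul, ← map_smul, ← prodP_neg, ← map_mul, ← map_mul, ← prodP_mul,
      ← prodP_mul]
    have h2 : KGr.toddTrunc d * -(1 - KGr.expTrunc d) =
        KGr.toddTrunc d * (KGr.expTrunc d - 1) := by ring
    rw [h2]
    exact theta_eq_of_sub_mem_Jd P d hd m e _ _ (prodP_todd_sub_mem_Jd m d)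

end Groth.Agent.H86.KG
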