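import Groth.Agent.H86.KG1

/-!
# The associated graded ring `GrZ = rees/(t)`: classes and coefficient maps
-/

set_option autoImplicit false

namespace Groth.Agent.H86.KG

open LambdaRing LaurentPolynomial

universe v

variable {K : Type v} [CommRing K] [LambdaOps K] (P : PosStructure K)

/-- the element `x t^{-n}` of the Rees ring, for `x ∈ F^n` -/
noncomputable def reesElt (n : ℕ) (x : K) (hx : x ∈ gammaFiltration P n) : KGr.rees P :=
  ⟨C x * T (-(n : ℤ)), C_mul_T_mem_rees P (by rwa [Fz_neg_natCast])⟩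

theorem reesElt_val (n : ℕ) (x : K) (hx : x ∈ gammaFiltration P n) :
    (reesElt P n x hx : LaurentPolynomial K) = C x * T (-(n : ℤ)) := rfl

/-- the class of `x ∈ F^n` in degree `n` of `GrZ` -/
noncomputable def grZ (n : ℕ) : gammaFiltration P n →+ KGr.GrZ P where
  toFun x := Ideal.Quotient.mk _ (reesElt P n x x.2)
  map_zero' := by
    have : reesElt P n (0 : gammaFiltration P n) (0 : gammaFiltration P n).2 = 0 := by
      apply Subtype.ext
      simp [reesElt_val]
    rw [this, map_zero]
  map_add' x y := by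
    rw [← map_add]
    congr 1
    apply Subtype.ext
    simp [reesElt_val, add_mul]

theorem grZ_apply (n : ℕ) (x : gammaFiltration P n) :
    grZ P n x = Ideal.Quotient.mk _ (reesElt P n x x.2) := rfl

theorem grZ_mul (a b : ℕ) (x : gammaFiltration P a) (y : gammaFiltration P b) :
    grZ P a x * grZ P b y =
      grZ P (a + b) ⟨x * y, Groth.Agent.H17.mul_mem_gammaFiltration P a b x y x.2 y.2⟩ := by
  rw [grZ_apply, grZ_apply, grZ_apply, ← map_mul]
  congr 1
  apply Subtype.ext
  simp only [Subring.coe_mul, reesElt_val, map_mul]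
  rw [mul_mul_mul_comm, ← T_add]
  congr 2
  push_cast
  ring

theorem grZ_eq_zero (n : ℕ) (x : gammaFiltration P n) (hx : (x : K) ∈ gammaFiltration P (n + 1)) :
    grZ P n x = 0 := by
  rw [grZ_apply, Ideal.Quotient.eq_zero_iff_mem, Ideal.mem_span_singleton']
  refine ⟨reesElt P (n + 1) x hx, ?_⟩
  apply Subtype.ext
  simp only [Subring.coe_mul, reesElt_val, KGr.tGen]
  rw [mul_assoc, ← T_add]
  congr 2
  push_cast
  ring

theorem grZ_one : grZ P 0 ⟨1, by rw [Groth.Agent.H17.gammaFiltration_zero]; trivial⟩ = 1 := by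
  rw [grZ_apply, ← map_one (Ideal.Quotient.mk _)]
  congr 1
  apply Subtype.ext
  simp [reesElt_val]

/-- coefficient of `t^{-n}` modulo `F^{n+1}`, on the Rees ring -/
noncomputable def coeffRees (n : ℕ) : KGr.rees P →+ K ⧸ gammaFiltration P (n + 1) where
  toFun f := QuotientAddGroup.mk ((f : LaurentPolynomial K).coeff (-(n : ℤ)))
  map_zero' := by simp
  map_add' f g := by
    simp only [Subring.coe_add, AddMonoidAlgebra.coeff_add, Finsupp.add_apply]
    rfl

theorem coeffRees_apply (n : ℕ) (f : KGr.rees P) :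
    coeffRees P n f = QuotientAddGroup.mk ((f : LaurentPolynomial K).coeff (-(n : ℤ))) := rfl

theorem coeff_T_one_mul (g : LaurentPolynomial K) (i : ℤ) :
    (T 1 * g).coeff i = g.coeff (i - 1) := by
  induction g using LaurentPolynomial.induction_on' with
  | add p q hp hq =>
    rw [mul_add, AddMonoidAlgebra.coeff_add, Finsupp.add_apply, hp, hq, AddMonoidAlgebra.coeff_add,
      Finsupp.add_apply]
  | C_mul_T n a =>
    rw [T_mul, mul_T_assoc, coeff_C_mul_T, coeff_C_mul_T]
    congr 1
    apply propext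
    constructor <;> intro h <;> omega

theorem coeffRees_span (n : ℕ) (f : KGr.rees P) (hf : f ∈ Ideal.span {KGr.tGen P}) :
    coeffRees P n f = 0 := by
  rw [Ideal.mem_span_singleton'] at hf
  obtain ⟨g, rfl⟩ := hf
  rw [coeffRees_apply, QuotientAddGroup.eq_zero_iff, Subring.coe_mul, mul_comm]
  show (T 1 * (g : LaurentPolynomial K)).coeff (-(n : ℤ)) ∈ _
  rw [coeff_T_one_mul]
  have := (mem_rees_iff P _).mp g.2 (-(n : ℤ) - 1)
  rw [Fz] at this
  convert this using 2
  omega

/-- coefficient of `t^{-n}` modulo `F^{n+1}`, on `GrZ` -/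
noncomputable def piZ (n : ℕ) : KGr.GrZ P →+ K ⧸ gammaFiltration P (n + 1) :=
  QuotientAddGroup.lift (Ideal.span {KGr.tGen P}).toAddSubgroup (coeffRees P n)
    (fun f hf => coeffRees_span P n f hf)

theorem piZ_mk (n : ℕ) (f : KGr.rees P) :
    piZ P n (Ideal.Quotient.mk _ f) = coeffRees P n f := rfl

theorem piZ_grZ (n m : ℕ) (x : gammaFiltration P m) :
    piZ P n (grZ P m x) = if m = n then QuotientAddGroup.mk (x : K) else 0 := by
  rw [grZ_apply, piZ_mk, coeffRees_apply, reesElt_val, coeff_C_mul_T]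
  by_cases h : m = n
  · subst h; rw [if_pos rfl, if_pos rfl]
  · rw [if_neg h, if_neg (by omega)]; rfl

end Groth.Agent.H86.KG
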