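import Groth.Agent.H86.KG2
import Mathlib.RingTheory.Localization.BaseChange

/-!
# `ℚGr K`: classes, `grK`, Chern classes, and component maps
-/

set_option autoImplicit false

namespace Groth.Agent.H86.KG

open LambdaRing LaurentPolynomial
open scoped TensorProduct

universe v

variable {K : Type v} [CommRing K] [LambdaOps K] (P : PosStructure K)

/-- the class of `x ∈ F^n` in degree `n` of `ℚGr K` -/
noncomputable def gQ (n : ℕ) : gammaFiltration P n →+ KGr.Gr P where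
  toFun x := (1 : ℚ) ⊗ₜ[ℤ] grZ P n x
  map_zero' := by rw [map_zero, TensorProduct.tmul_zero]
  map_add' x y := by rw [map_add, TensorProduct.tmul_add]

theorem gQ_apply (n : ℕ) (x : gammaFiltration P n) : gQ P n x = (1 : ℚ) ⊗ₜ[ℤ] grZ P n x := rfl

theorem gQ_mul (a b : ℕ) (x : gammaFiltration P a) (y : gammaFiltration P b) :
    gQ P a x * gQ P b y =
      gQ P (a + b) ⟨x * y, Groth.Agent.H17.mul_mem_gammaFiltration P a b x y x.2 y.2⟩ := by
  rw [gQ_apply, gQ_apply, gQ_apply, Algebra.TensorProduct.tmul_mul_tmul, one_mul, grZ_mul]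

theorem gQ_eq_zero (n : ℕ) (x : gammaFiltration P n) (hx : (x : K) ∈ gammaFiltration P (n + 1)) :
    gQ P n x = 0 := by
  rw [gQ_apply, grZ_eq_zero P n x hx, TensorProduct.tmul_zero]

theorem gQ_one : gQ P 0 ⟨1, by rw [Groth.Agent.H17.gammaFiltration_zero]; trivial⟩ = 1 := by
  rw [gQ_apply, grZ_one]
  rfl

theorem grK_aux (n : ℕ) (x : K) (hx : x ∈ gammaFiltration P n) (N : ℕ) (hN1 : 1 ≤ N)
    (hmem : C ((N : K) * x) * T (-(n : ℤ)) ∈ KGr.rees P) :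
    ((1 : ℚ) / (N : ℚ)) ⊗ₜ[ℤ] Ideal.Quotient.mk (Ideal.span {KGr.tGen P})
      (⟨C ((N : K) * x) * T (-(n : ℤ)), hmem⟩ : KGr.rees P) = gQ P n ⟨x, hx⟩ := by
  have h1 : (⟨C ((N : K) * x) * T (-(n : ℤ)), hmem⟩ : KGr.rees P) = N • reesElt P n x hx := by
    apply Subtype.ext
    rw [nsmul_eq_mul, Subring.coe_mul, Subring.coe_natCast, reesElt_val]
    show C ((N : K) * x) * T (-(n : ℤ)) = _
    rw [map_mul, map_natCast, mul_assoc]
  rw [h1, map_nsmul, gQ_apply, grZ_apply]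
  rw [TensorProduct.tmul_smul, TensorProduct.smul_tmul', nsmul_eq_mul]
  congr 1
  have : (N : ℚ) ≠ 0 := by exact_mod_cast (by omega : N ≠ 0)
  field_simp

/-- `grK` on elements of `F^n` -/
theorem grK_eq (n : ℕ) (x : K) (hx : x ∈ gammaFiltration P n) :
    KGr.grK P (n : ℤ) x = gQ P n ⟨x, hx⟩ := by
  have hex : ∃ N : ℕ, 1 ≤ N ∧ C ((N : K) * x) * T (-(n : ℤ)) ∈ KGr.rees P := by
    refine ⟨1, le_rfl, ?_⟩
    rw [Nat.cast_one, one_mul]
    exact C_mul_T_mem_rees P (by rwa [Fz_neg_natCast])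
  unfold KGr.grK
  rw [dif_pos hex]
  exact grK_aux P n x hx _ hex.choose_spec.1 hex.choose_spec.2

theorem gamma_sub_aug_mem (i : ℕ) (x : K) :
    gamma i (x - (P.aug x : K)) ∈ gammaFiltration P i :=
  Groth.Agent.H17.gamma_mem_gammaFiltration P i _ (Groth.Agent.H17.aug_sub_aug P x)

theorem chern_eq (i : ℕ) (x : K) :
    KGr.chern P i x = gQ P i ⟨gamma i (x - (P.aug x : K)), gamma_sub_aug_mem P i x⟩ := by
  unfold KGr.chern
  exact grK_eq P i _ _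

/-- the degree `n` component map `ℚGr K → ℚ ⊗ (K/F^{n+1})` -/
noncomputable def piQ (n : ℕ) : KGr.Gr P →ₗ[ℤ] ℚ ⊗[ℤ] (K ⧸ gammaFiltration P (n + 1)) :=
  LinearMap.lTensor ℚ (piZ P n).toIntLinearMap

theorem piQ_tmul (n : ℕ) (q : ℚ) (z : KGr.GrZ P) :
    piQ P n (q ⊗ₜ[ℤ] z) = q ⊗ₜ[ℤ] piZ P n z := rfl

theorem piQ_smul_gQ (n m : ℕ) (q : ℚ) (x : gammaFiltration P m) :
    piQ P n (q • gQ P m x) =
      if m = n then q ⊗ₜ[ℤ] (QuotientAddGroup.mk (x : K) : K ⧸ gammaFiltration P (n + 1)) else 0 := by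
  rw [gQ_apply, TensorProduct.smul_tmul', smul_eq_mul, mul_one, piQ_tmul, piZ_grZ]
  split_ifs
  · rfl
  · rw [TensorProduct.tmul_zero]

/-- a pure tensor `q ⊗ a`, `q ≠ 0`, vanishes in `ℚ ⊗ A` only if `a` is torsion -/
theorem exists_nsmul_eq_zero_of_tmul_eq_zero {A : Type*} [AddCommGroup A] (q : ℚ) (hq : q ≠ 0)
    (a : A) (h : q ⊗ₜ[ℤ] a = 0) : ∃ M : ℕ, 1 ≤ M ∧ M • a = 0 := by
  have h1 : (1 : ℚ) ⊗ₜ[ℤ] a = 0 := by
    have := congrArg (fun z => q⁻¹ • z) h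
    simp only [TensorProduct.smul_tmul', smul_eq_mul, inv_mul_cancel₀ hq, smul_zero] at this
    exact this
  have h2 : TensorProduct.mk ℤ ℚ A 1 a = 0 := h1
  rw [IsLocalizedModule.eq_zero_iff (nonZeroDivisors ℤ)] at h2
  obtain ⟨⟨s, hs⟩, hsa⟩ := h2
  have hs0 : s ≠ 0 := nonZeroDivisors.ne_zero hs
  refine ⟨s.natAbs, Int.natAbs_pos.mpr hs0, ?_⟩
  have h3 : s • a = 0 := hsa
  rcases Int.natAbs_eq s with h | h
  · rw [h, natCast_zsmul] at h3; exact h3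
  · rw [h, neg_smul, natCast_zsmul, neg_eq_zero] at h3; exact h3

end Groth.Agent.H86.KG
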