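import Groth.Agent.H86.KG3

/-!
# Newton power sums `p_k` of the γ-operations
-/

set_option autoImplicit false

namespace Groth.Agent.H86.KG

open LambdaRing PowerSeries Finset

universe v

section DLog

variable {K : Type v} [CommRing K]

/-- logarithmic derivative of a power series with constant coefficient `1` -/
noncomputable def dlog (E : K⟦X⟧) : K⟦X⟧ := derivative K E * E.invOfUnit 1

theorem mul_invOfUnit_one (E : K⟦X⟧) (hE : constantCoeff E = 1) : E * E.invOfUnit 1 = 1 :=
  mul_invOfUnit _ _ (by simp [hE])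

theorem invOfUnit_mul (E F : K⟦X⟧) (hE : constantCoeff E = 1) (hF : constantCoeff F = 1) :
    (E * F).invOfUnit 1 = E.invOfUnit 1 * F.invOfUnit 1 := by
  have hEF : constantCoeff (E * F) = 1 := by rw [map_mul, hE, hF, one_mul]
  have h1 := mul_invOfUnit_one (E * F) hEF
  have h2 : (E * F) * (E.invOfUnit 1 * F.invOfUnit 1) = 1 := by
    calc (E * F) * (E.invOfUnit 1 * F.invOfUnit 1)
        = (E * E.invOfUnit 1) * (F * F.invOfUnit 1) := by ring
      _ = 1 := by rw [mul_invOfUnit_one E hE, mul_invOfUnit_one F hF, one_mul]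
  calc (E * F).invOfUnit 1 = (E * F).invOfUnit 1 * ((E * F) * (E.invOfUnit 1 * F.invOfUnit 1)) := by
        rw [h2, mul_one]
    _ = ((E * F) * (E * F).invOfUnit 1) * (E.invOfUnit 1 * F.invOfUnit 1) := by ring
    _ = _ := by rw [h1, one_mul]

theorem dlog_mul (E F : K⟦X⟧) (hE : constantCoeff E = 1) (hF : constantCoeff F = 1) :
    dlog (E * F) = dlog E + dlog F := by
  unfold dlog
  rw [invOfUnit_mul E F hE hF, Derivation.leibniz]
  simp only [smul_eq_mul]
  calc (E * derivative K F + F * derivative K E) * (E.invOfUnit 1 * F.invOfUnit 1)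
      = (E * E.invOfUnit 1) * (derivative K F * F.invOfUnit 1) +
        (F * F.invOfUnit 1) * (derivative K E * E.invOfUnit 1) := by ring
    _ = _ := by rw [mul_invOfUnit_one E hE, mul_invOfUnit_one F hF]; ring

theorem dlog_mul_self (E : K⟦X⟧) (hE : constantCoeff E = 1) : dlog E * E = derivative K E := by
  unfold dlog
  rw [mul_assoc, mul_comm (E.invOfUnit 1), mul_invOfUnit_one E hE, mul_one]

theorem invOfUnit_one_add (v : K) : (1 + C v * X : K⟦X⟧).invOfUnit 1 = mk fun n => (-v) ^ n := by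
  have h1 : constantCoeff (1 + C v * X : K⟦X⟧) = 1 := by simp
  have h2 : (1 + C v * X : K⟦X⟧) * (mk fun n => (-v) ^ n) = 1 := by
    have := Groth.Agent.H17.one_sub_mul_mk_pow (-v)
    rwa [map_neg, neg_mul, sub_neg_eq_add] at this
  calc (1 + C v * X : K⟦X⟧).invOfUnit 1
      = (1 + C v * X : K⟦X⟧).invOfUnit 1 * ((1 + C v * X : K⟦X⟧) * (mk fun n => (-v) ^ n)) := by
        rw [h2, mul_one]
    _ = ((1 + C v * X : K⟦X⟧) * (1 + C v * X : K⟦X⟧).invOfUnit 1) * (mk fun n => (-v) ^ n) := by
        ring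
    _ = _ := by rw [mul_invOfUnit_one _ h1, one_mul]

theorem coeff_X_mul_dlog_one_add (v : K) (k : ℕ) :
    coeff (k + 1) (X * dlog (1 + C v * X : K⟦X⟧)) = v * (-v) ^ k := by
  rw [coeff_succ_X_mul, dlog, invOfUnit_one_add]
  have : derivative K (1 + C v * X : K⟦X⟧) = C v := by
    rw [map_add, Derivation.map_one_eq_zero, zero_add, Derivation.leibniz, derivative_C,
      derivative_X]
    simp
  rw [this, coeff_C_mul, coeff_mk]

end DLog

variable {K : Type v} [CommRing K] [LambdaOps K]

theorem constantCoeff_gammaSeries (y : K) : constantCoeff (Groth.Agent.H17.gammaSeries y) = 1 := by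
  rw [← coeff_zero_eq_constantCoeff_apply, Groth.Agent.H17.coeff_gammaSeries]
  simp [gamma]

/-- the `k`-th Newton power sum of the γ-operations of `y` (for `k ≥ 1`) -/
noncomputable def pk (k : ℕ) (y : K) : K :=
  (-1) ^ (k + 1) * coeff k (X * dlog (Groth.Agent.H17.gammaSeries y))

theorem pk_add (k : ℕ) (x y : K) : pk k (x + y) = pk k x + pk k y := by
  unfold pk
  rw [Groth.Agent.H17.gammaSeries_add,
    dlog_mul _ _ (constantCoeff_gammaSeries x) (constantCoeff_gammaSeries y), mul_add, map_add,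
    mul_add]

theorem pk_zero_right (k : ℕ) : pk k (0 : K) = 0 := by
  have := pk_add k (0 : K) 0
  rw [add_zero] at this
  exact left_eq_add.mp this

theorem pk_neg (k : ℕ) (x : K) : pk k (-x) = -pk k x := by
  have := pk_add k x (-x)
  rw [add_neg_cancel, pk_zero_right] at this
  exact (neg_eq_of_add_eq_zero_right this.symm).symm

theorem pk_sub (k : ℕ) (x y : K) : pk k (x - y) = pk k x - pk k y := by
  rw [sub_eq_add_neg, pk_add, pk_neg, sub_eq_add_neg]

/-- `p_k` as an additive map -/
noncomputable def pkHom (k : ℕ) : K →+ K where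
  toFun := pk k
  map_zero' := pk_zero_right k
  map_add' := pk_add k

theorem pk_finset_sum {ι : Type*} (s : Finset ι) (a : ι → K) (k : ℕ) :
    pk k (∑ i ∈ s, a i) = ∑ i ∈ s, pk k (a i) :=
  map_sum (pkHom k) a s

theorem pk_line_sub_one (P : PosStructure K) (u : K) (hu : P.IsLine u) (k : ℕ) (hk : 1 ≤ k) :
    pk k (u - 1) = (u - 1) ^ k := by
  obtain ⟨k, rfl⟩ := Nat.exists_eq_add_of_le' hk
  rw [pk, Groth.Agent.H17.gammaSeries_line_sub_one P u hu, coeff_X_mul_dlog_one_add]
  rw [neg_pow (u - 1) k, pow_succ (u - 1) k]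
  have : (-1 : K) ^ (k + 1 + 1) * ((u - 1) * ((-1) ^ k * (u - 1) ^ k)) =
      ((-1 : K) ^ k * (-1) ^ k) * ((u - 1) ^ k * (u - 1)) := by ring
  rw [this, ← mul_pow, neg_one_mul, neg_neg, one_pow, one_mul]

/-- Newton's identity for the γ-operations, in the same shape as Mathlib's `mul_esymm_eq_sum` -/
theorem mul_gamma_eq_sum (k : ℕ) (y : K) :
    (k : K) * gamma k y = (-1) ^ (k + 1) *
      ∑ a ∈ antidiagonal k with a.1 < k, (-1) ^ a.1 * gamma a.1 y * pk a.2 y := by
  set E := Groth.Agent.H17.gammaSeries y with hE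
  have h1 : X * derivative K E = E * (X * dlog E) := by
    rw [← dlog_mul_self E (constantCoeff_gammaSeries y)]; ring
  have h2 := congrArg (coeff k) h1
  rw [coeff_mul k E] at h2
  have hl : coeff k (X * derivative K E) = (k : K) * gamma k y := by
    rcases k with _ | k
    · simp
    · rw [coeff_succ_X_mul, coeff_derivative, hE, Groth.Agent.H17.coeff_gammaSeries]
      push_cast
      ring
  rw [hl] at h2
  rw [h2, Finset.mul_sum, Finset.sum_filter]
  refine Finset.sum_congr rfl fun a ha => ?_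
  rw [Finset.mem_antidiagonal] at ha
  split_ifs with hlt
  · rw [hE, Groth.Agent.H17.coeff_gammaSeries, pk]
    have hpar : (-1 : K) ^ (k + 1) * ((-1) ^ a.1 * gamma a.1 y *
        ((-1) ^ (a.2 + 1) * coeff a.2 (X * dlog (Groth.Agent.H17.gammaSeries y)))) =
        ((-1 : K) ^ (k + 1) * (-1) ^ a.1 * (-1) ^ (a.2 + 1)) *
          (gamma a.1 y * coeff a.2 (X * dlog (Groth.Agent.H17.gammaSeries y))) := by ring
    rw [hpar, ← pow_add, ← pow_add]
    have : Even (k + 1 + a.1 + (a.2 + 1)) := ⟨k + 1, by omega⟩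
    rw [this.neg_one_pow, one_mul]
  · have ha2 : a.2 = 0 := by omega
    rw [ha2]
    simp

end Groth.Agent.H86.KG
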