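import Groth.Agent.H86.KG4

/-!
# Newton recursions: uniqueness and filtration membership; `grK` on `F^n`
-/

set_option autoImplicit false

namespace Groth.Agent.H86.KG

open LambdaRing Finset
open scoped TensorProduct

universe v

section Newton

variable {S : Type*} [CommRing S]

/-- the right-hand side of Newton's recursion -/
def newtonRHS (e p : ℕ → S) (k : ℕ) : S :=
  (-1) ^ (k + 1) * ∑ a ∈ antidiagonal k with a.1 < k, (-1) ^ a.1 * e a.1 * p a.2

theorem zero_k_mem (k : ℕ) (hk : 1 ≤ k) :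
    ((0, k) : ℕ × ℕ) ∈ (antidiagonal k).filter (fun a => a.1 < k) := by
  rw [Finset.mem_filter, Finset.mem_antidiagonal]
  exact ⟨by simp, by show 0 < k; omega⟩

theorem newton_unique (e p p' : ℕ → S) (he0 : e 0 = 1)
    (h : ∀ k, newtonRHS e p k = newtonRHS e p' k) (k : ℕ) (hk : 1 ≤ k) : p k = p' k := by
  induction k using Nat.strong_induction_on with
  | _ k ih =>
    have h1 := h k
    unfold newtonRHS at h1
    have h2 : ∑ a ∈ antidiagonal k with a.1 < k, (-1 : S) ^ a.1 * e a.1 * (p a.2 - p' a.2) = 0 := by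
      have h3 := congrArg (fun z => (-1 : S) ^ (k + 1) * z) h1
      simp only [← mul_assoc, ← pow_add, Even.neg_one_pow ⟨k + 1, rfl⟩, one_mul] at h3
      simp only [mul_sub, Finset.sum_sub_distrib, h3, sub_self]
    rw [Finset.sum_eq_single_of_mem (0, k) (zero_k_mem k hk)] at h2
    · simp only [pow_zero, he0, one_mul] at h2
      exact sub_eq_zero.mp h2
    · intro a ha hne
      rw [Finset.mem_filter, Finset.mem_antidiagonal] at ha
      have ha1 : a.1 ≠ 0 := by
        intro h0
        apply hne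
        ext
        · exact h0
        · simp only; omega
      rw [ih a.2 (by omega) (by omega), sub_self, mul_zero]

/-- solving Newton's recursion for `p k` -/
theorem newton_solve (e p : ℕ → S) (he0 : e 0 = 1) (k : ℕ) (hk : 1 ≤ k)
    (h : (k : S) * e k = newtonRHS e p k) :
    p k = (-1) ^ (k + 1) * ((k : S) * e k) -
      ∑ a ∈ ((antidiagonal k).filter (fun a => a.1 < k)).erase (0, k),
        (-1) ^ a.1 * e a.1 * p a.2 := by
  rw [h, newtonRHS, ← mul_assoc, ← pow_add, Even.neg_one_pow ⟨k + 1, rfl⟩, one_mul,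
    ← Finset.add_sum_erase _ _ (zero_k_mem k hk)]
  simp [he0]

end Newton

variable {K : Type v} [CommRing K] [LambdaOps K] (P : PosStructure K)

theorem pk_mem (y : K) (hy : P.aug y = 0) (k : ℕ) (hk : 1 ≤ k) :
    pk k y ∈ gammaFiltration P k := by
  induction k using Nat.strong_induction_on with
  | _ k ih =>
    have hg0 : gamma 0 y = 1 := by simp [gamma]
    rw [newton_solve (fun i => gamma i y) (fun i => pk i y) hg0 k hk (mul_gamma_eq_sum k y)]
    apply sub_mem
    · have h1 := Groth.Agent.H17.gamma_mem_gammaFiltration P k y hy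
      have h2 : (-1 : K) ^ (k + 1) * ((k : K) * gamma k y) =
          (((-1) ^ (k + 1) * (k : ℤ) : ℤ)) • gamma k y := by
        rw [zsmul_eq_mul]; push_cast; ring
      rw [h2]
      exact AddSubgroup.zsmul_mem _ h1 _
    · refine AddSubgroup.sum_mem _ fun a ha => ?_
      rw [Finset.mem_erase, Finset.mem_filter, Finset.mem_antidiagonal] at ha
      obtain ⟨hne, hsum, hlt⟩ := ha
      have ha1 : a.1 ≠ 0 := by
        intro h0
        apply hne
        ext
        · exact h0
        · simp only; omega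
      have h1 := Groth.Agent.H17.gamma_mem_gammaFiltration P a.1 y hy
      have h2 := ih a.2 (by omega) (by omega)
      have h3 := Groth.Agent.H17.mul_mem_gammaFiltration P a.1 a.2 _ _ h1 h2
      rw [hsum] at h3
      have h4 : (-1 : K) ^ a.1 * gamma a.1 y * pk a.2 y =
          (((-1) ^ a.1 : ℤ)) • (gamma a.1 y * pk a.2 y) := by
        rw [zsmul_eq_mul]; push_cast; ring
      rw [h4]
      exact AddSubgroup.zsmul_mem _ h3 _

/-! ### `grK` restricted to `F^n` -/

theorem grK_add (n : ℕ) {x y : K} (hx : x ∈ gammaFiltration P n) (hy : y ∈ gammaFiltration P n) :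
    KGr.grK P (n : ℤ) (x + y) = KGr.grK P (n : ℤ) x + KGr.grK P (n : ℤ) y := by
  rw [grK_eq P n x hx, grK_eq P n y hy, grK_eq P n (x + y) (add_mem hx hy), ← map_add]
  rfl

theorem grK_zero (n : ℕ) : KGr.grK P (n : ℤ) (0 : K) = 0 := by
  rw [grK_eq P n 0 (zero_mem _)]
  exact map_zero (gQ P n)

theorem grK_zsmul (n : ℕ) (m : ℤ) {x : K} (hx : x ∈ gammaFiltration P n) :
    KGr.grK P (n : ℤ) (m • x) = m • KGr.grK P (n : ℤ) x := by
  rw [grK_eq P n x hx, grK_eq P n (m • x) (AddSubgroup.zsmul_mem _ hx m), ← map_zsmul]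
  rfl

theorem grK_neg (n : ℕ) {x : K} (hx : x ∈ gammaFiltration P n) :
    KGr.grK P (n : ℤ) (-x) = -KGr.grK P (n : ℤ) x := by
  have := grK_zsmul P n (-1) hx
  simpa using this

theorem grK_sub (n : ℕ) {x y : K} (hx : x ∈ gammaFiltration P n) (hy : y ∈ gammaFiltration P n) :
    KGr.grK P (n : ℤ) (x - y) = KGr.grK P (n : ℤ) x - KGr.grK P (n : ℤ) y := by
  rw [sub_eq_add_neg, grK_add P n hx (neg_mem hy), grK_neg P n hy, sub_eq_add_neg]

theorem grK_sum (n : ℕ) {ι : Type*} (s : Finset ι) (x : ι → K)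
    (hx : ∀ i ∈ s, x i ∈ gammaFiltration P n) :
    KGr.grK P (n : ℤ) (∑ i ∈ s, x i) = ∑ i ∈ s, KGr.grK P (n : ℤ) (x i) := by
  classical
  induction s using Finset.induction_on with
  | empty => simp [grK_zero]
  | insert i s hi ih =>
    rw [Finset.sum_insert hi, Finset.sum_insert hi,
      grK_add P n (hx i (Finset.mem_insert_self i s))
        (AddSubgroup.sum_mem _ fun j hj => hx j (Finset.mem_insert_of_mem hj)),
      ih fun j hj => hx j (Finset.mem_insert_of_mem hj)]

theorem grK_mul (a b : ℕ) {x y : K} (hx : x ∈ gammaFiltration P a) (hy : y ∈ gammaFiltration P b) :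
    KGr.grK P ((a + b : ℕ) : ℤ) (x * y) = KGr.grK P (a : ℤ) x * KGr.grK P (b : ℤ) y := by
  rw [grK_eq P a x hx, grK_eq P b y hy,
    grK_eq P (a + b) (x * y) (Groth.Agent.H17.mul_mem_gammaFiltration P a b x y hx hy), gQ_mul]

theorem grK_eq_zero_of_mem (n : ℕ) {x : K} (hx : x ∈ gammaFiltration P (n + 1)) :
    KGr.grK P (n : ℤ) x = 0 := by
  rw [grK_eq P n x (Groth.Agent.H17.gammaFiltration_antitone P (Nat.le_succ n) hx)]
  exact gQ_eq_zero P n _ hx

theorem grK_zero_one : KGr.grK P ((0 : ℕ) : ℤ) (1 : K) = 1 := by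
  rw [grK_eq P 0 1 (by rw [Groth.Agent.H17.gammaFiltration_zero]; trivial)]
  exact gQ_one P

end Groth.Agent.H86.KG
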