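import Groth.Agent.H86.KG5
import Mathlib.RingTheory.MvPolynomial.Symmetric.NewtonIdentities

/-!
# The Chern character in terms of the Newton power sums `p_k`
-/

set_option autoImplicit false

namespace Groth.Agent.H86.KG

open LambdaRing Finset MvPolynomial
open scoped TensorProduct

universe v

section Univ

variable (d : ℕ)

/-- the inverse of the fundamental isomorphism -/
noncomputable abbrev esInv : symmetricSubalgebra (Fin d) ℚ ≃ₐ[ℚ] MvPolynomial (Fin d) ℚ :=
  (esymmAlgEquiv (Fin d) ℚ (Fintype.card_fin d)).symm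

/-- Newton polynomial: `p_k` in terms of `e_1, …, e_d` -/
noncomputable def newt (k : ℕ) : MvPolynomial (Fin d) ℚ :=
  esInv d ⟨psum (Fin d) ℚ k, psum_isSymmetric _ _ k⟩

/-- `e_i` in terms of `e_1, …, e_d` -/
noncomputable def esy (i : ℕ) : MvPolynomial (Fin d) ℚ :=
  esInv d ⟨esymm (Fin d) ℚ i, esymm_isSymmetric _ _ i⟩

theorem esy_zero : esy d 0 = 1 := by
  unfold esy
  have : (⟨esymm (Fin d) ℚ 0, esymm_isSymmetric _ _ 0⟩ : symmetricSubalgebra (Fin d) ℚ) = 1 := by
    apply Subtype.ext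
    simp [esymm_zero]
  rw [this, map_one]

theorem esy_succ (i : Fin d) : esy d ((i : ℕ) + 1) = X i :=
  esymmAlgEquiv_symm_apply ℚ (Fintype.card_fin d) i

theorem esy_of_gt (i : ℕ) (hi : d < i) : esy d i = 0 := by
  unfold esy
  have : (⟨esymm (Fin d) ℚ i, esymm_isSymmetric _ _ i⟩ : symmetricSubalgebra (Fin d) ℚ) = 0 := by
    apply Subtype.ext
    show esymm (Fin d) ℚ i = 0
    rw [esymm, Finset.powersetCard_eq_empty.mpr (by simpa using hi), Finset.sum_empty]
  rw [this, map_zero]

theorem newt_zero : newt d 0 = (d : MvPolynomial (Fin d) ℚ) := by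
  unfold newt
  have : (⟨psum (Fin d) ℚ 0, psum_isSymmetric _ _ 0⟩ : symmetricSubalgebra (Fin d) ℚ) =
      ((d : ℕ) : symmetricSubalgebra (Fin d) ℚ) := by
    apply Subtype.ext
    simp [psum_zero]
  rw [this, map_natCast]

/-- Newton's recursion in terms of `e_1, …, e_d` -/
theorem esy_newt_rec (k : ℕ) :
    (k : MvPolynomial (Fin d) ℚ) * esy d k = newtonRHS (esy d) (newt d) k := by
  have h : ((k : ℕ) : symmetricSubalgebra (Fin d) ℚ) *
      ⟨esymm (Fin d) ℚ k, esymm_isSymmetric _ _ k⟩ =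
      (-1) ^ (k + 1) * ∑ a ∈ antidiagonal k with a.1 < k, (-1) ^ a.1 *
        (⟨esymm (Fin d) ℚ a.1, esymm_isSymmetric _ _ a.1⟩ : symmetricSubalgebra (Fin d) ℚ) *
        ⟨psum (Fin d) ℚ a.2, psum_isSymmetric _ _ a.2⟩ := by
    apply Subtype.ext
    simp only [MulMemClass.coe_mul, SubringClass.coe_natCast, SubmonoidClass.coe_pow,
      NegMemClass.coe_neg, OneMemClass.coe_one, AddSubmonoidClass.coe_finsetSum]
    exact mul_esymm_eq_sum (Fin d) ℚ k
  have h2 := congrArg (esInv d) h
  simp only [map_mul, map_natCast, map_pow, map_neg, map_one, map_sum] at h2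
  exact h2

/-- the Chern character polynomial in terms of Newton polynomials -/
theorem chPoly_eq : KGr.chPoly d =
    ∑ k ∈ range (d + 1), ((1 : ℚ) / (Nat.factorial k : ℚ)) • newt d k := by
  have hsub : (⟨∑ i : Fin d, Polynomial.aeval (X i : MvPolynomial (Fin d) ℚ) (KGr.expTrunc d),
      KGr.isSymmetric_sum_aeval d (KGr.expTrunc d)⟩ : symmetricSubalgebra (Fin d) ℚ) =
      ∑ k ∈ range (d + 1), ((1 : ℚ) / (Nat.factorial k : ℚ)) •
        (⟨psum (Fin d) ℚ k, psum_isSymmetric _ _ k⟩ : symmetricSubalgebra (Fin d) ℚ) := by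
    apply Subtype.ext
    simp only [AddSubmonoidClass.coe_finsetSum, SetLike.val_smul]
    unfold KGr.expTrunc
    simp only [map_sum, map_mul, Polynomial.aeval_C, map_pow, Polynomial.aeval_X]
    rw [Finset.sum_comm]
    refine Finset.sum_congr rfl fun k _ => ?_
    rw [psum, Finset.smul_sum]
    refine Finset.sum_congr rfl fun i _ => ?_
    rw [Algebra.smul_def]
  unfold KGr.chPoly
  rw [hsub, map_sum]
  refine Finset.sum_congr rfl fun k _ => ?_
  rw [map_smul]
  rfl

end Univ

theorem map_newtonRHS {S T : Type*} [CommRing S] [CommRing T] (f : S →+* T) (e p : ℕ → S) (k : ℕ) :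
    f (newtonRHS e p k) = newtonRHS (fun i => f (e i)) (fun i => f (p i)) k := by
  unfold newtonRHS
  rw [map_mul, map_pow, map_neg, map_one, map_sum]
  congr 1
  refine Finset.sum_congr rfl fun a _ => ?_
  rw [map_mul, map_mul, map_pow, map_neg, map_one]

variable {K : Type v} [CommRing K] [LambdaOps K] (P : PosStructure K)

theorem grK_newtonRHS (k : ℕ) (e p : ℕ → K) (he : ∀ i, e i ∈ gammaFiltration P i)
    (hp : ∀ i, 1 ≤ i → p i ∈ gammaFiltration P i) :
    KGr.grK P (k : ℤ) (newtonRHS e p k) =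
      newtonRHS (fun i => KGr.grK P (i : ℤ) (e i)) (fun i => KGr.grK P (i : ℤ) (p i)) k := by
  unfold newtonRHS
  have hterm : ∀ a ∈ (antidiagonal k).filter (fun a => a.1 < k),
      e a.1 * p a.2 ∈ gammaFiltration P k := by
    intro a ha
    rw [Finset.mem_filter, Finset.mem_antidiagonal] at ha
    have := Groth.Agent.H17.mul_mem_gammaFiltration P a.1 a.2 _ _ (he a.1) (hp a.2 (by omega))
    rwa [ha.1] at this
  have hterm' : ∀ a ∈ (antidiagonal k).filter (fun a => a.1 < k),
      (-1 : K) ^ a.1 * e a.1 * p a.2 = (((-1) ^ a.1 : ℤ)) • (e a.1 * p a.2) := by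
    intro a _
    rw [zsmul_eq_mul]; push_cast; ring
  have h1 : (-1 : K) ^ (k + 1) * ∑ a ∈ antidiagonal k with a.1 < k, (-1) ^ a.1 * e a.1 * p a.2 =
      (((-1) ^ (k + 1) : ℤ)) • ∑ a ∈ antidiagonal k with a.1 < k, (-1) ^ a.1 * e a.1 * p a.2 := by
    rw [zsmul_eq_mul]; push_cast; ring
  rw [h1, grK_zsmul P k _ (AddSubgroup.sum_mem _ fun a ha => by
      rw [hterm' a ha]; exact AddSubgroup.zsmul_mem _ (hterm a ha) _),
    grK_sum P k _ _ (fun a ha => by
      rw [hterm' a ha]; exact AddSubgroup.zsmul_mem _ (hterm a ha) _), zsmul_eq_mul]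
  push_cast
  congr 1
  refine Finset.sum_congr rfl fun a ha => ?_
  rw [hterm' a ha, grK_zsmul P k _ (hterm a ha), zsmul_eq_mul]
  rw [Finset.mem_filter, Finset.mem_antidiagonal] at ha
  have h2 := grK_mul P a.1 a.2 (he a.1) (hp a.2 (by omega))
  rw [ha.1] at h2
  rw [h2]
  push_cast
  ring

variable (d : ℕ) (x : K)

/-- the evaluation point `(c^1(x), …, c^d(x))` -/
noncomputable def cpt : Fin d → KGr.Gr P := fun i => KGr.chern P ((i : ℕ) + 1) x

theorem chern_zero : KGr.chern P 0 x = 1 := by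
  unfold KGr.chern
  have : gamma 0 (x - (P.aug x : K)) = 1 := by simp [gamma]
  rw [this]
  exact grK_zero_one P

theorem chern_of_gt (hd : gammaFiltration P (d + 1) = ⊥) (i : ℕ) (hi : d < i) :
    KGr.chern P i x = 0 := by
  unfold KGr.chern
  have h1 := gamma_sub_aug_mem P i x
  have h2 := Groth.Agent.H17.gammaFiltration_antitone P (show d + 1 ≤ i by omega) h1
  rw [hd, AddSubgroup.mem_bot] at h2
  rw [h2]
  exact grK_zero P i

theorem aeval_esy (hd : gammaFiltration P (d + 1) = ⊥) (i : ℕ) :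
    aeval (cpt P d x) (esy d i) = KGr.chern P i x := by
  rcases Nat.eq_zero_or_pos i with rfl | hi
  · rw [esy_zero, map_one, chern_zero]
  · rcases le_or_gt i d with hle | hgt
    · obtain ⟨j, rfl⟩ := Nat.exists_eq_add_of_le' hi
      have := esy_succ d ⟨j, by omega⟩
      simp only at this
      rw [this, aeval_X]
      rfl
    · rw [esy_of_gt d i hgt, map_zero, chern_of_gt P d x hd i hgt]

theorem chern_rec (k : ℕ) :
    (k : KGr.Gr P) * KGr.chern P k x =
      newtonRHS (fun i => KGr.chern P i x)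
        (fun i => KGr.grK P (i : ℤ) (pk i (x - (P.aug x : K)))) k := by
  have hy : P.aug (x - (P.aug x : K)) = 0 := Groth.Agent.H17.aug_sub_aug P x
  have h := congrArg (KGr.grK P (k : ℤ)) (mul_gamma_eq_sum k (x - (P.aug x : K)))
  have h1 : (k : K) * gamma k (x - (P.aug x : K)) = ((k : ℕ) : ℤ) • gamma k (x - (P.aug x : K)) := by
    rw [zsmul_eq_mul]; push_cast; ring
  rw [h1, grK_zsmul P k _ (gamma_sub_aug_mem P k x), zsmul_eq_mul] at h
  have h2 := grK_newtonRHS P k (fun i => gamma i (x - (P.aug x : K)))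
    (fun i => pk i (x - (P.aug x : K))) (fun i => gamma_sub_aug_mem P i x)
    (fun i hi => pk_mem P _ hy i hi)
  rw [newtonRHS] at h2
  rw [h2] at h
  push_cast at h
  exact h

/-- the Newton polynomials evaluated at the Chern classes are the classes of the `p_k` -/
theorem aeval_newt (hd : gammaFiltration P (d + 1) = ⊥) (k : ℕ) (hk : 1 ≤ k) :
    aeval (cpt P d x) (newt d k) = KGr.grK P (k : ℤ) (pk k (x - (P.aug x : K))) := by
  refine newton_unique (fun i => KGr.chern P i x) (fun i => aeval (cpt P d x) (newt d i))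
    (fun i => KGr.grK P (i : ℤ) (pk i (x - (P.aug x : K)))) (chern_zero P x) ?_ k hk
  intro k
  rw [← chern_rec P x k]
  have h := congrArg (aeval (cpt P d x)) (esy_newt_rec d k)
  rw [map_mul, map_natCast, aeval_esy P d x hd] at h
  rw [h]
  have h2 : aeval (cpt P d x) (newtonRHS (esy d) (newt d) k) =
      newtonRHS (fun i => aeval (cpt P d x) (esy d i)) (fun i => aeval (cpt P d x) (newt d i)) k := by
    unfold newtonRHS
    simp only [map_mul, map_pow, map_neg, map_one, map_sum]
  rw [h2]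
  simp only [aeval_esy P d x hd]

/-- **The Chern character in terms of the `p_k`.** -/
theorem chK_eq (hd : gammaFiltration P (d + 1) = ⊥) :
    KGr.chK P d x = algebraMap ℚ (KGr.Gr P) (P.aug x : ℚ) +
      ∑ k ∈ range d, ((1 : ℚ) / (Nat.factorial (k + 1) : ℚ)) •
        KGr.grK P ((k + 1 : ℕ) : ℤ) (pk (k + 1) (x - (P.aug x : K))) := by
  unfold KGr.chK
  have h0 : (fun i : Fin d => KGr.chern P (i.1 + 1) x) = cpt P d x := rfl
  rw [h0, chPoly_eq, map_sum, Finset.sum_range_succ', newt_zero]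
  simp only [map_smul]
  rw [map_natCast, Nat.factorial_zero, Nat.cast_one, div_one, one_smul, map_sub, map_natCast]
  have : ∀ k ∈ range d, ((1 : ℚ) / (Nat.factorial (k + 1) : ℚ)) •
      aeval (cpt P d x) (newt d (k + 1)) = ((1 : ℚ) / (Nat.factorial (k + 1) : ℚ)) •
        KGr.grK P ((k + 1 : ℕ) : ℤ) (pk (k + 1) (x - (P.aug x : K))) := by
    intro k _
    rw [aeval_newt P d x hd (k + 1) (by omega)]
  rw [Finset.sum_congr rfl this]
  ring

end Groth.Agent.H86.KG
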