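import Groth.Agent.H86.KG6
import Groth.Agent.H17.LambdaSplit
import Groth.Agent.H17.AdamsGamma
import Groth.Agent.H17.LambdaAug

/-!
# `p_k` as the binomial transform of the Adams operations
-/

set_option autoImplicit false

namespace Groth.Agent.H86.KG

open LambdaRing PowerSeries Finset

universe v

section Map

variable {K K' : Type v} [CommRing K] [CommRing K']

theorem map_invOfUnit_one (f : K →+* K') (E : K⟦X⟧) (hE : constantCoeff E = 1) :
    (E.invOfUnit 1).map f = (E.map f).invOfUnit 1 := by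
  have hE' : constantCoeff (E.map f) = 1 := by
    rw [← coeff_zero_eq_constantCoeff_apply, coeff_map, coeff_zero_eq_constantCoeff_apply, hE,
      map_one]
  have h1 : E.map f * (E.invOfUnit 1).map f = 1 := by
    rw [← map_mul, mul_invOfUnit_one E hE, map_one]
  calc (E.invOfUnit 1).map f
      = ((E.map f).invOfUnit 1 * E.map f) * (E.invOfUnit 1).map f := by
        rw [mul_comm ((E.map f).invOfUnit 1), mul_invOfUnit_one _ hE', one_mul]
    _ = (E.map f).invOfUnit 1 * (E.map f * (E.invOfUnit 1).map f) := by ring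
    _ = _ := by rw [h1, mul_one]

theorem map_dlog (f : K →+* K') (E : K⟦X⟧) (hE : constantCoeff E = 1) :
    (dlog E).map f = dlog (E.map f) := by
  unfold dlog
  rw [map_mul, map_invOfUnit_one f E hE, Groth.Agent.H17.map_derivative']

variable [LambdaOps K] [LambdaOps K']

theorem map_gammaSeries (f : K →+* K') (hf : IsLambdaHom f) (y : K) :
    (Groth.Agent.H17.gammaSeries y).map f = Groth.Agent.H17.gammaSeries (f y) := by
  ext n
  rw [coeff_map, Groth.Agent.H17.coeff_gammaSeries, Groth.Agent.H17.coeff_gammaSeries,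
    Groth.Agent.H17.map_gamma f hf]

theorem map_pk (f : K →+* K') (hf : IsLambdaHom f) (k : ℕ) (y : K) :
    f (pk k y) = pk k (f y) := by
  unfold pk
  rw [map_mul, map_pow, map_neg, map_one, ← map_gammaSeries f hf,
    ← map_dlog f _ (constantCoeff_gammaSeries y), ← coeff_map, map_mul, map_X]

end Map

variable {K : Type v} [CommRing K] [LambdaOps K] (P : PosStructure K)

/-! ### the augmentation vanishes on `F^1` -/

theorem map_aug_lamSeries_pos (hK : HasSplitting K P) (e : K) (he : e ∈ P.pos) :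
    (lamSeries e).map P.aug = (1 + X) ^ (P.aug e).toNat := by
  ext i
  rw [coeff_map, Groth.Agent.H17.coeff_lamSeries, Groth.Agent.H17.aug_lam_eq_choose P hK e he,
    Groth.Agent.H17.coeff_one_add_X_pow_int]

theorem map_aug_lamSeries_of_aug_eq_zero (hK : HasSplitting K P) (y : K) (hy : P.aug y = 0) :
    (lamSeries y).map P.aug = 1 := by
  obtain ⟨e, e', he, he', rfl⟩ := P.exists_sub y
  have hee : P.aug e = P.aug e' := by
    rw [map_sub, sub_eq_zero] at hy; exact hy
  have h1 : lamSeries e = lamSeries (e - e') * lamSeries e' := by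
    rw [← Groth.Agent.H17.lamSeries_add, sub_add_cancel]
  have h2 := congrArg (PowerSeries.map P.aug) h1
  rw [map_mul, map_aug_lamSeries_pos P hK e he, map_aug_lamSeries_pos P hK e' he', hee] at h2
  have hne : ((1 + X : ℤ⟦X⟧) ^ (P.aug e').toNat) ≠ 0 := by
    apply pow_ne_zero
    intro h0
    have := congrArg constantCoeff h0
    simp at this
  have h3 : (1 : ℤ⟦X⟧) * (1 + X) ^ (P.aug e').toNat =
      (lamSeries (e - e')).map P.aug * (1 + X) ^ (P.aug e').toNat := by
    rw [one_mul]; exact h2
  exact (mul_right_cancel₀ hne h3).symm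

theorem aug_lam_of_aug_eq_zero (hK : HasSplitting K P) (y : K) (hy : P.aug y = 0) (i : ℕ)
    (hi : 1 ≤ i) : P.aug (LambdaOps.lam i y) = 0 := by
  rw [← Groth.Agent.H17.coeff_lamSeries, ← coeff_map, map_aug_lamSeries_of_aug_eq_zero P hK y hy,
    coeff_one, if_neg (by omega)]

theorem aug_gamma_of_aug_eq_zero (hK : HasSplitting K P) (y : K) (hy : P.aug y = 0) (k : ℕ)
    (hk : 1 ≤ k) : P.aug (gamma k y) = 0 := by
  unfold gamma
  rw [if_neg (by omega), map_sum]
  refine Finset.sum_eq_zero fun j _ => ?_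
  rw [map_mul]
  split_ifs with hj
  · rw [map_zero, mul_zero]
  · rw [aug_lam_of_aug_eq_zero P hK y hy j (by omega), mul_zero]

theorem aug_list_prod_eq_zero' (hK : HasSplitting K P) (l : List (ℕ × K))
    (hl : ∀ p ∈ l, P.aug p.2 = 0) (h1 : 1 ≤ (l.map Prod.fst).sum) :
    P.aug ((l.map fun p => gamma p.1 p.2).prod) = 0 := by
  induction l with
  | nil => simp at h1
  | cons p l ih =>
    simp only [List.map_cons, List.prod_cons, List.sum_cons] at h1 ⊢
    rw [map_mul]
    by_cases hp : p.1 = 0
    · rw [ih (fun q hq => hl q (List.mem_cons_of_mem _ hq)) (by omega), mul_zero]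
    · rw [aug_gamma_of_aug_eq_zero P hK p.2 (hl p List.mem_cons_self) p.1 (by omega), zero_mul]

theorem aug_eq_zero_of_mem (hK : HasSplitting K P) (n : ℕ) (hn : 1 ≤ n) (x : K)
    (hx : x ∈ gammaFiltration P n) : P.aug x = 0 := by
  rw [Groth.Agent.H17.gammaFiltration_pos P (by omega : n ≠ 0)] at hx
  induction hx using AddSubgroup.closure_induction with
  | mem y hy =>
    obtain ⟨l, hl, hls, rfl⟩ := hy
    exact aug_list_prod_eq_zero' P hK l hl (by omega)
  | zero => exact map_zero _
  | add x y _ _ hx hy => rw [map_add, hx, hy, add_zero]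
  | neg x _ hx => rw [map_neg, hx, neg_zero]

/-! ### the binomial transform of the Adams operations -/

/-- `φ_k = Σ_m (-1)^(m+k) C(k,m) ψ^m`, i.e. `(ψ - 1)^k` umbrally -/
noncomputable def phi (k : ℕ) (y : K) : K :=
  ∑ m ∈ range (k + 1), (-1) ^ (m + k) * adams P m y * (k.choose m : K)

theorem phi_add (k : ℕ) (x y : K) : phi P k (x + y) = phi P k x + phi P k y := by
  unfold phi
  rw [← Finset.sum_add_distrib]
  refine Finset.sum_congr rfl fun m _ => ?_
  rw [Groth.Agent.H17.adams_add]; ring

theorem phi_zero_right (k : ℕ) : phi P k (0 : K) = 0 := by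
  unfold phi
  refine Finset.sum_eq_zero fun m _ => ?_
  rw [Groth.Agent.H17.adams_zero]; ring

theorem phi_neg (k : ℕ) (x : K) : phi P k (-x) = -phi P k x := by
  unfold phi
  rw [← Finset.sum_neg_distrib]
  refine Finset.sum_congr rfl fun m _ => ?_
  rw [Groth.Agent.H17.adams_neg]; ring

theorem phi_sub (k : ℕ) (x y : K) : phi P k (x - y) = phi P k x - phi P k y := by
  rw [sub_eq_add_neg, phi_add, phi_neg, sub_eq_add_neg]

theorem phi_one (k : ℕ) (hk : 1 ≤ k) : phi P k (1 : K) = 0 := by
  unfold phi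
  have h := sub_pow (1 : K) 1 k
  rw [sub_self, zero_pow (by omega)] at h
  rw [h]
  refine Finset.sum_congr rfl fun m _ => ?_
  rw [Groth.Agent.H17.adams_one, one_pow, one_pow, mul_one, mul_one]

theorem phi_line (u : K) (hu : P.IsLine u) (k : ℕ) : phi P k u = (u - 1) ^ k := by
  unfold phi
  rw [sub_pow u 1 k]
  refine Finset.sum_congr rfl fun m _ => ?_
  rw [Groth.Agent.H17.adams_of_isLine P u hu, one_pow, mul_one]

theorem pk_eq_phi_line (u : K) (hu : P.IsLine u) (k : ℕ) (hk : 1 ≤ k) :
    pk k (u - 1) = phi P k (u - 1) := by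
  rw [pk_line_sub_one P u hu k hk, phi_sub, phi_line P u hu, phi_one P k hk, sub_zero]

theorem pk_eq_phi_lines (s : Multiset K) (hs : ∀ u ∈ s, P.IsLine u) (k : ℕ) (hk : 1 ≤ k) :
    pk k (s.sum - (Multiset.card s : K)) = phi P k (s.sum - (Multiset.card s : K)) := by
  induction s using Multiset.induction_on with
  | empty => simp [pk_zero_right, phi_zero_right]
  | cons a s ih =>
    have h1 : (a ::ₘ s).sum - (Multiset.card (a ::ₘ s) : K) =
        (a - 1) + (s.sum - (Multiset.card s : K)) := by
      rw [Multiset.sum_cons, Multiset.card_cons]; push_cast; ring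
    rw [h1, pk_add, phi_add, ih (fun u hu => hs u (Multiset.mem_cons_of_mem hu)),
      pk_eq_phi_line P a (hs a (Multiset.mem_cons_self a s)) k hk]

theorem map_phi {K' : Type v} [CommRing K'] [LambdaOps K'] (P' : PosStructure K') (f : K →+* K')
    (hf : IsExtension P P' f) (k : ℕ) (y : K) : f (phi P k y) = phi P' k (f y) := by
  unfold phi
  rw [map_sum]
  refine Finset.sum_congr rfl fun m _ => ?_
  rw [map_mul, map_mul, map_pow, map_neg, map_one, map_natCast,
    Groth.Agent.H17.map_adams P P' f hf]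

theorem pk_eq_phi_pos (hK : HasSplitting K P) (e : K) (he : e ∈ P.pos) (k : ℕ) (hk : 1 ≤ k) :
    pk k (e - ((P.aug e : ℤ) : K)) = phi P k (e - ((P.aug e : ℤ) : K)) := by
  obtain ⟨K', _, _, P', f, -, hf, s, hs, hsum⟩ := Groth.Agent.H17.exists_split_one P hK e he
  apply hf.injective
  have h1 : P.aug e = Multiset.card s := by
    rw [← hf.aug_comp, ← hsum, Groth.Agent.H17.aug_sum_lines P' s hs]
  have h2 : f (e - ((P.aug e : ℤ) : K)) = s.sum - (Multiset.card s : K') := by
    rw [map_sub, map_intCast, h1, hsum]; push_cast; rfl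
  rw [map_pk f hf.isLambdaHom, map_phi P P' f hf, h2]
  exact pk_eq_phi_lines P' s hs k hk

/-- **`p_k = (ψ - 1)^k` on the augmentation ideal.** -/
theorem pk_eq_phi (hK : HasSplitting K P) (y : K) (hy : P.aug y = 0) (k : ℕ) (hk : 1 ≤ k) :
    pk k y = phi P k y := by
  obtain ⟨e, e', he, he', rfl⟩ := P.exists_sub y
  have hee : P.aug e = P.aug e' := by
    rw [map_sub, sub_eq_zero] at hy; exact hy
  have h1 : e - e' = (e - ((P.aug e : ℤ) : K)) - (e' - ((P.aug e' : ℤ) : K)) := by
    rw [hee]; ring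
  rw [h1, pk_sub, phi_sub, pk_eq_phi_pos P hK e he k hk, pk_eq_phi_pos P hK e' he' k hk]

end Groth.Agent.H86.KG
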