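import Groth.Agent.H86.KG7
import Mathlib.Algebra.Group.ForwardDiff

/-!
# The leading term of `p_k` on `F^n`
-/

set_option autoImplicit false

namespace Groth.Agent.H86.KG

open LambdaRing PowerSeries Finset

universe v

theorem neg_one_pow_sub_eq {R : Type*} [CommRing R] {m n : ℕ} (h : m ≤ n) :
    (-1 : R) ^ (n - m) = (-1) ^ (m + n) := by
  have h2 : m + n = (n - m) + 2 * m := by omega
  rw [h2, pow_add, pow_mul]
  simp

/-- `Σ_m (-1)^(m+n) C(n,m) m^n = n!` -/
theorem stir_diag (n : ℕ) :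
    ∑ m ∈ range (n + 1), (-1 : ℤ) ^ (m + n) * (m : ℤ) ^ n * (n.choose m : ℤ) =
      (n.factorial : ℤ) := by
  have h1 := fwdDiff_iter_eq_sum_shift (1 : ℤ) (fun r : ℤ => r ^ n) n 0
  rw [fwdDiff_iter_eq_factorial] at h1
  have h2 : ((n.factorial : ℕ) : ℤ → ℤ) 0 = (n.factorial : ℤ) := by simp
  rw [h2] at h1
  rw [h1]
  refine Finset.sum_congr rfl fun m hm => ?_
  rw [Finset.mem_range] at hm
  rw [neg_one_pow_sub_eq (by omega : m ≤ n)]
  simp only [zero_add, nsmul_eq_mul, mul_one, smul_eq_mul]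
  ring

variable {K : Type v} [CommRing K] [LambdaOps K] (P : PosStructure K)

theorem adams_zero_eq (y : K) : adams P 0 y = ((P.aug y : ℤ) : K) := by
  unfold adams adamsSeries
  rw [map_sub, mul_assoc, coeff_zero_X_mul, sub_zero, coeff_zero_C]

theorem natCast_mul_mem' (c : K) (z : ℤ) (hc : c = (z : K)) {n : ℕ} {x : K}
    (hx : x ∈ gammaFiltration P n) : c * x ∈ gammaFiltration P n := by
  have : c * x = z • x := by rw [zsmul_eq_mul, hc]
  rw [this]
  exact AddSubgroup.zsmul_mem _ hx z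

theorem adams_mem (hK : HasSplitting K P) (n : ℕ) (x : K) (hx : x ∈ gammaFiltration P n) (m : ℕ) :
    adams P m x ∈ gammaFiltration P n := by
  rcases Nat.eq_zero_or_pos n with rfl | hn
  · rw [Groth.Agent.H17.gammaFiltration_zero]; trivial
  rcases Nat.eq_zero_or_pos m with rfl | hm
  · rw [adams_zero_eq, aug_eq_zero_of_mem P hK n hn x hx, Int.cast_zero]
    exact zero_mem _
  · have h1 := Groth.Agent.H17.adams_sub_pow_mul_mem P hK m hm n x hx
    have h2 := Groth.Agent.H17.gammaFiltration_antitone P (Nat.le_succ n) h1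
    have h3 : (m : K) ^ n * x ∈ gammaFiltration P n :=
      natCast_mul_mem' P _ ((m : ℤ) ^ n) (by push_cast; rfl) hx
    have := add_mem h2 h3
    rwa [sub_add_cancel] at this

theorem phi_mem (hK : HasSplitting K P) (n : ℕ) (x : K) (hx : x ∈ gammaFiltration P n) (k : ℕ) :
    phi P k x ∈ gammaFiltration P n := by
  unfold phi
  refine AddSubgroup.sum_mem _ fun m _ => ?_
  have h : (-1 : K) ^ (m + k) * adams P m x * (k.choose m : K) =
      ((-1 : K) ^ (m + k) * (k.choose m : K)) * adams P m x := by ring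
  rw [h]
  exact natCast_mul_mem' P _ ((-1) ^ (m + k) * (k.choose m : ℤ)) (by push_cast; rfl)
    (adams_mem P hK n x hx m)

theorem phi_sub_factorial_mem (hK : HasSplitting K P) (n : ℕ) (hn : 1 ≤ n) (x : K)
    (hx : x ∈ gammaFiltration P n) :
    phi P n x - (n.factorial : K) * x ∈ gammaFiltration P (n + 1) := by
  have h1 : (n.factorial : K) * x =
      ∑ m ∈ range (n + 1), (-1 : K) ^ (m + n) * ((m : K) ^ n * x) * (n.choose m : K) := by
    have := congrArg (fun z : ℤ => (z : K)) (stir_diag n)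
    simp only [Int.cast_sum, Int.cast_mul, Int.cast_pow, Int.cast_neg, Int.cast_one,
      Int.cast_natCast] at this
    rw [← this, Finset.sum_mul]
    refine Finset.sum_congr rfl fun m _ => ?_
    ring
  rw [h1]
  unfold phi
  rw [← Finset.sum_sub_distrib]
  refine AddSubgroup.sum_mem _ fun m _ => ?_
  have h : (-1 : K) ^ (m + n) * adams P m x * (n.choose m : K) -
      (-1 : K) ^ (m + n) * ((m : K) ^ n * x) * (n.choose m : K) =
      ((-1 : K) ^ (m + n) * (n.choose m : K)) * (adams P m x - (m : K) ^ n * x) := by ring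
  rw [h]
  refine natCast_mul_mem' P _ ((-1) ^ (m + n) * (n.choose m : ℤ)) (by push_cast; rfl) ?_
  rcases Nat.eq_zero_or_pos m with rfl | hm
  · rw [adams_zero_eq, aug_eq_zero_of_mem P hK n hn x hx, Int.cast_zero, Nat.cast_zero,
      zero_pow (by omega), zero_mul, sub_zero]
    exact zero_mem _
  · exact Groth.Agent.H17.adams_sub_pow_mul_mem P hK m hm n x hx

theorem pk_mem_of_mem (hK : HasSplitting K P) (n : ℕ) (hn : 1 ≤ n) (k : ℕ) (hk : 1 ≤ k) (x : K)
    (hx : x ∈ gammaFiltration P n) : pk k x ∈ gammaFiltration P n := by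
  rw [pk_eq_phi P hK x (aug_eq_zero_of_mem P hK n hn x hx) k hk]
  exact phi_mem P hK n x hx k

theorem pk_sub_factorial_mem (hK : HasSplitting K P) (n : ℕ) (hn : 1 ≤ n) (x : K)
    (hx : x ∈ gammaFiltration P n) :
    pk n x - (n.factorial : K) * x ∈ gammaFiltration P (n + 1) := by
  rw [pk_eq_phi P hK x (aug_eq_zero_of_mem P hK n hn x hx) n hn]
  exact phi_sub_factorial_mem P hK n hn x hx

theorem grK_pk_of_lt (hK : HasSplitting K P) (n k : ℕ) (hk : 1 ≤ k) (hkn : k < n) (x : K)
    (hx : x ∈ gammaFiltration P n) : KGr.grK P (k : ℤ) (pk k x) = 0 :=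
  grK_eq_zero_of_mem P k
    (Groth.Agent.H17.gammaFiltration_antitone P (by omega : k + 1 ≤ n)
      (pk_mem_of_mem P hK n (by omega) k hk x hx))

theorem grK_pk_self (hK : HasSplitting K P) (n : ℕ) (hn : 1 ≤ n) (x : K)
    (hx : x ∈ gammaFiltration P n) :
    KGr.grK P (n : ℤ) (pk n x) = (n.factorial : ℚ) • KGr.grK P (n : ℤ) x := by
  have h1 : pk n x = (pk n x - (n.factorial : K) * x) + ((n.factorial : ℕ) : ℤ) • x := by
    rw [zsmul_eq_mul]; push_cast; ring
  have h2 := pk_sub_factorial_mem P hK n hn x hx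
  rw [h1, grK_add P n (Groth.Agent.H17.gammaFiltration_antitone P (Nat.le_succ n) h2)
    (AddSubgroup.zsmul_mem _ hx _), grK_eq_zero_of_mem P n h2, zero_add, grK_zsmul P n _ hx]
  rw [← Int.cast_smul_eq_zsmul ℚ]
  push_cast
  rfl

end Groth.Agent.H86.KG
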