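import Groth.Agent.H86.KG8

/-!
# The rational Chern character `ℚ ⊗ K → ℚGr K` is bijective
-/

set_option autoImplicit false

namespace Groth.Agent.H86.KG

open LambdaRing Finset LaurentPolynomial
open scoped TensorProduct

universe v

variable {K : Type v} [CommRing K] [LambdaOps K] (P : PosStructure K)

/-! ### additivity of the Chern character -/

theorem sub_aug_add (x y : K) :
    (x + y) - ((P.aug (x + y) : ℤ) : K) = (x - ((P.aug x : ℤ) : K)) + (y - ((P.aug y : ℤ) : K)) := by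
  rw [map_add]; push_cast; ring

theorem chK_add (d : ℕ) (hd : gammaFiltration P (d + 1) = ⊥) (x y : K) :
    KGr.chK P d (x + y) = KGr.chK P d x + KGr.chK P d y := by
  rw [chK_eq P d _ hd, chK_eq P d x hd, chK_eq P d y hd, sub_aug_add]
  have h : ∀ k ∈ range d, ((1 : ℚ) / (Nat.factorial (k + 1) : ℚ)) •
      KGr.grK P ((k + 1 : ℕ) : ℤ)
        (pk (k + 1) ((x - ((P.aug x : ℤ) : K)) + (y - ((P.aug y : ℤ) : K)))) =
      ((1 : ℚ) / (Nat.factorial (k + 1) : ℚ)) •
        KGr.grK P ((k + 1 : ℕ) : ℤ) (pk (k + 1) (x - ((P.aug x : ℤ) : K))) +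
      ((1 : ℚ) / (Nat.factorial (k + 1) : ℚ)) •
        KGr.grK P ((k + 1 : ℕ) : ℤ) (pk (k + 1) (y - ((P.aug y : ℤ) : K))) := by
    intro k _
    rw [pk_add, grK_add P (k + 1)
      (pk_mem P _ (Groth.Agent.H17.aug_sub_aug P x) (k + 1) (by omega))
      (pk_mem P _ (Groth.Agent.H17.aug_sub_aug P y) (k + 1) (by omega)), smul_add]
  rw [Finset.sum_congr rfl h, Finset.sum_add_distrib, map_add P.aug, Int.cast_add, map_add]
  abel

/-- the Chern character as an additive map -/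
noncomputable def chHom (d : ℕ) (hd : gammaFiltration P (d + 1) = ⊥) : K →+ KGr.Gr P where
  toFun := KGr.chK P d
  map_zero' := by
    have := chK_add P d hd 0 0
    rw [add_zero] at this
    exact left_eq_add.mp this
  map_add' := chK_add P d hd

theorem chHom_apply (d : ℕ) (hd : gammaFiltration P (d + 1) = ⊥) (x : K) :
    chHom P d hd x = KGr.chK P d x := rfl

/-- the rational Chern character -/
noncomputable def PhiQ (d : ℕ) (hd : gammaFiltration P (d + 1) = ⊥) : ℚ ⊗[ℤ] K →ₗ[ℚ] KGr.Gr P :=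
  (chHom P d hd).toIntLinearMap.liftBaseChange ℚ

theorem PhiQ_tmul (d : ℕ) (hd : gammaFiltration P (d + 1) = ⊥) (q : ℚ) (x : K) :
    PhiQ P d hd (q ⊗ₜ[ℤ] x) = q • KGr.chK P d x :=
  LinearMap.liftBaseChange_tmul _ _ _ _

/-! ### classes of degree `≥ n` -/

/-- the `ℚ`-span of the classes of degree `≥ n` -/
noncomputable def Hi (n : ℕ) : Submodule ℚ (KGr.Gr P) :=
  Submodule.span ℚ {w | ∃ m, n ≤ m ∧ ∃ y : gammaFiltration P m, w = gQ P m y}

theorem gQ_mem_Hi {n m : ℕ} (h : n ≤ m) (y : gammaFiltration P m) : gQ P m y ∈ Hi P n :=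
  Submodule.subset_span ⟨m, h, y, rfl⟩

theorem grK_mem_Hi {n m : ℕ} (h : n ≤ m) {x : K} (hx : x ∈ gammaFiltration P m) :
    KGr.grK P (m : ℤ) x ∈ Hi P n := by
  rw [grK_eq P m x hx]
  exact gQ_mem_Hi P h _

theorem Hi_antitone {n n' : ℕ} (h : n ≤ n') : Hi P n' ≤ Hi P n :=
  Submodule.span_mono fun _ ⟨m, hm, y, hw⟩ => ⟨m, le_trans h hm, y, hw⟩

theorem piQ_smul (n : ℕ) (q : ℚ) (z : KGr.Gr P) : piQ P n (q • z) = q • piQ P n z := by
  induction z using TensorProduct.induction_on with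
  | zero => simp
  | tmul a b => rw [TensorProduct.smul_tmul', piQ_tmul, piQ_tmul, TensorProduct.smul_tmul']
  | add a b ha hb => rw [smul_add, map_add, ha, hb, map_add, smul_add]

theorem piQ_eq_zero_of_mem_Hi (n : ℕ) (w : KGr.Gr P) (hw : w ∈ Hi P (n + 1)) : piQ P n w = 0 := by
  unfold Hi at hw
  induction hw using Submodule.span_induction with
  | mem w hw =>
    obtain ⟨m, hm, y, rfl⟩ := hw
    have := piQ_smul_gQ P n m 1 y
    rw [one_smul, if_neg (by omega)] at this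
    exact this
  | zero => exact map_zero _
  | add a b _ _ ha hb => rw [map_add, ha, hb, add_zero]
  | smul q w _ hw => rw [piQ_smul, hw, smul_zero]

theorem piQ_grK (n : ℕ) (x : K) (hx : x ∈ gammaFiltration P n) :
    piQ P n (KGr.grK P (n : ℤ) x) =
      (1 : ℚ) ⊗ₜ[ℤ] (QuotientAddGroup.mk x : K ⧸ gammaFiltration P (n + 1)) := by
  rw [grK_eq P n x hx]
  have := piQ_smul_gQ P n n 1 ⟨x, hx⟩
  rw [one_smul, if_pos rfl] at this
  exact this

/-! ### the leading term of the Chern character -/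

theorem grK_zero_eq (x : K) :
    KGr.grK P ((0 : ℕ) : ℤ) x = algebraMap ℚ (KGr.Gr P) ((P.aug x : ℤ) : ℚ) := by
  have h0 : ∀ y : K, y ∈ gammaFiltration P 0 := fun y => by
    rw [Groth.Agent.H17.gammaFiltration_zero]; trivial
  have h1 : (x - ((P.aug x : ℤ) : K)) + (P.aug x : ℤ) • (1 : K) = x := by
    rw [zsmul_eq_mul, mul_one, sub_add_cancel]
  have h2 : KGr.grK P ((0 : ℕ) : ℤ) ((x - ((P.aug x : ℤ) : K)) + (P.aug x : ℤ) • (1 : K)) =
      algebraMap ℚ (KGr.Gr P) ((P.aug x : ℤ) : ℚ) := by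
    rw [grK_add P 0 (h0 _) (h0 _), grK_eq_zero_of_mem P 0
      (Groth.Agent.H17.mem_gammaFiltration_one_of_aug P _ (Groth.Agent.H17.aug_sub_aug P x)),
      zero_add, grK_zsmul P 0 _ (h0 _), grK_zero_one, Algebra.algebraMap_eq_smul_one,
      Int.cast_smul_eq_zsmul]
  rwa [h1] at h2

theorem chK_sub_grK_zero_mem (d : ℕ) (hd : gammaFiltration P (d + 1) = ⊥) (x : K) :
    KGr.chK P d x - KGr.grK P ((0 : ℕ) : ℤ) x ∈ Hi P 1 := by
  rw [chK_eq P d x hd, grK_zero_eq, add_sub_cancel_left]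
  exact Submodule.sum_mem _ fun k _ => Submodule.smul_mem _ _
    (grK_mem_Hi P (by omega) (pk_mem P _ (Groth.Agent.H17.aug_sub_aug P x) (k + 1) (by omega)))

theorem chK_sub_grK_succ_mem (hK : HasSplitting K P) (d : ℕ) (hd : gammaFiltration P (d + 1) = ⊥)
    (j : ℕ) (hj : j < d) (x : K) (hx : x ∈ gammaFiltration P (j + 1)) :
    KGr.chK P d x - KGr.grK P ((j + 1 : ℕ) : ℤ) x ∈ Hi P (j + 2) := by
  have hx0 : P.aug x = 0 := aug_eq_zero_of_mem P hK (j + 1) (by omega) x hx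
  rw [chK_eq P d x hd, hx0]
  simp only [Int.cast_zero, map_zero, zero_add, sub_zero]
  rw [← Finset.add_sum_erase (range d) _ (Finset.mem_range.mpr hj),
    grK_pk_self P hK (j + 1) (by omega) x hx, smul_smul, one_div,
    inv_mul_cancel₀ (by positivity), one_smul, add_sub_cancel_left]
  refine Submodule.sum_mem _ fun k hk => ?_
  rw [Finset.mem_erase, Finset.mem_range] at hk
  rcases lt_or_gt_of_ne hk.1 with hlt | hgt
  · rw [grK_pk_of_lt P hK (j + 1) (k + 1) (by omega) (by omega) x hx, smul_zero]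
    exact zero_mem _
  · exact Submodule.smul_mem _ _ (grK_mem_Hi P (by omega) (pk_mem P x hx0 (k + 1) (by omega)))

theorem chK_sub_grK_mem (hK : HasSplitting K P) (d : ℕ) (hd : gammaFiltration P (d + 1) = ⊥)
    (n : ℕ) (hn : n ≤ d) (x : K) (hx : x ∈ gammaFiltration P n) :
    KGr.chK P d x - KGr.grK P (n : ℤ) x ∈ Hi P (n + 1) := by
  rcases n with _ | j
  · exact chK_sub_grK_zero_mem P d hd x
  · exact chK_sub_grK_succ_mem P hK d hd j (by omega) x hx

/-! ### `ℚGr K` is spanned by the classes -/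

/-- the subgroup of `GrZ` generated by the classes -/
noncomputable def Hz : AddSubgroup (KGr.GrZ P) :=
  AddSubgroup.closure {z | ∃ (n : ℕ) (y : gammaFiltration P n), z = grZ P n y}

theorem mk_C_mul_T_mem (i : ℤ) (a : K) (ha : a ∈ Fz P i) :
    Ideal.Quotient.mk (Ideal.span {KGr.tGen P})
      (⟨C a * T i, C_mul_T_mem_rees P ha⟩ : KGr.rees P) ∈ Hz P := by
  rcases le_or_gt i 0 with hi | hi
  · apply AddSubgroup.subset_closure
    refine ⟨(-i).toNat, ⟨a, ha⟩, ?_⟩
    rw [grZ_apply]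
    congr 1
    apply Subtype.ext
    rw [reesElt_val]
    show C a * T i = C a * T (-((-i).toNat : ℤ))
    congr 2
    omega
  · have ha' : a ∈ Fz P (i - 1) := by
      rw [Fz_of_nonneg P (by omega)]; trivial
    have h1 : (⟨C a * T i, C_mul_T_mem_rees P ha⟩ : KGr.rees P) =
        ⟨C a * T (i - 1), C_mul_T_mem_rees P ha'⟩ * KGr.tGen P := by
      apply Subtype.ext
      show C a * T i = C a * T (i - 1) * T 1
      rw [mul_assoc, ← T_add]
      congr 2
      omega
    have h2 : Ideal.Quotient.mk (Ideal.span {KGr.tGen P})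
        (⟨C a * T i, C_mul_T_mem_rees P ha⟩ : KGr.rees P) = 0 := by
      rw [Ideal.Quotient.eq_zero_iff_mem, Ideal.mem_span_singleton']
      exact ⟨_, h1.symm⟩
    rw [h2]
    exact zero_mem _

theorem mk_mem_Hz (f : KGr.rees P) : Ideal.Quotient.mk (Ideal.span {KGr.tGen P}) f ∈ Hz P := by
  classical
  have hf := (mem_rees_iff P _).mp f.2
  have h1 : (f : LaurentPolynomial K) = (f : LaurentPolynomial K).coeff.sum fun i a => C a * T i := by
    simp_rw [← single_eq_C_mul_T]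
    exact (AddMonoidAlgebra.sum_coeff_single _).symm
  have h2 : f = ∑ i ∈ (f : LaurentPolynomial K).coeff.support,
      (⟨C ((f : LaurentPolynomial K).coeff i) * T i, C_mul_T_mem_rees P (hf i)⟩ : KGr.rees P) := by
    apply Subtype.ext
    rw [AddSubmonoidClass.coe_finsetSum]
    exact h1
  rw [h2, map_sum]
  exact AddSubgroup.sum_mem _ fun i _ => mk_C_mul_T_mem P i _ (hf i)

theorem tmul_mem_Hi_zero (z : KGr.GrZ P) (hz : z ∈ Hz P) :
    ((1 : ℚ) ⊗ₜ[ℤ] z : KGr.Gr P) ∈ Hi P 0 := by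
  unfold Hz at hz
  induction hz using AddSubgroup.closure_induction with
  | mem z hz =>
    obtain ⟨n, y, rfl⟩ := hz
    rw [← gQ_apply]
    exact gQ_mem_Hi P (Nat.zero_le n) y
  | zero => rw [TensorProduct.tmul_zero]; exact zero_mem _
  | add a b _ _ ha hb => rw [TensorProduct.tmul_add]; exact add_mem ha hb
  | neg a _ ha => rw [TensorProduct.tmul_neg]; exact neg_mem ha

theorem mem_Hi_zero (w : KGr.Gr P) : w ∈ Hi P 0 := by
  induction w using TensorProduct.induction_on with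
  | zero => exact zero_mem _
  | add a b ha hb => exact add_mem ha hb
  | tmul q z =>
    have h1 : q ⊗ₜ[ℤ] z = q • ((1 : ℚ) ⊗ₜ[ℤ] z : KGr.Gr P) := by
      rw [TensorProduct.smul_tmul', smul_eq_mul, mul_one]
    rw [h1]
    refine Submodule.smul_mem _ _ ?_
    obtain ⟨f, rfl⟩ := Ideal.Quotient.mk_surjective z
    exact tmul_mem_Hi_zero P _ (mk_mem_Hz P f)

theorem Hi_zero_eq_top : Hi P 0 = ⊤ :=
  eq_top_iff.mpr fun w _ => mem_Hi_zero P w

/-! ### surjectivity -/

theorem gQ_eq_zero_of_gt (d : ℕ) (hd : gammaFiltration P (d + 1) = ⊥) (m : ℕ) (hm : d < m)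
    (y : gammaFiltration P m) : gQ P m y = 0 := by
  have h1 := Groth.Agent.H17.gammaFiltration_antitone P (show d + 1 ≤ m by omega) y.2
  rw [hd, AddSubgroup.mem_bot] at h1
  have : y = 0 := Subtype.ext h1
  rw [this, map_zero]

theorem Hi_le_range (hK : HasSplitting K P) (d : ℕ) (hd : gammaFiltration P (d + 1) = ⊥) :
    ∀ t n : ℕ, d + 1 ≤ n + t → Hi P n ≤ LinearMap.range (PhiQ P d hd) := by
  intro t
  induction t with
  | zero =>
    intro n hn
    refine Submodule.span_le.mpr ?_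
    rintro w ⟨m, hm, y, rfl⟩
    rw [gQ_eq_zero_of_gt P d hd m (by omega) y]
    exact zero_mem _
  | succ t ih =>
    intro n hn
    have ih' := ih (n + 1) (by omega)
    refine Submodule.span_le.mpr ?_
    rintro w ⟨m, hm, y, rfl⟩
    rcases Nat.lt_or_ge n m with hlt | hge
    · exact ih' (gQ_mem_Hi P (by omega) y)
    · have hmn : m = n := le_antisymm hge hm
      subst hmn
      rcases Nat.lt_or_ge d m with hdm | hdm
      · rw [gQ_eq_zero_of_gt P d hd m hdm y]
        exact zero_mem _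
      · have h1 := chK_sub_grK_mem P hK d hd m hdm y y.2
        have h2 : KGr.chK P d (y : K) ∈ LinearMap.range (PhiQ P d hd) :=
          ⟨(1 : ℚ) ⊗ₜ[ℤ] (y : K), by rw [PhiQ_tmul, one_smul]⟩
        have h3 := sub_mem h2 (ih' h1)
        rw [sub_sub_cancel, grK_eq P m y y.2] at h3
        exact h3

theorem PhiQ_surjective (hK : HasSplitting K P) (d : ℕ) (hd : gammaFiltration P (d + 1) = ⊥) :
    Function.Surjective (PhiQ P d hd) := by
  rw [← LinearMap.range_eq_top, eq_top_iff, ← Hi_zero_eq_top P]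
  exact Hi_le_range P hK d hd (d + 1) 0 (by omega)

/-! ### injectivity -/

theorem exists_nsmul_mem (hK : HasSplitting K P) (d : ℕ) (hd : gammaFiltration P (d + 1) = ⊥)
    (x : K) (h : KGr.chK P d x = 0) (n : ℕ) (hn : n ≤ d + 1) :
    ∃ M : ℕ, 1 ≤ M ∧ M • x ∈ gammaFiltration P n := by
  induction n with
  | zero =>
    exact ⟨1, le_rfl, by rw [Groth.Agent.H17.gammaFiltration_zero]; trivial⟩
  | succ n ih =>
    obtain ⟨M, hM, hMx⟩ := ih (by omega)
    have h1 : KGr.chK P d (M • x) = 0 := by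
      rw [← chHom_apply P d hd, map_nsmul, chHom_apply, h, smul_zero]
    have h2 := chK_sub_grK_mem P hK d hd n (by omega) (M • x) hMx
    have h3 := piQ_eq_zero_of_mem_Hi P n _ h2
    rw [h1, zero_sub, map_neg, neg_eq_zero, piQ_grK P n _ hMx] at h3
    obtain ⟨M', hM', hM'x⟩ := exists_nsmul_eq_zero_of_tmul_eq_zero 1 one_ne_zero _ h3
    refine ⟨M' * M, Nat.one_le_iff_ne_zero.mpr (Nat.mul_ne_zero (by omega) (by omega)), ?_⟩
    rw [mul_smul]
    have h4 : (M' • (QuotientAddGroup.mk (M • x) : K ⧸ gammaFiltration P (n + 1))) =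
        QuotientAddGroup.mk (M' • (M • x)) := rfl
    rw [h4, QuotientAddGroup.eq_zero_iff] at hM'x
    exact hM'x

theorem PhiQ_injective (hK : HasSplitting K P) (d : ℕ) (hd : gammaFiltration P (d + 1) = ⊥) :
    Function.Injective (PhiQ P d hd) := by
  rw [injective_iff_map_eq_zero]
  intro z hz
  obtain ⟨⟨x, s⟩, hs⟩ := IsLocalizedModule.surj (nonZeroDivisors ℤ) (TensorProduct.mk ℤ ℚ K 1) z
  have hs0 : (s : ℤ) ≠ 0 := nonZeroDivisors.ne_zero s.2
  have hs' : (s : ℤ) • z = (1 : ℚ) ⊗ₜ[ℤ] x := hs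
  have h1 : KGr.chK P d x = 0 := by
    have := PhiQ_tmul P d hd 1 x
    rw [one_smul, ← hs', map_zsmul, hz, smul_zero] at this
    exact this.symm
  obtain ⟨M, hM, hMx⟩ := exists_nsmul_mem P hK d hd x h1 (d + 1) le_rfl
  rw [hd, AddSubgroup.mem_bot] at hMx
  have h2 : ((M : ℤ) : ℚ) • ((1 : ℚ) ⊗ₜ[ℤ] x : ℚ ⊗[ℤ] K) = 0 := by
    rw [Int.cast_smul_eq_zsmul, ← TensorProduct.tmul_smul, natCast_zsmul, hMx,
      TensorProduct.tmul_zero]
  have h3 : ((1 : ℚ) ⊗ₜ[ℤ] x : ℚ ⊗[ℤ] K) = 0 := by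
    rcases smul_eq_zero.mp h2 with h | h
    · exfalso
      have : (M : ℚ) = 0 := by exact_mod_cast h
      have : M = 0 := by exact_mod_cast this
      omega
    · exact h
  rw [h3, ← Int.cast_smul_eq_zsmul ℚ] at hs'
  rcases smul_eq_zero.mp hs' with h | h
  · exfalso
    exact hs0 (by exact_mod_cast h)
  · exact h

end Groth.Agent.H86.KG
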