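import Groth.Agent.H86.KE4

/-!
# Determinants of positive elements and the subgroup `J` generated by
`(a + b) - (c + d)` with `a b = c d` line elements
-/

set_option autoImplicit false

namespace Groth.Agent.H86.KL

open LambdaRing PowerSeries Finset Groth.Agent.H86.KE

universe u

variable {K : Type u} [CommRing K] [LambdaOps K] (P : PosStructure K)

/-- the top exterior power of an element -/
def det (e : K) : K := LambdaOps.lam (P.aug e).toNat e

theorem det_add {e f : K} (he : e ∈ P.pos) (hf : f ∈ P.pos) :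
    det P (e + f) = det P e * det P f := by
  unfold det
  have hm := P.aug_pos e he
  have hn := P.aug_pos f hf
  set m := (P.aug e).toNat with hm'
  set n := (P.aug f).toNat with hn'
  have hmn : (P.aug (e + f)).toNat = m + n := by
    rw [map_add]; omega
  rw [hmn, LambdaOps.lam_add]
  rw [Finset.sum_eq_single m]
  · congr 2; omega
  · intro i _ him
    rcases lt_or_gt_of_ne him with h | h
    · have : LambdaOps.lam (m + n - i) f = 0 := by
        apply P.lam_eq_zero f hf; omega
      rw [this, mul_zero]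
    · have : LambdaOps.lam i e = 0 := by
        apply P.lam_eq_zero e he; omega
      rw [this, zero_mul]
  · intro h
    exact absurd (Finset.mem_range.mpr (by omega)) h

theorem det_line {u : K} (hu : P.IsLine u) : det P u = u := by
  unfold det
  rw [hu.2, Int.toNat_one, LambdaOps.lam_one]

theorem isUnit_det {e : K} (he : e ∈ P.pos) : IsUnit (det P e) := P.isUnit_lam e he

theorem isUnit_line {u : K} (hu : P.IsLine u) : IsUnit u := by
  have := isUnit_det P hu.1
  rwa [det_line P hu] at this

theorem map_det {K' : Type u} [CommRing K'] [LambdaOps K'] {P' : PosStructure K'} {f : K →+* K'}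
    (hf : IsExtension P P' f) (e : K) : f (det P e) = det P' (f e) := by
  unfold det
  rw [hf.isLambdaHom, hf.aug_comp]

/-- `Q y`: any two positive elements with difference `y` have the same determinant. -/
def Q (y : K) : Prop :=
  ∀ e1 e2 : K, e1 ∈ P.pos → e2 ∈ P.pos → e1 - e2 = y → det P e1 = det P e2

theorem Q_zero : Q P 0 := by
  intro e1 e2 _ _ h
  rw [sub_eq_zero.mp h]

theorem Q_neg {y : K} (hy : Q P y) : Q P (-y) := by
  intro e1 e2 h1 h2 h
  exact (hy e2 e1 h2 h1 (by rw [← neg_sub, h, neg_neg])).symm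

theorem Q_add {y1 y2 : K} (hy1 : Q P y1) (hy2 : Q P y2) : Q P (y1 + y2) := by
  intro e1 e2 h1 h2 h
  obtain ⟨p1, q1, hp, hq, hy⟩ := P.exists_sub y1
  have ha := hy1 p1 q1 hp hq hy.symm
  have hb := hy2 (e1 + q1) (e2 + p1) (P.add_mem _ _ h1 hq) (P.add_mem _ _ h2 hp)
    (by rw [hy] at h; linear_combination h)
  rw [det_add P h1 hq, det_add P h2 hp, ha] at hb
  exact (isUnit_det P hq).mul_left_inj.mp hb

theorem Q_gen {a b c d : K} (ha : P.IsLine a) (hb : P.IsLine b) (hc : P.IsLine c)
    (hd : P.IsLine d) (h : a * b = c * d) : Q P ((a + b) - (c + d)) := by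
  intro e1 e2 h1 h2 he
  have h3 : e1 + (c + d) = e2 + (a + b) := by linear_combination he
  have h4 := congrArg (det P) h3
  rw [det_add P h1 (P.add_mem _ _ hc.1 hd.1), det_add P h2 (P.add_mem _ _ ha.1 hb.1),
    det_add P hc.1 hd.1, det_add P ha.1 hb.1, det_line P ha, det_line P hb, det_line P hc,
    det_line P hd, h] at h4
  exact ((isUnit_line P hc).mul (isUnit_line P hd)).mul_left_inj.mp h4

/-- the additive span of the line elements -/
def Lam : AddSubgroup K := AddSubgroup.closure {u | P.IsLine u}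

/-- the additive span of differences of line elements -/
def Iaug : AddSubgroup K := AddSubgroup.closure {g | ∃ a b, P.IsLine a ∧ P.IsLine b ∧ g = a - b}

/-- the additive span of the `(a + b) - (c + d)`, `a b = c d` -/
def J : AddSubgroup K := AddSubgroup.closure
  {g | ∃ a b c d, P.IsLine a ∧ P.IsLine b ∧ P.IsLine c ∧ P.IsLine d ∧ a * b = c * d ∧
    g = (a + b) - (c + d)}

theorem Q_of_mem_J {y : K} (hy : y ∈ J P) : Q P y := by
  unfold J at hy
  induction hy using AddSubgroup.closure_induction with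
  | mem y hy =>
    obtain ⟨a, b, c, d, ha, hb, hc, hd, h, rfl⟩ := hy
    exact Q_gen P ha hb hc hd h
  | zero => exact Q_zero P
  | add a b _ _ ha hb => exact Q_add P ha hb
  | neg a _ ha => exact Q_neg P ha

omit [LambdaOps K] in
theorem mul_mem_of_closure {S T : Set K} {U : AddSubgroup K}
    (h : ∀ s ∈ S, ∀ t ∈ T, s * t ∈ U) {x y : K} (hx : x ∈ AddSubgroup.closure S)
    (hy : y ∈ AddSubgroup.closure T) : x * y ∈ U := by
  induction hx using AddSubgroup.closure_induction with
  | mem x hx =>
    induction hy using AddSubgroup.closure_induction with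
    | mem y hy => exact h x hx y hy
    | zero => rw [mul_zero]; exact zero_mem _
    | add a b _ _ ha hb => rw [mul_add]; exact add_mem ha hb
    | neg a _ ha => rw [mul_neg]; exact neg_mem ha
  | zero => rw [zero_mul]; exact zero_mem _
  | add a b _ _ ha hb => rw [add_mul]; exact add_mem ha hb
  | neg a _ ha => rw [neg_mul]; exact neg_mem ha

theorem J_le_Iaug : J P ≤ Iaug P := by
  unfold J
  rw [AddSubgroup.closure_le]
  rintro _ ⟨a, b, c, d, ha, hb, hc, hd, -, rfl⟩
  have h1 : a - c ∈ Iaug P := AddSubgroup.subset_closure ⟨a, c, ha, hc, rfl⟩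
  have h2 : b - d ∈ Iaug P := AddSubgroup.subset_closure ⟨b, d, hb, hd, rfl⟩
  have : a + b - (c + d) = (a - c) + (b - d) := by ring
  rw [SetLike.mem_coe, this]
  exact add_mem h1 h2

theorem Iaug_le_Lam : Iaug P ≤ Lam P := by
  unfold Iaug
  rw [AddSubgroup.closure_le]
  rintro _ ⟨a, b, ha, hb, rfl⟩
  exact sub_mem (AddSubgroup.subset_closure ha) (AddSubgroup.subset_closure hb)

theorem Lam_mul_Lam {x y : K} (hx : x ∈ Lam P) (hy : y ∈ Lam P) : x * y ∈ Lam P :=
  mul_mem_of_closure (fun s hs t ht =>
    AddSubgroup.subset_closure (Groth.Agent.H17.isLine_mul P hs ht)) hx hy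

theorem Lam_mul_Iaug {x y : K} (hx : x ∈ Lam P) (hy : y ∈ Iaug P) : x * y ∈ Iaug P := by
  refine mul_mem_of_closure (U := Iaug P) ?_ hx hy
  rintro s hs _ ⟨a, b, ha, hb, rfl⟩
  rw [mul_sub]
  exact AddSubgroup.subset_closure ⟨s * a, s * b, Groth.Agent.H17.isLine_mul P hs ha,
    Groth.Agent.H17.isLine_mul P hs hb, rfl⟩

theorem Lam_mul_J {x y : K} (hx : x ∈ Lam P) (hy : y ∈ J P) : x * y ∈ J P := by
  refine mul_mem_of_closure (U := J P) ?_ hx hy
  rintro s hs _ ⟨a, b, c, d, ha, hb, hc, hd, h, rfl⟩
  have : s * (a + b - (c + d)) = (s * a + s * b) - (s * c + s * d) := by ring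
  rw [this]
  exact AddSubgroup.subset_closure ⟨s * a, s * b, s * c, s * d,
    Groth.Agent.H17.isLine_mul P hs ha, Groth.Agent.H17.isLine_mul P hs hb,
    Groth.Agent.H17.isLine_mul P hs hc, Groth.Agent.H17.isLine_mul P hs hd,
    by linear_combination (s * s) * h, rfl⟩

theorem Iaug_mul_Iaug {x y : K} (hx : x ∈ Iaug P) (hy : y ∈ Iaug P) : x * y ∈ J P := by
  refine mul_mem_of_closure (U := J P) ?_ hx hy
  rintro _ ⟨a, b, ha, hb, rfl⟩ _ ⟨c, d, hc, hd, rfl⟩
  have : (a - b) * (c - d) = (a * c + b * d) - (a * d + b * c) := by ring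
  rw [this]
  exact AddSubgroup.subset_closure ⟨a * c, b * d, a * d, b * c,
    Groth.Agent.H17.isLine_mul P ha hc, Groth.Agent.H17.isLine_mul P hb hd,
    Groth.Agent.H17.isLine_mul P ha hd, Groth.Agent.H17.isLine_mul P hb hc, by ring, rfl⟩

/-- the steps of the filtration `Λ ⊇ I ⊇ J ⊇ J ⊇ ⋯` -/
def Mstep : ℕ → AddSubgroup K
  | 0 => Lam P
  | 1 => Iaug P
  | _ + 2 => J P

theorem Mstep_le_Lam (n : ℕ) : Mstep P n ≤ Lam P := by
  rcases n with _ | _ | n
  · exact le_rfl
  · exact Iaug_le_Lam P
  · exact (J_le_Iaug P).trans (Iaug_le_Lam P)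

theorem J_le_Mstep (n : ℕ) : J P ≤ Mstep P n := by
  rcases n with _ | _ | n
  · exact (J_le_Iaug P).trans (Iaug_le_Lam P)
  · exact J_le_Iaug P
  · exact le_rfl

/-- the multiplicative filtration `Λ ⊇ I ⊇ J ⊇ J ⊇ ⋯` -/
def filtJ : MFilt K where
  M := Mstep P
  one_mem := AddSubgroup.subset_closure (Groth.Agent.H17.isLine_one P)
  mul_mem := by
    intro a b x y hx hy
    rcases a with _ | _ | a
    · rcases b with _ | _ | b
      · exact Lam_mul_Lam P hx hy
      · exact Lam_mul_Iaug P hx hy
      · exact Lam_mul_J P hx hy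
    · rcases b with _ | _ | b
      · rw [mul_comm]; exact Lam_mul_Iaug P hy hx
      · exact Iaug_mul_Iaug P hx hy
      · have : 0 + 1 + (b + 2) = (b + 1) + 2 := by omega
        rw [this]
        exact Lam_mul_J P (Iaug_le_Lam P hx) hy
    · have : a + 2 + b = (a + b) + 2 := by omega
      rw [this, mul_comm]
      exact Lam_mul_J P (Mstep_le_Lam P b hy) hx
  anti := by
    intro a b hab
    rcases a with _ | _ | a
    · exact Mstep_le_Lam P b
    · rcases b with _ | _ | b
      · omega
      · exact le_rfl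
      · exact J_le_Iaug P
    · rcases b with _ | _ | b
      · omega
      · omega
      · exact le_rfl

theorem good_gammaSeries_of_mem_Iaug {x : K} (hx : x ∈ Iaug P) :
    (filtJ P).Good (Groth.Agent.H17.gammaSeries x) := by
  have hline : ∀ u, P.IsLine u → (filtJ P).Good (Groth.Agent.H17.gammaSeries (u - 1)) := by
    intro u hu
    rw [Groth.Agent.H17.gammaSeries_line_sub_one P u hu]
    apply MFilt.good_one_add_C_mul_X
    exact AddSubgroup.subset_closure ⟨u, 1, hu, Groth.Agent.H17.isLine_one P, rfl⟩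
  have hneg : ∀ y, (filtJ P).Good (Groth.Agent.H17.gammaSeries y) →
      (filtJ P).Good (Groth.Agent.H17.gammaSeries (-y)) := by
    intro y hy
    refine MFilt.good_inv _ hy (constantCoeff_gammaSeries _) ?_
    rw [← Groth.Agent.H17.gammaSeries_add, add_neg_cancel, Groth.Agent.H17.gammaSeries_zero]
  unfold Iaug at hx
  induction hx using AddSubgroup.closure_induction with
  | mem y hy =>
    obtain ⟨a, b, ha, hb, rfl⟩ := hy
    have : a - b = (a - 1) + -(b - 1) := by ring
    rw [this, Groth.Agent.H17.gammaSeries_add]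
    exact MFilt.good_mul _ (hline a ha) (hneg _ (hline b hb))
  | zero => rw [Groth.Agent.H17.gammaSeries_zero]; exact MFilt.good_one _
  | add a b _ _ ha hb => rw [Groth.Agent.H17.gammaSeries_add]; exact MFilt.good_mul _ ha hb
  | neg a _ ha => exact hneg a ha

theorem list_prod_mem_Mstep (l : List (ℕ × K)) (hl : ∀ p ∈ l, p.2 ∈ Iaug P) :
    (l.map fun p => gamma p.1 p.2).prod ∈ Mstep P (l.map Prod.fst).sum := by
  induction l with
  | nil =>
    simp only [List.map_nil, List.prod_nil, List.sum_nil]
    exact (filtJ P).one_mem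
  | cons p l ih =>
    simp only [List.map_cons, List.prod_cons, List.sum_cons]
    refine (filtJ P).mul_mem _ _ _ _ ?_ (ih fun q hq => hl q (List.mem_cons_of_mem _ hq))
    have := good_gammaSeries_of_mem_Iaug P (hl p List.mem_cons_self) p.1
    rwa [Groth.Agent.H17.coeff_gammaSeries] at this

theorem list_prod_mem_J (l : List (ℕ × K)) (hl : ∀ p ∈ l, p.2 ∈ Iaug P)
    (h2 : 2 ≤ (l.map Prod.fst).sum) : (l.map fun p => gamma p.1 p.2).prod ∈ J P := by
  have h := list_prod_mem_Mstep P l hl
  obtain ⟨n, hn⟩ : ∃ n, (l.map Prod.fst).sum = n + 2 := ⟨(l.map Prod.fst).sum - 2, by omega⟩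
  rw [hn] at h
  exact h

/-- a difference of two sums of the same number of line elements lies in `Iaug` -/
theorem sum_sub_sum_mem_Iaug (s t : Multiset K) (hs : ∀ u ∈ s, P.IsLine u)
    (ht : ∀ u ∈ t, P.IsLine u) (hcard : Multiset.card s = Multiset.card t) :
    s.sum - t.sum ∈ Iaug P := by
  have key : ∀ s : Multiset K, (∀ u ∈ s, P.IsLine u) →
      s.sum - (Multiset.card s : K) ∈ Iaug P := by
    intro s
    induction s using Multiset.induction_on with
    | empty => intro _; simp
    | cons a s ih =>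
      intro hs
      have h1 : a - 1 ∈ Iaug P :=
        AddSubgroup.subset_closure ⟨a, 1, hs a (Multiset.mem_cons_self a s),
          Groth.Agent.H17.isLine_one P, rfl⟩
      have h2 := ih fun u hu => hs u (Multiset.mem_cons_of_mem hu)
      have : (a ::ₘ s).sum - (Multiset.card (a ::ₘ s) : K) =
          (a - 1) + (s.sum - (Multiset.card s : K)) := by
        rw [Multiset.sum_cons, Multiset.card_cons]; push_cast; ring
      rw [this]
      exact add_mem h1 h2
  have : s.sum - t.sum = (s.sum - (Multiset.card s : K)) - (t.sum - (Multiset.card t : K)) := by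
    rw [hcard]; ring
  rw [this]
  exact sub_mem (key s hs) (key t ht)

end Groth.Agent.H86.KL
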