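import Groth.Agent.H86.KL1

/-!
# Line elements and `Gr^1` of the γ-filtration
-/

set_option autoImplicit false

namespace Groth.Agent.H86.KL

open LambdaRing PowerSeries Finset Groth.Agent.H86.KE

universe u

variable {K : Type u} [CommRing K] [LambdaOps K] (P : PosStructure K)

theorem isExtension_id : IsExtension P P (RingHom.id K) where
  isLambdaHom := fun _ _ => rfl
  injective := fun _ _ h => h
  aug_comp := fun _ => rfl
  pos_subset := fun _ he => he

/-- finitely many positive elements split simultaneously in some extension -/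
theorem exists_split_list (hK : HasSplitting K P) (L : List K) (hL : ∀ e ∈ L, e ∈ P.pos) :
    ∃ (K' : Type u) (_ : CommRing K') (_ : LambdaOps K') (P' : PosStructure K') (f : K →+* K'),
      HasSplitting K' P' ∧ IsExtension P P' f ∧
      ∀ e ∈ L, ∃ s : Multiset K', (∀ u ∈ s, P'.IsLine u) ∧ s.sum = f e := by
  induction L with
  | nil => exact ⟨K, _, _, P, RingHom.id K, hK, isExtension_id P, by simp⟩
  | cons e L ih =>
    obtain ⟨K₁, _, _, P₁, f₁, hK₁, hf₁, hs₁⟩ := ih fun x hx => hL x (List.mem_cons_of_mem _ hx)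
    obtain ⟨K₂, _, _, P₂, f₂, hK₂, hf₂, s₂, hs₂, hsum₂⟩ :=
      Groth.Agent.H17.exists_split_one P₁ hK₁ (f₁ e) (hf₁.pos_subset e (hL e List.mem_cons_self))
    refine ⟨K₂, _, _, P₂, f₂.comp f₁, hK₂, Groth.Agent.H17.isExtension_comp hf₁ hf₂, ?_⟩
    intro x hx
    rcases List.mem_cons.mp hx with rfl | hx
    · exact ⟨s₂, hs₂, hsum₂⟩
    · obtain ⟨s, hs, hsum⟩ := hs₁ x hx
      refine ⟨s.map f₂, ?_, ?_⟩
      · intro u hu
        obtain ⟨v, hv, rfl⟩ := Multiset.mem_map.mp hu
        exact Groth.Agent.H17.isExtension_isLine hf₂ (hs v hv)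
      · rw [← map_multiset_sum, hsum]; rfl

theorem Q_of_gen (hK : HasSplitting K P) {y : K} (hy : y ∈ Groth.Agent.H17.gammaGen P 2) :
    Q P y := by
  obtain ⟨l, hl0, hlsum, rfl⟩ := hy
  choose E1 E2 hE1 hE2 hE using P.exists_sub
  obtain ⟨K', _, _, P', f, -, hf, hs⟩ := exists_split_list P hK
    (l.map (fun p => E1 p.2) ++ l.map (fun p => E2 p.2)) (by
      intro x hx
      rcases List.mem_append.mp hx with h | h
      · obtain ⟨p, -, rfl⟩ := List.mem_map.mp h; exact hE1 _
      · obtain ⟨p, -, rfl⟩ := List.mem_map.mp h; exact hE2 _)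
  have hI : ∀ p ∈ l, f p.2 ∈ Iaug P' := by
    intro p hp
    obtain ⟨s1, hs1, hsum1⟩ := hs (E1 p.2)
      (List.mem_append_left _ (List.mem_map.mpr ⟨p, hp, rfl⟩))
    obtain ⟨s2, hs2, hsum2⟩ := hs (E2 p.2)
      (List.mem_append_right _ (List.mem_map.mpr ⟨p, hp, rfl⟩))
    have hcard : Multiset.card s1 = Multiset.card s2 := by
      have h1 := Groth.Agent.H17.aug_sum_lines P' s1 hs1
      have h2 := Groth.Agent.H17.aug_sum_lines P' s2 hs2
      rw [hsum1, hf.aug_comp] at h1
      rw [hsum2, hf.aug_comp] at h2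
      have h3 := hl0 p hp
      rw [hE p.2, map_sub, h1, h2] at h3
      exact_mod_cast sub_eq_zero.mp h3
    have : f p.2 = s1.sum - s2.sum := by
      rw [hsum1, hsum2, ← map_sub, ← hE]
    rw [this]
    exact sum_sub_sum_mem_Iaug P' s1 s2 hs1 hs2 hcard
  have hJ : f ((l.map fun p => gamma p.1 p.2).prod) ∈ J P' := by
    have h1 := list_prod_mem_J P' (l.map fun p => (p.1, f p.2)) (by
      intro q hq
      obtain ⟨p, hp, rfl⟩ := List.mem_map.mp hq
      exact hI p hp) (by simpa [List.map_map, Function.comp_def] using hlsum)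
    rw [map_list_prod, List.map_map]
    rw [List.map_map] at h1
    have hlist : List.map (⇑f ∘ fun p : ℕ × K => gamma p.1 p.2) l =
        List.map ((fun p : ℕ × K' => gamma p.1 p.2) ∘ fun p : ℕ × K => (p.1, f p.2)) l := by
      apply List.map_congr_left
      intro p _
      simp only [Function.comp_apply]
      rw [Groth.Agent.H17.map_gamma f hf.isLambdaHom]
    rw [hlist]
    exact h1
  have hQ := Q_of_mem_J P' hJ
  intro e1 e2 h1 h2 h
  apply hf.injective
  rw [map_det P hf, map_det P hf]
  exact hQ (f e1) (f e2) (hf.pos_subset e1 h1) (hf.pos_subset e2 h2) (by rw [← map_sub, h])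

theorem Q_of_mem_F2 (hK : HasSplitting K P) {y : K} (hy : y ∈ gammaFiltration P 2) : Q P y := by
  rw [Groth.Agent.H17.gammaFiltration_pos P (by norm_num)] at hy
  induction hy using AddSubgroup.closure_induction with
  | mem y hy => exact Q_of_gen P hK hy
  | zero => exact Q_zero P
  | add a b _ _ ha hb => exact Q_add P ha hb
  | neg a _ ha => exact Q_neg P ha

/-- a line element congruent to `1` modulo `F^2` equals `1` -/
theorem line_eq_one (hK : HasSplitting K P) {w : K} (hw : P.IsLine w)
    (h : w - 1 ∈ gammaFiltration P 2) : w = 1 := by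
  have := Q_of_mem_F2 P hK h w 1 hw.1 (Groth.Agent.H17.isLine_one P).1 rfl
  rwa [det_line P hw, det_line P (Groth.Agent.H17.isLine_one P)] at this

/-- line elements congruent modulo `F^2` are equal -/
theorem line_eq_of_sub_mem (hK : HasSplitting K P)
    (hLinv : ∀ w : K, P.IsLine w → ∃ w' : K, P.IsLine w' ∧ w * w' = 1)
    {u v : K} (hu : P.IsLine u) (hv : P.IsLine v) (h : u - v ∈ gammaFiltration P 2) : u = v := by
  obtain ⟨v', hv', hvv⟩ := hLinv v hv
  have h1 : u * v' - 1 ∈ gammaFiltration P 2 := by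
    have : u * v' - 1 = v' * (u - v) := by rw [← hvv]; ring
    rw [this]
    exact Groth.Agent.H17.mul_mem_gammaFiltration_left P 2 v' _ h
  have h2 := line_eq_one P hK (Groth.Agent.H17.isLine_mul P hu hv') h1
  calc u = u * (v * v') := by rw [hvv, mul_one]
    _ = (u * v') * v := by ring
    _ = v := by rw [h2, one_mul]

/-- `Σ_i γ^i(e - m) = λ^m(e)` for a positive element of augmentation `m` -/
theorem sum_gamma_eq_det {e : K} (he : e ∈ P.pos) :
    ∑ i ∈ range ((P.aug e).toNat + 1), gamma i (e - ((P.aug e).toNat : K)) = det P e := by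
  have h := congrArg (Polynomial.eval 1) (Groth.Agent.H17.gamma_poly_identity P e he)
  simp only [Polynomial.eval_finset_sum, Polynomial.eval_mul, Polynomial.eval_C,
    Polynomial.eval_pow, Polynomial.eval_X, Polynomial.eval_sub, Polynomial.eval_one,
    one_pow, mul_one, sub_self] at h
  rw [h, Finset.sum_range_succ, Finset.sum_eq_zero, zero_add, Nat.sub_self, pow_zero, mul_one]
  · rfl
  · intro i hi
    have := Finset.mem_range.mp hi
    rw [zero_pow (by omega), mul_zero]

theorem aug_list_prod_eq_zero (l : List (ℕ × K)) (hl : ∀ p ∈ l, P.aug p.2 = 0)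
    (h1 : (l.map Prod.fst).sum = 1) : P.aug ((l.map fun p => gamma p.1 p.2).prod) = 0 := by
  induction l with
  | nil => simp at h1
  | cons p l ih =>
    simp only [List.map_cons, List.prod_cons, List.sum_cons] at h1 ⊢
    rw [map_mul]
    by_cases hp : p.1 = 0
    · rw [ih (fun q hq => hl q (List.mem_cons_of_mem _ hq)) (by omega), mul_zero]
    · have hp1 : p.1 = 1 := by omega
      rw [hp1, Groth.Agent.H17.gamma_one, hl p List.mem_cons_self, zero_mul]

/-- every element of `F^1` is congruent modulo `F^2` to `u - 1` for a line element `u` -/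
theorem exists_line_sub (hK : HasSplitting K P)
    (hLinv : ∀ w : K, P.IsLine w → ∃ w' : K, P.IsLine w' ∧ w * w' = 1)
    (hdet : ∀ e : K, e ∈ P.pos → LambdaOps.lam (P.aug e).toNat e ∈ P.pos)
    {x : K} (hx : x ∈ gammaFiltration P 1) :
    ∃ u : K, P.IsLine u ∧ x - (u - 1) ∈ gammaFiltration P 2 := by
  have hF1 : ∀ u, P.IsLine u → u - 1 ∈ gammaFiltration P 1 := by
    intro u hu
    apply Groth.Agent.H17.mem_gammaFiltration_one_of_aug
    rw [map_sub, hu.2, map_one, sub_self]
  have hmul : ∀ u v, P.IsLine u → P.IsLine v → (u - 1) * (v - 1) ∈ gammaFiltration P 2 :=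
    fun u v hu hv => Groth.Agent.H17.mul_mem_gammaFiltration P 1 1 _ _ (hF1 u hu) (hF1 v hv)
  let S : AddSubgroup K :=
    { carrier := {x | ∃ u : K, P.IsLine u ∧ x - (u - 1) ∈ gammaFiltration P 2}
      zero_mem' := ⟨1, Groth.Agent.H17.isLine_one P, by simp⟩
      add_mem' := by
        rintro x y ⟨u, hu, hxu⟩ ⟨v, hv, hyv⟩
        refine ⟨u * v, Groth.Agent.H17.isLine_mul P hu hv, ?_⟩
        have : x + y - (u * v - 1) = (x - (u - 1)) + (y - (v - 1)) - (u - 1) * (v - 1) := by ring
        rw [this]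
        exact sub_mem (add_mem hxu hyv) (hmul u v hu hv)
      neg_mem' := by
        rintro x ⟨u, hu, hxu⟩
        obtain ⟨u', hu', huu⟩ := hLinv u hu
        refine ⟨u', hu', ?_⟩
        have : -x - (u' - 1) = -(x - (u - 1)) + (u - 1) * (u' - 1) := by
          have : (u - 1) * (u' - 1) = 2 - u - u' := by linear_combination huu
          rw [this]; ring
        rw [this]
        exact add_mem (neg_mem hxu) (hmul u u' hu hu') }
  have hF2 : ∀ y, y ∈ gammaFiltration P 2 → y ∈ S := by
    intro y hy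
    exact ⟨1, Groth.Agent.H17.isLine_one P, by simpa using hy⟩
  -- positive elements minus their augmentation
  have hpos : ∀ e, e ∈ P.pos → e - ((P.aug e).toNat : K) ∈ S := by
    intro e he
    have haug1 : P.aug (det P e) = 1 := by
      have := Groth.Agent.H17.aug_lam_eq_choose P hK e he (P.aug e).toNat
      simpa [det] using this
    refine ⟨det P e, ⟨hdet e he, haug1⟩, ?_⟩
    have hm : 1 ≤ (P.aug e).toNat := by have := P.aug_pos e he; omega
    have hsum := sum_gamma_eq_det P he
    obtain ⟨m, hm'⟩ : ∃ m, (P.aug e).toNat = m + 1 := ⟨(P.aug e).toNat - 1, by omega⟩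
    rw [hm'] at hsum ⊢
    rw [Finset.sum_range_succ', Finset.sum_range_succ'] at hsum
    simp only [zero_add] at hsum
    have hg0 : gamma 0 (e - ((m + 1 : ℕ) : K)) = 1 := by simp [gamma]
    rw [hg0, Groth.Agent.H17.gamma_one] at hsum
    have : e - ((m + 1 : ℕ) : K) - (det P e - 1) =
        -∑ k ∈ range m, gamma (k + 1 + 1) (e - ((m + 1 : ℕ) : K)) := by
      rw [← hsum]; ring
    rw [this]
    apply neg_mem
    refine sum_mem fun k _ => ?_
    have haug0 : P.aug (e - ((m + 1 : ℕ) : K)) = 0 := by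
      have := Int.toNat_of_nonneg (P.aug_pos e he).le
      rw [map_sub, map_natCast, ← hm', this, sub_self]
    exact Groth.Agent.H17.gammaFiltration_antitone P (by omega)
      (Groth.Agent.H17.gamma_mem_gammaFiltration P (k + 1 + 1) _ haug0)
  have haug : ∀ y, P.aug y = 0 → y ∈ S := by
    intro y hy
    obtain ⟨e1, e2, h1, h2, rfl⟩ := P.exists_sub y
    have h12 : (P.aug e1).toNat = (P.aug e2).toNat := by
      rw [map_sub] at hy
      rw [sub_eq_zero.mp hy]
    have : e1 - e2 = (e1 - ((P.aug e1).toNat : K)) - (e2 - ((P.aug e2).toNat : K)) := by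
      rw [h12]; ring
    rw [this]
    exact sub_mem (hpos e1 h1) (hpos e2 h2)
  have hle : gammaFiltration P 1 ≤ S := by
    rw [Groth.Agent.H17.gammaFiltration_pos P one_ne_zero, AddSubgroup.closure_le]
    rintro y ⟨l, hl0, hlsum, rfl⟩
    by_cases h2 : 2 ≤ (l.map Prod.fst).sum
    · apply hF2
      rw [Groth.Agent.H17.gammaFiltration_pos P (by norm_num)]
      exact AddSubgroup.subset_closure ⟨l, hl0, h2, rfl⟩
    · exact haug _ (aug_list_prod_eq_zero P l hl0 (by omega))
  exact hle hx

end Groth.Agent.H86.KL
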