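import Groth.Statements.S0993

/-! # H86/KS1: basics on `KZero.K0` of an abelian category (additivity, iso-invariance, Euler char). -/

set_option autoImplicit false
universe v v' u u'
open CategoryTheory CategoryTheory.Limits ZeroObject

namespace Groth.Agent.H86.KS

open KZero

section Basic

variable {A : Type u} [Category.{v} A] [Abelian A]

theorem cl_shortExact (S : ShortComplex A) (hS : S.ShortExact) :
    cl S.X₂ = cl S.X₁ + cl S.X₃ := by
  have h : (FreeAbelianGroup.of S.X₂ - FreeAbelianGroup.of S.X₁ - FreeAbelianGroup.of S.X₃ :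
      FreeAbelianGroup A) ∈ relAb A :=
    AddSubgroup.subset_closure ⟨S, hS, rfl⟩
  have h2 := (QuotientAddGroup.eq_zero_iff _).2 h
  simp only [QuotientAddGroup.mk_sub] at h2
  unfold cl
  rw [sub_sub, sub_eq_zero] at h2
  exact h2

theorem cl_isZero {X : A} (hX : IsZero X) : cl X = 0 := by
  have hS : (ShortComplex.mk (0 : X ⟶ X) (0 : X ⟶ X) zero_comp).ShortExact := by
    refine ShortComplex.ShortExact.mk' ?_ ?_ ?_
    · exact ShortComplex.exact_of_isZero_X₂ _ hX
    · exact ⟨fun _ _ _ => hX.eq_of_tgt _ _⟩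
    · exact ⟨fun _ _ _ => hX.eq_of_src _ _⟩
  have := cl_shortExact _ hS
  simpa using this

theorem cl_iso {X Y : A} (e : X ≅ Y) : cl X = cl Y := by
  have hS : (ShortComplex.mk e.hom (0 : Y ⟶ (0 : A)) comp_zero).ShortExact := by
    refine ShortComplex.ShortExact.mk' ?_ ?_ ?_
    · exact (ShortComplex.exact_iff_epi _ rfl).2 (by dsimp; infer_instance)
    · dsimp; infer_instance
    · exact ⟨fun _ _ _ => (isZero_zero A).eq_of_src _ _⟩
  have := cl_shortExact _ hS
  simp only [cl_isZero (isZero_zero A), add_zero] at this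
  exact this.symm

theorem cl_biprod (X Y : A) : cl (X ⊞ Y) = cl X + cl Y := by
  have hS : (ShortComplex.mk (biprod.inl : X ⟶ X ⊞ Y) (biprod.snd : X ⊞ Y ⟶ Y)
      biprod.inl_snd).ShortExact :=
    (ShortComplex.Splitting.ofHasBinaryBiproduct X Y).shortExact
  exact cl_shortExact _ hS

/-- `0 → ker f → X → im f → 0`. -/
theorem shortExact_ker_im {X Y : A} (f : X ⟶ Y) :
    (ShortComplex.mk (kernel.ι f) (Abelian.factorThruImage f)
      (by rw [← cancel_mono (Abelian.image.ι f)]; simp)).ShortExact := by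
  refine ShortComplex.ShortExact.mk' ?_ (by dsimp; infer_instance) (by dsimp; infer_instance)
  apply ShortComplex.exact_of_f_is_kernel
  dsimp
  refine KernelFork.IsLimit.ofι' _ _ (fun {W} k hk => ?_)
  have hk' : k ≫ f = 0 := by
    rw [← Abelian.image.fac f, ← Category.assoc, hk, zero_comp]
  exact ⟨kernel.lift f k hk', by simp⟩

/-- `0 → im f → Y → coker f → 0`. -/
theorem shortExact_im_coker {X Y : A} (f : X ⟶ Y) :
    (ShortComplex.mk (Abelian.image.ι f) (cokernel.π f) (by simp)).ShortExact := by
  refine ShortComplex.ShortExact.mk' ?_ (by dsimp; infer_instance) (by dsimp; infer_instance)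
  apply ShortComplex.exact_of_f_is_kernel
  exact kernelIsKernel (cokernel.π f)

theorem cl_ker_im {X Y : A} (f : X ⟶ Y) : cl X = cl (kernel f) + cl (Abelian.image f) :=
  cl_shortExact _ (shortExact_ker_im f)

theorem cl_im_coker {X Y : A} (f : X ⟶ Y) : cl Y = cl (Abelian.image f) + cl (cokernel f) :=
  cl_shortExact _ (shortExact_im_coker f)

/-- Euler characteristic: `[X] - [Y] = [ker f] - [coker f]`. -/
theorem cl_sub_cl {X Y : A} (f : X ⟶ Y) : cl X - cl Y = cl (kernel f) - cl (cokernel f) := by
  rw [cl_ker_im f, cl_im_coker f]; abel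

theorem K0_induction {motive : K0 A → Prop} (x : K0 A) (zero : motive 0)
    (cl : ∀ X : A, motive (cl X)) (neg : ∀ x, motive x → motive (-x))
    (add : ∀ x y, motive x → motive y → motive (x + y)) : motive x := by
  induction x using QuotientAddGroup.induction_on with
  | H z =>
    induction z using FreeAbelianGroup.induction_on with
    | zero => exact zero
    | of X => exact cl X
    | neg X h => exact neg _ h
    | add x y hx hy => exact add _ _ hx hy

end Basic

section Sub

variable {A : Type u} [Category.{v} A] [Abelian A] (P : ObjectProperty A)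

theorem clSub_of {X : A} (h : P X) :
    clSub P X = QuotientAddGroup.mk (FreeAbelianGroup.of (⟨X, h⟩ : Subtype P)) := by
  unfold clSub; rw [dif_pos h]

theorem clSub_shortExact (S : ShortComplex A) (hS : S.ShortExact)
    (h₁ : P S.X₁) (h₂ : P S.X₂) (h₃ : P S.X₃) :
    clSub P S.X₂ = clSub P S.X₁ + clSub P S.X₃ := by
  have h : (FreeAbelianGroup.of (⟨S.X₂, h₂⟩ : Subtype P) - FreeAbelianGroup.of ⟨S.X₁, h₁⟩ -
      FreeAbelianGroup.of ⟨S.X₃, h₃⟩ : FreeAbelianGroup (Subtype P)) ∈ relSub P :=
    AddSubgroup.subset_closure ⟨S, h₁, h₂, h₃, hS, rfl⟩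
  have h2 := (QuotientAddGroup.eq_zero_iff _).2 h
  simp only [QuotientAddGroup.mk_sub] at h2
  rw [clSub_of P h₁, clSub_of P h₂, clSub_of P h₃]
  rw [sub_sub, sub_eq_zero] at h2
  exact h2

variable [P.IsSerreClass]

theorem clSub_isZero {X : A} (hX : IsZero X) : clSub P X = 0 := by
  have hP : P X := P.prop_of_isZero hX
  have hS : (ShortComplex.mk (0 : X ⟶ X) (0 : X ⟶ X) zero_comp).ShortExact := by
    refine ShortComplex.ShortExact.mk' ?_ ?_ ?_
    · exact ShortComplex.exact_of_isZero_X₂ _ hX
    · exact ⟨fun _ _ _ => hX.eq_of_tgt _ _⟩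
    · exact ⟨fun _ _ _ => hX.eq_of_src _ _⟩
  have := clSub_shortExact P _ hS hP hP hP
  simpa using this

theorem clSub_iso {X Y : A} (e : X ≅ Y) (hX : P X) : clSub P X = clSub P Y := by
  have hY : P Y := P.prop_of_iso e hX
  have hS : (ShortComplex.mk e.hom (0 : Y ⟶ (0 : A)) comp_zero).ShortExact := by
    refine ShortComplex.ShortExact.mk' ?_ ?_ ?_
    · exact (ShortComplex.exact_iff_epi _ rfl).2 (by dsimp; infer_instance)
    · dsimp; infer_instance
    · exact ⟨fun _ _ _ => (isZero_zero A).eq_of_src _ _⟩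
  have := clSub_shortExact P _ hS hX hY (P.prop_of_isZero (isZero_zero A))
  simp only [clSub_isZero P (isZero_zero A), add_zero] at this
  exact this.symm

theorem prop_biprod {X Y : A} (hX : P X) (hY : P Y) : P (X ⊞ Y) := by
  have hS : (ShortComplex.mk (biprod.inl : X ⟶ X ⊞ Y) (biprod.snd : X ⊞ Y ⟶ Y)
      biprod.inl_snd).ShortExact :=
    (ShortComplex.Splitting.ofHasBinaryBiproduct X Y).shortExact
  exact P.prop_X₂_of_shortExact hS hX hY

theorem clSub_biprod {X Y : A} (hX : P X) (hY : P Y) :
    clSub P (X ⊞ Y) = clSub P X + clSub P Y := by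
  have hS : (ShortComplex.mk (biprod.inl : X ⟶ X ⊞ Y) (biprod.snd : X ⊞ Y ⟶ Y)
      biprod.inl_snd).ShortExact :=
    (ShortComplex.Splitting.ofHasBinaryBiproduct X Y).shortExact
  exact clSub_shortExact P _ hS hX (prop_biprod P hX hY) hY

/-- The map `K₀(P) → K₀(A)`. -/
noncomputable def iotaHom : K0sub P →+ K0 A :=
  QuotientAddGroup.map (relSub P) (relAb A) (FreeAbelianGroup.map Subtype.val) (by
    rw [relSub, AddSubgroup.closure_le]
    rintro x ⟨S, h₁, h₂, h₃, hS, rfl⟩
    simp only [AddSubgroup.coe_comap, Set.mem_preimage, map_sub, FreeAbelianGroup.map_of_apply,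
      SetLike.mem_coe]
    exact AddSubgroup.subset_closure ⟨S, hS, rfl⟩)

theorem iotaHom_clSub {X : A} (h : P X) : iotaHom P (clSub P X) = cl X := by
  rw [clSub_of P h]
  simp [iotaHom, cl]

theorem K0sub_induction {motive : K0sub P → Prop} (x : K0sub P) (zero : motive 0)
    (cl : ∀ (X : A) (_ : P X), motive (clSub P X)) (neg : ∀ x, motive x → motive (-x))
    (add : ∀ x y, motive x → motive y → motive (x + y)) : motive x := by
  induction x using QuotientAddGroup.induction_on with
  | H z =>
    induction z using FreeAbelianGroup.induction_on with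
    | zero => exact zero
    | of X => have := cl X.1 X.2; rwa [clSub_of P X.2] at this
    | neg X h => exact neg _ h
    | add x y hx hy => exact add _ _ hx hy

end Sub

section Lam

variable {A : Type u} [Category.{v} A] [Abelian A]
  {Q : Type u'} [Category.{v'} Q] [Abelian Q]
  (L : A ⥤ Q) [L.Additive] [PreservesFiniteLimits L] [PreservesFiniteColimits L]

/-- The map `K₀(A) → K₀(Q)` induced by an exact functor. -/
noncomputable def lamHom : K0 A →+ K0 Q :=
  QuotientAddGroup.map (relAb A) (relAb Q) (FreeAbelianGroup.map L.obj) (by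
    rw [relAb, AddSubgroup.closure_le]
    rintro x ⟨S, hS, rfl⟩
    simp only [AddSubgroup.coe_comap, Set.mem_preimage, map_sub, FreeAbelianGroup.map_of_apply,
      SetLike.mem_coe]
    exact AddSubgroup.subset_closure ⟨S.map L, hS.map_of_exact L, rfl⟩)

theorem lamHom_cl (X : A) : lamHom L (cl X) = cl (L.obj X) := by
  simp [lamHom, cl]

end Lam

end Groth.Agent.H86.KS
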