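import Groth.Agent.H86.KS1
import Mathlib.CategoryTheory.IsomorphismClasses
import Mathlib.Algebra.Homology.ShortComplex.Preadditive

/-! # H86/KS3: the commutative monoid of isomorphism classes, exact 2-periodic pairs,
homology of a direct sum with an exact pair. -/

set_option autoImplicit false
universe v v' u u'
open CategoryTheory CategoryTheory.Limits ZeroObject

namespace Groth.Agent.H86.KS

open KZero

section IsoC

variable (A : Type u) [Category.{v} A] [Abelian A]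

/-- Isomorphism classes of objects. -/
def IsoC : Type u := Quotient (isIsomorphicSetoid A)

variable {A}

/-- The class of an object. -/
def IsoC.mk (X : A) : IsoC A := Quotient.mk (isIsomorphicSetoid A) X

theorem IsoC.mk_eq_iff {X Y : A} : IsoC.mk X = IsoC.mk Y ↔ Nonempty (X ≅ Y) :=
  Quotient.eq (r := isIsomorphicSetoid A)

theorem IsoC.exists_rep (c : IsoC A) : ∃ X : A, IsoC.mk X = c := Quotient.exists_rep c

/-- `0 ⊞ X ≅ X`. -/
noncomputable def zeroBiprodIso (X : A) : (0 : A) ⊞ X ≅ X where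
  hom := biprod.snd
  inv := biprod.inr
  hom_inv_id := by
    apply biprod.hom_ext
    · exact (isZero_zero A).eq_of_tgt _ _
    · simp
  inv_hom_id := by simp

noncomputable instance : Add (IsoC A) where
  add := Quotient.map₂ (fun X Y => X ⊞ Y) (by
    rintro X X' ⟨e⟩ Y Y' ⟨e'⟩
    exact ⟨biprod.mapIso e e'⟩)

noncomputable instance : Zero (IsoC A) where
  zero := IsoC.mk 0

noncomputable instance : AddCommMonoid (IsoC A) where
  add_assoc := by
    rintro ⟨X⟩ ⟨Y⟩ ⟨Z⟩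
    exact Quotient.sound ⟨biprod.associator X Y Z⟩
  add_comm := by
    rintro ⟨X⟩ ⟨Y⟩
    exact Quotient.sound ⟨biprod.braiding X Y⟩
  zero_add := by
    rintro ⟨X⟩
    exact Quotient.sound ⟨zeroBiprodIso X⟩
  add_zero := by
    rintro ⟨X⟩
    exact Quotient.sound ⟨biprod.braiding X 0 ≪≫ zeroBiprodIso X⟩
  nsmul := nsmulRec

theorem IsoC.mk_biprod (X Y : A) : IsoC.mk (X ⊞ Y) = IsoC.mk X + IsoC.mk Y := rfl

theorem IsoC.mk_zero : IsoC.mk (0 : A) = 0 := rfl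

end IsoC

section BSum

variable {A : Type u} [Category.{v} A] [Abelian A]

/-- Direct sum of two short complexes, via `biprod.map`. -/
noncomputable def bsum (S₁ S₂ : ShortComplex A) : ShortComplex A :=
  ShortComplex.mk (biprod.map S₁.f S₂.f) (biprod.map S₁.g S₂.g) (by
    apply biprod.hom_ext <;> simp)

/-- projection to the first summand -/
noncomputable def bsumP₁ (S₁ S₂ : ShortComplex A) : bsum S₁ S₂ ⟶ S₁ where
  τ₁ := biprod.fst
  τ₂ := biprod.fst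
  τ₃ := biprod.fst
  comm₁₂ := by simp [bsum]
  comm₂₃ := by simp [bsum]

/-- projection to the second summand -/
noncomputable def bsumP₂ (S₁ S₂ : ShortComplex A) : bsum S₁ S₂ ⟶ S₂ where
  τ₁ := biprod.snd
  τ₂ := biprod.snd
  τ₃ := biprod.snd
  comm₁₂ := by simp [bsum]
  comm₂₃ := by simp [bsum]

/-- inclusion of the first summand -/
noncomputable def bsumJ₁ (S₁ S₂ : ShortComplex A) : S₁ ⟶ bsum S₁ S₂ where
  τ₁ := biprod.inl
  τ₂ := biprod.inl
  τ₃ := biprod.inl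
  comm₁₂ := by simp [bsum]
  comm₂₃ := by simp [bsum]

/-- inclusion of the second summand -/
noncomputable def bsumJ₂ (S₁ S₂ : ShortComplex A) : S₂ ⟶ bsum S₁ S₂ where
  τ₁ := biprod.inr
  τ₂ := biprod.inr
  τ₃ := biprod.inr
  comm₁₂ := by simp [bsum]
  comm₂₃ := by simp [bsum]

theorem bsum_total (S₁ S₂ : ShortComplex A) :
    bsumP₁ S₁ S₂ ≫ bsumJ₁ S₁ S₂ + bsumP₂ S₁ S₂ ≫ bsumJ₂ S₁ S₂ = 𝟙 (bsum S₁ S₂) := by
  ext
  · simp only [ShortComplex.add_τ₁, ShortComplex.comp_τ₁, ShortComplex.id_τ₁]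
    exact biprod.total
  · simp only [ShortComplex.add_τ₂, ShortComplex.comp_τ₂, ShortComplex.id_τ₂]
    exact biprod.total
  · simp only [ShortComplex.add_τ₃, ShortComplex.comp_τ₃, ShortComplex.id_τ₃]
    exact biprod.total

theorem bsumJ₁_P₁ (S₁ S₂ : ShortComplex A) : bsumJ₁ S₁ S₂ ≫ bsumP₁ S₁ S₂ = 𝟙 S₁ := by
  ext
  · simp only [ShortComplex.comp_τ₁, ShortComplex.id_τ₁]
    exact biprod.inl_fst
  · simp only [ShortComplex.comp_τ₂, ShortComplex.id_τ₂]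
    exact biprod.inl_fst
  · simp only [ShortComplex.comp_τ₃, ShortComplex.id_τ₃]
    exact biprod.inl_fst

/-- If `S₂` is exact then `H(S₁ ⊞ S₂) ≅ H(S₁)`. -/
noncomputable def bsumHomologyIso (S₁ S₂ : ShortComplex A) (h₂ : S₂.Exact) :
    (bsum S₁ S₂).homology ≅ S₁.homology where
  hom := ShortComplex.homologyMap (bsumP₁ S₁ S₂)
  inv := ShortComplex.homologyMap (bsumJ₁ S₁ S₂)
  hom_inv_id := by
    have hz : IsZero S₂.homology := (ShortComplex.exact_iff_isZero_homology S₂).1 h₂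
    have h : ShortComplex.homologyMap (bsumP₁ S₁ S₂ ≫ bsumJ₁ S₁ S₂ + bsumP₂ S₁ S₂ ≫ bsumJ₂ S₁ S₂)
        = ShortComplex.homologyMap (𝟙 (bsum S₁ S₂)) := by rw [bsum_total]
    rw [ShortComplex.homologyMap_add, ShortComplex.homologyMap_comp,
      ShortComplex.homologyMap_comp, ShortComplex.homologyMap_id] at h
    rw [hz.eq_of_tgt (ShortComplex.homologyMap (bsumP₂ S₁ S₂)) 0, zero_comp, add_zero] at h
    exact h
  inv_hom_id := by
    rw [← ShortComplex.homologyMap_comp, bsumJ₁_P₁, ShortComplex.homologyMap_id]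

theorem bsum_exact (S₁ S₂ : ShortComplex A) (h₁ : S₁.Exact) (h₂ : S₂.Exact) :
    (bsum S₁ S₂).Exact := by
  rw [ShortComplex.exact_iff_isZero_homology]
  exact ((ShortComplex.exact_iff_isZero_homology S₁).1 h₁).of_iso (bsumHomologyIso S₁ S₂ h₂)

end BSum

section ExactPair

variable {A : Type u} [Category.{v} A] [Abelian A]

/-- An exact 2-periodic complex `U ⇄ V`. -/
structure ExactPair (U V : A) where
  f : U ⟶ V
  g : V ⟶ U
  fg : f ≫ g = 0
  gf : g ≫ f = 0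
  ex₁ : (ShortComplex.mk f g fg).Exact
  ex₂ : (ShortComplex.mk g f gf).Exact

/-- swap -/
def ExactPair.swap {U V : A} (e : ExactPair U V) : ExactPair V U where
  f := e.g
  g := e.f
  fg := e.gf
  gf := e.fg
  ex₁ := e.ex₂
  ex₂ := e.ex₁

/-- The pair `(W, W, 𝟙, 0)`. -/
def ExactPair.idPair (W : A) : ExactPair W W where
  f := 𝟙 W
  g := 0
  fg := comp_zero
  gf := zero_comp
  ex₁ := (ShortComplex.exact_iff_epi _ rfl).2 (by dsimp; infer_instance)
  ex₂ := (ShortComplex.exact_iff_mono _ rfl).2 (by dsimp; infer_instance)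

/-- The zero pair. -/
noncomputable def ExactPair.zero : ExactPair (0 : A) (0 : A) := ExactPair.idPair 0

/-- direct sum -/
noncomputable def ExactPair.sum {U₁ V₁ U₂ V₂ : A} (e₁ : ExactPair U₁ V₁) (e₂ : ExactPair U₂ V₂) :
    ExactPair (U₁ ⊞ U₂) (V₁ ⊞ V₂) where
  f := biprod.map e₁.f e₂.f
  g := biprod.map e₁.g e₂.g
  fg := by apply biprod.hom_ext <;> simp [e₁.fg, e₂.fg]
  gf := by apply biprod.hom_ext <;> simp [e₁.gf, e₂.gf]
  ex₁ := bsum_exact (ShortComplex.mk e₁.f e₁.g e₁.fg) (ShortComplex.mk e₂.f e₂.g e₂.fg)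
    e₁.ex₁ e₂.ex₁
  ex₂ := bsum_exact (ShortComplex.mk e₁.g e₁.f e₁.gf) (ShortComplex.mk e₂.g e₂.f e₂.gf)
    e₁.ex₂ e₂.ex₂

/-- The pair attached to a short exact sequence `0 → X₁ → X₂ → X₃ → 0`:
`X₁ ⊞ X₃ ⇄ X₂`. -/
noncomputable def ExactPair.ofShortExact (S : ShortComplex A) (hS : S.ShortExact) :
    ExactPair (S.X₁ ⊞ S.X₃) S.X₂ where
  f := biprod.desc S.f 0
  g := S.g ≫ biprod.inr
  fg := by apply biprod.hom_ext' <;> simp
  gf := by simp
  ex₁ := by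
    have := hS.mono_f
    have := hS.epi_g
    -- middle complex `X₁ ⊞ X₃ → X₂ → X₃`
    let Sm : ShortComplex A := ShortComplex.mk (biprod.desc S.f (0 : S.X₃ ⟶ S.X₂)) S.g
      (by apply biprod.hom_ext' <;> simp)
    let φ₁ : Sm ⟶ ShortComplex.mk (biprod.desc S.f (0 : S.X₃ ⟶ S.X₂))
        (S.g ≫ (biprod.inr : S.X₃ ⟶ S.X₁ ⊞ S.X₃))
        (by apply biprod.hom_ext' <;> simp) :=
      { τ₁ := 𝟙 _, τ₂ := 𝟙 _, τ₃ := biprod.inr
        comm₁₂ := by simp [Sm]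
        comm₂₃ := by simp [Sm] }
    let φ₂ : Sm ⟶ S :=
      { τ₁ := biprod.fst, τ₂ := 𝟙 _, τ₃ := 𝟙 _
        comm₁₂ := by
          apply biprod.hom_ext' <;> simp [Sm]
        comm₂₃ := by simp [Sm] }
    have : Epi φ₁.τ₁ := by dsimp [φ₁]; infer_instance
    have : IsIso φ₁.τ₂ := by dsimp [φ₁]; infer_instance
    have : Mono φ₁.τ₃ := by dsimp [φ₁]; infer_instance
    have : Epi φ₂.τ₁ := by dsimp [φ₂]; infer_instance
    have : IsIso φ₂.τ₂ := by dsimp [φ₂]; infer_instance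
    have : Mono φ₂.τ₃ := by dsimp [φ₂]; infer_instance
    rw [← ShortComplex.exact_iff_of_epi_of_isIso_of_mono φ₁,
      ShortComplex.exact_iff_of_epi_of_isIso_of_mono φ₂]
    exact hS.exact
  ex₂ := by
    have := hS.mono_f
    have := hS.epi_g
    -- `X₂ → X₁ ⊞ X₃ → X₁`
    let Sa : ShortComplex A := ShortComplex.mk (S.g ≫ (biprod.inr : S.X₃ ⟶ S.X₁ ⊞ S.X₃))
      (biprod.fst : S.X₁ ⊞ S.X₃ ⟶ S.X₁) (by simp)
    let Sc : ShortComplex A := ShortComplex.mk (biprod.inr : S.X₃ ⟶ S.X₁ ⊞ S.X₃)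
      (biprod.fst : S.X₁ ⊞ S.X₃ ⟶ S.X₁) (by simp)
    let φ₁ : Sa ⟶ ShortComplex.mk (S.g ≫ (biprod.inr : S.X₃ ⟶ S.X₁ ⊞ S.X₃))
        (biprod.desc S.f (0 : S.X₃ ⟶ S.X₂)) (by simp) :=
      { τ₁ := 𝟙 _, τ₂ := 𝟙 _, τ₃ := S.f
        comm₁₂ := by simp [Sa]
        comm₂₃ := by apply biprod.hom_ext' <;> simp [Sa] }
    let φ₂ : Sa ⟶ Sc :=
      { τ₁ := S.g, τ₂ := 𝟙 _, τ₃ := 𝟙 _
        comm₁₂ := by simp [Sa, Sc]
        comm₂₃ := by simp [Sa, Sc] }
    have : Epi φ₁.τ₁ := by dsimp [φ₁]; infer_instance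
    have : IsIso φ₁.τ₂ := by dsimp [φ₁]; infer_instance
    have : Mono φ₁.τ₃ := by dsimp [φ₁]; infer_instance
    have : Epi φ₂.τ₁ := by dsimp [φ₂]; infer_instance
    have : IsIso φ₂.τ₂ := by dsimp [φ₂]; infer_instance
    have : Mono φ₂.τ₃ := by dsimp [φ₂]; infer_instance
    rw [← ShortComplex.exact_iff_of_epi_of_isIso_of_mono φ₁,
      ShortComplex.exact_iff_of_epi_of_isIso_of_mono φ₂]
    have spl : Sc.Splitting :=
      { r := biprod.snd
        s := biprod.inl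
        f_r := by simp [Sc]
        s_g := by simp [Sc]
        id := by
          dsimp [Sc]
          rw [add_comm]
          exact biprod.total }
    exact spl.exact

/-- `H(X ⊞ U → Y ⊞ V → X ⊞ U) ≅ Y` for an exact pair `(U, V)`. -/
noncomputable def homologyIsoOfExactPair {U V : A} (e : ExactPair U V) (X Y : A) :
    (bsum (ShortComplex.mk (0 : X ⟶ Y) (0 : Y ⟶ X) zero_comp)
      (ShortComplex.mk e.f e.g e.fg)).homology ≅ Y :=
  bsumHomologyIso _ _ e.ex₁ ≪≫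
    (ShortComplex.LeftHomologyData.ofZeros
      (ShortComplex.mk (0 : X ⟶ Y) (0 : Y ⟶ X) zero_comp) rfl rfl).homologyIso

/-- From `X ⊞ U ≅ Y ⊞ V` with `(U, V)` an exact pair, a 2-periodic complex with homologies
`Y` and `X`. -/
theorem twoPeriodic_of_exactPair {U V : A} (e : ExactPair U V) (X Y : A)
    (θ : X ⊞ U ≅ Y ⊞ V) :
    ∃ (M : A) (φ ψ : M ⟶ M) (h₁ : φ ≫ ψ = 0) (h₂ : ψ ≫ φ = 0),
      Nonempty ((ShortComplex.mk φ ψ h₁).homology ≅ Y) ∧
      Nonempty ((ShortComplex.mk ψ φ h₂).homology ≅ X) := by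
  have z₁ : biprod.map (0 : X ⟶ Y) e.f ≫ biprod.map (0 : Y ⟶ X) e.g = 0 := by
    apply biprod.hom_ext <;> simp [e.fg]
  have z₂ : biprod.map (0 : Y ⟶ X) e.g ≫ biprod.map (0 : X ⟶ Y) e.f = 0 := by
    apply biprod.hom_ext <;> simp [e.gf]
  have h₁ : (biprod.map (0 : X ⟶ Y) e.f ≫ θ.inv) ≫ (θ.hom ≫ biprod.map (0 : Y ⟶ X) e.g) = 0 := by
    simp [z₁]
  have h₂ : (θ.hom ≫ biprod.map (0 : Y ⟶ X) e.g) ≫ (biprod.map (0 : X ⟶ Y) e.f ≫ θ.inv) = 0 := by
    simp [reassoc_of% z₂]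
  refine ⟨X ⊞ U, biprod.map (0 : X ⟶ Y) e.f ≫ θ.inv, θ.hom ≫ biprod.map (0 : Y ⟶ X) e.g,
    h₁, h₂, ⟨?_⟩, ⟨?_⟩⟩
  · have iso1 : ShortComplex.mk (biprod.map (0 : X ⟶ Y) e.f ≫ θ.inv)
        (θ.hom ≫ biprod.map (0 : Y ⟶ X) e.g) h₁ ≅
        bsum (ShortComplex.mk (0 : X ⟶ Y) (0 : Y ⟶ X) zero_comp)
          (ShortComplex.mk e.f e.g e.fg) :=
      ShortComplex.isoMk (Iso.refl _) θ (Iso.refl _) (by simp [bsum]) (by simp [bsum])
    exact ShortComplex.homologyMapIso iso1 ≪≫ homologyIsoOfExactPair e X Y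
  · have iso2 : ShortComplex.mk (θ.hom ≫ biprod.map (0 : Y ⟶ X) e.g)
        (biprod.map (0 : X ⟶ Y) e.f ≫ θ.inv) h₂ ≅
        bsum (ShortComplex.mk (0 : Y ⟶ X) (0 : X ⟶ Y) zero_comp)
          (ShortComplex.mk e.swap.f e.swap.g e.swap.fg) :=
      ShortComplex.isoMk θ (Iso.refl _) θ (by simp [bsum, ExactPair.swap])
        (by simp [bsum, ExactPair.swap])
    exact ShortComplex.homologyMapIso iso2 ≪≫ homologyIsoOfExactPair e.swap Y X

end ExactPair

end Groth.Agent.H86.KS
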