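import Groth.Agent.H86.KS3

/-! # H86/KS4: Heller-type description of the kernel of `K₀(P) → K₀(A)` by 2-periodic complexes. -/

set_option autoImplicit false
universe v v' u u'
open CategoryTheory CategoryTheory.Limits ZeroObject

namespace Groth.Agent.H86.KS

open KZero

section Euler

variable {A : Type u} [Category.{v} A] [Abelian A]

/-- `[X₁] - [ker g] = [ker f] - [H(S)]`. -/
theorem cl_sub_cl_kernel (S : ShortComplex A) :
    cl S.X₁ - cl (kernel S.g) = cl (kernel S.f) - cl S.homology := by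
  have h := cl_sub_cl S.toCycles
  have e1 : cl S.cycles = cl (kernel S.g) := cl_iso S.cyclesIsoKernel
  have e2 : cl (cokernel S.toCycles) = cl S.homology :=
    cl_iso (IsColimit.coconePointUniqueUpToIso (cokernelIsCokernel S.toCycles) S.homologyIsCokernel)
  have e3 : cl (kernel S.toCycles) = cl (kernel S.f) :=
    cl_iso ((kernelCompMono S.toCycles S.iCycles).symm ≪≫ kernelIsoOfEq S.toCycles_i)
  rw [e1, e2, e3] at h
  exact h

/-- The two homologies of a 2-periodic complex have the same class in `K₀`. -/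
theorem cl_homology_twoPeriodic {M : A} (φ ψ : M ⟶ M) (h₁ : φ ≫ ψ = 0) (h₂ : ψ ≫ φ = 0) :
    cl (ShortComplex.mk φ ψ h₁).homology = cl (ShortComplex.mk ψ φ h₂).homology := by
  have a : cl M - cl (kernel ψ) = cl (kernel φ) - cl (ShortComplex.mk φ ψ h₁).homology :=
    cl_sub_cl_kernel (ShortComplex.mk φ ψ h₁)
  have b : cl M - cl (kernel φ) = cl (kernel ψ) - cl (ShortComplex.mk ψ φ h₂).homology :=
    cl_sub_cl_kernel (ShortComplex.mk ψ φ h₂)
  have : cl (ShortComplex.mk φ ψ h₁).homology - cl (ShortComplex.mk ψ φ h₂).homology = 0 := by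
    have h3 : cl (ShortComplex.mk φ ψ h₁).homology - cl (ShortComplex.mk ψ φ h₂).homology =
      (cl (kernel ψ) - cl (ShortComplex.mk ψ φ h₂).homology) -
      (cl (kernel φ) - cl (ShortComplex.mk φ ψ h₁).homology) - (cl (kernel ψ) - cl (kernel φ)) := by
      abel
    rw [h3, ← a, ← b]; abel
  exact sub_eq_zero.1 this

end Euler

section Core

variable {A : Type u} [Category.{v} A] [Abelian A]

/-- sum of a list of generators in the free abelian group -/
def listSum {T : Type*} (s : List T) : FreeAbelianGroup T := (s.map FreeAbelianGroup.of).sum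

/-- sum of a list of isomorphism classes -/
noncomputable def isoSum (s : List A) : IsoC A := (s.map IsoC.mk).sum

@[simp] theorem listSum_nil {T : Type*} : listSum ([] : List T) = 0 := rfl
@[simp] theorem listSum_cons {T : Type*} (a : T) (s : List T) :
    listSum (a :: s) = FreeAbelianGroup.of a + listSum s := by simp [listSum]
@[simp] theorem listSum_append {T : Type*} (s t : List T) :
    listSum (s ++ t) = listSum s + listSum t := by simp [listSum]
@[simp] theorem isoSum_nil : isoSum ([] : List A) = 0 := rfl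
@[simp] theorem isoSum_cons (a : A) (s : List A) :
    isoSum (a :: s) = IsoC.mk a + isoSum s := by simp [isoSum]
@[simp] theorem isoSum_append (s t : List A) :
    isoSum (s ++ t) = isoSum s + isoSum t := by simp [isoSum]

open Classical in
/-- coefficient of `X` -/
noncomputable def countHom {T : Type*} (X : T) : FreeAbelianGroup T →+ ℤ :=
  FreeAbelianGroup.lift (fun Y => if Y = X then 1 else 0)

open Classical in
theorem countHom_listSum {T : Type*} (X : T) (s : List T) :
    countHom X (listSum s) = (s.count X : ℤ) := by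
  induction s with
  | nil => simp
  | cons a s ih =>
    rw [listSum_cons, map_add, ih, List.count_cons]
    simp only [countHom, FreeAbelianGroup.lift_apply_of, beq_iff_eq]
    split_ifs
    · rw [add_comm]; simp
    · rw [add_comm]; simp

theorem perm_of_listSum_eq {T : Type*} {s t : List T} (h : listSum s = listSum t) : s.Perm t := by
  classical
  rw [List.perm_iff_count]
  intro X
  have := congrArg (countHom X) h
  rw [countHom_listSum, countHom_listSum] at this
  exact_mod_cast this

theorem isoSum_eq_of_listSum_eq {s t : List A} (h : listSum s = listSum t) :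
    isoSum s = isoSum t :=
  ((perm_of_listSum_eq h).map IsoC.mk).sum_eq

theorem exists_lists {T : Type*} (x : FreeAbelianGroup T) :
    ∃ s t : List T, x = listSum s - listSum t := by
  induction x using FreeAbelianGroup.induction_on with
  | zero => exact ⟨[], [], by simp⟩
  | of a => exact ⟨[a], [], by simp⟩
  | neg a h => obtain ⟨s, t, h⟩ := h; exact ⟨t, s, by rw [h]; abel⟩
  | add x y hx hy =>
    obtain ⟨s, t, rfl⟩ := hx
    obtain ⟨s', t', rfl⟩ := hy
    exact ⟨s ++ s', t ++ t', by simp; abel⟩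

/-- Core lemma. -/
theorem core (z : FreeAbelianGroup A) (hz : z ∈ relAb A) :
    ∀ s t : List A, listSum s - listSum t = z →
      ∃ (U V : A) (_ : ExactPair U V), isoSum s + IsoC.mk U = isoSum t + IsoC.mk V := by
  unfold relAb at hz
  induction hz using AddSubgroup.closure_induction with
  | mem x hx =>
    obtain ⟨S, hS, rfl⟩ := hx
    intro s t h
    have h' : listSum (s ++ [S.X₁, S.X₃]) = listSum (t ++ [S.X₂]) := by
      simp only [listSum_append, listSum_cons, listSum_nil, add_zero]
      have := sub_eq_iff_eq_add.1 h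
      rw [this]; abel
    have h2 := isoSum_eq_of_listSum_eq h'
    refine ⟨S.X₁ ⊞ S.X₃, S.X₂, ExactPair.ofShortExact S hS, ?_⟩
    simp only [isoSum_append, isoSum_cons, isoSum_nil, add_zero] at h2
    rw [IsoC.mk_biprod]
    exact h2
  | zero =>
    intro s t h
    refine ⟨0, 0, ExactPair.zero, ?_⟩
    rw [isoSum_eq_of_listSum_eq (sub_eq_zero.1 h)]
  | add x y hx hy ihx ihy =>
    intro s t h
    obtain ⟨s₁, t₁, h₁⟩ := exists_lists x
    obtain ⟨U₁, V₁, e₁, E₁⟩ := ihx s₁ t₁ h₁.symm
    have h₂ : listSum (s ++ t₁) - listSum (t ++ s₁) = y := by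
      simp only [listSum_append]
      have : y = (listSum s - listSum t) - x := by rw [h]; abel
      rw [this, h₁]; abel
    obtain ⟨U₂, V₂, e₂, E₂⟩ := ihy _ _ h₂
    simp only [isoSum_append] at E₂
    obtain ⟨W, hW⟩ := IsoC.exists_rep (isoSum s₁)
    refine ⟨W ⊞ (U₁ ⊞ U₂), W ⊞ (V₁ ⊞ V₂), (ExactPair.idPair W).sum (e₁.sum e₂), ?_⟩
    simp only [IsoC.mk_biprod, hW]
    calc isoSum s + (isoSum s₁ + (IsoC.mk U₁ + IsoC.mk U₂))
        = isoSum s + ((isoSum s₁ + IsoC.mk U₁) + IsoC.mk U₂) := by abel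
      _ = isoSum s + ((isoSum t₁ + IsoC.mk V₁) + IsoC.mk U₂) := by rw [E₁]
      _ = (isoSum s + isoSum t₁ + IsoC.mk U₂) + IsoC.mk V₁ := by abel
      _ = (isoSum t + isoSum s₁ + IsoC.mk V₂) + IsoC.mk V₁ := by rw [E₂]
      _ = isoSum t + (isoSum s₁ + (IsoC.mk V₁ + IsoC.mk V₂)) := by abel
  | neg x hx ih =>
    intro s t h
    obtain ⟨U, V, e, E⟩ := ih t s (by rw [← neg_sub, h, neg_neg])
    exact ⟨V, U, e.swap, E.symm⟩

end Core

section Final

variable {A : Type u} [Category.{v} A] [Abelian A] (P : ObjectProperty A) [P.IsSerreClass]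

theorem map_val_listSum (s : List (Subtype P)) :
    FreeAbelianGroup.map Subtype.val (listSum s) = listSum (s.map Subtype.val) := by
  induction s with
  | nil => simp
  | cons a s ih => simp [ih]

theorem prop_and_clSub_of_isoSum (s : List (Subtype P)) :
    ∀ (X : A), IsoC.mk X = isoSum (s.map Subtype.val) →
      P X ∧ clSub P X = (QuotientAddGroup.mk (listSum s) : K0sub P) := by
  induction s with
  | nil =>
    intro X hX
    simp only [List.map_nil, isoSum_nil] at hX
    obtain ⟨e⟩ := IsoC.mk_eq_iff.1 (hX.trans IsoC.mk_zero.symm)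
    have hz : IsZero X := (isZero_zero A).of_iso e
    exact ⟨P.prop_of_isZero hz, by rw [clSub_isZero P hz]; simp⟩
  | cons Y s ih =>
    intro X hX
    obtain ⟨X', hX'⟩ := IsoC.exists_rep (isoSum (s.map Subtype.val))
    obtain ⟨hP', hcl'⟩ := ih X' hX'
    simp only [List.map_cons, isoSum_cons] at hX
    rw [← hX', ← IsoC.mk_biprod] at hX
    obtain ⟨e⟩ := IsoC.mk_eq_iff.1 hX
    have hPX : P X := P.prop_of_iso e.symm (prop_biprod P Y.2 hP')
    refine ⟨hPX, ?_⟩
    rw [clSub_iso P e hPX, clSub_biprod P Y.2 hP', hcl', clSub_of P Y.2, listSum_cons,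
      QuotientAddGroup.mk_add]

/-- Kernel of `K₀(P) → K₀(A)`: every element is `[H⁰] - [H¹]` of a 2-periodic complex. -/
theorem exists_twoPeriodic_of_iotaHom_eq_zero (x : K0sub P) (hx : iotaHom P x = 0) :
    ∃ (M : A) (φ ψ : M ⟶ M) (h₁ : φ ≫ ψ = 0) (h₂ : ψ ≫ φ = 0),
      P (ShortComplex.mk φ ψ h₁).homology ∧ P (ShortComplex.mk ψ φ h₂).homology ∧
      x = clSub P (ShortComplex.mk φ ψ h₁).homology -
        clSub P (ShortComplex.mk ψ φ h₂).homology := by
  obtain ⟨x', rfl⟩ := QuotientAddGroup.mk_surjective x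
  obtain ⟨t, s, hts⟩ := exists_lists x'
  have hz : FreeAbelianGroup.map Subtype.val x' ∈ relAb A := by
    have : iotaHom P (QuotientAddGroup.mk x') =
        (QuotientAddGroup.mk (FreeAbelianGroup.map Subtype.val x') : K0 A) := by
      simp [iotaHom]
    rw [this] at hx
    exact (QuotientAddGroup.eq_zero_iff _).1 hx
  have hz' : listSum (s.map Subtype.val) - listSum (t.map Subtype.val) ∈ relAb A := by
    have := (relAb A).neg_mem hz
    rw [hts, map_sub, map_val_listSum, map_val_listSum, neg_sub] at this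
    exact this
  obtain ⟨U, V, e, E⟩ := core _ hz' _ _ rfl
  obtain ⟨X, hX⟩ := IsoC.exists_rep (isoSum (s.map Subtype.val))
  obtain ⟨Y, hY⟩ := IsoC.exists_rep (isoSum (t.map Subtype.val))
  obtain ⟨hPX, hclX⟩ := prop_and_clSub_of_isoSum P s X hX
  obtain ⟨hPY, hclY⟩ := prop_and_clSub_of_isoSum P t Y hY
  rw [← hX, ← hY, ← IsoC.mk_biprod, ← IsoC.mk_biprod] at E
  obtain ⟨θ⟩ := IsoC.mk_eq_iff.1 E
  obtain ⟨M, φ, ψ, h₁, h₂, ⟨i₁⟩, ⟨i₂⟩⟩ := twoPeriodic_of_exactPair e X Y θ
  have p₁ : P (ShortComplex.mk φ ψ h₁).homology := P.prop_of_iso i₁.symm hPY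
  have p₂ : P (ShortComplex.mk ψ φ h₂).homology := P.prop_of_iso i₂.symm hPX
  refine ⟨M, φ, ψ, h₁, h₂, p₁, p₂, ?_⟩
  rw [clSub_iso P i₁ p₁, clSub_iso P i₂ p₂, hclX, hclY, hts, QuotientAddGroup.mk_sub]

theorem iotaHom_eq_zero_of_twoPeriodic {M : A} (φ ψ : M ⟶ M) (h₁ : φ ≫ ψ = 0) (h₂ : ψ ≫ φ = 0)
    (p₁ : P (ShortComplex.mk φ ψ h₁).homology) (p₂ : P (ShortComplex.mk ψ φ h₂).homology) :
    iotaHom P (clSub P (ShortComplex.mk φ ψ h₁).homology -
      clSub P (ShortComplex.mk ψ φ h₂).homology) = 0 := by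
  rw [map_sub, iotaHom_clSub P p₁, iotaHom_clSub P p₂, cl_homology_twoPeriodic φ ψ h₁ h₂, sub_self]

end Final

end Groth.Agent.H86.KS
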