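import Mathlib
import Groth.Agent.H86.BB2

set_option autoImplicit false

namespace Groth.Agent.H86.FF

open FunFld Module Groth.Agent.H55

variable {k K : Type*} [Field k] [Field K] [Algebra k K]

theorem sum_range_indicator (d a : ℕ) (h : a ≤ d) :
    ∑ n ∈ Finset.range d, (if n + 1 ≤ a then 1 else 0) = a := by
  rw [← Finset.card_filter]
  have : (Finset.range d).filter (fun n => n + 1 ≤ a) = Finset.range a := by
    ext n
    simp only [Finset.mem_filter, Finset.mem_range]
    omega
  rw [this, Finset.card_range]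

theorem one_le_vdim_of_mem (hK : IsFunctionField k K) {V : Submodule k K} {D : Divisor k K}
    {P : Place k K} {n : ℤ} {f : K} (hfV : f ∈ V) (hf0 : f ≠ 0)
    (hf : f ∈ L (D - Finsupp.single P n)) : 1 ≤ vdim V D P n := by
  unfold vdim
  have := finite_inf_L hK V (D - Finsupp.single P n)
  rw [Nat.succ_le_iff, Module.finrank_pos_iff_exists_ne_zero]
  exact ⟨⟨f, hfV, hf⟩, fun h => hf0 (congrArg Subtype.val h)⟩

theorem two_le_vdim_of_mem (hK : IsFunctionField k K) {V : Submodule k K} {D : Divisor k K}
    {P : Place k K} {n : ℤ} {f g : K} (hfV : f ∈ V) (hgV : g ∈ V)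
    (hli : LinearIndependent k ![f, g])
    (hf : f ∈ L (D - Finsupp.single P n)) (hg : g ∈ L (D - Finsupp.single P n)) :
    2 ≤ vdim V D P n := by
  unfold vdim
  have hfin := finite_inf_L hK V (D - Finsupp.single P n)
  have hle : Submodule.span k (Set.range ![f, g]) ≤ V ⊓ L (D - Finsupp.single P n) := by
    rw [Submodule.span_le]
    rintro x ⟨i, rfl⟩
    fin_cases i
    · exact ⟨hfV, hf⟩
    · exact ⟨hgV, hg⟩
  have h2 : finrank k ↥(Submodule.span k (Set.range ![f, g])) = 2 := by
    rw [finrank_span_eq_card hli]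
    simp
  have := Submodule.finrank_mono hle
  omega

theorem add_le_vsum_of_mem (hK : IsFunctionField k K) {V : Submodule k K} {D : Divisor k K}
    {P : Place k K} {d a a' : ℕ} (ha : a ≤ d) (ha' : a' ≤ d) {f g : K} (hfV : f ∈ V)
    (hgV : g ∈ V) (hli : LinearIndependent k ![f, g])
    (hf : f ∈ L (D - Finsupp.single P (a : ℤ))) (hg : g ∈ L (D - Finsupp.single P (a' : ℤ))) :
    a + a' ≤ vsum V D P d := by
  have hf0 : f ≠ 0 := by
    have := hli.ne_zero 0
    simpa using this
  have hg0 : g ≠ 0 := by
    have := hli.ne_zero 1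
    simpa using this
  have key : ∀ n : ℕ, (if n + 1 ≤ a then 1 else 0) + (if n + 1 ≤ a' then 1 else 0) ≤
      vdim V D P ((n : ℤ) + 1) := by
    intro n
    have hmono : ∀ {b : ℕ}, n + 1 ≤ b → L (D - Finsupp.single P (b : ℤ)) ≤
        L (D - Finsupp.single P ((n : ℤ) + 1)) := fun hb =>
      L_mono (sub_single_le D P (by exact_mod_cast hb))
    by_cases h1 : n + 1 ≤ a <;> by_cases h2 : n + 1 ≤ a'
    · rw [if_pos h1, if_pos h2]
      exact two_le_vdim_of_mem hK hfV hgV hli (hmono h1 hf) (hmono h2 hg)
    · rw [if_pos h1, if_neg h2]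
      exact one_le_vdim_of_mem hK hfV hf0 (hmono h1 hf)
    · rw [if_neg h1, if_pos h2]
      exact one_le_vdim_of_mem hK hgV hg0 (hmono h2 hg)
    · rw [if_neg h1, if_neg h2]
      exact Nat.zero_le _
  unfold vsum
  calc a + a' = ∑ n ∈ Finset.range d,
        ((if n + 1 ≤ a then 1 else 0) + (if n + 1 ≤ a' then 1 else 0)) := by
        rw [Finset.sum_add_distrib, sum_range_indicator d a ha, sum_range_indicator d a' ha']
    _ ≤ ∑ n ∈ Finset.range d, vdim V D P ((n : ℤ) + 1) := Finset.sum_le_sum (fun n _ => key n)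

theorem mem_L_sub_single_toNat (hK : IsFunctionField k K) {D : Divisor k K} {f : K}
    (hf0 : f ≠ 0) (hfL : f ∈ L D) (P : Place k K) :
    f ∈ L (D - Finsupp.single P ((((D + div k f) P).toNat : ℕ) : ℤ)) := by
  classical
  have h0 : 0 ≤ D + div k f := (mem_L_iff_div hK hf0).mp hfL
  rw [mem_L_iff_div hK hf0]
  intro R
  have hR := h0 R
  rw [Finsupp.zero_apply] at hR
  rw [Finsupp.zero_apply, Finsupp.add_apply, Finsupp.sub_apply, Finsupp.single_apply]
  rw [Finsupp.add_apply] at hR
  split_ifs with h
  · subst h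
    rw [Int.toNat_of_nonneg (h0 P), Finsupp.add_apply]
    omega
  · omega

theorem toNat_le_deg [IsAlgClosed k] (hK : IsFunctionField k K) {D : Divisor k K} {d : ℕ}
    (hD : D.deg = d) {f : K} (hf0 : f ≠ 0) (hfL : f ∈ L D) (P : Place k K) :
    ((D + div k f) P).toNat ≤ d := by
  classical
  have h0 : 0 ≤ D + div k f := (mem_L_iff_div hK hf0).mp hfL
  have hle : (Finsupp.single P ((D + div k f) P) : Divisor k K) ≤ D + div k f := by
    intro R
    rw [Finsupp.single_apply]
    split_ifs with h
    · rw [h]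
    · exact h0 R
  have := Divisor.deg_mono hle
  rw [deg_single_one hK, deg_add_div hK, hD] at this
  omega

/-- a divisor supported on two distinct places -/
theorem deg_of_support_two [IsAlgClosed k] (hK : IsFunctionField k K) {F : Divisor k K}
    {P P' : Place k K} (hPP' : P ≠ P') (hF : ∀ R, R ≠ P → R ≠ P' → F R = 0) :
    F.deg = F P + F P' := by
  classical
  have : F = Finsupp.single P (F P) + Finsupp.single P' (F P') := by
    ext R
    rw [Finsupp.add_apply, Finsupp.single_apply, Finsupp.single_apply]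
    by_cases h1 : R = P
    · subst h1
      rw [if_pos rfl, if_neg (Ne.symm hPP'), add_zero]
    · by_cases h2 : R = P'
      · subst h2
        rw [if_neg (Ne.symm h1), if_pos rfl, zero_add]
      · rw [if_neg (Ne.symm h1), if_neg (Ne.symm h2), hF R h1 h2, add_zero]
  rw [this, Divisor.deg_add, deg_single_one hK, deg_single_one hK]
  simp [Finsupp.single_apply, hPP', Ne.symm hPP']

/-- a divisor supported on one place -/
theorem deg_of_support_one [IsAlgClosed k] (hK : IsFunctionField k K) {F : Divisor k K}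
    {P : Place k K} (hF : ∀ R, R ≠ P → F R = 0) : F.deg = F P := by
  classical
  have : F = Finsupp.single P (F P) := by
    ext R
    rw [Finsupp.single_apply]
    by_cases h1 : R = P
    · subst h1
      rw [if_pos rfl]
    · rw [if_neg (Ne.symm h1), hF R h1]
  rw [this, deg_single_one hK]
  simp

end Groth.Agent.H86.FF
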