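import Mathlib.Algebra.Homology.ShortComplex.SnakeLemma
import Mathlib.Algebra.Homology.ShortComplex.ShortExact
import Mathlib.Algebra.Homology.ShortComplex.Limits
import Mathlib.CategoryTheory.Limits.Preserves.Shapes.Kernels

/-! A 3×3 lemma: the cokernel row of a termwise-mono morphism of short exact sequences is short
exact. Also: cokernel of a biproduct map. -/

set_option autoImplicit false

namespace Groth.Agent.H86.MVZ

open CategoryTheory Limits ZeroObject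

universe v u

variable {C : Type u} [Category.{v} C] [Abelian C]

/-- The zero short complex. -/
noncomputable def zeroSC : ShortComplex C := ShortComplex.mk (0 : (0 : C) ⟶ 0) (0 : (0 : C) ⟶ 0) (by simp)

/-- The snake input with zero kernel row. -/
noncomputable def snakeInput {L₁ L₂ L₃ : ShortComplex C}
    (h₁ : L₁.ShortExact) (h₂ : L₂.ShortExact) (φ : L₁ ⟶ L₂) (ψ : L₂ ⟶ L₃) (w : φ ≫ ψ = 0)
    (m₁ : Mono φ.τ₁) (m₂ : Mono φ.τ₂) (m₃ : Mono φ.τ₃)
    (c₁ : IsColimit (CokernelCofork.ofπ ψ.τ₁ (show φ.τ₁ ≫ ψ.τ₁ = 0 by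
      rw [← ShortComplex.comp_τ₁, w]; rfl)))
    (c₂ : IsColimit (CokernelCofork.ofπ ψ.τ₂ (show φ.τ₂ ≫ ψ.τ₂ = 0 by
      rw [← ShortComplex.comp_τ₂, w]; rfl)))
    (c₃ : IsColimit (CokernelCofork.ofπ ψ.τ₃ (show φ.τ₃ ≫ ψ.τ₃ = 0 by
      rw [← ShortComplex.comp_τ₃, w]; rfl))) :
    ShortComplex.SnakeInput C where
  L₀ := zeroSC
  L₁ := L₁
  L₂ := L₂
  L₃ := L₃
  v₀₁ := 0
  v₁₂ := φ
  v₂₃ := ψ
  w₀₂ := by simp
  w₁₃ := w
  h₀ := by
    apply ShortComplex.isLimitOfIsLimitπ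
    · exact (KernelFork.isLimitMapConeEquiv _ _).symm
        (KernelFork.IsLimit.ofMonoOfIsZero _ m₁ (show IsZero (0 : C) from isZero_zero C))
    · exact (KernelFork.isLimitMapConeEquiv _ _).symm
        (KernelFork.IsLimit.ofMonoOfIsZero _ m₂ (show IsZero (0 : C) from isZero_zero C))
    · exact (KernelFork.isLimitMapConeEquiv _ _).symm
        (KernelFork.IsLimit.ofMonoOfIsZero _ m₃ (show IsZero (0 : C) from isZero_zero C))
  h₃ := by
    apply ShortComplex.isColimitOfIsColimitπ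
    · exact (CokernelCofork.isColimitMapCoconeEquiv _ _).symm c₁
    · exact (CokernelCofork.isColimitMapCoconeEquiv _ _).symm c₂
    · exact (CokernelCofork.isColimitMapCoconeEquiv _ _).symm c₃
  L₁_exact := h₁.exact
  epi_L₁_g := h₁.epi_g
  L₂_exact := h₂.exact
  mono_L₂_f := h₂.mono_f

/-- 3×3 lemma: the cokernel row of a termwise-mono map of short exact sequences is short exact. -/
theorem shortExact_of_cokernels {L₁ L₂ L₃ : ShortComplex C}
    (h₁ : L₁.ShortExact) (h₂ : L₂.ShortExact) (φ : L₁ ⟶ L₂) (ψ : L₂ ⟶ L₃) (w : φ ≫ ψ = 0)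
    (m₁ : Mono φ.τ₁) (m₂ : Mono φ.τ₂) (m₃ : Mono φ.τ₃)
    (c₁ : IsColimit (CokernelCofork.ofπ ψ.τ₁ (show φ.τ₁ ≫ ψ.τ₁ = 0 by
      rw [← ShortComplex.comp_τ₁, w]; rfl)))
    (c₂ : IsColimit (CokernelCofork.ofπ ψ.τ₂ (show φ.τ₂ ≫ ψ.τ₂ = 0 by
      rw [← ShortComplex.comp_τ₂, w]; rfl)))
    (c₃ : IsColimit (CokernelCofork.ofπ ψ.τ₃ (show φ.τ₃ ≫ ψ.τ₃ = 0 by
      rw [← ShortComplex.comp_τ₃, w]; rfl))) :
    L₃.ShortExact := by
  have hex : L₃.Exact := (snakeInput h₁ h₂ φ ψ w m₁ m₂ m₃ c₁ c₂ c₃).L₃_exact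
  have hepi : Epi L₃.g := by
    have : Epi (snakeInput h₁ h₂ φ ψ w m₁ m₂ m₃ c₁ c₂ c₃).L₂.g := h₂.epi_g
    exact (snakeInput h₁ h₂ φ ψ w m₁ m₂ m₃ c₁ c₂ c₃).epi_L₃_g
  have hmono : Mono L₃.f := by
    have h := (snakeInput h₁ h₂ φ ψ w m₁ m₂ m₃ c₁ c₂ c₃).L₂'_exact
    exact h.mono_g ((isZero_zero C).eq_of_src _ _)
  exact { exact := hex, mono_f := hmono, epi_g := hepi }

/-- The cokernel of a biproduct map is the biproduct of the cokernels. -/
noncomputable def isColimitBiprodMap {A₁ B₁ Q₁ A₂ B₂ Q₂ : C} (f₁ : A₁ ⟶ B₁) (π₁ : B₁ ⟶ Q₁)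
    (w₁ : f₁ ≫ π₁ = 0) (f₂ : A₂ ⟶ B₂) (π₂ : B₂ ⟶ Q₂) (w₂ : f₂ ≫ π₂ = 0)
    (h₁ : IsColimit (CokernelCofork.ofπ π₁ w₁)) (h₂ : IsColimit (CokernelCofork.ofπ π₂ w₂)) :
    IsColimit (CokernelCofork.ofπ (biprod.map π₁ π₂)
      (show biprod.map f₁ f₂ ≫ biprod.map π₁ π₂ = 0 by
        ext <;> simp [w₁, w₂])) :=
  CokernelCofork.IsColimit.ofπ _ _
    (fun {T} g hg => biprod.desc
      (h₁.desc (CokernelCofork.ofπ (biprod.inl ≫ g) (by
        have := congrArg (fun k => biprod.inl ≫ k) hg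
        simpa using this)))
      (h₂.desc (CokernelCofork.ofπ (biprod.inr ≫ g) (by
        have := congrArg (fun k => biprod.inr ≫ k) hg
        simpa using this))))
    (fun {T} g hg => by
      ext
      · simp only [biprod.inl_map_assoc, biprod.inl_desc]
        exact h₁.fac _ WalkingParallelPair.one
      · simp only [biprod.inr_map_assoc, biprod.inr_desc]
        exact h₂.fac _ WalkingParallelPair.one)
    (fun {T} g hg m hm => by
      ext
      · simp only [biprod.inl_desc]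
        apply Cofork.IsColimit.hom_ext h₁
        rw [Cofork.IsColimit.π_desc h₁]
        simp only [Cofork.π_ofπ, ← hm, biprod.inl_map_assoc]
      · simp only [biprod.inr_desc]
        apply Cofork.IsColimit.hom_ext h₂
        rw [Cofork.IsColimit.π_desc h₂]
        simp only [Cofork.π_ofπ, ← hm, biprod.inr_map_assoc])

end Groth.Agent.H86.MVZ
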