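import Groth.Agent.H86.MVZ1
import Groth.Agent.H4.MVAbs
import Groth.Prelude.Def_LocCohZ
import Mathlib.Topology.Sheaves.MayerVietoris

/-! Mayer–Vietoris short exact sequence for the sheaves `ℤ_X/ℤ_W`. -/

set_option autoImplicit false

namespace Groth.Agent.H86.MVZ

open CategoryTheory Limits TopologicalSpace Opposite

universe u

variable {X : TopCat.{u}}

/-- the map `ℤ_W ⟶ ℤ_V` -/
noncomputable abbrev fm {W V : Opens X} (h : W ≤ V) :
    CohCx.freeSheaf (Opens.grothendieckTopology X) W ⟶ CohCx.freeSheaf (Opens.grothendieckTopology X) V :=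
  CohCx.freeSheafMap (Opens.grothendieckTopology X) (homOfLE h)

lemma fm_comp {W V T : Opens X} (h : W ≤ V) (h' : V ≤ T) : fm h ≫ fm h' = fm (h.trans h') := by
  rw [fm, fm, ← CohFree.freeSheafMap_comp]
  rfl

lemma fm_refl (W : Opens X) : fm (le_refl W) = 𝟙 _ :=
  CohFree.freeSheafMap_id _ W

/-- the projection `ℤ_X ⟶ ℤ_X/ℤ_W` -/
noncomputable abbrev pq (W : Opens X) :
    CohCx.freeSheaf (Opens.grothendieckTopology X) (⊤ : Opens X) ⟶ LocCohZ.zq (le_top : W ≤ ⊤) :=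
  cokernel.π _

/-- the map `ℤ_X/ℤ_W ⟶ ℤ_X/ℤ_V` -/
noncomputable abbrev zm {W V : Opens X} (h : W ≤ V) :
    LocCohZ.zq (le_top : W ≤ ⊤) ⟶ LocCohZ.zq (le_top : V ≤ ⊤) :=
  LocCohZ.zqMap (le_top : V ≤ ⊤) (le_top : W ≤ ⊤) h le_rfl

lemma pq_zm {W V : Opens X} (h : W ≤ V) : pq W ≫ zm h = pq V := by
  rw [pq, zm, LocCohZ.zqMap, cokernel.π_desc]
  have : CohCx.freeSheafMap (Opens.grothendieckTopology X) (homOfLE (le_refl (⊤ : Opens X))) = 𝟙 _ :=
    fm_refl _
  rw [this, Category.id_comp]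

lemma zm_comp {W V T : Opens X} (h : W ≤ V) (h' : V ≤ T) : zm h ≫ zm h' = zm (h.trans h') := by
  rw [← cancel_epi (pq W), ← Category.assoc, pq_zm, pq_zm, pq_zm]

section ses

variable (U U' : Opens X)

/-- `ℤ_X` -/
noncomputable abbrev ZT (X : TopCat.{u}) : CohTop.Ab X :=
  CohCx.freeSheaf (Opens.grothendieckTopology X) (⊤ : Opens X)

/-- Mathlib's Mayer–Vietoris short exact sequence of free sheaves. -/
noncomputable abbrev L1 : ShortComplex (CohTop.Ab X) :=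
  ShortComplex.mk (biprod.lift (fm (inf_le_left : U ⊓ U' ≤ U)) (-(fm (inf_le_right : U ⊓ U' ≤ U'))))
    (biprod.desc (fm (le_sup_left : U ≤ U ⊔ U')) (fm (le_sup_right : U' ≤ U ⊔ U')))
    (by simp [fm_comp])

lemma L1_shortExact : (L1 U U').ShortExact :=
  (Opens.mayerVietorisSquare U U').shortComplex_shortExact

/-- The split sequence `ℤ_X ⟶ ℤ_X ⊞ ℤ_X ⟶ ℤ_X`. -/
noncomputable abbrev L2 (X : TopCat.{u}) : ShortComplex (CohTop.Ab X) :=
  H4.MVAbs.sc (𝟙 (ZT X)) (𝟙 (ZT X)) (𝟙 (ZT X)) (𝟙 (ZT X)) rfl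

lemma L2_shortExact : (L2 X).ShortExact := by
  refine ShortComplex.Splitting.shortExact
    { r := biprod.fst
      s := biprod.inr
      f_r := by simp
      s_g := by simp
      id := ?_ }
  apply biprod.hom_ext' <;> apply biprod.hom_ext <;>
    simp [Preadditive.comp_add, Preadditive.add_comp]

/-- The quotient sequence. -/
noncomputable abbrev L3 : ShortComplex (CohTop.Ab X) :=
  H4.MVAbs.sc (zm (inf_le_left : U ⊓ U' ≤ U)) (zm (inf_le_right : U ⊓ U' ≤ U'))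
    (zm (le_sup_left : U ≤ U ⊔ U')) (zm (le_sup_right : U' ≤ U ⊔ U'))
    (by rw [zm_comp, zm_comp])

/-- the inclusion of the Mayer–Vietoris sequence into the split one -/
noncomputable def phi : L1 U U' ⟶ L2 X where
  τ₁ := fm (le_top : U ⊓ U' ≤ ⊤)
  τ₂ := biprod.map (fm (le_top : U ≤ ⊤)) (fm (le_top : U' ≤ ⊤))
  τ₃ := fm (le_top : U ⊔ U' ≤ ⊤)
  comm₁₂ := by
    apply biprod.hom_ext <;> simp [fm_comp]
  comm₂₃ := by
    apply biprod.hom_ext' <;> simp [fm_comp]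

/-- the projection of the split sequence onto the quotient sequence -/
noncomputable def psi : L2 X ⟶ L3 U U' where
  τ₁ := pq (U ⊓ U')
  τ₂ := biprod.map (pq U) (pq U')
  τ₃ := pq (U ⊔ U')
  comm₁₂ := by
    apply biprod.hom_ext <;> simp [pq_zm]
  comm₂₃ := by
    apply biprod.hom_ext' <;> simp [pq_zm]

lemma fm_pq {W : Opens X} : fm (le_top : W ≤ ⊤) ≫ pq W = 0 := cokernel.condition _

lemma phi_psi : phi U U' ≫ psi U U' = 0 := by
  apply ShortComplex.hom_ext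
  · exact fm_pq
  · show biprod.map (fm (le_top : U ≤ ⊤)) (fm (le_top : U' ≤ ⊤)) ≫ biprod.map (pq U) (pq U') = 0
    apply biprod.hom_ext' <;> apply biprod.hom_ext <;> simp [fm_pq]
  · exact fm_pq

instance mono_fm {W V : Opens X} (h : W ≤ V) : Mono (fm h) := by
  have := (LocCohZ.zqSeq_shortExact h).mono_f
  exact this

/-- The Mayer–Vietoris short exact sequence `0 → ℤ_X/ℤ_{U⊓U'} → ℤ_X/ℤ_U ⊞ ℤ_X/ℤ_{U'} → ℤ_X/ℤ_{U⊔U'} → 0`. -/
theorem L3_shortExact : (L3 U U').ShortExact :=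
  shortExact_of_cokernels (L1_shortExact U U') L2_shortExact (phi U U') (psi U U') (phi_psi U U')
    (mono_fm _) (biprod.map_mono _ _) (mono_fm _)
    (cokernelIsCokernel _)
    (isColimitBiprodMap (fm (le_top : U ≤ ⊤)) (pq U) fm_pq (fm (le_top : U' ≤ ⊤)) (pq U') fm_pq
      (cokernelIsCokernel _) (cokernelIsCokernel _))
    (cokernelIsCokernel _)

end ses

end Groth.Agent.H86.MVZ
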