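import Groth.Agent.H86.MVZ2

/-! Mayer–Vietoris for cohomology with supports `HZc`. -/

set_option autoImplicit false

namespace Groth.Agent.H86.MVZ

open CategoryTheory Limits TopologicalSpace Opposite LocCohZ

universe u

variable {X : TopCat.{u}}

theorem mayer_vietoris (F : CohTop.Ab X) (U U' : Opens X) :
    Function.Injective (fun x : LocCohZ.HZc F 0 (U ⊔ U') =>
      (LocCohZ.resZ F 0 (le_top : U ⊔ U' ≤ ⊤) (le_top : U ≤ ⊤) le_sup_left le_rfl x,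
       LocCohZ.resZ F 0 (le_top : U ⊔ U' ≤ ⊤) (le_top : U' ≤ ⊤) le_sup_right le_rfl x)) ∧
    ∃ δ : ∀ i : ℕ, LocCohZ.HZc F i (U ⊓ U') →+ LocCohZ.HZc F (i + 1) (U ⊔ U'),
      ∀ i : ℕ,
        (∀ y : LocCohZ.HZc F i U × LocCohZ.HZc F i U',
          LocCohZ.resZ F i (le_top : U ≤ ⊤) (le_top : U ⊓ U' ≤ ⊤) inf_le_left le_rfl y.1 -
              LocCohZ.resZ F i (le_top : U' ≤ ⊤) (le_top : U ⊓ U' ≤ ⊤) inf_le_right le_rfl y.2 = 0 ↔
            ∃ x : LocCohZ.HZc F i (U ⊔ U'),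
              LocCohZ.resZ F i (le_top : U ⊔ U' ≤ ⊤) (le_top : U ≤ ⊤) le_sup_left le_rfl x = y.1 ∧
              LocCohZ.resZ F i (le_top : U ⊔ U' ≤ ⊤) (le_top : U' ≤ ⊤) le_sup_right le_rfl x = y.2) ∧
        (∀ w : LocCohZ.HZc F i (U ⊓ U'),
          δ i w = 0 ↔ ∃ y : LocCohZ.HZc F i U × LocCohZ.HZc F i U',
            LocCohZ.resZ F i (le_top : U ≤ ⊤) (le_top : U ⊓ U' ≤ ⊤) inf_le_left le_rfl y.1 -
              LocCohZ.resZ F i (le_top : U' ≤ ⊤) (le_top : U ⊓ U' ≤ ⊤) inf_le_right le_rfl y.2 = w) ∧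
        (∀ x : LocCohZ.HZc F (i + 1) (U ⊔ U'),
          (LocCohZ.resZ F (i + 1) (le_top : U ⊔ U' ≤ ⊤) (le_top : U ≤ ⊤) le_sup_left le_rfl x = 0 ∧
            LocCohZ.resZ F (i + 1) (le_top : U ⊔ U' ≤ ⊤) (le_top : U' ≤ ⊤) le_sup_right le_rfl x = 0) ↔
            ∃ w : LocCohZ.HZc F i (U ⊓ U'), δ i w = x) := by
  obtain ⟨δ, h0, h1, h2, h3⟩ := Groth.Agent.H4.MVAbs.mv
    (aU := zm (inf_le_left : U ⊓ U' ≤ U)) (aV := zm (inf_le_right : U ⊓ U' ≤ U'))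
    (εU := zm (le_sup_left : U ≤ U ⊔ U')) (εV := zm (le_sup_right : U' ≤ U ⊔ U'))
    (by rw [zm_comp, zm_comp]) (L3_shortExact U U') F
    (HU := fun n => LocCohZ.HZc F n U) (HV := fun n => LocCohZ.HZc F n U')
    (HW := fun n => LocCohZ.HZc F n (U ⊓ U'))
    (fun n => AddEquiv.refl _) (fun n => AddEquiv.refl _) (fun n => AddEquiv.refl _)
    (fun n => LocCohZ.resZ F n (le_top : U ⊔ U' ≤ ⊤) (le_top : U ≤ ⊤) le_sup_left le_rfl)
    (fun n => LocCohZ.resZ F n (le_top : U ⊔ U' ≤ ⊤) (le_top : U' ≤ ⊤) le_sup_right le_rfl)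
    (fun n => LocCohZ.resZ F n (le_top : U ≤ ⊤) (le_top : U ⊓ U' ≤ ⊤) inf_le_left le_rfl)
    (fun n => LocCohZ.resZ F n (le_top : U' ≤ ⊤) (le_top : U ⊓ U' ≤ ⊤) inf_le_right le_rfl)
    (fun n e => rfl) (fun n e => rfl) (fun n x => rfl) (fun n x => rfl)
  refine ⟨?_, δ, fun i => ⟨?_, ?_, ?_⟩⟩
  · intro x y hxy
    have hm : x - y ∈ (AddMonoidHom.prod
        (LocCohZ.resZ F 0 (le_top : U ⊔ U' ≤ ⊤) (le_top : U ≤ ⊤) le_sup_left le_rfl)
        (LocCohZ.resZ F 0 (le_top : U ⊔ U' ≤ ⊤) (le_top : U' ≤ ⊤) le_sup_right le_rfl)).ker := by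
      rw [AddMonoidHom.mem_ker, map_sub, sub_eq_zero]
      exact hxy
    rw [h0, AddSubgroup.mem_bot] at hm
    exact sub_eq_zero.mp hm
  · intro y
    have h := h2 i
    constructor
    · intro hy
      have hm : y ∈ (AddMonoidHom.prod
          (LocCohZ.resZ F i (le_top : U ⊔ U' ≤ ⊤) (le_top : U ≤ ⊤) le_sup_left le_rfl)
          (LocCohZ.resZ F i (le_top : U ⊔ U' ≤ ⊤) (le_top : U' ≤ ⊤) le_sup_right le_rfl)).range := by
        rw [← h, AddMonoidHom.mem_ker]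
        exact hy
      obtain ⟨x, hx⟩ := hm
      exact ⟨x, congrArg Prod.fst hx, congrArg Prod.snd hx⟩
    · rintro ⟨x, hx1, hx2⟩
      have hm : y ∈ (AddMonoidHom.prod
          (LocCohZ.resZ F i (le_top : U ⊔ U' ≤ ⊤) (le_top : U ≤ ⊤) le_sup_left le_rfl)
          (LocCohZ.resZ F i (le_top : U ⊔ U' ≤ ⊤) (le_top : U' ≤ ⊤) le_sup_right le_rfl)).range :=
        ⟨x, Prod.ext hx1 hx2⟩
      rw [← h, AddMonoidHom.mem_ker] at hm
      exact hm
  · intro w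
    have h := h3 i
    constructor
    · intro hw
      have hm : w ∈ (δ i).ker := hw
      rw [h] at hm
      obtain ⟨y, hy⟩ := hm
      exact ⟨y, hy⟩
    · rintro ⟨y, hy⟩
      have hm : w ∈ (δ i).ker := by
        rw [h]
        exact ⟨y, hy⟩
      exact hm
  · intro x
    have h := h1 i
    constructor
    · rintro ⟨hx1, hx2⟩
      have hm : x ∈ (δ i).range := by
        rw [← h, AddMonoidHom.mem_ker]
        exact Prod.ext hx1 hx2
      exact hm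
    · rintro ⟨w, hw⟩
      have hm : x ∈ (δ i).range := ⟨w, hw⟩
      rw [← h, AddMonoidHom.mem_ker] at hm
      exact ⟨congrArg Prod.fst hm, congrArg Prod.snd hm⟩

end Groth.Agent.H86.MVZ
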