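import Groth.Agent.H55.IntCl1
import Groth.Agent.H55.FFApprox
import Groth.Agent.H55.WExt3
import Groth.Agent.H62.FFConstField
import Groth.Agent.H62.FFResConst
import Groth.Agent.H62.FFNSTower1

/-!
# Places above a nonsingular place in a splitting constant field extension (basics)
-/

set_option autoImplicit false
set_option linter.unusedSectionVars false

namespace Groth.Agent.H86.NS

open FunFld WithZero Module Groth.Agent.H55
open scoped TensorProduct

universe u v

variable {k k' : Type u} {K K' : Type v} [Field k] [Field k'] [Field K] [Field K']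
  [Algebra k k'] [Algebra k K] [Algebra K K'] [Algebra k' K'] [Algebra k K']
  [IsScalarTower k k' K'] [IsScalarTower k K K']

/-- a place over the big constant field, seen over the small one -/
def down (Q : Place k' K') : Place k K' :=
  ⟨Q.1, fun c => by rw [IsScalarTower.algebraMap_apply k k' K']; exact Q.2.1 _, Q.2.2⟩

theorem down_val (Q : Place k' K') : (down (k := k) Q).1 = Q.1 := rfl

theorem down_injective : Function.Injective (down (k := k) (k' := k') (K' := K')) := by
  intro Q Q' h
  apply Subtype.ext
  exact congrArg (fun R : Place k K' => R.1) h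

/-- the set of places above `P` -/
def T (P : Place k K) : Set (Place k' K') :=
  {Q | ∃ e : ℕ, ∀ z : K, Q.1 (algebraMap K K' z) = P.1 z ^ e}

theorem mem_T_iff (P : Place k K) (Q : Place k' K') :
    Q ∈ T (k' := k') (K' := K') P ↔ IsOver (down (k := k) Q) P := Iff.rfl

theorem T_finite [FiniteDimensional K K'] (hK : IsFunctionField k K) (P : Place k K) :
    (T (k' := k') (K' := K') P).Finite := by
  have h1 := (sum_ramIdx_mul_deg (K' := K') hK P).1
  exact Set.Finite.of_injOn (f := down (k := k)) (fun Q hQ => hQ) down_injective.injOn h1


theorem deg_down (Q : Place k' K') : (down (k := k) Q).deg = finrank k k' * Q.deg := by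
  have htow : @IsScalarTower k k' (IsLocalRing.ResidueField Q.O) _
      (Place.algRes Q).toSMul (Place.algRes (down (k := k) Q)).toSMul := by
    letI a1 : Algebra k (IsLocalRing.ResidueField Q.O) := Place.algRes (down (k := k) Q)
    letI a2 : Algebra k' (IsLocalRing.ResidueField Q.O) := Place.algRes Q
    apply IsScalarTower.of_algebraMap_eq
    intro c
    show IsLocalRing.residue Q.O (algebraMap k (down (k := k) Q).O c) =
      IsLocalRing.residue Q.O (algebraMap k' Q.O (algebraMap k k' c))
    congr 1
    apply Subtype.ext
    exact IsScalarTower.algebraMap_apply k k' K' c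
  exact (@Module.finrank_mul_finrank k k' (IsLocalRing.ResidueField Q.O) _ _ _ _
    (Place.algRes Q).toModule (Place.algRes (down (k := k) Q)).toModule htow _ _).symm

theorem finrank_constExt [FiniteDimensional k k']
    (h : Function.Bijective (Algebra.TensorProduct.productMap
      (IsScalarTower.toAlgHom k k' K') (IsScalarTower.toAlgHom k K K'))) :
    finrank K K' = finrank k k' := by
  obtain ⟨b, -⟩ := Groth.Agent.H62.FFNSTower.exists_basis_of_basis (Module.finBasis k k') h
  rw [Module.finrank_eq_card_basis b, Fintype.card_fin]

theorem down_extendConst [Algebra.IsAlgebraic k k'] (Q' : Place k K') :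
    down (k := k) (Groth.Agent.H62.FFConstField.extendConst k' Q') = Q' :=
  Subtype.ext rfl

/-- the fundamental identity above `P` when all places above have degree one -/
theorem sum_ramIdx [FiniteDimensional k k']
    (h : Function.Bijective (Algebra.TensorProduct.productMap
      (IsScalarTower.toAlgHom k k' K') (IsScalarTower.toAlgHom k K K')))
    (hK : IsFunctionField k K) (P : Place k K)
    (hdeg : ∀ Q ∈ T (k' := k') (K' := K') P, Q.deg = 1)
    (S : Finset (Place k' K')) (hS : ∀ Q, Q ∈ S ↔ Q ∈ T (k' := k') (K' := K') P) :
    ∑ Q ∈ S, ramIdx (down (k := k) Q) P = P.deg := by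
  classical
  haveI : FiniteDimensional K K' := finite_constExt h
  have h2 := (sum_ramIdx_mul_deg (K' := K') hK P).2 (S.image (down (k := k))) (by
    intro Q'
    rw [Finset.mem_image]
    constructor
    · rintro ⟨Q, hQ, rfl⟩
      exact (hS Q).mp hQ
    · intro hQ'
      refine ⟨Groth.Agent.H62.FFConstField.extendConst k' Q', ?_, down_extendConst Q'⟩
      rw [hS, mem_T_iff, down_extendConst]
      exact hQ')
  rw [Finset.sum_image (fun a _ b _ hab => down_injective hab), finrank_constExt h] at h2
  have h3 : ∑ Q ∈ S, ramIdx (down (k := k) Q) P * (down (k := k) Q).deg =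
      finrank k k' * ∑ Q ∈ S, ramIdx (down (k := k) Q) P := by
    rw [Finset.mul_sum]
    apply Finset.sum_congr rfl
    intro Q hQ
    rw [deg_down, hdeg Q ((hS Q).mp hQ), mul_one, mul_comm]
  rw [h3] at h2
  exact Nat.eq_of_mul_eq_mul_left Module.finrank_pos h2

end Groth.Agent.H86.NS
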