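import Groth.Agent.H86.NS1

/-!
# Degree-one places above `P`: the constant map and the induced embedding of the residue field
-/

set_option autoImplicit false
set_option linter.unusedSectionVars false
set_option linter.style.haveILetI false

namespace Groth.Agent.H86.NS

open FunFld WithZero Module Groth.Agent.H55 Polynomial
open scoped TensorProduct

universe u v

variable {k k' : Type u} {K K' : Type v} [Field k] [Field k'] [Field K] [Field K']
  [Algebra k k'] [Algebra k K] [Algebra K K'] [Algebra k' K'] [Algebra k K']
  [IsScalarTower k k' K'] [IsScalarTower k K K']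

theorem bijective_algebraMap_res (Q : Place k' K') (hQ : Q.deg = 1) :
    Function.Bijective (@algebraMap k' (IsLocalRing.ResidueField Q.O) _ _ (Place.algRes Q)) := by
  letI : Algebra k' (IsLocalRing.ResidueField Q.O) := Place.algRes Q
  exact Algebra.finrank_eq_one_iff_bijective_algebraMap.mp hQ

/-- the "constant term" ring homomorphism at a place of degree one -/
noncomputable def cstHom (Q : Place k' K') (hQ : Q.deg = 1) : Q.O →+* k' :=
  ((RingEquiv.ofBijective (@algebraMap k' (IsLocalRing.ResidueField Q.O) _ _ (Place.algRes Q))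
    (bijective_algebraMap_res Q hQ)).symm : IsLocalRing.ResidueField Q.O →+* k').comp
    (IsLocalRing.residue Q.O)

theorem algebraMap_cstHom (Q : Place k' K') (hQ : Q.deg = 1) (w : Q.O) :
    @algebraMap k' (IsLocalRing.ResidueField Q.O) _ _ (Place.algRes Q) (cstHom Q hQ w) =
      IsLocalRing.residue Q.O w := by
  show (RingEquiv.ofBijective (@algebraMap k' (IsLocalRing.ResidueField Q.O) _ _ (Place.algRes Q))
    (bijective_algebraMap_res Q hQ)) ((RingEquiv.ofBijective _ (bijective_algebraMap_res Q hQ)).symm
      (IsLocalRing.residue Q.O w)) = _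
  rw [RingEquiv.apply_symm_apply]

theorem cstHom_algebraMap (Q : Place k' K') (hQ : Q.deg = 1) (c : k') :
    cstHom Q hQ (algebraMap k' Q.O c) = c := by
  apply (bijective_algebraMap_res Q hQ).1
  rw [algebraMap_cstHom]
  rfl

theorem cstHom_spec (Q : Place k' K') (hQ : Q.deg = 1) (w : Q.O) :
    Q.1 ((w : K') - algebraMap k' K' (cstHom Q hQ w)) < 1 := by
  have h1 : IsLocalRing.residue Q.O (w - algebraMap k' Q.O (cstHom Q hQ w)) = 0 := by
    rw [map_sub, sub_eq_zero, ← algebraMap_cstHom Q hQ w]
    rfl
  exact (Place.residue_eq_zero_iff Q _).mp h1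

theorem cstHom_eq_zero (Q : Place k' K') (hQ : Q.deg = 1) (w : Q.O) (hw : Q.1 (w : K') < 1) :
    cstHom Q hQ w = 0 := by
  have h1 : IsLocalRing.residue Q.O w = 0 := (Place.residue_eq_zero_iff Q _).mpr hw
  show (RingEquiv.ofBijective _ (bijective_algebraMap_res Q hQ)).symm
      (IsLocalRing.residue Q.O w) = 0
  rw [h1, map_zero]

theorem cstHom_unique (Q : Place k' K') (hQ : Q.deg = 1) (w : Q.O) (c : k')
    (hw : Q.1 ((w : K') - algebraMap k' K' c) < 1) : cstHom Q hQ w = c := by
  have h1 : cstHom Q hQ (w - algebraMap k' Q.O c) = 0 := cstHom_eq_zero Q hQ _ hw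
  rw [map_sub, cstHom_algebraMap, sub_eq_zero] at h1
  exact h1


section overP

variable {P : Place k K} {Q : Place k' K'} {e : ℕ}

/-- the inclusion `O_P → O_Q` -/
def inclO (he : IsOverWith (down (k := k) Q) P e) : P.O →+* Q.O :=
  ((algebraMap K K').comp P.O.subtype).codRestrict Q.O.toSubring (fun a =>
    (Valuation.mem_valuationSubring_iff Q.1 _).mpr
      ((isOverWith_le_one_iff he (a : K)).mpr ((Valuation.mem_valuationSubring_iff P.1 _).mp a.2)))

theorem inclO_coe (he : IsOverWith (down (k := k) Q) P e) (a : P.O) :
    ((inclO he a : Q.O) : K') = algebraMap K K' (a : K) := rfl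

/-- the embedding of the residue field of `P` into `k'` induced by a degree one place above -/
noncomputable def sigma (he : IsOverWith (down (k := k) Q) P e) (hQ : Q.deg = 1) :
    IsLocalRing.ResidueField P.O →ₐ[k] k' :=
  { Ideal.Quotient.lift (IsLocalRing.maximalIdeal P.O) ((cstHom Q hQ).comp (inclO he)) (by
      intro a ha
      rw [RingHom.comp_apply]
      apply cstHom_eq_zero
      rw [inclO_coe]
      exact (isOverWith_lt_one_iff he (a : K)).mpr ((Valuation.mem_maximalIdeal_iff _ _).mp ha)) with
    commutes' := by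
      intro c
      show Ideal.Quotient.lift (IsLocalRing.maximalIdeal P.O) ((cstHom Q hQ).comp (inclO he)) _
        (Ideal.Quotient.mk _ (algebraMap k P.O c)) = algebraMap k k' c
      rw [Ideal.Quotient.lift_mk, RingHom.comp_apply]
      have : inclO he (algebraMap k P.O c) = algebraMap k' Q.O (algebraMap k k' c) := by
        apply Subtype.ext
        show algebraMap K K' (algebraMap k K c) = algebraMap k' K' (algebraMap k k' c)
        rw [← IsScalarTower.algebraMap_apply, ← IsScalarTower.algebraMap_apply]
      rw [this, cstHom_algebraMap] }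

theorem sigma_residue (he : IsOverWith (down (k := k) Q) P e) (hQ : Q.deg = 1) (a : P.O) :
    sigma he hQ (IsLocalRing.residue P.O a) = cstHom Q hQ (inclO he a) := rfl

theorem sigma_spec (he : IsOverWith (down (k := k) Q) P e) (hQ : Q.deg = 1) (a : P.O) :
    Q.1 (algebraMap K K' (a : K) - algebraMap k' K' (sigma he hQ (IsLocalRing.residue P.O a))) < 1 := by
  rw [sigma_residue]
  exact cstHom_spec Q hQ (inclO he a)


/-- the key congruence: lifts of separable residues agree with their constants modulo `P` -/
theorem val_sub_sigma_le (he : IsOverWith (down (k := k) Q) P e) (hQ : Q.deg = 1) (a : P.O)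
    (hsep : IsSeparable k (IsLocalRing.residue P.O a)) :
    Q.1 (algebraMap K K' (a : K) -
      algebraMap k' K' (sigma he hQ (IsLocalRing.residue P.O a))) ≤ exp (-(e : ℤ)) := by
  set abar := IsLocalRing.residue P.O a with habar
  set c := sigma he hQ abar with hc
  set g := minpoly k abar with hg
  have hgsep : g.Separable := hsep
  have hgc : aeval c g = 0 := by
    rw [hc, Polynomial.aeval_algHom_apply, hg, minpoly.aeval, map_zero]
  have hder0 : aeval c (derivative g) ≠ 0 := hgsep.aeval_derivative_ne_zero hgc
  set g' := g.map (algebraMap k k') with hg'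
  have hx : Q.1 (algebraMap k' K' c) ≤ 1 := Q.2.1 c
  have hxy : Q.1 (algebraMap K K' (a : K) - algebraMap k' K' c) < 1 := sigma_spec he hQ a
  have hder : Q.1 (aeval (algebraMap k' K' c) (derivative g')) = 1 := by
    rw [Polynomial.aeval_algebraMap_apply]
    apply Place.val_algebraMap_eq_one
    rw [hg', Polynomial.derivative_map, Polynomial.aeval_map_algebraMap]
    exact hder0
  have h1 := Place.val_aeval_sub_aeval Q g' hx hxy hder
  have h2 : aeval (algebraMap k' K' c) g' = 0 := by
    rw [Polynomial.aeval_algebraMap_apply, hg', Polynomial.aeval_map_algebraMap, hgc, map_zero]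
  have h3 : aeval (algebraMap K K' (a : K)) g' = algebraMap K K' (aeval (a : K) g) := by
    rw [hg', Polynomial.aeval_map_algebraMap, Polynomial.aeval_algebraMap_apply]
  have h4 : P.1 (aeval (a : K) g) < 1 := by
    have h5 : aeval (a : K) g = ((aeval a g : P.O) : K) := by
      have := Polynomial.aeval_algHom_apply (Place.valA P) a g
      rw [Place.valA_apply, Place.valA_apply] at this
      exact this
    rw [h5, ← Place.residue_eq_zero_iff]
    have := Polynomial.aeval_algHom_apply (Place.resAlg P) a g
    rw [Place.resAlg_apply, Place.resAlg_apply] at this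
    rw [← this, ← habar, hg, minpoly.aeval]
  rw [h2, sub_zero, h3] at h1
  have h7 : Q.1 (algebraMap K K' (aeval (a : K) g)) = P.1 (aeval (a : K) g) ^ e := he _
  rw [← h1, h7]
  have h6 := le_exp_neg_one_of_lt_one h4
  calc P.1 (aeval (a : K) g) ^ e ≤ (exp (-1 : ℤ)) ^ e := pow_le_pow_left₀ zero_le h6 e
    _ = exp (-(e : ℤ)) := by rw [← exp_nsmul]; congr 1; simp

end overP

end Groth.Agent.H86.NS
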