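import Groth.Agent.H86.NS2

/-!
# Approximation by elements of `k' ⊗ O_P` at the places above a nonsingular place
-/

set_option autoImplicit false
set_option linter.unusedSectionVars false
set_option linter.style.haveILetI false

namespace Groth.Agent.H86.NS

open FunFld WithZero Module Groth.Agent.H55 Polynomial
open scoped TensorProduct

universe u v

variable {k k' : Type u} {K K' : Type v} [Field k] [Field k'] [Field K] [Field K']
  [Algebra k k'] [Algebra k K] [Algebra K K'] [Algebra k' K'] [Algebra k K']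
  [IsScalarTower k k' K'] [IsScalarTower k K K']

/-- elements of `O_P[k']` come from `k' ⊗ O_P` -/
theorem mem_range_iotaO_of_mem_adjoin (P : Place k K) {y : K'}
    (hy : y ∈ Algebra.adjoin (P.O.toSubring.map (algebraMap K K'))
      (Set.range (algebraMap k' K'))) :
    y ∈ Set.range (iotaO (k' := k') (K' := K') P) := by
  induction hy using Algebra.adjoin_induction with
  | mem x hx =>
    obtain ⟨c, rfl⟩ := hx
    exact ⟨c ⊗ₜ 1, by rw [iotaO_tmul]; simp⟩
  | algebraMap r =>
    obtain ⟨a, ha, har⟩ := r.2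
    refine ⟨1 ⊗ₜ ⟨a, ha⟩, ?_⟩
    rw [iotaO_tmul, map_one, one_mul]
    exact har
  | add x y _ _ hx hy =>
    obtain ⟨rx, rfl⟩ := hx
    obtain ⟨ry, rfl⟩ := hy
    exact ⟨rx + ry, map_add _ _ _⟩
  | mul x y _ _ hx hy =>
    obtain ⟨rx, rfl⟩ := hx
    obtain ⟨ry, rfl⟩ := hy
    exact ⟨rx * ry, map_mul _ _ _⟩

/-- weak approximation with values in `k' ⊗ O_P` -/
theorem exists_iotaO_close [FiniteDimensional k k']
    (h : Function.Bijective (Algebra.TensorProduct.productMap
      (IsScalarTower.toAlgHom k k' K') (IsScalarTower.toAlgHom k K K')))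
    (hK : IsFunctionField k K) (P : Place k K)
    (hns : integralClosure (P.O.toSubring.map (algebraMap K K')) K' =
      Algebra.adjoin (P.O.toSubring.map (algebraMap K K')) (Set.range (algebraMap k' K')))
    (S : Finset (Place k' K')) (hS : ∀ Q, Q ∈ S ↔ Q ∈ T (k' := k') (K' := K') P)
    (x : Place k' K' → K') (hx : ∀ Q ∈ S, Q.1 (x Q) ≤ 1) (B : ℕ) :
    ∃ r : k' ⊗[k] P.O, ∀ Q ∈ S, Q.1 (iotaO (k' := k') (K' := K') P r - x Q) ≤ exp (-(B : ℤ)) := by
  haveI : FiniteDimensional K K' := finite_constExt h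
  obtain ⟨y, hy⟩ := Place.weak_approx_le S x (B : ℤ)
  have hy1 : ∀ Q ∈ S, Q.1 y ≤ 1 := by
    intro Q hQ
    have : y = (y - x Q) + x Q := by ring
    rw [this]
    apply (Q.1.map_add _ _).trans
    apply max_le _ (hx Q hQ)
    apply (hy Q hQ).trans
    rw [← exp_zero, exp_le_exp]
    omega
  have hint : y ∈ integralClosure (P.O.toSubring.map (algebraMap K K')) K' := by
    apply Groth.Agent.H62.FFNSTower.mem_integralClosure_of_noPoles hK P
    intro Q' hQ'
    have h1 : Groth.Agent.H62.FFConstField.extendConst k' Q' ∈ S := by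
      rw [hS, mem_T_iff, down_extendConst]
      exact hQ'
    exact hy1 _ h1
  rw [hns] at hint
  obtain ⟨r, hr⟩ := mem_range_iotaO_of_mem_adjoin P hint
  exact ⟨r, fun Q hQ => by rw [hr]; exact hy Q hQ⟩

end Groth.Agent.H86.NS
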