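import Groth.Agent.H86.NS3

/-!
# The character of `k' ⊗ O_P` at a degree one place above `P`; injectivity of `Q ↦ σ_Q`
-/

set_option autoImplicit false
set_option linter.unusedSectionVars false
set_option linter.style.haveILetI false

namespace Groth.Agent.H86.NS

open FunFld WithZero Module Groth.Agent.H55 Polynomial
open scoped TensorProduct

universe u v

variable {k k' : Type u} {K K' : Type v} [Field k] [Field k'] [Field K] [Field K']
  [Algebra k k'] [Algebra k K] [Algebra K K'] [Algebra k' K'] [Algebra k K']
  [IsScalarTower k k' K'] [IsScalarTower k K K']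

/-- the character of `k' ⊗ O_P` attached to an embedding of the residue field -/
noncomputable def chi (P : Place k K) (σ : IsLocalRing.ResidueField P.O →ₐ[k] k') :
    k' ⊗[k] P.O →ₐ[k'] k' :=
  Algebra.TensorProduct.productLeftAlgHom (AlgHom.id k' k') (σ.comp (Place.resAlg P))

theorem chi_tmul (P : Place k K) (σ : IsLocalRing.ResidueField P.O →ₐ[k] k') (b : k') (o : P.O) :
    chi P σ (b ⊗ₜ o) = b * σ (IsLocalRing.residue P.O o) := rfl

variable {P : Place k K} {Q : Place k' K'} {e : ℕ}

theorem chi_spec (he : IsOverWith (down (k := k) Q) P e) (hQ : Q.deg = 1) (r : k' ⊗[k] P.O) :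
    Q.1 (iotaO (k' := k') (K' := K') P r - algebraMap k' K' (chi P (sigma he hQ) r)) < 1 := by
  induction r using TensorProduct.induction_on with
  | zero => simp
  | tmul b o =>
    rw [iotaO_tmul, chi_tmul, map_mul, ← mul_sub, map_mul]
    exact mul_lt_one_of_nonneg_of_lt_one_right (Q.2.1 b) zero_le (sigma_spec he hQ o)
  | add x y hx hy =>
    have : iotaO (k' := k') (K' := K') P (x + y) - algebraMap k' K' (chi P (sigma he hQ) (x + y)) =
        (iotaO (k' := k') (K' := K') P x - algebraMap k' K' (chi P (sigma he hQ) x)) +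
        (iotaO (k' := k') (K' := K') P y - algebraMap k' K' (chi P (sigma he hQ) y)) := by
      rw [map_add, map_add, map_add]; ring
    rw [this]
    exact (Q.1.map_add _ _).trans_lt (max_lt hx hy)

theorem const_eq_zero_of_val_lt_one (Q : Place k' K') {c : k'}
    (hc : Q.1 (algebraMap k' K' c) < 1) : c = 0 := by
  by_contra h
  rw [Place.val_algebraMap_eq_one Q h] at hc
  exact lt_irrefl _ hc

/-- distinct places above `P` induce distinct embeddings -/
theorem sigma_injective [FiniteDimensional k k']
    (h : Function.Bijective (Algebra.TensorProduct.productMap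
      (IsScalarTower.toAlgHom k k' K') (IsScalarTower.toAlgHom k K K')))
    (hK : IsFunctionField k K)
    (hns : integralClosure (P.O.toSubring.map (algebraMap K K')) K' =
      Algebra.adjoin (P.O.toSubring.map (algebraMap K K')) (Set.range (algebraMap k' K')))
    {Q' : Place k' K'} {e' : ℕ}
    (he : IsOverWith (down (k := k) Q) P e) (hQ : Q.deg = 1)
    (he' : IsOverWith (down (k := k) Q') P e') (hQ' : Q'.deg = 1)
    (hσ : sigma he hQ = sigma he' hQ') : Q = Q' := by
  classical
  by_contra hne
  haveI : FiniteDimensional K K' := finite_constExt h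
  have hfin := T_finite (k' := k') (K' := K') hK P
  set S := hfin.toFinset with hS
  have hSmem : ∀ R, R ∈ S ↔ R ∈ T (k' := k') (K' := K') P := fun R => hfin.mem_toFinset
  have hQS : Q ∈ S := (hSmem Q).mpr ⟨e, he⟩
  have hQ'S : Q' ∈ S := (hSmem Q').mpr ⟨e', he'⟩
  obtain ⟨r, hr⟩ := exists_iotaO_close h hK P hns S hSmem
    (fun R => if R = Q' then 1 else 0) (by
      intro R _
      by_cases hR : R = Q'
      · rw [if_pos hR, map_one]
      · rw [if_neg hR, map_zero]; exact zero_le) 1
  have h1 := hr Q hQS
  rw [if_neg hne, sub_zero] at h1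
  have h2 := hr Q' hQ'S
  rw [if_pos rfl] at h2
  have hlt : (exp (-((1 : ℕ) : ℤ)) : WithZero (Multiplicative ℤ)) < 1 := by
    rw [← exp_zero, exp_lt_exp]; norm_num
  have h3 : chi P (sigma he hQ) r = 0 := by
    apply const_eq_zero_of_val_lt_one Q
    have : algebraMap k' K' (chi P (sigma he hQ) r) = iotaO (k' := k') (K' := K') P r -
        (iotaO (k' := k') (K' := K') P r - algebraMap k' K' (chi P (sigma he hQ) r)) := by ring
    rw [this]
    exact (Q.1.map_sub _ _).trans_lt (max_lt (h1.trans_lt hlt) (chi_spec he hQ r))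
  have h4 : chi P (sigma he' hQ') r - 1 = 0 := by
    apply const_eq_zero_of_val_lt_one Q'
    have : algebraMap k' K' (chi P (sigma he' hQ') r - 1) =
        (iotaO (k' := k') (K' := K') P r - 1) -
        (iotaO (k' := k') (K' := K') P r - algebraMap k' K' (chi P (sigma he' hQ') r)) := by
      rw [map_sub, map_one]; ring
    rw [this]
    exact (Q'.1.map_sub _ _).trans_lt (max_lt (h2.trans_lt hlt) (chi_spec he' hQ' r))
  rw [← hσ, h3, zero_sub, neg_eq_zero] at h4
  exact one_ne_zero h4

end Groth.Agent.H86.NS
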