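import Groth.Agent.H86.NS4

/-!
# The ramification index above a nonsingular place is at most the inseparable degree
-/

set_option autoImplicit false
set_option linter.unusedSectionVars false
set_option linter.style.haveILetI false

namespace Groth.Agent.H86.NS

open FunFld WithZero Module Groth.Agent.H55 Polynomial
open scoped TensorProduct

universe u v

variable {k k' : Type u} {K K' : Type v} [Field k] [Field k'] [Field K] [Field K']
  [Algebra k k'] [Algebra k K] [Algebra K K'] [Algebra k' K'] [Algebra k K']
  [IsScalarTower k k' K'] [IsScalarTower k K K']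

variable {P : Place k K} {Q : Place k' K'} {e : ℕ}

theorem val_algebraMap_le_exp (he : IsOverWith (down (k := k) Q) P e) {d : K} (hd : P.1 d < 1) :
    Q.1 (algebraMap K K' d) ≤ exp (-(e : ℤ)) := by
  have h7 : Q.1 (algebraMap K K' d) = P.1 d ^ e := he _
  rw [h7]
  have h6 := le_exp_neg_one_of_lt_one hd
  calc P.1 d ^ e ≤ (exp (-1 : ℤ)) ^ e := pow_le_pow_left₀ zero_le h6 e
    _ = exp (-(e : ℤ)) := by rw [← exp_nsmul]; congr 1; simp

/-- modulo `P`, every element of `k' ⊗ O_P` is a `k'`-combination of lifts of a basis of the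
residue field over its separable closure -/
theorem exists_coeffs (he : IsOverWith (down (k := k) Q) P e) (hQ : Q.deg = 1)
    {ι : Type*} [Fintype ι]
    (b : Basis ι (separableClosure k (IsLocalRing.ResidueField P.O)) (IsLocalRing.ResidueField P.O))
    (a : ι → P.O) (ha : ∀ i, IsLocalRing.residue P.O (a i) = b i) (r : k' ⊗[k] P.O) :
    ∃ c : ι → k', Q.1 (iotaO (k' := k') (K' := K') P r -
      ∑ i, algebraMap k' K' (c i) * algebraMap K K' (a i : K)) ≤ exp (-(e : ℤ)) := by
  classical
  induction r using TensorProduct.induction_on with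
  | zero =>
    refine ⟨0, ?_⟩
    simp
  | add x y hx hy =>
    obtain ⟨cx, hcx⟩ := hx
    obtain ⟨cy, hcy⟩ := hy
    refine ⟨cx + cy, ?_⟩
    have : iotaO (k' := k') (K' := K') P (x + y) -
        ∑ i, algebraMap k' K' ((cx + cy) i) * algebraMap K K' (a i : K) =
        (iotaO (k' := k') (K' := K') P x - ∑ i, algebraMap k' K' (cx i) * algebraMap K K' (a i : K)) +
        (iotaO (k' := k') (K' := K') P y - ∑ i, algebraMap k' K' (cy i) * algebraMap K K' (a i : K)) := by
      rw [map_add]
      simp only [Pi.add_apply, map_add, add_mul, Finset.sum_add_distrib]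
      ring
    rw [this]
    exact (Q.1.map_add _ _).trans (max_le hcx hcy)
  | tmul bb o =>
    set obar := IsLocalRing.residue P.O o with hobar
    choose u hu using fun i : ι => IsLocalRing.residue_surjective
      (((b.repr obar i : separableClosure k (IsLocalRing.ResidueField P.O)) :
        IsLocalRing.ResidueField P.O))
    have hsep : ∀ i, IsSeparable k (IsLocalRing.residue P.O (u i)) := by
      intro i
      rw [hu i]
      exact mem_separableClosure_iff.mp (b.repr obar i).2
    set d : P.O := o - ∑ i, u i * a i with hd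
    have hd0 : IsLocalRing.residue P.O d = 0 := by
      rw [hd, map_sub, map_sum, sub_eq_zero]
      conv_lhs => rw [← hobar, ← b.sum_repr obar]
      apply Finset.sum_congr rfl
      intro i _
      rw [map_mul, hu i, ha i]
      rfl
    have hdP : P.1 (d : K) < 1 := (Place.residue_eq_zero_iff P d).mp hd0
    have h1 : Q.1 (algebraMap K K' (d : K)) ≤ exp (-(e : ℤ)) := val_algebraMap_le_exp he hdP
    have h2 : ∀ i, Q.1 (algebraMap K K' (u i : K) -
        algebraMap k' K' (sigma he hQ (IsLocalRing.residue P.O (u i)))) ≤ exp (-(e : ℤ)) :=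
      fun i => val_sub_sigma_le he hQ (u i) (hsep i)
    refine ⟨fun i => bb * sigma he hQ (IsLocalRing.residue P.O (u i)), ?_⟩
    have hdK0 : (d : K) = (o : K) - ∑ i, (u i : K) * (a i : K) := by
      rw [hd]
      push_cast
      rfl
    have hdK : algebraMap K K' (d : K) = algebraMap K K' (o : K) -
        ∑ i, algebraMap K K' (u i : K) * algebraMap K K' (a i : K) := by
      rw [hdK0, map_sub, map_sum]
      simp only [map_mul]
    have hs : ∑ i, (algebraMap K K' (u i : K) -
            algebraMap k' K' (sigma he hQ (IsLocalRing.residue P.O (u i)))) *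
              algebraMap K K' (a i : K) =
        ∑ i, algebraMap K K' (u i : K) * algebraMap K K' (a i : K) -
        ∑ i, algebraMap k' K' (sigma he hQ (IsLocalRing.residue P.O (u i))) *
          algebraMap K K' (a i : K) := by
      simp only [sub_mul, Finset.sum_sub_distrib]
    have hl : ∑ i, algebraMap k' K' (bb * sigma he hQ (IsLocalRing.residue P.O (u i))) *
          algebraMap K K' (a i : K) =
        algebraMap k' K' bb * ∑ i, algebraMap k' K' (sigma he hQ (IsLocalRing.residue P.O (u i))) *
          algebraMap K K' (a i : K) := by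
      rw [Finset.mul_sum]
      apply Finset.sum_congr rfl
      intro i _
      rw [map_mul, mul_assoc]
    have hid : iotaO (k' := k') (K' := K') P (bb ⊗ₜ o) -
        ∑ i, algebraMap k' K' (bb * sigma he hQ (IsLocalRing.residue P.O (u i))) *
          algebraMap K K' (a i : K) =
        algebraMap k' K' bb * (algebraMap K K' (d : K) +
          ∑ i, (algebraMap K K' (u i : K) -
            algebraMap k' K' (sigma he hQ (IsLocalRing.residue P.O (u i)))) *
              algebraMap K K' (a i : K)) := by
      rw [iotaO_tmul, hdK, hs, hl]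
      ring
    rw [hid, map_mul]
    have h3 : Q.1 (algebraMap K K' (d : K) +
          ∑ i, (algebraMap K K' (u i : K) -
            algebraMap k' K' (sigma he hQ (IsLocalRing.residue P.O (u i)))) *
              algebraMap K K' (a i : K)) ≤ exp (-(e : ℤ)) := by
      apply (Q.1.map_add _ _).trans
      apply max_le h1
      apply Valuation.map_sum_le
      intro i _
      rw [map_mul]
      have hai : Q.1 (algebraMap K K' (a i : K)) ≤ 1 :=
        (isOverWith_le_one_iff he (a i : K)).mpr ((Valuation.mem_valuationSubring_iff P.1 _).mp (a i).2)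
      calc Q.1 (algebraMap K K' (u i : K) -
            algebraMap k' K' (sigma he hQ (IsLocalRing.residue P.O (u i)))) *
              Q.1 (algebraMap K K' (a i : K)) ≤ exp (-(e : ℤ)) * 1 := mul_le_mul' (h2 i) hai
        _ = exp (-(e : ℤ)) := mul_one _
    calc Q.1 (algebraMap k' K' bb) * Q.1 (algebraMap K K' (d : K) +
          ∑ i, (algebraMap K K' (u i : K) -
            algebraMap k' K' (sigma he hQ (IsLocalRing.residue P.O (u i)))) *
              algebraMap K K' (a i : K)) ≤ 1 * exp (-(e : ℤ)) := mul_le_mul' (Q.2.1 bb) h3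
      _ = exp (-(e : ℤ)) := one_mul _


theorem val_sum_const_mul_pow (Q : Place k' K') {s : K'} (hs : Q.1 s = exp (-1 : ℤ)) {n : ℕ}
    (l : Fin n → k') (j0 : Fin n) (hj0 : l j0 ≠ 0) (hmin : ∀ j : Fin n, l j ≠ 0 → j0 ≤ j) :
    Q.1 (∑ j, algebraMap k' K' (l j) * s ^ (j : ℕ)) = exp (-((j0 : ℕ) : ℤ)) := by
  classical
  have hterm : ∀ j : Fin n, l j ≠ 0 →
      Q.1 (algebraMap k' K' (l j) * s ^ (j : ℕ)) = exp (-((j : ℕ) : ℤ)) := by
    intro j hj
    rw [map_mul, map_pow, hs, Place.val_algebraMap_eq_one Q hj, one_mul, ← exp_nsmul]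
    congr 1
    simp
  rw [Valuation.map_sum_eq_of_lt _ (Finset.mem_univ j0), hterm j0 hj0]
  intro j hj
  rw [Finset.mem_sdiff, Finset.mem_singleton] at hj
  rw [hterm j0 hj0]
  by_cases hlj : l j = 0
  · rw [hlj, map_zero, zero_mul, map_zero]
    exact exp_pos
  · rw [hterm j hlj, exp_lt_exp]
    have h1 : j0 ≤ j := hmin j hlj
    have h2 : j0 ≠ j := fun h => hj.2 h.symm
    have h3 : (j0 : ℕ) < (j : ℕ) := lt_of_le_of_ne h1 (fun h => h2 (Fin.ext h))
    omega

/-- the ramification index is at most the inseparable degree of the residue field -/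
theorem ramIdx_le [FiniteDimensional k k']
    (h : Function.Bijective (Algebra.TensorProduct.productMap
      (IsScalarTower.toAlgHom k k' K') (IsScalarTower.toAlgHom k K K')))
    (hK : IsFunctionField k K)
    (hns : integralClosure (P.O.toSubring.map (algebraMap K K')) K' =
      Algebra.adjoin (P.O.toSubring.map (algebraMap K K')) (Set.range (algebraMap k' K')))
    (he : IsOverWith (down (k := k) Q) P e) (hQ : Q.deg = 1) :
    e ≤ finrank (separableClosure k (IsLocalRing.ResidueField P.O))
      (IsLocalRing.ResidueField P.O) := by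
  classical
  by_contra hlt
  push Not at hlt
  haveI : @Module.Finite k (IsLocalRing.ResidueField P.O) _ _ Algebra.toModule :=
    Place.finiteDimensional_residue hK P
  set q := finrank (separableClosure k (IsLocalRing.ResidueField P.O))
    (IsLocalRing.ResidueField P.O) with hq
  let b : Basis (Fin q) (separableClosure k (IsLocalRing.ResidueField P.O))
    (IsLocalRing.ResidueField P.O) := Module.finBasis _ _
  choose a ha using fun i : Fin q => IsLocalRing.residue_surjective (b i)
  obtain ⟨s, hs⟩ := Place.exists_uniformizer Q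
  haveI : FiniteDimensional K K' := finite_constExt h
  have hfin := T_finite (k' := k') (K' := K') hK P
  set S := hfin.toFinset with hS
  have hSmem : ∀ R, R ∈ S ↔ R ∈ T (k' := k') (K' := K') P := fun R => hfin.mem_toFinset
  have hQS : Q ∈ S := (hSmem Q).mpr ⟨e, he⟩
  have hsle : Q.1 s ≤ 1 := by rw [hs, ← exp_zero, exp_le_exp]; norm_num
  have hstep : ∀ j : Fin e, ∃ c : Fin q → k', Q.1 (s ^ (j : ℕ) -
      ∑ i, algebraMap k' K' (c i) * algebraMap K K' (a i : K)) ≤ exp (-(e : ℤ)) := by
    intro j
    obtain ⟨r, hr⟩ := exists_iotaO_close h hK P hns S hSmem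
      (fun R => if R = Q then s ^ (j : ℕ) else 0) (by
        intro R _
        by_cases hR : R = Q
        · rw [if_pos hR, hR, map_pow]; exact pow_le_one₀ zero_le hsle
        · rw [if_neg hR, map_zero]; exact zero_le) e
    have h1 := hr Q hQS
    rw [if_pos rfl] at h1
    obtain ⟨c, hc⟩ := exists_coeffs he hQ b a ha r
    refine ⟨c, ?_⟩
    have : s ^ (j : ℕ) - ∑ i, algebraMap k' K' (c i) * algebraMap K K' (a i : K) =
        (iotaO (k' := k') (K' := K') P r - ∑ i, algebraMap k' K' (c i) * algebraMap K K' (a i : K)) -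
        (iotaO (k' := k') (K' := K') P r - s ^ (j : ℕ)) := by ring
    rw [this]
    exact (Q.1.map_sub _ _).trans (max_le hc h1)
  choose c hc using hstep
  have hdep : ¬ LinearIndependent k' c := by
    intro hli
    have := hli.fintype_card_le_finrank
    rw [Fintype.card_fin, Module.finrank_fin_fun] at this
    omega
  obtain ⟨l, hl0, j1, hj1⟩ := Fintype.not_linearIndependent_iff.mp hdep
  -- minimal index with nonzero coefficient
  have hJ : (Finset.univ.filter (fun j : Fin e => l j ≠ 0)).Nonempty :=
    ⟨j1, Finset.mem_filter.mpr ⟨Finset.mem_univ _, hj1⟩⟩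
  set j0 := (Finset.univ.filter (fun j : Fin e => l j ≠ 0)).min' hJ with hj0def
  have hj0 : l j0 ≠ 0 := (Finset.mem_filter.mp (Finset.min'_mem _ hJ)).2
  have hmin : ∀ j : Fin e, l j ≠ 0 → j0 ≤ j := fun j hj =>
    Finset.min'_le _ j (Finset.mem_filter.mpr ⟨Finset.mem_univ _, hj⟩)
  have hval := val_sum_const_mul_pow Q hs l j0 hj0 hmin
  have hzero : ∀ i : Fin q, ∑ j, l j * c j i = 0 := by
    intro i
    have := congrFun hl0 i
    simpa using this
  have hsum : ∑ j, algebraMap k' K' (l j) * s ^ (j : ℕ) =
      ∑ j, algebraMap k' K' (l j) * (s ^ (j : ℕ) -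
        ∑ i, algebraMap k' K' (c j i) * algebraMap K K' (a i : K)) := by
    have h0 : ∑ j, algebraMap k' K' (l j) *
        ∑ i, algebraMap k' K' (c j i) * algebraMap K K' (a i : K) = 0 := by
      simp only [Finset.mul_sum]
      rw [Finset.sum_comm]
      apply Finset.sum_eq_zero
      intro i _
      have h1 : ∑ j, algebraMap k' K' (l j) * (algebraMap k' K' (c j i) * algebraMap K K' (a i : K)) =
          algebraMap k' K' (∑ j, l j * c j i) * algebraMap K K' (a i : K) := by
        rw [map_sum, Finset.sum_mul]
        apply Finset.sum_congr rfl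
        intro j _
        rw [map_mul, mul_assoc]
      rw [h1, hzero i, map_zero, zero_mul]
    simp only [mul_sub, Finset.sum_sub_distrib]
    rw [h0, sub_zero]
  have hle : Q.1 (∑ j, algebraMap k' K' (l j) * s ^ (j : ℕ)) ≤ exp (-(e : ℤ)) := by
    rw [hsum]
    apply Valuation.map_sum_le
    intro j _
    rw [map_mul]
    calc Q.1 (algebraMap k' K' (l j)) * Q.1 (s ^ (j : ℕ) -
          ∑ i, algebraMap k' K' (c j i) * algebraMap K K' (a i : K)) ≤ 1 * exp (-(e : ℤ)) :=
        mul_le_mul' (Q.2.1 _) (hc j)
      _ = exp (-(e : ℤ)) := one_mul _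
  rw [hval, exp_le_exp] at hle
  have := j0.2
  omega

end Groth.Agent.H86.NS
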