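import Groth.Agent.H86.NS5

/-!
# Counting the places above a nonsingular place in a splitting constant field extension
-/

set_option autoImplicit false
set_option linter.unusedSectionVars false
set_option linter.style.haveILetI false

namespace Groth.Agent.H86.NS

open FunFld WithZero Module Groth.Agent.H55 Polynomial
open scoped TensorProduct

universe u v

variable {k k' : Type u} {K K' : Type v} [Field k] [Field k'] [Field K] [Field K']
  [Algebra k k'] [Algebra k K] [Algebra K K'] [Algebra k' K'] [Algebra k K']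
  [IsScalarTower k k' K'] [IsScalarTower k K K']

theorem card_le_finSepDegree [FiniteDimensional k k']
    (h : Function.Bijective (Algebra.TensorProduct.productMap
      (IsScalarTower.toAlgHom k k' K') (IsScalarTower.toAlgHom k K K')))
    (hK : IsFunctionField k K) (P : Place k K)
    (hns : integralClosure (P.O.toSubring.map (algebraMap K K')) K' =
      Algebra.adjoin (P.O.toSubring.map (algebraMap K K')) (Set.range (algebraMap k' K')))
    (hdeg1 : ∀ Q ∈ T (k' := k') (K' := K') P, Q.deg = 1)
    (S : Finset (Place k' K')) (hS : ∀ Q, Q ∈ S ↔ Q ∈ T (k' := k') (K' := K') P) :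
    S.card ≤ Field.finSepDegree k (IsLocalRing.ResidueField P.O) := by
  classical
  haveI : @Module.Finite k (IsLocalRing.ResidueField P.O) _ _ Algebra.toModule :=
    Place.finiteDimensional_residue hK P
  haveI : Algebra.IsAlgebraic k (IsLocalRing.ResidueField P.O) := Algebra.IsAlgebraic.of_finite _ _
  rw [Field.finSepDegree_eq_of_isAlgClosed k (IsLocalRing.ResidueField P.O) (AlgebraicClosure k')]
  let f : {Q // Q ∈ S} → (IsLocalRing.ResidueField P.O →ₐ[k] AlgebraicClosure k') := fun Q =>
    (IsScalarTower.toAlgHom k k' (AlgebraicClosure k')).comp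
      (sigma (isOverWith_ramIdx ((mem_T_iff P Q.1).mp ((hS Q.1).mp Q.2)))
        (hdeg1 _ ((hS Q.1).mp Q.2)))
  have hf : Function.Injective f := by
    intro Q Q' hQQ'
    apply Subtype.ext
    apply sigma_injective h hK hns (isOverWith_ramIdx ((mem_T_iff P Q.1).mp ((hS Q.1).mp Q.2)))
      (hdeg1 _ ((hS Q.1).mp Q.2)) (isOverWith_ramIdx ((mem_T_iff P Q'.1).mp ((hS Q'.1).mp Q'.2)))
      (hdeg1 _ ((hS Q'.1).mp Q'.2))
    apply AlgHom.ext
    intro x
    have := congrArg (fun g => g x) hQQ'
    exact (algebraMap k' (AlgebraicClosure k')).injective this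
  haveI : Finite (IsLocalRing.ResidueField P.O →ₐ[k] AlgebraicClosure k') :=
    (minpoly.AlgHom.fintype k (IsLocalRing.ResidueField P.O) (AlgebraicClosure k')).finite
  have := Nat.card_le_card_of_injective f hf
  rwa [Nat.card_eq_fintype_card, Fintype.card_coe] at this

/-- S12592 in library form -/
theorem main [FiniteDimensional k k']
    (h : Function.Bijective (Algebra.TensorProduct.productMap
      (IsScalarTower.toAlgHom k k' K') (IsScalarTower.toAlgHom k K K')))
    (hK : IsFunctionField k K) (P : Place k K)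
    (hns : integralClosure (P.O.toSubring.map (algebraMap K K')) K' =
      Algebra.adjoin (P.O.toSubring.map (algebraMap K K')) (Set.range (algebraMap k' K')))
    (hdeg1 : ∀ Q ∈ T (k' := k') (K' := K') P, Q.deg = 1) :
    (T (k' := k') (K' := K') P).Finite ∧
    (T (k' := k') (K' := K') P).ncard = Field.finSepDegree k (IsLocalRing.ResidueField P.O) ∧
    ∀ Q ∈ T (k' := k') (K' := K') P, ∀ z : K, Q.1 (algebraMap K K' z) =
      P.1 z ^ finrank (separableClosure k (IsLocalRing.ResidueField P.O))
        (IsLocalRing.ResidueField P.O) := by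
  classical
  haveI : FiniteDimensional K K' := finite_constExt h
  have hfin := T_finite (k' := k') (K' := K') hK P
  set S := hfin.toFinset with hSdef
  have hS : ∀ R, R ∈ S ↔ R ∈ T (k' := k') (K' := K') P := fun R => hfin.mem_toFinset
  set q := finrank (separableClosure k (IsLocalRing.ResidueField P.O))
        (IsLocalRing.ResidueField P.O) with hq
  set r := Field.finSepDegree k (IsLocalRing.ResidueField P.O) with hr
  have hover : ∀ Q ∈ S, IsOverWith (down (k := k) Q) P (ramIdx (down (k := k) Q) P) :=
    fun Q hQ => isOverWith_ramIdx ((mem_T_iff P Q).mp ((hS Q).mp hQ))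
  have hsum := sum_ramIdx h hK P hdeg1 S hS
  have hle : ∀ Q ∈ S, ramIdx (down (k := k) Q) P ≤ q :=
    fun Q hQ => ramIdx_le h hK hns (hover Q hQ) (hdeg1 Q ((hS Q).mp hQ))
  have hcard := card_le_finSepDegree h hK P hns hdeg1 S hS
  have hrq : r * q = P.deg := Field.finSepDegree_mul_finInsepDegree k (IsLocalRing.ResidueField P.O)
  have hdegpos : 0 < P.deg := Place.deg_pos hK P
  have hqpos : 0 < q := by
    rcases Nat.eq_zero_or_pos q with h0 | h0
    · rw [h0, mul_zero] at hrq; omega
    · exact h0
  have h1 : ∑ Q ∈ S, ramIdx (down (k := k) Q) P ≤ S.card * q := by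
    calc ∑ Q ∈ S, ramIdx (down (k := k) Q) P ≤ ∑ _Q ∈ S, q := Finset.sum_le_sum hle
      _ = S.card * q := by rw [Finset.sum_const, smul_eq_mul]
  have h2 : S.card * q ≤ r * q := Nat.mul_le_mul_right q hcard
  have h3 : S.card * q = r * q := by
    apply le_antisymm h2
    rw [hrq, ← hsum]
    exact h1
  have h4 : S.card = r := Nat.eq_of_mul_eq_mul_right hqpos h3
  have h5 : ∑ Q ∈ S, ramIdx (down (k := k) Q) P = ∑ _Q ∈ S, q := by
    rw [Finset.sum_const, smul_eq_mul, h3, hrq, hsum]
  have h6 := (Finset.sum_eq_sum_iff_of_le hle).mp h5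
  refine ⟨hfin, ?_, ?_⟩
  · rw [Set.ncard_eq_toFinset_card _ hfin]
    exact h4
  · intro Q hQ z
    have hQS : Q ∈ S := (hS Q).mpr hQ
    have := hover Q hQS z
    rw [h6 Q hQS] at this
    exact this

end Groth.Agent.H86.NS
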