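import Groth.Prelude.Def_W4c5spincurvestfNode
import Mathlib.RingTheory.MvPolynomial.Basic
import Mathlib.LinearAlgebra.Quotient.Basic
import Mathlib.LinearAlgebra.Finsupp.LinearCombination

/-! `R[x,y]/(xy - π)` is free over `R` with basis `x^i (i ≥ 0)`, `y^j (j ≥ 1)`:
explicit linear equivalence with `ℤ →₀ R`. -/

set_option autoImplicit false

namespace Groth.Agent.H86.PN

open MvPolynomial SpinCurv

universe u

variable (R : Type u) [CommRing R] (π : R)

/-- the basis element `e_k`: `x^k` for `k ≥ 0`, `y^{-k}` for `k < 0` -/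
noncomputable def e (k : ℤ) : PolyNodeRing R π :=
  if 0 ≤ k then PolyNodeRing.x R π ^ k.natAbs else PolyNodeRing.y R π ^ k.natAbs

lemma e_of_nonneg {k : ℤ} (hk : 0 ≤ k) : e R π k = PolyNodeRing.x R π ^ k.natAbs := if_pos hk

lemma e_of_neg {k : ℤ} (hk : k < 0) : e R π k = PolyNodeRing.y R π ^ k.natAbs :=
  if_neg (not_le.mpr hk)

lemma e_natCast (a : ℕ) : e R π (a : ℤ) = PolyNodeRing.x R π ^ a := by
  rw [e_of_nonneg R π (Int.natCast_nonneg a), Int.natAbs_natCast]

lemma e_neg_natCast (a : ℕ) (ha : 0 < a) : e R π (-(a : ℤ)) = PolyNodeRing.y R π ^ a := by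
  rw [e_of_neg R π (by omega), Int.natAbs_neg, Int.natAbs_natCast]

lemma x_mul_y : PolyNodeRing.x R π * PolyNodeRing.y R π = algebraMap R (PolyNodeRing R π) π := by
  change Ideal.Quotient.mk _ (X 0) * Ideal.Quotient.mk _ (X 1) = Ideal.Quotient.mk _ (C π)
  rw [← map_mul, Ideal.Quotient.eq]
  exact Ideal.subset_span rfl

/-- `θ : ℤ →₀ R → R[x,y]/(xy - π)` -/
noncomputable def theta : (ℤ →₀ R) →ₗ[R] PolyNodeRing R π :=
  Finsupp.linearCombination R (e R π)

lemma theta_single (k : ℤ) (r : R) : theta R π (Finsupp.single k r) = r • e R π k := by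
  simp [theta]

/-- `ψ₀` on polynomials -/
noncomputable def psi0 : MvPolynomial (Fin 2) R →ₗ[R] (ℤ →₀ R) :=
  (MvPolynomial.basisMonomials (Fin 2) R).constr R
    (fun m => Finsupp.single ((m 0 : ℤ) - (m 1 : ℤ)) (π ^ min (m 0) (m 1)))

lemma psi0_monomial (m : Fin 2 →₀ ℕ) (r : R) :
    psi0 R π (monomial m r) = Finsupp.single ((m 0 : ℤ) - (m 1 : ℤ)) (r * π ^ min (m 0) (m 1)) := by
  have h1 : monomial m r = r • (MvPolynomial.basisMonomials (Fin 2) R) m := by
    rw [coe_basisMonomials, smul_monomial, smul_eq_mul, mul_one]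
  rw [h1, map_smul, psi0, Module.Basis.constr_basis, Finsupp.smul_single, smul_eq_mul]

lemma psi0_mem (f : MvPolynomial (Fin 2) R)
    (hf : f ∈ Ideal.span {(X 0 * X 1 - C π : MvPolynomial (Fin 2) R)}) : psi0 R π f = 0 := by
  obtain ⟨h, rfl⟩ := Ideal.mem_span_singleton'.mp hf
  clear hf
  induction h using MvPolynomial.induction_on' with
  | monomial m r =>
    have h1 : monomial m r * (X 0 * X 1 - C π) =
        monomial (m + (Finsupp.single 0 1 + Finsupp.single 1 1)) r - monomial m (r * π) := by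
      rw [mul_sub, ← add_assoc, monomial_add_single, monomial_add_single, pow_one, pow_one,
        mul_assoc, C_apply, monomial_mul, add_zero]
    rw [h1, map_sub, psi0_monomial, psi0_monomial]
    have h2 : (m + (Finsupp.single 0 1 + Finsupp.single 1 1) : Fin 2 →₀ ℕ) 0 = m 0 + 1 := by simp
    have h3 : (m + (Finsupp.single 0 1 + Finsupp.single 1 1) : Fin 2 →₀ ℕ) 1 = m 1 + 1 := by simp
    rw [h2, h3, Nat.add_min_add_right, pow_succ, Nat.cast_add, Nat.cast_add, Nat.cast_one,
      add_sub_add_right_eq_sub, mul_assoc, mul_comm π, sub_self]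
  | add p q hp hq => rw [add_mul, map_add, hp, hq, add_zero]

/-- `ψ : R[x,y]/(xy - π) → ℤ →₀ R` -/
noncomputable def psi : PolyNodeRing R π →ₗ[R] (ℤ →₀ R) :=
  (Submodule.liftQ ((Ideal.span {(X 0 * X 1 - C π : MvPolynomial (Fin 2) R)}).restrictScalars R)
    (psi0 R π) (fun f hf => LinearMap.mem_ker.mpr (psi0_mem R π f hf))).comp
    (Submodule.Quotient.restrictScalarsEquiv R
      (Ideal.span {(X 0 * X 1 - C π : MvPolynomial (Fin 2) R)})).symm.toLinearMap

lemma psi_mk (f : MvPolynomial (Fin 2) R) :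
    psi R π (Ideal.Quotient.mk _ f) = psi0 R π f := rfl

lemma psi_e (k : ℤ) : psi R π (e R π k) = Finsupp.single k 1 := by
  rcases le_or_gt 0 k with hk | hk
  · obtain ⟨a, rfl⟩ := Int.eq_ofNat_of_zero_le hk
    rw [e_natCast]
    change psi R π (Ideal.Quotient.mk _ (X 0) ^ a) = _
    rw [← map_pow, psi_mk, X_pow_eq_monomial, psi0_monomial]
    simp
  · obtain ⟨a, ha, rfl⟩ : ∃ a : ℕ, 0 < a ∧ k = -(a : ℤ) := ⟨k.natAbs, by omega, by omega⟩
    rw [e_neg_natCast _ _ _ ha]
    change psi R π (Ideal.Quotient.mk _ (X 1) ^ a) = _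
    rw [← map_pow, psi_mk, X_pow_eq_monomial, psi0_monomial]
    simp

lemma psi_theta (v : ℤ →₀ R) : psi R π (theta R π v) = v := by
  have : (psi R π).comp (theta R π) = LinearMap.id := by
    apply Finsupp.lhom_ext
    intro k r
    simp only [LinearMap.comp_apply, LinearMap.id_apply, theta_single, map_smul, psi_e,
      Finsupp.smul_single, smul_eq_mul, mul_one]
  exact LinearMap.congr_fun this v

lemma smul_def' (r : R) (z : PolyNodeRing R π) :
    r • z = algebraMap R (PolyNodeRing R π) r * z := Algebra.smul_def r z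

lemma x_pow_mul_y_pow (a b : ℕ) :
    PolyNodeRing.x R π ^ a * PolyNodeRing.y R π ^ b =
      (π ^ min a b) • e R π ((a : ℤ) - (b : ℤ)) := by
  rcases le_total b a with h | h
  · obtain ⟨c, rfl⟩ := Nat.exists_eq_add_of_le h
    rw [Nat.min_eq_right h, Nat.cast_add, add_sub_cancel_left, e_natCast, pow_add,
      mul_comm (PolyNodeRing.x R π ^ b), mul_assoc, ← mul_pow, x_mul_y, smul_def', map_pow,
      mul_comm]
  · rcases Nat.eq_or_lt_of_le h with rfl | hlt
    · rw [Nat.min_self, sub_self, ← mul_pow, x_mul_y, ← map_pow, smul_def']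
      have : e R π 0 = 1 := by
        rw [show (0 : ℤ) = ((0 : ℕ) : ℤ) from rfl, e_natCast, pow_zero]
      rw [this, mul_one]
    · obtain ⟨c, rfl⟩ := Nat.exists_eq_add_of_le h
      have hc : 0 < c := by omega
      rw [Nat.min_eq_left h, Nat.cast_add, sub_add_cancel_left, e_neg_natCast _ _ _ hc, pow_add,
        ← mul_assoc, ← mul_pow, x_mul_y, ← map_pow, smul_def']

lemma mk_monomial (m : Fin 2 →₀ ℕ) (r : R) :
    (Ideal.Quotient.mk _ (monomial m r) : PolyNodeRing R π) =
      r • (PolyNodeRing.x R π ^ m 0 * PolyNodeRing.y R π ^ m 1) := by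
  have hm : monomial m r = C r * (X 0 ^ m 0 * X 1 ^ m 1) := by
    have : m = Finsupp.single 0 (m 0) + Finsupp.single 1 (m 1) := by
      ext i; fin_cases i <;> simp
    conv_lhs => rw [this]
    rw [monomial_single_add, ← C_mul_X_pow_eq_monomial]
    ring
  rw [hm, map_mul, map_mul, map_pow, map_pow, smul_def']
  rfl

lemma theta_psi (z : PolyNodeRing R π) : theta R π (psi R π z) = z := by
  obtain ⟨f, rfl⟩ := Ideal.Quotient.mk_surjective z
  induction f using MvPolynomial.induction_on' with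
  | monomial m r =>
    rw [psi_mk, psi0_monomial, theta_single, mk_monomial, x_pow_mul_y_pow, smul_smul]
  | add p q hp hq => rw [map_add, map_add, map_add, hp, hq]

/-- the `R`-linear equivalence `(ℤ →₀ R) ≃ R[x,y]/(xy - π)` -/
noncomputable def E : (ℤ →₀ R) ≃ₗ[R] PolyNodeRing R π :=
  LinearEquiv.ofLinearMap (theta R π) (psi R π)
    (LinearMap.ext fun z => theta_psi R π z) (LinearMap.ext fun v => psi_theta R π v)

lemma E_single (k : ℤ) (r : R) : E R π (Finsupp.single k r) = r • e R π k := theta_single R π k r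

lemma E_symm_apply (z : PolyNodeRing R π) : (E R π).symm z = psi R π z := rfl

end Groth.Agent.H86.PN
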