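import Groth.Agent.H86.PN1
import Mathlib.Algebra.Polynomial.Laurent
import Mathlib.Algebra.Algebra.Bilinear
import Mathlib.LinearAlgebra.FreeModule.Basic

/-! Global sections of `O(n)` on the two-chart blown-up node: the kernel is free. -/

set_option autoImplicit false

namespace Groth.Agent.H86.PN

open SpinCurv LaurentPolynomial

universe u

variable {R : Type u} [CommRing R]

/-- diagonal operator on `ℤ →₀ R` -/
noncomputable def diag (u : ℤ → R) : (ℤ →₀ R) →ₗ[R] (ℤ →₀ R) :=
  Finsupp.lsum R (fun k => (Finsupp.lsingle k : R →ₗ[R] (ℤ →₀ R)).comp (LinearMap.mulLeft R (u k)))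

lemma diag_single (u : ℤ → R) (k : ℤ) (r : R) :
    diag u (Finsupp.single k r) = Finsupp.single k (u k * r) := by
  simp [diag]

lemma diag_apply (u : ℤ → R) (a : ℤ →₀ R) (j : ℤ) : diag u a j = u j * a j := by
  have : (Finsupp.lapply j).comp (diag u) =
      (LinearMap.mulLeft R (u j)).comp (Finsupp.lapply j : (ℤ →₀ R) →ₗ[R] R) := by
    apply Finsupp.lhom_ext
    intro k r
    simp only [LinearMap.comp_apply, diag_single, Finsupp.lapply_apply, LinearMap.mulLeft_apply,
      Finsupp.single_apply]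
    split_ifs with h
    · subst h; rfl
    · simp
  exact LinearMap.congr_fun this a

/-- reflection `k ↦ n - k` -/
noncomputable def rho (n : ℤ) : (ℤ →₀ R) ≃ₗ[R] (ℤ →₀ R) := Finsupp.domLCongr (Equiv.subLeft n)

lemma rho_single (n k : ℤ) (r : R) :
    rho n (Finsupp.single k r) = Finsupp.single (n - k) r := by
  simp [rho]

lemma rho_apply (n : ℤ) (a : ℤ →₀ R) (j : ℤ) : rho n a j = a (n - j) := by
  simp only [rho, Finsupp.domLCongr_apply, Finsupp.domCongr_apply, Finsupp.equivMapDomain_apply]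
  congr 1
  simp [Equiv.subLeft]
  ring

/-- the weights -/
noncomputable def uW (q : R) (k : ℤ) : R := if 0 ≤ k then 1 else q ^ k.natAbs

lemma uW_of_nonneg (q : R) {k : ℤ} (hk : 0 ≤ k) : uW q k = 1 := if_pos hk

/-- coefficients of a Laurent polynomial -/
noncomputable abbrev cf : LaurentPolynomial R ≃ₗ[R] (ℤ →₀ R) := AddMonoidAlgebra.coeffLinearEquiv R

lemma cf_C_mul_T (s : R) (k : ℤ) : cf (C s * T k : LaurentPolynomial R) = Finsupp.single k s := by
  rw [← single_eq_C_mul_T]
  rfl

lemma C_mul_T_pow (s : R) (m : ℤ) (a : ℕ) :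
    (C s * T m : LaurentPolynomial R) ^ a = C (s ^ a) * T (a * m) := by
  rw [mul_pow, ← map_pow, T_pow]

section Charts

variable (p q : R)
  (gU : PolyNodeRing R q →ₐ[R] LaurentPolynomial R)
  (hgUs : gU (PolyNodeRing.x R q) = T 1)
  (hgUy : gU (PolyNodeRing.y R q) = C q * T (-1))
  (gV : PolyNodeRing R p →ₐ[R] LaurentPolynomial R)
  (hgVt : gV (PolyNodeRing.x R p) = T (-1))
  (hgVx : gV (PolyNodeRing.y R p) = C p * T 1)

include hgUs hgUy in
lemma gU_e (k : ℤ) : gU (e R q k) = C (uW q k) * T k := by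
  rcases le_or_gt 0 k with hk | hk
  · rw [e_of_nonneg R q hk, uW_of_nonneg q hk, map_pow, hgUs, T_pow, map_one, one_mul, mul_one,
      Int.natAbs_of_nonneg hk]
  · rw [e_of_neg R q hk, uW, if_neg (not_le.mpr hk), map_pow, hgUy, C_mul_T_pow]
    congr 2
    rw [Int.ofNat_natAbs_of_nonpos hk.le]
    ring

include hgVt hgVx in
lemma gV_e (k : ℤ) : gV (e R p k) = C (uW p k) * T (-k) := by
  rcases le_or_gt 0 k with hk | hk
  · rw [e_of_nonneg R p hk, uW_of_nonneg p hk, map_pow, hgVt, T_pow, map_one, one_mul, mul_neg,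
      mul_one, Int.natAbs_of_nonneg hk]
  · rw [e_of_neg R p hk, uW, if_neg (not_le.mpr hk), map_pow, hgVx, C_mul_T_pow]
    congr 2
    rw [Int.ofNat_natAbs_of_nonpos hk.le]
    ring

include hgUs hgUy in
lemma cf_gU (v : ℤ →₀ R) : cf (gU (E R q v)) = diag (uW q) v := by
  have : (cf.toLinearMap.comp gU.toLinearMap).comp (E R q).toLinearMap = diag (uW q) := by
    apply Finsupp.lhom_ext
    intro k r
    simp only [LinearMap.comp_apply, LinearEquiv.coe_coe, AlgHom.toLinearMap_apply, E_single,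
      map_smul, gU_e q gU hgUs hgUy, cf_C_mul_T, diag_single, Finsupp.smul_single, smul_eq_mul]
    rw [mul_comm]
  exact LinearMap.congr_fun this v

include hgVt hgVx in
lemma cf_gV (n : ℤ) (v : ℤ →₀ R) : cf (T n * gV (E R p v)) = rho n (diag (uW p) v) := by
  have : (cf.toLinearMap.comp ((LinearMap.mulLeft R (T n : LaurentPolynomial R)).comp
      gV.toLinearMap)).comp (E R p).toLinearMap = (rho n).toLinearMap.comp (diag (uW p)) := by
    apply Finsupp.lhom_ext
    intro k r
    simp only [LinearMap.comp_apply, LinearEquiv.coe_coe, AlgHom.toLinearMap_apply, E_single,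
      map_smul, gV_e p gV hgVt hgVx, LinearMap.mulLeft_apply, diag_single, rho_single]
    rw [mul_left_comm, ← T_add, ← sub_eq_add_neg, cf_C_mul_T, Finsupp.smul_single, smul_eq_mul,
      mul_comm]
  exact LinearMap.congr_fun this v

end Charts

section Kernel

variable (p q : R) (n : ℤ)

/-- coefficients `α` -/
noncomputable def alphaW (k : ℤ) : R := if 0 ≤ k then uW p (n - k) else 1
/-- coefficients `β` -/
noncomputable def betaW (k : ℤ) : R := if 0 ≤ k then 1 else uW q k
/-- indicator of `k ≥ 0` -/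
def posI (k : ℤ) : R := if 0 ≤ k then 1 else 0
/-- indicator of `k < 0` -/
def negI (k : ℤ) : R := if 0 ≤ k then 0 else 1

/-- parametrization of the kernel in coordinates -/
noncomputable def lam0 : (ℤ →₀ R) →ₗ[R] (ℤ →₀ R) × (ℤ →₀ R) :=
  LinearMap.prod (diag (alphaW p n)) ((rho n).toLinearMap.comp (diag (betaW q)))

/-- inverse of the parametrization -/
noncomputable def pi0 : (ℤ →₀ R) × (ℤ →₀ R) →ₗ[R] (ℤ →₀ R) :=
  (diag posI).comp ((rho n).toLinearMap.comp (LinearMap.snd R _ _)) +
    (diag negI).comp (LinearMap.fst R _ _)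

lemma pi0_apply (a b : ℤ →₀ R) (k : ℤ) :
    pi0 n (a, b) k = posI k * b (n - k) + negI k * a k := by
  simp [pi0, diag_apply, rho_apply]

lemma lam0_fst (t : ℤ →₀ R) (k : ℤ) : (lam0 p q n t).1 k = alphaW p n k * t k := by
  simp [lam0, diag_apply]

lemma lam0_snd (t : ℤ →₀ R) (m : ℤ) : (lam0 p q n t).2 m = betaW q (n - m) * t (n - m) := by
  simp [lam0, diag_apply, rho_apply]

lemma pi0_lam0 (t : ℤ →₀ R) : pi0 n (lam0 p q n t) = t := by
  ext k
  rw [show lam0 p q n t = ((lam0 p q n t).1, (lam0 p q n t).2) from rfl, pi0_apply, lam0_fst,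
    lam0_snd, sub_sub_cancel]
  by_cases hk : 0 ≤ k
  · simp [posI, negI, betaW, hk]
  · simp [posI, negI, alphaW, hk]

/-- the kernel condition in coordinates -/
lemma ker_cond (hn : -1 ≤ n) (t : ℤ →₀ R) :
    diag (uW q) (lam0 p q n t).1 = rho n (diag (uW p) (lam0 p q n t).2) := by
  ext k
  rw [diag_apply, rho_apply, diag_apply, lam0_fst, lam0_snd, sub_sub_cancel]
  by_cases hk : 0 ≤ k
  · simp [alphaW, betaW, hk, uW_of_nonneg q hk]
  · have h2 : 0 ≤ n - k := by omega
    simp [alphaW, betaW, hk, uW_of_nonneg p h2]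

lemma lam0_pi0 (hn : -1 ≤ n) (a b : ℤ →₀ R)
    (h : diag (uW q) a = rho n (diag (uW p) b)) : lam0 p q n (pi0 n (a, b)) = (a, b) := by
  have hk : ∀ k, uW q k * a k = uW p (n - k) * b (n - k) := by
    intro k
    have := DFunLike.congr_fun h k
    rwa [diag_apply, rho_apply, diag_apply] at this
  refine Prod.ext ?_ ?_
  · ext k
    rw [lam0_fst, pi0_apply]
    by_cases h0 : 0 ≤ k
    · have := hk k
      rw [uW_of_nonneg q h0, one_mul] at this
      simp [alphaW, posI, negI, h0, this]
    · simp [alphaW, posI, negI, h0]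
  · ext m
    rw [lam0_snd, pi0_apply, sub_sub_cancel]
    by_cases h0 : 0 ≤ n - m
    · have h0' : m ≤ n := by omega
      simp [betaW, posI, negI, h0']
    · have h2 : 0 ≤ m := by omega
      have h0' : ¬ m ≤ n := by omega
      have := hk (n - m)
      rw [sub_sub_cancel, uW_of_nonneg p h2, one_mul] at this
      simp [betaW, posI, negI, h0', this]

end Kernel

section Main

variable (p q : R)
  (gU : PolyNodeRing R q →ₐ[R] LaurentPolynomial R)
  (hgUs : gU (PolyNodeRing.x R q) = T 1)
  (hgUy : gU (PolyNodeRing.y R q) = C q * T (-1))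
  (gV : PolyNodeRing R p →ₐ[R] LaurentPolynomial R)
  (hgVt : gV (PolyNodeRing.x R p) = T (-1))
  (hgVx : gV (PolyNodeRing.y R p) = C p * T 1)
  (n : ℤ)

/-- the difference map -/
noncomputable abbrev Dmap : PolyNodeRing R q × PolyNodeRing R p →ₗ[R] LaurentPolynomial R :=
  gU.toLinearMap.comp (LinearMap.fst R (PolyNodeRing R q) (PolyNodeRing R p)) -
    (LinearMap.mulLeft R (T n : LaurentPolynomial R)).comp
      (gV.toLinearMap.comp (LinearMap.snd R (PolyNodeRing R q) (PolyNodeRing R p)))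

include hgUs hgUy hgVt hgVx in
lemma cf_Dmap (a b : ℤ →₀ R) :
    cf (Dmap p q gU gV n (E R q a, E R p b)) = diag (uW q) a - rho n (diag (uW p) b) := by
  simp only [Dmap, LinearMap.sub_apply, LinearMap.comp_apply, LinearMap.fst_apply,
    LinearMap.snd_apply, AlgHom.toLinearMap_apply, LinearMap.mulLeft_apply, map_sub]
  rw [cf_gU q gU hgUs hgUy, cf_gV p gV hgVt hgVx]

include hgUs hgUy hgVt hgVx in
theorem free_ker (hn : -1 ≤ n) : Module.Free R (LinearMap.ker (Dmap p q gU gV n)) := by
  let L : (ℤ →₀ R) →ₗ[R] LinearMap.ker (Dmap p q gU gV n) :=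
    LinearMap.codRestrict _
      (((E R q).toLinearMap.prodMap (E R p).toLinearMap).comp (lam0 p q n)) (by
        intro t
        rw [LinearMap.mem_ker]
        apply cf.injective
        rw [map_zero]
        change cf (Dmap p q gU gV n (E R q (lam0 p q n t).1, E R p (lam0 p q n t).2)) = 0
        rw [cf_Dmap p q gU hgUs hgUy gV hgVt hgVx, ker_cond p q n hn, sub_self])
  have hL : ∀ t, ((L t : PolyNodeRing R q × PolyNodeRing R p)) =
      (E R q (lam0 p q n t).1, E R p (lam0 p q n t).2) := fun t => rfl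
  have hinj : Function.Injective L := by
    intro t t' h
    have h1 := congrArg (fun z : LinearMap.ker (Dmap p q gU gV n) =>
      (z : PolyNodeRing R q × PolyNodeRing R p)) h
    simp only [hL, Prod.mk.injEq, EmbeddingLike.apply_eq_iff_eq] at h1
    have h2 : lam0 p q n t = lam0 p q n t' := Prod.ext h1.1 h1.2
    rw [← pi0_lam0 p q n t, ← pi0_lam0 p q n t', h2]
  have hsurj : Function.Surjective L := by
    rintro ⟨⟨g, f⟩, hgf⟩
    obtain ⟨a, rfl⟩ := (E R q).surjective g
    obtain ⟨b, rfl⟩ := (E R p).surjective f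
    rw [LinearMap.mem_ker] at hgf
    have h0 := congrArg cf hgf
    rw [cf_Dmap p q gU hgUs hgUy gV hgVt hgVx, map_zero, sub_eq_zero] at h0
    refine ⟨pi0 n (a, b), ?_⟩
    apply Subtype.ext
    rw [hL, lam0_pi0 p q n hn a b h0]
  exact Module.Free.of_equiv (LinearEquiv.ofBijective L ⟨hinj, hsurj⟩)

end Main

end Groth.Agent.H86.PN
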