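import Groth.Agent.H86.PN2

/-! The map `Ξ : A^{n+1} → O(U) × O(V)` for the blown-up node: basic properties. -/

set_option autoImplicit false

namespace Groth.Agent.H86.PN

open SpinCurv LaurentPolynomial

universe u

variable {R : Type u} [CommRing R] (p q : R)
  (rU : PolyNodeRing R (p * q) →ₐ[R] PolyNodeRing R q)
  (rV : PolyNodeRing R (p * q) →ₐ[R] PolyNodeRing R p)
  (n : ℕ)

/-- the map `Ξ` -/
noncomputable def Xi (F : Fin (n + 1) → PolyNodeRing R (p * q)) :
    PolyNodeRing R q × PolyNodeRing R p :=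
  (∑ i : Fin (n + 1), rU (F i) * PolyNodeRing.x R q ^ (n - (i : ℕ)),
   ∑ i : Fin (n + 1), rV (F i) * PolyNodeRing.x R p ^ (i : ℕ))

/-- `Ξ` as an `R`-linear map -/
noncomputable def XiL : (Fin (n + 1) → PolyNodeRing R (p * q)) →ₗ[R]
    PolyNodeRing R q × PolyNodeRing R p :=
  LinearMap.prod
    (∑ i : Fin (n + 1), (LinearMap.mulRight R (PolyNodeRing.x R q ^ (n - (i : ℕ)))).comp
      (rU.toLinearMap.comp (LinearMap.proj i)))
    (∑ i : Fin (n + 1), (LinearMap.mulRight R (PolyNodeRing.x R p ^ (i : ℕ))).comp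
      (rV.toLinearMap.comp (LinearMap.proj i)))

lemma XiL_apply (F : Fin (n + 1) → PolyNodeRing R (p * q)) :
    XiL p q rU rV n F = Xi p q rU rV n F := by
  simp [XiL, Xi, LinearMap.sum_apply]

lemma Xi_smul (a : PolyNodeRing R (p * q)) (F : Fin (n + 1) → PolyNodeRing R (p * q)) :
    Xi p q rU rV n (a • F) = (rU a * (Xi p q rU rV n F).1, rV a * (Xi p q rU rV n F).2) := by
  simp only [Xi, Pi.smul_apply, smul_eq_mul, map_mul, Finset.mul_sum, mul_assoc]

/-- the vector with `a` at position `i` (zero if `i > n`) -/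
noncomputable def sg (i : ℕ) (a : PolyNodeRing R (p * q)) : Fin (n + 1) → PolyNodeRing R (p * q) :=
  fun j => if (j : ℕ) = i then a else 0

lemma sg_eq_single (i : Fin (n + 1)) (a : PolyNodeRing R (p * q)) :
    sg p q n (i : ℕ) a = Pi.single i a := by
  ext j
  simp only [sg, Pi.single_apply, Fin.ext_iff]

lemma sg_add (i : ℕ) (a b : PolyNodeRing R (p * q)) :
    sg p q n i (a + b) = sg p q n i a + sg p q n i b := by
  ext j
  simp only [sg, Pi.add_apply]
  split_ifs <;> simp

lemma sg_smul (i : ℕ) (a b : PolyNodeRing R (p * q)) :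
    sg p q n i (a * b) = a • sg p q n i b := by
  ext j
  simp only [sg, Pi.smul_apply, smul_eq_mul]
  split_ifs <;> simp

lemma Xi_sg (i : ℕ) (hi : i ≤ n) (a : PolyNodeRing R (p * q)) :
    Xi p q rU rV n (sg p q n i a) =
      (rU a * PolyNodeRing.x R q ^ (n - i), rV a * PolyNodeRing.x R p ^ i) := by
  have h1 : ∀ (f : Fin (n + 1) → PolyNodeRing R (p * q) → PolyNodeRing R q),
      (∀ j, f j 0 = 0) →
      ∑ j : Fin (n + 1), f j (sg p q n i a j) = f ⟨i, Nat.lt_succ_of_le hi⟩ a := by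
    intro f hf
    rw [Finset.sum_eq_single ⟨i, Nat.lt_succ_of_le hi⟩]
    · simp [sg]
    · intro j _ hj
      have : (j : ℕ) ≠ i := fun h => hj (Fin.ext h)
      simp [sg, this, hf]
    · intro h; exact absurd (Finset.mem_univ _) h
  have h2 : ∀ (f : Fin (n + 1) → PolyNodeRing R (p * q) → PolyNodeRing R p),
      (∀ j, f j 0 = 0) →
      ∑ j : Fin (n + 1), f j (sg p q n i a j) = f ⟨i, Nat.lt_succ_of_le hi⟩ a := by
    intro f hf
    rw [Finset.sum_eq_single ⟨i, Nat.lt_succ_of_le hi⟩]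
    · simp [sg]
    · intro j _ hj
      have : (j : ℕ) ≠ i := fun h => hj (Fin.ext h)
      simp [sg, this, hf]
    · intro h; exact absurd (Finset.mem_univ _) h
  refine Prod.ext ?_ ?_
  · exact h1 (fun j b => rU b * PolyNodeRing.x R q ^ (n - (j : ℕ))) (fun j => by simp)
  · exact h2 (fun j b => rV b * PolyNodeRing.x R p ^ (j : ℕ)) (fun j => by simp)

end Groth.Agent.H86.PN
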