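import Groth.Agent.H86.PN3

/-! Relations for `Ξ` and reduction to normal form. -/

set_option autoImplicit false

namespace Groth.Agent.H86.PN

open SpinCurv LaurentPolynomial

universe u

variable {R : Type u} [CommRing R] (p q : R) (n : ℕ)

/-- the relation submodule -/
noncomputable def Sp : Submodule (PolyNodeRing R (p * q)) (Fin (n + 1) → PolyNodeRing R (p * q)) :=
  Submodule.span (PolyNodeRing R (p * q))
    (Set.range (fun i : Fin n =>
        (Pi.single (Fin.castSucc i) (algebraMap R (PolyNodeRing R (p * q)) p) -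
          Pi.single (Fin.succ i) (PolyNodeRing.x R (p * q)) :
            Fin (n + 1) → PolyNodeRing R (p * q))) ∪
      Set.range (fun i : Fin n =>
        (Pi.single (Fin.castSucc i) (PolyNodeRing.y R (p * q)) -
          Pi.single (Fin.succ i) (algebraMap R (PolyNodeRing R (p * q)) q) :
            Fin (n + 1) → PolyNodeRing R (p * q))))

lemma rel1_mem (i : ℕ) (hi : i < n) :
    sg p q n i (algebraMap R (PolyNodeRing R (p * q)) p) -
      sg p q n (i + 1) (PolyNodeRing.x R (p * q)) ∈ Sp p q n := by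
  refine Submodule.subset_span (Or.inl ⟨⟨i, hi⟩, ?_⟩)
  simp only [← sg_eq_single]
  rfl

lemma rel2_mem (i : ℕ) (hi : i < n) :
    sg p q n i (PolyNodeRing.y R (p * q)) -
      sg p q n (i + 1) (algebraMap R (PolyNodeRing R (p * q)) q) ∈ Sp p q n := by
  refine Submodule.subset_span (Or.inr ⟨⟨i, hi⟩, ?_⟩)
  simp only [← sg_eq_single]
  rfl

lemma c1 (i : ℕ) (hi : i < n) (a : PolyNodeRing R (p * q)) :
    (Sp p q n).mkQ (sg p q n (i + 1) (a * PolyNodeRing.x R (p * q))) =
      (Sp p q n).mkQ (sg p q n i (a * algebraMap R (PolyNodeRing R (p * q)) p)) := by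
  symm
  rw [Submodule.mkQ_apply, Submodule.mkQ_apply, Submodule.Quotient.eq, sg_smul, sg_smul, ← smul_sub]
  exact Submodule.smul_mem _ _ (rel1_mem p q n i hi)

lemma c2 (i : ℕ) (hi : i < n) (a : PolyNodeRing R (p * q)) :
    (Sp p q n).mkQ (sg p q n i (a * PolyNodeRing.y R (p * q))) =
      (Sp p q n).mkQ (sg p q n (i + 1) (a * algebraMap R (PolyNodeRing R (p * q)) q)) := by
  rw [Submodule.mkQ_apply, Submodule.mkQ_apply, Submodule.Quotient.eq, sg_smul, sg_smul, ← smul_sub]
  exact Submodule.smul_mem _ _ (rel2_mem p q n i hi)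

lemma b1 (j : ℕ) : ∀ (i k : ℕ), i + j ≤ n →
    (Sp p q n).mkQ (sg p q n (i + j) (PolyNodeRing.x R (p * q) ^ (k + j))) =
      (Sp p q n).mkQ (sg p q n i
        (algebraMap R (PolyNodeRing R (p * q)) (p ^ j) * PolyNodeRing.x R (p * q) ^ k)) := by
  induction j with
  | zero =>
    intro i k _
    simp
  | succ j ih =>
    intro i k hij
    have h1 := ih (i + 1) (k + 1) (by omega)
    rw [show i + (j + 1) = i + 1 + j by omega, show k + (j + 1) = k + 1 + j by omega, h1,
      pow_succ (PolyNodeRing.x R (p * q)) k, ← mul_assoc, c1 p q n i (by omega), pow_succ,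
      map_mul (algebraMap R (PolyNodeRing R (p * q)))]
    congr 2
    ring

lemma b2 (j : ℕ) : ∀ (i k : ℕ), i + j ≤ n →
    (Sp p q n).mkQ (sg p q n i (PolyNodeRing.y R (p * q) ^ (k + j))) =
      (Sp p q n).mkQ (sg p q n (i + j)
        (algebraMap R (PolyNodeRing R (p * q)) (q ^ j) * PolyNodeRing.y R (p * q) ^ k)) := by
  induction j with
  | zero =>
    intro i k _
    simp
  | succ j ih =>
    intro i k hij
    have h1 := ih i (k + 1) (by omega)
    rw [show k + (j + 1) = k + 1 + j by omega, h1,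
      pow_succ (PolyNodeRing.y R (p * q)) k, ← mul_assoc, c2 p q n (i + j) (by omega), pow_succ,
      map_mul (algebraMap R (PolyNodeRing R (p * q))), show i + (j + 1) = i + j + 1 by omega]
    congr 2
    ring

end Groth.Agent.H86.PN
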