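import Groth.Agent.H86.PN4

/-! Generators `G m` of `A^{n+1}` modulo relations and their images under `Ξ`. -/

set_option autoImplicit false

namespace Groth.Agent.H86.PN

open SpinCurv LaurentPolynomial

universe u

variable {R : Type u} [CommRing R] (p q : R) (n : ℕ)

lemma uW_neg_natCast (a : ℕ) : uW p (-(a : ℤ)) = p ^ a := by
  rcases Nat.eq_zero_or_pos a with rfl | ha
  · simp [uW]
  · rw [uW, if_neg (by omega), Int.natAbs_neg, Int.natAbs_natCast]

lemma e_neg_natCast' (π : R) (a : ℕ) : e R π (-(a : ℤ)) = PolyNodeRing.y R π ^ a := by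
  rcases Nat.eq_zero_or_pos a with rfl | ha
  · rw [Nat.cast_zero, neg_zero, show (0 : ℤ) = ((0 : ℕ) : ℤ) from rfl, e_natCast, pow_zero, pow_zero]
  · exact e_neg_natCast R π a ha

/-- generators of `A^{n+1}` modulo the relations -/
noncomputable def G (m : ℤ) : Fin (n + 1) → PolyNodeRing R (p * q) :=
  if (n : ℤ) ≤ m then sg p q n 0 (PolyNodeRing.x R (p * q) ^ (m - n).toNat)
  else if 0 ≤ m then sg p q n (n - m.toNat) 1
  else sg p q n n (PolyNodeRing.y R (p * q) ^ (-m).toNat)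

lemma G_hi (a : ℕ) : G p q n ((n : ℤ) + a) = sg p q n 0 (PolyNodeRing.x R (p * q) ^ a) := by
  rw [G, if_pos (by omega)]
  congr 2
  omega

lemma G_mid (i : ℕ) (hi : i ≤ n) : G p q n ((n : ℤ) - i) = sg p q n i 1 := by
  rcases Nat.eq_zero_or_pos i with rfl | hpos
  · rw [Nat.cast_zero, sub_zero, ← add_zero (n : ℤ), ← Nat.cast_zero, G_hi, pow_zero]
  · rw [G, if_neg (by omega), if_pos (by omega)]
    congr 1
    omega

lemma G_lo (b : ℕ) (hb : 0 < b) :
    G p q n (-(b : ℤ)) = sg p q n n (PolyNodeRing.y R (p * q) ^ b) := by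
  rw [G, if_neg (by omega), if_neg (by omega)]
  congr 2
  omega

/-- basis vectors of the kernel `K` -/
noncomputable def bvec (m : ℤ) : PolyNodeRing R q × PolyNodeRing R p :=
  (alphaW p n m • e R q m, betaW q m • e R p (n - m))

lemma lam0_single (m : ℤ) (s : R) :
    lam0 p q n (Finsupp.single m s) =
      (Finsupp.single m (alphaW p n m * s), Finsupp.single ((n : ℤ) - m) (betaW q m * s)) := by
  change (diag (alphaW p n) (Finsupp.single m s), rho n (diag (betaW q) (Finsupp.single m s))) = _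
  rw [diag_single, diag_single, rho_single]

lemma param_single (m : ℤ) (s : R) :
    (E R q (lam0 p q n (Finsupp.single m s)).1, E R p (lam0 p q n (Finsupp.single m s)).2) =
      s • bvec p q n m := by
  rw [lam0_single]
  simp only [E_single, bvec, Prod.smul_mk, smul_smul, mul_comm]

section Maps

variable
  (rU : PolyNodeRing R (p * q) →ₐ[R] PolyNodeRing R q)
  (hrUx : rU (PolyNodeRing.x R (p * q)) = algebraMap R _ p * PolyNodeRing.x R q)
  (hrUy : rU (PolyNodeRing.y R (p * q)) = PolyNodeRing.y R q)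
  (rV : PolyNodeRing R (p * q) →ₐ[R] PolyNodeRing R p)
  (hrVx : rV (PolyNodeRing.x R (p * q)) = PolyNodeRing.y R p)
  (hrVy : rV (PolyNodeRing.y R (p * q)) = algebraMap R _ q * PolyNodeRing.x R p)

include hrUx hrVx in
lemma Xi_G_hi (a : ℕ) : Xi p q rU rV n (G p q n ((n : ℤ) + a)) = bvec p q n ((n : ℤ) + a) := by
  rw [G_hi, Xi_sg p q rU rV n 0 (Nat.zero_le n), bvec]
  have h1 : alphaW p n ((n : ℤ) + a) = p ^ a := by
    rw [alphaW, if_pos (by omega), show (n : ℤ) - ((n : ℤ) + a) = -(a : ℤ) by ring, uW_neg_natCast]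
  have h2 : betaW q ((n : ℤ) + a) = 1 := by rw [betaW, if_pos (by omega)]
  rw [h1, h2, show (n : ℤ) - ((n : ℤ) + a) = -(a : ℤ) by ring, e_neg_natCast',
    show ((n : ℤ) + a) = ((n + a : ℕ) : ℤ) by push_cast; ring, e_natCast, one_smul, map_pow,
    map_pow, hrUx, hrVx, mul_pow, Nat.sub_zero, pow_zero, mul_one, smul_def', pow_add,
    map_pow (algebraMap R (PolyNodeRing R q))]
  refine Prod.ext ?_ rfl
  change _ = _
  ring

include hrUx hrVx in
lemma Xi_G_mid (i : ℕ) (hi : i ≤ n) :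
    Xi p q rU rV n (G p q n ((n : ℤ) - i)) = bvec p q n ((n : ℤ) - i) := by
  rw [G_mid p q n i hi, Xi_sg p q rU rV n i hi, bvec]
  have h1 : alphaW p n ((n : ℤ) - i) = 1 := by
    rw [alphaW, if_pos (by omega), uW_of_nonneg p (by omega)]
  have h2 : betaW q ((n : ℤ) - i) = 1 := by rw [betaW, if_pos (by omega)]
  rw [h1, h2, sub_sub_cancel, e_natCast, show ((n : ℤ) - i) = ((n - i : ℕ) : ℤ) by omega,
    e_natCast, one_smul, one_smul, map_one, map_one, one_mul, one_mul]

include hrUy hrVy in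
lemma Xi_G_lo (b : ℕ) (hb : 0 < b) :
    Xi p q rU rV n (G p q n (-(b : ℤ))) = bvec p q n (-(b : ℤ)) := by
  rw [G_lo p q n b hb, Xi_sg p q rU rV n n le_rfl, bvec]
  have h1 : alphaW p n (-(b : ℤ)) = 1 := by rw [alphaW, if_neg (by omega)]
  have h2 : betaW q (-(b : ℤ)) = q ^ b := by rw [betaW, if_neg (by omega), uW_neg_natCast]
  rw [h1, h2, e_neg_natCast', show (n : ℤ) - -(b : ℤ) = ((n + b : ℕ) : ℤ) by push_cast; ring,
    e_natCast, one_smul, map_pow, map_pow, hrUy, hrVy, mul_pow, Nat.sub_self, pow_zero,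
    mul_one, smul_def', pow_add, map_pow (algebraMap R (PolyNodeRing R p))]
  refine Prod.ext rfl ?_
  change _ = _
  ring

include hrUx hrUy hrVx hrVy in
lemma Xi_G (m : ℤ) : Xi p q rU rV n (G p q n m) = bvec p q n m := by
  rcases le_or_gt (n : ℤ) m with h | h
  · obtain ⟨a, rfl⟩ : ∃ a : ℕ, m = (n : ℤ) + a := ⟨(m - n).toNat, by omega⟩
    exact Xi_G_hi p q n rU hrUx rV hrVx a
  · rcases le_or_gt 0 m with h0 | h0
    · obtain ⟨i, hi, rfl⟩ : ∃ i : ℕ, i ≤ n ∧ m = (n : ℤ) - i := ⟨n - m.toNat, by omega, by omega⟩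
      exact Xi_G_mid p q n rU hrUx rV hrVx i hi
    · obtain ⟨b, hb, rfl⟩ : ∃ b : ℕ, 0 < b ∧ m = -(b : ℤ) := ⟨(-m).toNat, by omega, by omega⟩
      exact Xi_G_lo p q n rU hrUy rV hrVy b hb

end Maps

end Groth.Agent.H86.PN
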