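import Groth.Agent.H86.PN5

/-! The range and the kernel of `Ξ`. -/

set_option autoImplicit false

namespace Groth.Agent.H86.PN

open SpinCurv LaurentPolynomial

universe u

variable {R : Type u} [CommRing R] (p q : R) (n : ℕ)

section Maps

variable
  (rU : PolyNodeRing R (p * q) →ₐ[R] PolyNodeRing R q)
  (hrUx : rU (PolyNodeRing.x R (p * q)) = algebraMap R _ p * PolyNodeRing.x R q)
  (hrUy : rU (PolyNodeRing.y R (p * q)) = PolyNodeRing.y R q)
  (rV : PolyNodeRing R (p * q) →ₐ[R] PolyNodeRing R p)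
  (hrVx : rV (PolyNodeRing.x R (p * q)) = PolyNodeRing.y R p)
  (hrVy : rV (PolyNodeRing.y R (p * q)) = algebraMap R _ q * PolyNodeRing.x R p)

lemma Xi_sub (F F' : Fin (n + 1) → PolyNodeRing R (p * q)) :
    Xi p q rU rV n (F - F') = Xi p q rU rV n F - Xi p q rU rV n F' := by
  rw [← XiL_apply, ← XiL_apply, ← XiL_apply, map_sub]

lemma Xi_add (F F' : Fin (n + 1) → PolyNodeRing R (p * q)) :
    Xi p q rU rV n (F + F') = Xi p q rU rV n F + Xi p q rU rV n F' := by
  rw [← XiL_apply, ← XiL_apply, ← XiL_apply, map_add]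

lemma Xi_zero : Xi p q rU rV n 0 = 0 := by
  rw [← XiL_apply, map_zero]

/-- the kernel of `Ξ` as an `A`-submodule -/
noncomputable def KerXi :
    Submodule (PolyNodeRing R (p * q)) (Fin (n + 1) → PolyNodeRing R (p * q)) where
  carrier := {F | Xi p q rU rV n F = 0}
  add_mem' := by
    intro F F' hF hF'
    simp only [Set.mem_setOf_eq] at hF hF' ⊢
    rw [Xi_add, hF, hF', add_zero]
  zero_mem' := Xi_zero p q n rU rV
  smul_mem' := by
    intro a F hF
    simp only [Set.mem_setOf_eq] at hF ⊢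
    rw [Xi_smul, hF]
    simp

include hrUx hrUy hrVx hrVy in
lemma Sp_le_KerXi : Sp p q n ≤ KerXi p q n rU rV := by
  refine Submodule.span_le.mpr ?_
  rintro F (⟨i, rfl⟩ | ⟨i, rfl⟩)
  · change Xi p q rU rV n (Pi.single (Fin.castSucc i) _ - Pi.single (Fin.succ i) _) = 0
    have hi : (i : ℕ) < n := i.2
    have e1 : (Pi.single (Fin.castSucc i) (algebraMap R (PolyNodeRing R (p * q)) p) -
        Pi.single (Fin.succ i) (PolyNodeRing.x R (p * q)) :
          Fin (n + 1) → PolyNodeRing R (p * q)) =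
        sg p q n (i : ℕ) (algebraMap R (PolyNodeRing R (p * q)) p) -
          sg p q n ((i : ℕ) + 1) (PolyNodeRing.x R (p * q)) := by
      simp only [← sg_eq_single]
      rfl
    rw [e1, Xi_sub, Xi_sg p q rU rV n _ (by omega), Xi_sg p q rU rV n _ (by omega), hrUx, hrVx,
      AlgHom.commutes, AlgHom.commutes, Prod.mk_sub_mk, ← x_mul_y R p]
    have h2 : n - (i : ℕ) = (n - ((i : ℕ) + 1)) + 1 := by omega
    rw [h2, pow_succ, pow_succ]
    refine Prod.ext ?_ ?_
    · change _ = (0 : PolyNodeRing R q)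
      ring
    · change _ = (0 : PolyNodeRing R p)
      ring
  · change Xi p q rU rV n (Pi.single (Fin.castSucc i) _ - Pi.single (Fin.succ i) _) = 0
    have hi : (i : ℕ) < n := i.2
    have e1 : (Pi.single (Fin.castSucc i) (PolyNodeRing.y R (p * q)) -
        Pi.single (Fin.succ i) (algebraMap R (PolyNodeRing R (p * q)) q) :
          Fin (n + 1) → PolyNodeRing R (p * q)) =
        sg p q n (i : ℕ) (PolyNodeRing.y R (p * q)) -
          sg p q n ((i : ℕ) + 1) (algebraMap R (PolyNodeRing R (p * q)) q) := by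
      simp only [← sg_eq_single]
      rfl
    rw [e1, Xi_sub, Xi_sg p q rU rV n _ (by omega), Xi_sg p q rU rV n _ (by omega), hrUy, hrVy,
      AlgHom.commutes, AlgHom.commutes, Prod.mk_sub_mk, ← x_mul_y R q]
    have h2 : n - (i : ℕ) = (n - ((i : ℕ) + 1)) + 1 := by omega
    rw [h2, pow_succ, pow_succ]
    refine Prod.ext ?_ ?_
    · change _ = (0 : PolyNodeRing R q)
      ring
    · change _ = (0 : PolyNodeRing R p)
      ring

end Maps

section Reduce

/-- every `R`-basis vector of `A^{n+1}` is congruent to a multiple of some `G m` -/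
lemma exists_reduce (i : ℕ) (hi : i ≤ n) (k : ℤ) : ∃ (c : R) (m : ℤ),
    sg p q n i (e R (p * q) k) - algebraMap R (PolyNodeRing R (p * q)) c • G p q n m ∈
      Sp p q n := by
  have key : ∀ (w : PolyNodeRing R (p * q)) (i' : ℕ) (c : R) (z : PolyNodeRing R (p * q)) (m : ℤ),
      G p q n m = sg p q n i' z →
      (Sp p q n).mkQ (sg p q n i w) =
        (Sp p q n).mkQ (sg p q n i' (algebraMap R (PolyNodeRing R (p * q)) c * z)) →
      sg p q n i w - algebraMap R (PolyNodeRing R (p * q)) c • G p q n m ∈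
        Sp p q n := by
    intro w i' c z m hG h
    rw [hG, ← sg_smul, ← Submodule.Quotient.eq]
    exact h
  rcases le_or_gt 0 k with hk | hk
  · obtain ⟨a, rfl⟩ := Int.eq_ofNat_of_zero_le hk
    rw [e_natCast]
    rcases le_or_gt a i with hai | hai
    · obtain ⟨i', rfl⟩ := Nat.exists_eq_add_of_le' hai
      refine ⟨p ^ a, (n : ℤ) - i', key _ i' (p ^ a) 1 _ (G_mid p q n i' (by omega)) ?_⟩
      have := b1 p q n a i' 0 (by omega)
      rwa [zero_add, pow_zero] at this
    · obtain ⟨a', rfl⟩ := Nat.exists_eq_add_of_le' hai.le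
      refine ⟨p ^ i, (n : ℤ) + a', key _ 0 (p ^ i) _ _ (G_hi p q n a') ?_⟩
      have := b1 p q n i 0 a' (by omega)
      rwa [zero_add] at this
  · obtain ⟨b, hb, rfl⟩ : ∃ b : ℕ, 0 < b ∧ k = -(b : ℤ) := ⟨(-k).toNat, by omega, by omega⟩
    rw [e_neg_natCast R (p * q) b hb]
    rcases le_or_gt (i + b) n with hbn | hbn
    · refine ⟨q ^ b, (n : ℤ) - ((i + b : ℕ) : ℤ), key _ (i + b) (q ^ b) 1 _
        (G_mid p q n (i + b) hbn) ?_⟩
      have := b2 p q n b i 0 hbn
      rwa [zero_add, pow_zero] at this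
    · obtain ⟨j, rfl⟩ := Nat.exists_eq_add_of_le hi
      obtain ⟨b', rfl⟩ : ∃ b' : ℕ, b = b' + j := ⟨b - j, by omega⟩
      have hb' : 0 < b' := by omega
      refine ⟨q ^ j, -(b' : ℤ), key _ (i + j) (q ^ j) _ _ (G_lo p q (i + j) b' hb') ?_⟩
      exact b2 p q (i + j) j i b' le_rfl

end Reduce

end Groth.Agent.H86.PN
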