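import Groth.Agent.H86.PN6

/-! The range and the kernel of `Ξ`: final assembly. -/

set_option autoImplicit false

namespace Groth.Agent.H86.PN

open SpinCurv LaurentPolynomial

universe u

variable {R : Type u} [CommRing R] (p q : R) (n : ℕ)
  (rU : PolyNodeRing R (p * q) →ₐ[R] PolyNodeRing R q)
  (hrUx : rU (PolyNodeRing.x R (p * q)) = algebraMap R _ p * PolyNodeRing.x R q)
  (hrUy : rU (PolyNodeRing.y R (p * q)) = PolyNodeRing.y R q)
  (rV : PolyNodeRing R (p * q) →ₐ[R] PolyNodeRing R p)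
  (hrVx : rV (PolyNodeRing.x R (p * q)) = PolyNodeRing.y R p)
  (hrVy : rV (PolyNodeRing.y R (p * q)) = algebraMap R _ q * PolyNodeRing.x R p)

/-- linear combinations of the generators `G m` -/
noncomputable def LG : (ℤ →₀ R) →ₗ[R] (Fin (n + 1) → PolyNodeRing R (p * q)) :=
  Finsupp.linearCombination R (G p q n)

lemma LG_single (m : ℤ) (s : R) : LG p q n (Finsupp.single m s) = s • G p q n m := by
  simp [LG]

include hrUx hrUy hrVx hrVy in
lemma Xi_LG (t : ℤ →₀ R) :
    Xi p q rU rV n (LG p q n t) = (E R q (lam0 p q n t).1, E R p (lam0 p q n t).2) := by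
  have : (XiL p q rU rV n).comp (LG p q n) =
      ((E R q).toLinearMap.prodMap (E R p).toLinearMap).comp (lam0 p q n) := by
    apply Finsupp.lhom_ext
    intro m s
    simp only [LinearMap.comp_apply, LG_single, map_smul, XiL_apply,
      Xi_G p q n rU hrUx hrUy rV hrVx hrVy]
    exact (param_single p q n m s).symm
  have h := LinearMap.congr_fun this t
  simp only [LinearMap.comp_apply, XiL_apply, LinearMap.prodMap_apply, LinearEquiv.coe_coe] at h
  exact h

lemma sg_zero (i : ℕ) : sg p q n i 0 = 0 := by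
  ext j
  simp [sg]

include hrUx hrUy hrVx hrVy in
theorem mem_Sp_of_Xi_eq_zero (F : Fin (n + 1) → PolyNodeRing R (p * q))
    (hF : Xi p q rU rV n F = 0) : F ∈ Sp p q n := by
  classical
  choose cc mm hcm using fun (i : Fin (n + 1)) (k : ℤ) =>
    exists_reduce p q n (i : ℕ) (Nat.le_of_lt_succ i.2) k
  let tau_i : Fin (n + 1) → (ℤ →₀ R) →ₗ[R] (ℤ →₀ R) := fun i =>
    Finsupp.lsum R (fun k => (Finsupp.lsingle (mm i k) : R →ₗ[R] (ℤ →₀ R)).comp
      (LinearMap.mulLeft R (cc i k)))
  have htau : ∀ i k r, tau_i i (Finsupp.single k r) = Finsupp.single (mm i k) (cc i k * r) := by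
    intro i k r
    simp [tau_i]
  have h1 : ∀ (i : Fin (n + 1)) (v : ℤ →₀ R),
      sg p q n (i : ℕ) (E R (p * q) v) - LG p q n (tau_i i v) ∈ Sp p q n := by
    intro i v
    induction v using Finsupp.induction_linear with
    | zero => simp [sg_zero]
    | add v w hv hw =>
      rw [map_add, sg_add, map_add, map_add, add_sub_add_comm]
      exact add_mem hv hw
    | single k r =>
      rw [htau, E_single, smul_def', sg_smul, LG_single, mul_comm (cc i k) r, mul_smul,
        ← algebraMap_smul (PolyNodeRing R (p * q)) r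
          (cc i k • G p q n (mm i k)), ← smul_sub,
        ← algebraMap_smul (PolyNodeRing R (p * q)) (cc i k) (G p q n (mm i k))]
      exact Submodule.smul_mem _ _ (hcm i k)
  let t : ℤ →₀ R := ∑ i, tau_i i ((E R (p * q)).symm (F i))
  have h2 : F - LG p q n t ∈ Sp p q n := by
    have hF' : F = ∑ i : Fin (n + 1), sg p q n (i : ℕ) (F i) := by
      conv_lhs => rw [← Finset.univ_sum_single F]
      simp only [sg_eq_single]
    have : F - LG p q n t = ∑ i : Fin (n + 1),
        (sg p q n (i : ℕ) (E R (p * q) ((E R (p * q)).symm (F i))) -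
          LG p q n (tau_i i ((E R (p * q)).symm (F i)))) := by
      rw [Finset.sum_sub_distrib, ← map_sum]
      simp only [LinearEquiv.apply_symm_apply]
      rw [← hF']
    rw [this]
    exact Submodule.sum_mem _ fun i _ => h1 i _
  have h3 : Xi p q rU rV n (LG p q n t) = 0 := by
    have h4 : Xi p q rU rV n (F - LG p q n t) = 0 :=
      Sp_le_KerXi p q n rU hrUx hrUy rV hrVx hrVy h2
    rw [Xi_sub, hF, zero_sub, neg_eq_zero] at h4
    exact h4
  rw [Xi_LG p q n rU hrUx hrUy rV hrVx hrVy, Prod.mk_eq_zero,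
    LinearEquiv.map_eq_zero_iff, LinearEquiv.map_eq_zero_iff] at h3
  have h5 : lam0 p q n t = 0 := Prod.ext h3.1 h3.2
  have h6 : t = 0 := by rw [← pi0_lam0 p q n t, h5, map_zero]
  rw [h6, map_zero, sub_zero] at h2
  exact h2

section Range

variable
  (gU : PolyNodeRing R q →ₐ[R] LaurentPolynomial R)
  (hgUs : gU (PolyNodeRing.x R q) = T 1)
  (hgUy : gU (PolyNodeRing.y R q) = C q * T (-1))
  (gV : PolyNodeRing R p →ₐ[R] LaurentPolynomial R)
  (hgVt : gV (PolyNodeRing.x R p) = T (-1))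
  (hgVx : gV (PolyNodeRing.y R p) = C p * T 1)

include hrUx hrUy hrVx hrVy hgUs hgUy hgVt hgVx in
lemma comp_eq : gU.comp rU = gV.comp rV := by
  apply Ideal.Quotient.algHom_ext
  apply MvPolynomial.algHom_ext
  intro i
  fin_cases i
  · change gU (rU (PolyNodeRing.x R (p * q))) = gV (rV (PolyNodeRing.x R (p * q)))
    rw [hrUx, hrVx, map_mul, AlgHom.commutes, hgUs, hgVx, C_eq_algebraMap]
  · change gU (rU (PolyNodeRing.y R (p * q))) = gV (rV (PolyNodeRing.y R (p * q)))
    rw [hrUy, hrVy, map_mul, AlgHom.commutes, hgUy, hgVt, C_eq_algebraMap]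

include hrUx hrUy hrVx hrVy hgUs hgUy hgVt hgVx in
lemma Xi_mem (F : Fin (n + 1) → PolyNodeRing R (p * q)) :
    gU (Xi p q rU rV n F).1 = T (n : ℤ) * gV (Xi p q rU rV n F).2 := by
  simp only [Xi, map_sum, map_mul, map_pow, hgUs, hgVt, Finset.mul_sum, T_pow]
  refine Finset.sum_congr rfl fun i _ => ?_
  have h1 : gU (rU (F i)) = gV (rV (F i)) :=
    AlgHom.congr_fun (comp_eq p q rU hrUx hrUy rV hrVx hrVy gU hgUs hgUy gV hgVt hgVx) (F i)
  have hi : (i : ℕ) ≤ n := Nat.le_of_lt_succ i.2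
  rw [h1, mul_left_comm, ← T_add]
  congr 2
  push_cast [Nat.cast_sub hi]
  ring

include hgUs hgUy hgVt hgVx in
lemma exists_param (g : PolyNodeRing R q) (f : PolyNodeRing R p)
    (h : gU g = T (n : ℤ) * gV f) :
    ∃ t : ℤ →₀ R, (g, f) = (E R q (lam0 p q n t).1, E R p (lam0 p q n t).2) := by
  obtain ⟨a, rfl⟩ := (E R q).surjective g
  obtain ⟨b, rfl⟩ := (E R p).surjective f
  have h0 : diag (uW q) a = rho (n : ℤ) (diag (uW p) b) := by
    have := congrArg cf h
    rwa [cf_gU q gU hgUs hgUy, cf_gV p gV hgVt hgVx] at this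
  exact ⟨pi0 (n : ℤ) (a, b), by rw [lam0_pi0 p q n (by omega) a b h0]⟩

include hrUx hrUy hrVx hrVy hgUs hgUy hgVt hgVx in
theorem range_and_ker :
    Set.range (fun F : Fin (n + 1) → PolyNodeRing R (p * q) =>
        (∑ i : Fin (n + 1), rU (F i) * PolyNodeRing.x R q ^ (n - (i : ℕ)),
         ∑ i : Fin (n + 1), rV (F i) * PolyNodeRing.x R p ^ (i : ℕ))) =
      {gf : PolyNodeRing R q × PolyNodeRing R p | gU gf.1 = T (n : ℤ) * gV gf.2} ∧
    {F : Fin (n + 1) → PolyNodeRing R (p * q) |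
        (∑ i : Fin (n + 1), rU (F i) * PolyNodeRing.x R q ^ (n - (i : ℕ)),
         ∑ i : Fin (n + 1), rV (F i) * PolyNodeRing.x R p ^ (i : ℕ)) = 0} =
      (Sp p q n : Set (Fin (n + 1) → PolyNodeRing R (p * q))) := by
  constructor
  · ext ⟨g, f⟩
    constructor
    · rintro ⟨F, hF⟩
      have := Xi_mem p q n rU hrUx hrUy rV hrVx hrVy gU hgUs hgUy gV hgVt hgVx F
      change Xi p q rU rV n F = (g, f) at hF
      rw [hF] at this
      exact this
    · intro h
      obtain ⟨t, ht⟩ := exists_param p q n gU hgUs hgUy gV hgVt hgVx g f h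
      refine ⟨LG p q n t, ?_⟩
      change Xi p q rU rV n (LG p q n t) = (g, f)
      rw [Xi_LG p q n rU hrUx hrUy rV hrVx hrVy, ht]
  · ext F
    constructor
    · intro hF
      exact mem_Sp_of_Xi_eq_zero p q n rU hrUx hrUy rV hrVx hrVy F hF
    · intro hF
      exact Sp_le_KerXi p q n rU hrUx hrUy rV hrVx hrVy hF

end Range

end Groth.Agent.H86.PN
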