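import Mathlib.FieldTheory.IsAlgClosed.Basic
import Mathlib.Algebra.CharP.Lemmas
import Mathlib.Algebra.CharP.Algebra
import Mathlib.LinearAlgebra.FiniteDimensional.Defs
import Mathlib.Algebra.Module.LinearMap.End
import Mathlib.RingTheory.Noetherian.Basic
import Mathlib.Tactic

set_option autoImplicit false
universe u v

namespace Groth.Agent.H86

open Polynomial

section FieldLemma

variable {k : Type u} [Field k] [IsAlgClosed k] (p : ℕ) [hp : Fact p.Prime]

/-- auxiliary polynomials -/
noncomputable def auxR (a : ℕ → k) : ℕ → k[X]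
  | 0 => C (a 0)
  | (i + 1) => X ^ (p * p - p) * (auxR a i) ^ p + C (a (i + 1))

omit [IsAlgClosed k] in
theorem auxR_eq_zero (a : ℕ → k) (i : ℕ) (h : auxR p a i = 0) : ∀ j ≤ i, a j = 0 := by
  have hp2 : 2 ≤ p := hp.out.two_le
  have hm : 1 ≤ p * p - p := by
    have : p * 2 ≤ p * p := Nat.mul_le_mul_left p hp2
    omega
  induction i with
  | zero =>
    intro j hj
    have hj0 : j = 0 := by omega
    subst hj0
    simpa [auxR] using h
  | succ i ih =>
    simp only [auxR] at h
    have hc := congrArg (fun q : k[X] => q.coeff 0) h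
    simp only [coeff_add, coeff_C_zero, coeff_zero] at hc
    have h0 : (X ^ (p * p - p) * (auxR p a i) ^ p).coeff 0 = 0 := by
      rw [coeff_X_pow_mul']
      simp only [ite_eq_right_iff]
      intro hle
      omega
    rw [h0, zero_add] at hc
    rw [hc, C_0, add_zero] at h
    have hR : auxR p a i = 0 := by
      rcases mul_eq_zero.mp h with h1 | h1
      · exact absurd h1 (pow_ne_zero _ X_ne_zero)
      · exact pow_eq_zero_iff (by omega) |>.mp h1
    intro j hj
    rcases Nat.lt_or_ge j (i + 1) with hlt | hge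
    · exact ih hR j (by omega)
    · have : j = i + 1 := by omega
      rw [this]; exact hc

/-- existence of a nonzero solution to the twisted recursion -/
theorem exists_twisted_solution (a : ℕ → k) (r : ℕ) (hr : 1 ≤ r) (ha : ∃ j < r, a j ≠ 0) :
    ∃ (t : k) (x : ℕ → k), t ≠ 0 ∧ x 0 = a 0 * t ^ p ∧
      (∀ i, x (i + 1) = (x i) ^ p + a (i + 1) * t ^ p) ∧ x (r - 1) = t := by
  have hp2 : 2 ≤ p := hp.out.two_le
  have hm : p + (p * p - p) = p * p := by
    have : p ≤ p * p := Nat.le_mul_self p
    omega
  set R := auxR p a (r - 1) with hR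
  have hRne : R ≠ 0 := by
    intro h0
    obtain ⟨j, hj, hja⟩ := ha
    exact hja (auxR_eq_zero p a (r - 1) h0 j (by omega))
  set Q : k[X] := X ^ (p - 1) * R - 1 with hQ
  have hdeg : Q.degree ≠ 0 := by
    have h1 : (1 : k[X]).degree < (X ^ (p - 1) * R).degree := by
      rw [degree_one, degree_mul, degree_X_pow]
      have : (0 : WithBot ℕ) ≤ R.degree := zero_le_degree_iff.mpr hRne
      have h2 : (0 : WithBot ℕ) < ((p - 1 : ℕ) : WithBot ℕ) := by
        exact_mod_cast (by omega : 0 < p - 1)
      calc (0 : WithBot ℕ) < ((p - 1 : ℕ) : WithBot ℕ) := h2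
        _ = ((p - 1 : ℕ) : WithBot ℕ) + 0 := (add_zero _).symm
        _ ≤ ((p - 1 : ℕ) : WithBot ℕ) + R.degree := by gcongr
    rw [hQ, degree_sub_eq_left_of_degree_lt h1]
    exact (lt_of_le_of_lt (by rw [degree_one]) h1).ne'
  obtain ⟨t, ht⟩ := IsAlgClosed.exists_root Q hdeg
  have ht' : t ^ (p - 1) * R.eval t = 1 := by
    have : Q.eval t = 0 := ht
    rw [hQ, eval_sub, eval_mul, eval_pow, eval_X, eval_one, sub_eq_zero] at this
    exact this
  have ht0 : t ≠ 0 := by
    intro h0
    rw [h0, zero_pow (by omega), zero_mul] at ht'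
    exact zero_ne_one ht'
  refine ⟨t, fun i => t ^ p * (auxR p a i).eval t, ht0, ?_, ?_, ?_⟩
  · simp [auxR, mul_comm]
  · intro i
    simp only [auxR, eval_add, eval_mul, eval_pow, eval_X, eval_C]
    rw [mul_pow, ← pow_mul, mul_add, ← mul_assoc, ← pow_add, hm]
    ring
  · change t ^ p * R.eval t = t
    have : t ^ p = t * t ^ (p - 1) := by
      rw [← pow_succ']
      congr 1
      omega
    rw [this, mul_assoc, ht', mul_one]

end FieldLemma

section Frob

variable {k : Type u} [Field k] {E : Type v} [Ring E] [Algebra k E] (p : ℕ) [hp : Fact p.Prime]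
  [CharP E p]

/-- additivity of the p-th power on a finite sum of pairwise commuting elements -/
theorem sum_pow_char_of_commute {ι : Type*} (s : Finset ι) (y : ι → E)
    (hc : ∀ i j, Commute (y i) (y j)) : (∑ i ∈ s, y i) ^ p = ∑ i ∈ s, (y i) ^ p := by
  classical
  induction s using Finset.induction_on with
  | empty => simp [zero_pow hp.out.ne_zero]
  | insert j s hj ih =>
    rw [Finset.sum_insert hj, Finset.sum_insert hj,
      add_pow_char_of_commute p (Commute.sum_right _ _ _ fun i _ => hc j i), ih]

end Frob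

end Groth.Agent.H86
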