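import Groth.Agent.H71.RootCh.Reflect
import Groth.Prelude.Def_RedSub

/-! Positive systems and reflected bases for integral root pairings. -/

set_option autoImplicit false

namespace Groth.Agent.H86.RS

open RootPairing Groth.Agent.H71.RC

variable {ι M N : Type} [Finite ι] [AddCommGroup M] [AddCommGroup N] (P : RootPairing ι ℤ M N)

omit [Finite ι] in
include P in
lemma isAddTorsionFree_left : IsAddTorsionFree M := by
  have : Module.IsReflexive ℤ M := Module.IsReflexive.of_isPerfPair P.toLinearMap
  exact .of_isTorsionFree ℤ M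

omit [Finite ι] in
include P in
lemma isAddTorsionFree_right : IsAddTorsionFree N := isAddTorsionFree_left P.flip

variable {P}

lemma exists_nat_of_mem_posRoots (b : P.Base) {i : ι} (hi : i ∈ RedSub.posRoots P b) :
    ∃ f : ι → ℕ, f.support ⊆ b.support ∧ P.root i = ∑ j ∈ b.support, f j • P.root j := by
  classical
  suffices ∀ m ∈ AddSubmonoid.closure (P.root '' (b.support : Set ι)),
      ∃ f : ι → ℕ, f.support ⊆ b.support ∧ m = ∑ j ∈ b.support, f j • P.root j from this _ hi
  intro m hm
  refine AddSubmonoid.closure_induction ?_ ⟨0, by simp⟩ ?_ hm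
  · rintro - ⟨j, hj, rfl⟩
    refine ⟨Pi.single j 1, ?_, ?_⟩
    · intro k hk
      rw [Function.mem_support] at hk
      by_cases hkj : k = j
      · subst hkj; exact hj
      · exact absurd (Pi.single_eq_of_ne hkj 1) hk
    · rw [Finset.sum_eq_single j]
      · simp
      · intro k _ hkj; simp [Pi.single_eq_of_ne hkj]
      · intro h; exact absurd hj h
  · intro _ _ _ _ ⟨f, hf, hf'⟩ ⟨g, hg, hg'⟩
    refine ⟨f + g, ?_, by simp [hf', hg', add_smul, Finset.sum_add_distrib]⟩
    exact (Function.support_add f g).trans <| Set.union_subset_iff.mpr ⟨hf, hg⟩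

lemma isPos_of_mem_posRoots (b : P.Base) {i : ι} (hi : i ∈ RedSub.posRoots P b) : b.IsPos i := by
  obtain ⟨f, -, hf⟩ := exists_nat_of_mem_posRoots b hi
  have h2 : P.root i = ∑ j ∈ b.support, (fun j => (f j : ℤ)) j • P.root j := by
    rw [hf]
    refine Finset.sum_congr rfl fun j _ => ?_
    simp
  rw [RootPairing.Base.isPos_iff', RootPairing.Base.height_eq_sum h2]
  exact Finset.sum_nonneg fun j _ => by simp

lemma mem_posRoots_of_mem_support (b : P.Base) {j : ι} (hj : j ∈ b.support) :
    j ∈ RedSub.posRoots P b :=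
  AddSubmonoid.subset_closure ⟨j, hj, rfl⟩

lemma root_neg_index (j : ι) : P.root (P.reflectionPerm j j) = -P.root j := by
  rw [P.root_reflectionPerm, P.reflection_apply_self]

lemma neg_notMem_posRoots (b : P.Base) {j : ι} (hj : j ∈ RedSub.posRoots P b) :
    P.reflectionPerm j j ∉ RedSub.posRoots P b := by
  intro h
  have h1 := isPos_of_mem_posRoots b hj
  have h2 := isPos_of_mem_posRoots b h
  have h3 : b.height (P.reflectionPerm j j) = - b.height j := b.height_reflectionPerm_self j
  rw [RootPairing.Base.isPos_iff, h3] at h2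
  rw [RootPairing.Base.isPos_iff] at h1
  omega

lemma mem_posRoots_or_neg (b : P.Base) (j : ι) :
    j ∈ RedSub.posRoots P b ∨ P.reflectionPerm j j ∈ RedSub.posRoots P b := by
  rcases b.root_mem_or_neg_mem j with h | h
  · exact Or.inl h
  · right
    show P.root (P.reflectionPerm j j) ∈ AddSubmonoid.closure (P.root '' (b.support : Set ι))
    rwa [root_neg_index]

omit [Finite ι] in
lemma mem_posRoots_reflectBase (b : P.Base) (j i : ι) :
    i ∈ RedSub.posRoots P (reflectBase b j) ↔ P.reflectionPerm j i ∈ RedSub.posRoots P b := by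
  have hsupp : ((reflectBase b j).support : Set ι) = (P.reflectionPerm j) '' (b.support : Set ι) := by
    unfold reflectBase
    simp only [Finset.coe_image]
  have himg : P.root '' ((P.reflectionPerm j) '' (b.support : Set ι)) =
      (P.reflection j) '' (P.root '' (b.support : Set ι)) := by
    rw [← Set.image_comp, ← Set.image_comp]
    congr 1
    funext i; exact P.root_reflectionPerm j i
  have hcl : AddSubmonoid.closure (P.root '' ((P.reflectionPerm j) '' (b.support : Set ι))) =
      (AddSubmonoid.closure (P.root '' (b.support : Set ι))).map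
        ((P.reflection j).toLinearMap.toAddMonoidHom) := by
    rw [himg, AddMonoidHom.map_mclosure]
    rfl
  show P.root i ∈ AddSubmonoid.closure (P.root '' ((reflectBase b j).support : Set ι)) ↔
    P.root (P.reflectionPerm j i) ∈ AddSubmonoid.closure (P.root '' (b.support : Set ι))
  rw [hsupp, hcl, P.root_reflectionPerm]
  constructor
  · rintro ⟨x, hx, hxi⟩
    have : P.reflection j (P.root i) = x := by
      rw [← hxi]
      exact P.reflection_same j x
    rwa [this]
  · intro h
    exact ⟨_, h, P.reflection_same j (P.root i)⟩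

omit [Finite ι] in
lemma sum_nat_smul_mem_closure (b : P.Base) (f : ι → ℕ) :
    ∑ j ∈ b.support, f j • P.root j ∈ AddSubmonoid.closure (P.root '' (b.support : Set ι)) :=
  AddSubmonoid.sum_mem _ fun j hj =>
    AddSubmonoid.nsmul_mem _ (AddSubmonoid.subset_closure (Set.mem_image_of_mem _ hj)) _

/-- A simple reflection permutes the positive roots other than the simple root itself
(no reducedness assumption). -/
lemma reflectionPerm_mem_posRoots (b : P.Base) {i j : ι} (hj : j ∈ b.support)
    (hi : i ∈ RedSub.posRoots P b) (hij : i ≠ j) :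
    P.reflectionPerm j i ∈ RedSub.posRoots P b := by
  classical
  obtain ⟨f, hfs, hf⟩ := exists_nat_of_mem_posRoots b hi
  set g : ι → ℤ := fun k => (f k : ℤ) - (if k = j then P.pairing i j else 0) with hg
  have hsum : ∑ k ∈ b.support, g k • P.root k = P.root (P.reflectionPerm j i) := by
    rw [P.root_reflectionPerm, P.reflection_apply_root, hf]
    simp only [hg, sub_smul, Finset.sum_sub_distrib, ite_smul, zero_smul, Finset.sum_ite_eq', hj,
      if_true]
    congr 1
    refine Finset.sum_congr rfl fun k _ => ?_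
    simp
  have hgs : g.support ⊆ b.support := by
    intro k hk
    by_contra hkb
    have h1 : f k = 0 := by
      by_contra h; exact hkb (hfs (Function.mem_support.mpr h))
    have h2 : k ≠ j := fun h => hkb (h ▸ hj)
    simp [hg, h1, h2] at hk
  rcases b.pos_or_neg_of_sum_smul_root_mem g ⟨_, hsum.symm⟩ hgs with hpos | hneg
  · show P.root (P.reflectionPerm j i) ∈
      AddSubmonoid.closure (P.root '' (b.support : Set ι))
    rw [← hsum]
    have hnn : ∀ k, g k = ((g k).toNat : ℤ) := fun k => (Int.toNat_of_nonneg (hpos.le k)).symm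
    have h3 : ∑ k ∈ b.support, g k • P.root k = ∑ k ∈ b.support, (g k).toNat • P.root k := by
      refine Finset.sum_congr rfl fun k _ => ?_
      conv_lhs => rw [hnn k]
      exact natCast_zsmul _ _
    rw [h3]
    exact sum_nat_smul_mem_closure b _
  · exfalso
    have hfk : ∀ k, k ≠ j → f k = 0 := by
      intro k hk
      have := hneg.le k
      simp [hg, hk] at this
      omega
    have h4 : P.root i = (f j : ℤ) • P.root j := by
      rw [hf, Finset.sum_eq_single j]
      · simp
      · intro k _ hk; simp [hfk k hk]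
      · intro h; exact absurd hj h
    have := isAddTorsionFree_left P
    have := isAddTorsionFree_right P
    rcases b.eq_one_or_neg_one_of_mem_support_of_smul_mem j hj (f j : ℤ) ⟨i, h4⟩ with h | h
    · apply hij
      apply P.root.injective
      rw [h4, h, one_smul]
    · omega

omit [Finite ι] in
lemma reflectionPerm_reflectionPerm (j i : ι) :
    P.reflectionPerm j (P.reflectionPerm j i) = i := by
  apply P.root.injective
  rw [P.root_reflectionPerm, P.root_reflectionPerm, P.reflection_same]

lemma posRoots_reflectBase_subset (b : P.Base) {j : ι} (hj : j ∈ b.support) {i : ι}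
    (hi : i ∈ RedSub.posRoots P (reflectBase b j)) :
    i = P.reflectionPerm j j ∨ (i ∈ RedSub.posRoots P b ∧ i ≠ j) := by
  rw [mem_posRoots_reflectBase] at hi
  by_cases h : P.reflectionPerm j i = j
  · left
    have h3 := reflectionPerm_reflectionPerm (P := P) j i
    rw [h] at h3
    exact h3.symm
  · right
    have h2 := reflectionPerm_mem_posRoots b hj hi h
    rw [reflectionPerm_reflectionPerm] at h2
    refine ⟨h2, ?_⟩
    rintro rfl
    exact neg_notMem_posRoots b h2 hi

section main

variable {R₁ R₂ : Set ι}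

lemma neg_neg_index (a : ι) :
    P.reflectionPerm (P.reflectionPerm a a) (P.reflectionPerm a a) = a := by
  apply P.root.injective
  rw [root_neg_index, root_neg_index, neg_neg]

lemma good_iff {a : ι} : (∃ c ∈ R₂, P.root a = -P.root c) ↔ P.reflectionPerm a a ∈ R₂ := by
  constructor
  · rintro ⟨c, hc, hac⟩
    have : c = P.reflectionPerm a a := by
      apply P.root.injective
      rw [root_neg_index, hac, neg_neg]
    rwa [← this]
  · intro h
    exact ⟨_, h, by rw [root_neg_index, neg_neg]⟩

lemma all_good_of_simple_good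
    (h₂ : ∀ a b c : ι, a ∈ R₂ → b ∈ R₂ → P.root a + P.root b = P.root c → c ∈ R₂)
    (b : P.Base) (hs : ∀ j ∈ b.support, P.reflectionPerm j j ∈ R₂) {i : ι}
    (hi : i ∈ RedSub.posRoots P b) : P.reflectionPerm i i ∈ R₂ := by
  refine (isPos_of_mem_posRoots b hi).induction_on_add
    (p := fun i => P.reflectionPerm i i ∈ R₂) hs ?_
  intro i j k hk hi hj
  refine h₂ _ _ _ hi (hs j hj) ?_
  rw [root_neg_index, root_neg_index, root_neg_index, hk, neg_add]

theorem exists_base_aux
    (h₂ : ∀ a b c : ι, a ∈ R₂ → b ∈ R₂ → P.root a + P.root b = P.root c → c ∈ R₂)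
    (b₂ : P.Base) (hb₂ : RedSub.posRoots P b₂ ⊆ R₂) (hunion : R₁ ∪ R₂ = Set.univ) :
    ∀ (n : ℕ) (b : P.Base), RedSub.posRoots P b ⊆ R₁ →
      {a | a ∈ RedSub.posRoots P b ∧ P.reflectionPerm a a ∉ R₂}.ncard = n →
      ∃ b : P.Base, RedSub.posRoots P b ⊆ {a | a ∈ R₁ ∧ ∃ c ∈ R₂, P.root a = -P.root c} := by
  intro n
  induction n using Nat.strong_induction_on with
  | _ n ih =>
    intro b hb hn
    by_cases hs : ∀ j ∈ b.support, P.reflectionPerm j j ∈ R₂
    · exact ⟨b, fun a ha => ⟨hb ha, good_iff.mpr (all_good_of_simple_good h₂ b hs ha)⟩⟩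
    · push Not at hs
      obtain ⟨j, hj, hjbad⟩ := hs
      have hj1 : P.reflectionPerm j j ∈ R₁ := by
        have : P.reflectionPerm j j ∈ R₁ ∪ R₂ := hunion ▸ Set.mem_univ _
        exact this.resolve_right hjbad
      have hj2 : j ∈ R₂ := by
        rcases mem_posRoots_or_neg b₂ j with h | h
        · exact hb₂ h
        · exact absurd (hb₂ h) hjbad
      refine ih _ ?_ (reflectBase b j) ?_ rfl
      · rw [← hn]
        apply Set.ncard_lt_ncard _ (Set.toFinite _)
        refine ⟨?_, ?_⟩
        · rintro i ⟨hi, hibad⟩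
          rcases posRoots_reflectBase_subset b hj hi with rfl | ⟨h, -⟩
          · rw [neg_neg_index] at hibad
            exact absurd hj2 hibad
          · exact ⟨h, hibad⟩
        · intro hsub
          have hjmem : j ∈ {a | a ∈ RedSub.posRoots P b ∧ P.reflectionPerm a a ∉ R₂} :=
            ⟨mem_posRoots_of_mem_support b hj, hjbad⟩
          have := (hsub hjmem).1
          rcases posRoots_reflectBase_subset b hj this with h | ⟨-, h⟩
          · exact neg_notMem_posRoots b (mem_posRoots_of_mem_support b hj)
              (h ▸ mem_posRoots_of_mem_support b hj)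
          · exact h rfl
      · intro i hi
        rcases posRoots_reflectBase_subset b hj hi with rfl | ⟨h, -⟩
        · exact hj1
        · exact hb h

theorem exists_base
    (h₂ : ∀ a b c : ι, a ∈ R₂ → b ∈ R₂ → P.root a + P.root b = P.root c → c ∈ R₂)
    (hb₁ : ∃ b : P.Base, RedSub.posRoots P b ⊆ R₁) (hb₂ : ∃ b : P.Base, RedSub.posRoots P b ⊆ R₂)
    (hunion : R₁ ∪ R₂ = Set.univ) :
    ∃ b : P.Base, RedSub.posRoots P b ⊆ {a | a ∈ R₁ ∧ ∃ c ∈ R₂, P.root a = -P.root c} := by
  obtain ⟨b₁, hb₁⟩ := hb₁
  obtain ⟨b₂, hb₂⟩ := hb₂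
  exact exists_base_aux h₂ b₂ hb₂ hunion _ b₁ hb₁ rfl

end main

end Groth.Agent.H86.RS
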