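import Groth.Agent.H15.Weyl2

/-!
# Tits decomposition of a Weyl group element carrying a simple root to a simple root

Helper library for S2957 (helper86).  Uses helper15's word/deletion API (`H15.sprod`,
`H15.exists_shorter`, `H15.eq_one_of_preserves_pos`).
-/

set_option autoImplicit false

open RootPairing

namespace Groth.Agent.H86.TD

open Groth.Agent.H15

variable {ι R M N : Type*} [CommRing R] [AddCommGroup M] [Module R M]
    [AddCommGroup N] [Module R N] {P : RootPairing ι R M N}

theorem sprod_mem_weylGroup (l : List ι) : sprod P l ∈ P.weylGroup := by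
  induction l with
  | nil => simp
  | cons j l ih =>
    rw [sprod_cons]
    exact P.weylGroup.mul_mem (P.reflection_mem_weylGroup j) ih

theorem sprod_mem_closure (α γ : ι) (lu : List ι) (hlu : ∀ x ∈ lu, x = α ∨ x = γ) :
    sprod P lu ∈ Subgroup.closure {Equiv.reflection P α, Equiv.reflection P γ} := by
  induction lu with
  | nil => simp
  | cons x lu ih =>
    rw [sprod_cons]
    refine Subgroup.mul_mem _ ?_ (ih fun y hy => hlu y (List.mem_cons_of_mem _ hy))
    apply Subgroup.subset_closure
    rcases hlu x List.mem_cons_self with rfl | rfl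
    · exact Set.mem_insert _ _
    · exact Set.mem_insert_of_mem _ rfl

theorem closure_pair_le_weylGroup (α γ : ι) :
    Subgroup.closure {Equiv.reflection P α, Equiv.reflection P γ} ≤ P.weylGroup := by
  rw [Subgroup.closure_le]
  rintro x (rfl | rfl)
  · exact P.reflection_mem_weylGroup α
  · exact P.reflection_mem_weylGroup γ

/-- Words in the two reflections `s_α`, `s_γ` preserve the `ℤ`-span of the two roots. -/
theorem root_sprod_smul_mem [P.IsCrystallographic] (α γ : ι) (lu : List ι)
    (hlu : ∀ x ∈ lu, x = α ∨ x = γ) (k : ι)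
    (hk : ∃ a c : ℤ, P.root k = a • P.root α + c • P.root γ) :
    ∃ a c : ℤ, P.root (sprod P lu • k) = a • P.root α + c • P.root γ := by
  induction lu with
  | nil => simpa using hk
  | cons x lu ih =>
    obtain ⟨a, c, h⟩ := ih (fun y hy => hlu y (List.mem_cons_of_mem _ hy))
    rw [sprod_cons, mul_smul, refl_smul, root_reflectionPerm, reflection_apply_root' ℤ, h]
    rcases hlu x List.mem_cons_self with rfl | rfl
    · exact ⟨a - P.pairingIn ℤ (sprod P lu • k) x, c, by module⟩
    · exact ⟨a, c - P.pairingIn ℤ (sprod P lu • k) x, by module⟩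

variable [CharZero R] [IsDomain R] [Finite ι] [P.IsCrystallographic] [P.IsReduced] (b : P.Base)

/-- Descent: multiplying on the right by a word in `s_α, s_γ` one reaches an element sending both
`α` and `γ` to positive roots, shortening the word by the length of the word used. -/
theorem exists_descent (α γ : ι) (hα : α ∈ b.support) (hγ : γ ∈ b.support) :
    ∀ (n : ℕ) (l : List ι), l.length = n → (∀ j ∈ l, j ∈ b.support) →
    ∃ lu l' : List ι, (∀ x ∈ lu, x = α ∨ x = γ) ∧ (∀ j ∈ l', j ∈ b.support) ∧
      l'.length + lu.length = l.length ∧ sprod P l' = sprod P l * sprod P lu ∧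
      b.IsPos (sprod P l' • α) ∧ b.IsPos (sprod P l' • γ) := by
  intro n
  induction n using Nat.strong_induction_on with
  | _ n ih =>
    intro l hln hl
    by_cases hpos : b.IsPos (sprod P l • α) ∧ b.IsPos (sprod P l • γ)
    · exact ⟨[], l, by simp, hl, by simp, by simp, hpos.1, hpos.2⟩
    · have hx : ∃ x, (x = α ∨ x = γ) ∧ x ∈ b.support ∧ ¬ b.IsPos (sprod P l • x) := by
        by_cases h1 : b.IsPos (sprod P l • α)
        · exact ⟨γ, Or.inr rfl, hγ, fun h2 => hpos ⟨h1, h2⟩⟩
        · exact ⟨α, Or.inl rfl, hα, h1⟩
      obtain ⟨x, hx, hxs, hneg⟩ := hx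
      obtain ⟨l₁, hl₁, hlen, heq⟩ := exists_shorter b l hl x hxs hneg
      obtain ⟨lu, l', h1, h2, h3, h4, h5, h6⟩ := ih l₁.length (by omega) l₁ rfl hl₁
      refine ⟨x :: lu, l', ?_, h2, ?_, ?_, h5, h6⟩
      · intro y hy
        rcases List.mem_cons.mp hy with rfl | hy
        · exact hx
        · exact h1 y hy
      · simp only [List.length_cons]
        omega
      · rw [h4, ← heq, sprod_cons, mul_assoc]

end Groth.Agent.H86.TD
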