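import Groth.Agent.H86.TD1

/-!
# Tits decomposition, part 2: the rank-two lemma and the chain
-/

set_option autoImplicit false

open RootPairing

namespace Groth.Agent.H86.TD

open Groth.Agent.H15

variable {ι R M N : Type*} [CommRing R] [AddCommGroup M] [Module R M]
    [AddCommGroup N] [Module R N] {P : RootPairing ι R M N}
variable [CharZero R] [IsDomain R] [Finite ι] [P.IsCrystallographic] [P.IsReduced] (b : P.Base)

open Classical in
omit [CharZero R] [IsDomain R] [Finite ι] [P.IsCrystallographic] [P.IsReduced] in
theorem sum_pair_coeff {α γ : ι} (hα : α ∈ b.support) (hγ : γ ∈ b.support) (a c : ℤ) :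
    ∑ j ∈ b.support, ((if j = α then a else 0) + (if j = γ then c else 0)) • P.root j =
      a • P.root α + c • P.root γ := by
  simp only [add_smul, Finset.sum_add_distrib, ite_smul, zero_smul, Finset.sum_ite_eq', hα, hγ,
    if_true]

open Classical in
/-- The rank two lemma: if `w'` sends the simple roots `α`, `γ` to positive roots and sends a root
`k` in the `ℤ`-span of `α`, `γ` to a simple root, then `k` is `α` or `γ`. -/
theorem eq_or_eq_of_rank_two {α γ β : ι} (hα : α ∈ b.support) (hγ : γ ∈ b.support)
    (hβ : β ∈ b.support) (hne : α ≠ γ) (w' : P.Aut) (hwα : b.IsPos (w' • α))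
    (hwγ : b.IsPos (w' • γ)) (k : ι)
    (hk : ∃ a c : ℤ, P.root k = a • P.root α + c • P.root γ) (hβk : w' • k = β) :
    k = α ∨ k = γ := by
  obtain ⟨a, c, hac⟩ := hk
  -- signs
  have hsign : (0 ≤ a ∧ 0 ≤ c) ∨ (a ≤ 0 ∧ c ≤ 0) := by
    let f : ι → ℤ := fun j => (if j = α then a else 0) + (if j = γ then c else 0)
    have hf : ∑ j ∈ b.support, f j • P.root j ∈ Set.range P.root := by
      rw [sum_pair_coeff b hα hγ a c, ← hac]
      exact Set.mem_range_self k
    have hf₀ : f.support ⊆ b.support := by
      intro j hj
      rw [Function.mem_support] at hj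
      by_cases h1 : j = α
      · rw [h1]; exact hα
      · by_cases h2 : j = γ
        · rw [h2]; exact hγ
        · exact absurd (by simp [f, h1, h2]) hj
    have hfα : f α = a := by simp [f, hne]
    have hfγ : f γ = c := by simp [f, hne.symm]
    rcases b.pos_or_neg_of_sum_smul_root_mem f hf hf₀ with h | h
    · left
      have h0 := h.le
      exact ⟨by simpa [hfα] using h0 α, by simpa [hfγ] using h0 γ⟩
    · right
      have h0 := h.le
      exact ⟨by simpa [hfα] using h0 α, by simpa [hfγ] using h0 γ⟩
  -- heights
  obtain ⟨f₁, -, -, hf₁⟩ := b.exists_root_eq_sum_int (w' • α)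
  obtain ⟨f₂, -, -, hf₂⟩ := b.exists_root_eq_sum_int (w' • γ)
  have h₁ : b.height (w' • α) = ∑ j ∈ b.support, f₁ j := RootPairing.Base.height_eq_sum hf₁
  have h₂ : b.height (w' • γ) = ∑ j ∈ b.support, f₂ j := RootPairing.Base.height_eq_sum hf₂
  have hroot : P.root β = ∑ j ∈ b.support, (a * f₁ j + c * f₂ j) • P.root j := by
    rw [← hβk, root_smul_index, hac, smul_add, smul_comm w' a, smul_comm w' c,
      ← root_smul_index, ← root_smul_index, hf₁, hf₂, Finset.smul_sum, Finset.smul_sum,
      ← Finset.sum_add_distrib]
    refine Finset.sum_congr rfl fun j _ => ?_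
    rw [add_smul, mul_smul, mul_smul]
  have h₃ : b.height β = ∑ j ∈ b.support, (a * f₁ j + c * f₂ j) :=
    RootPairing.Base.height_eq_sum hroot
  rw [RootPairing.Base.height_one_of_mem_support hβ, Finset.sum_add_distrib, ← Finset.mul_sum,
    ← Finset.mul_sum, ← h₁, ← h₂] at h₃
  rw [RootPairing.Base.isPos_iff] at hwα hwγ
  rcases hsign with ⟨ha, hc⟩ | ⟨ha, hc⟩
  · -- (a, c) = (1, 0) or (0, 1)
    have hle1 : a ≤ a * b.height (w' • α) := by nlinarith
    have hle2 : c ≤ c * b.height (w' • γ) := by nlinarith
    have hsum : a + c ≤ 1 := by linarith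
    have hpos : 1 ≤ a + c := by
      by_contra hcon
      have ha0 : a = 0 := by omega
      have hc0 : c = 0 := by omega
      rw [ha0, hc0] at h₃
      simp at h₃
    rcases (show (a = 1 ∧ c = 0) ∨ (a = 0 ∧ c = 1) by omega) with ⟨rfl, rfl⟩ | ⟨rfl, rfl⟩
    · left
      apply P.root.injective
      rw [hac]; simp
    · right
      apply P.root.injective
      rw [hac]; simp
  · exfalso
    have h1 : a * b.height (w' • α) ≤ 0 := by nlinarith
    have h2 : c * b.height (w' • γ) ≤ 0 := by nlinarith
    linarith

/-- Chains of rank two steps. -/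
inductive Chain (b : P.Base) : ι → ι → P.Aut → Prop
  | refl (α : ι) (hα : α ∈ b.support) : Chain b α α 1
  | step (α α₁ β γ : ι) (v w' : P.Aut) (hα : α ∈ b.support) (hα₁ : α₁ ∈ b.support)
      (hγ : γ ∈ b.support)
      (hv : v ∈ Subgroup.closure {Equiv.reflection P α, Equiv.reflection P γ})
      (hvα : v • α = α₁) (hne : α ≠ α₁ → γ = α₁) (hc : Chain b α₁ β w') : Chain b α β (w' * v)

theorem chain_of_word : ∀ (n : ℕ) (l : List ι), l.length = n → (∀ j ∈ l, j ∈ b.support) →
    ∀ α β, α ∈ b.support → β ∈ b.support → sprod P l • α = β → Chain b α β (sprod P l) := by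
  intro n
  induction n using Nat.strong_induction_on with
  | _ n ih =>
    intro l hln hl α β hα hβ hαβ
    by_cases hall : ∀ j ∈ b.support, b.IsPos (sprod P l • j)
    · -- then `sprod l = 1`
      have h1 : sprod P l = 1 :=
        eq_one_of_preserves_pos b _ (sprod_mem_weylGroup l)
          (isPos_smul_of_simple b b _ hall)
      rw [h1, one_smul] at hαβ
      rw [h1, ← hαβ]
      exact Chain.refl α hα
    · push Not at hall
      obtain ⟨γ, hγ, hγneg⟩ := hall
      have hne : α ≠ γ := by
        rintro rfl
        apply hγneg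
        rw [hαβ]
        exact RootPairing.Base.isPos_of_mem_support hβ
      obtain ⟨lu, l', hlu, hl', hlen, hprod, hpα, hpγ⟩ :=
        exists_descent b α γ hα hγ l.length l rfl hl
      have hlu_ne : lu ≠ [] := by
        rintro rfl
        rw [sprod_nil, mul_one] at hprod
        rw [hprod] at hpγ
        exact hγneg hpγ
      have hlt : l'.length < n := by
        have : 0 < lu.length := List.length_pos_iff.mpr hlu_ne
        omega
      set v : P.Aut := sprod P lu.reverse with hv
      have hvinv : v = (sprod P lu)⁻¹ := sprod_reverse P lu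
      have hw : sprod P l = sprod P l' * v := by
        rw [hprod, hvinv, mul_assoc, mul_inv_cancel, mul_one]
      have hlurev : ∀ x ∈ lu.reverse, x = α ∨ x = γ := fun x hx => hlu x (List.mem_reverse.mp hx)
      have hkspan : ∃ a c : ℤ, P.root (v • α) = a • P.root α + c • P.root γ :=
        root_sprod_smul_mem α γ lu.reverse hlurev α ⟨1, 0, by simp⟩
      have hβk : sprod P l' • (v • α) = β := by
        rw [← mul_smul, ← hw, hαβ]
      have hk : v • α = α ∨ v • α = γ :=
        eq_or_eq_of_rank_two b hα hγ hβ hne (sprod P l') hpα hpγ (v • α) hkspan hβk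
      have hks : v • α ∈ b.support := by
        rcases hk with h | h
        · rw [h]; exact hα
        · rw [h]; exact hγ
      have hc : Chain b (v • α) β (sprod P l') :=
        ih l'.length hlt l' rfl hl' (v • α) β hks hβ hβk
      rw [hw]
      refine Chain.step α (v • α) β γ v (sprod P l') hα hks hγ
        (sprod_mem_closure α γ lu.reverse hlurev) rfl ?_ hc
      intro hne'
      rcases hk with h | h
      · exact absurd h.symm hne'
      · exact h.symm

end Groth.Agent.H86.TD
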