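import Groth.Agent.H86.TD2

/-!
# Tits decomposition, part 3: from chains to the `Fin`-indexed statement
-/

set_option autoImplicit false

open RootPairing

namespace Groth.Agent.H86.TD

open Groth.Agent.H15

variable {ι R M N : Type*} [CommRing R] [AddCommGroup M] [Module R M]
    [AddCommGroup N] [Module R N] {P : RootPairing ι R M N}
variable [CharZero R] [IsDomain R] [Finite ι] [P.IsCrystallographic] [P.IsReduced] (b : P.Base)

omit [CharZero R] [IsDomain R] [Finite ι] [P.IsCrystallographic] [P.IsReduced] in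
theorem fin_of_chain {α β : ι} {w : P.Aut} (h : Chain b α β w) :
    ∃ (m : ℕ) (a : Fin (m + 1) → ι) (ws : Fin m → P.Aut),
      (∀ i, a i ∈ b.support) ∧ a 0 = α ∧ a (Fin.last m) = β ∧
      (∀ i, ws i ∈ P.weylGroup) ∧
      w = (List.ofFn fun i : Fin m => ws (Fin.rev i)).prod ∧
      (∀ i : Fin m, ws i • a (Fin.castSucc i) = a (Fin.succ i)) ∧
      ∀ i : Fin m, ∃ γ ∈ b.support,
        ws i ∈ Subgroup.closure {Equiv.reflection P (a (Fin.castSucc i)), Equiv.reflection P γ} ∧
        (a (Fin.castSucc i) ≠ a (Fin.succ i) → γ = a (Fin.succ i)) := by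
  induction h with
  | refl α hα =>
    refine ⟨0, fun _ => α, Fin.elim0, fun _ => hα, rfl, rfl, fun i => i.elim0, ?_,
      fun i => i.elim0, fun i => i.elim0⟩
    simp
  | step α α₁ β γ v w' hα hα₁ hγ hv hvα hne hc ih =>
    obtain ⟨m, a, ws, ha, ha0, hal, hws, hprod, hstep, hpair⟩ := ih
    refine ⟨m + 1, Fin.cons α a, Fin.cons v ws, ?_, ?_, ?_, ?_, ?_, ?_, ?_⟩
    · intro i
      refine Fin.cases ?_ (fun j => ?_) i
      · simpa using hα
      · simpa using ha j
    · simp
    · rw [← Fin.succ_last, Fin.cons_succ]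
      exact hal
    · intro i
      refine Fin.cases ?_ (fun j => ?_) i
      · simpa using closure_pair_le_weylGroup α γ hv
      · simpa using hws j
    · rw [List.ofFn_succ', List.concat_eq_append, List.prod_append, List.prod_singleton]
      simp only [Fin.rev_castSucc, Fin.cons_succ, Fin.rev_last, Fin.cons_zero]
      rw [← hprod]
    · intro i
      refine Fin.cases ?_ (fun j => ?_) i
      · simp only [Fin.cons_zero, Fin.castSucc_zero, Fin.succ_zero_eq_one]
        rw [show (1 : Fin (m + 1 + 1)) = Fin.succ 0 from rfl, Fin.cons_succ, ha0]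
        exact hvα
      · rw [Fin.cons_succ, ← Fin.succ_castSucc, Fin.cons_succ, Fin.cons_succ]
        exact hstep j
    · intro i
      refine Fin.cases ?_ (fun j => ?_) i
      · refine ⟨γ, hγ, ?_, ?_⟩
        · simpa using hv
        · simp only [Fin.castSucc_zero, Fin.cons_zero]
          rw [show Fin.succ (0 : Fin (m + 1)) = Fin.succ 0 from rfl, Fin.cons_succ, ha0]
          exact hne
      · obtain ⟨γ', hγ', h1, h2⟩ := hpair j
        refine ⟨γ', hγ', ?_, ?_⟩
        · rw [Fin.cons_succ, ← Fin.succ_castSucc, Fin.cons_succ]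
          exact h1
        · rw [← Fin.succ_castSucc, Fin.cons_succ, Fin.cons_succ]
          exact h2

theorem tits_decomposition (α β : ι) (hα : α ∈ b.support) (hβ : β ∈ b.support) (w : P.Aut)
    (hw : w ∈ P.weylGroup) (hwα : w • α = β) :
    ∃ (m : ℕ) (a : Fin (m + 1) → ι) (ws : Fin m → P.Aut),
      (∀ i, a i ∈ b.support) ∧ a 0 = α ∧ a (Fin.last m) = β ∧
      (∀ i, ws i ∈ P.weylGroup) ∧
      w = (List.ofFn fun i : Fin m => ws (Fin.rev i)).prod ∧
      (∀ i : Fin m, ws i • a (Fin.castSucc i) = a (Fin.succ i)) ∧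
      ∀ i : Fin m, ∃ γ ∈ b.support,
        ws i ∈ Subgroup.closure {Equiv.reflection P (a (Fin.castSucc i)), Equiv.reflection P γ} ∧
        (a (Fin.castSucc i) ≠ a (Fin.succ i) → γ = a (Fin.succ i)) := by
  obtain ⟨l, hl, rfl⟩ := exists_sprod_of_mem_weylGroup b w hw
  exact fin_of_chain b (chain_of_word b l.length l rfl hl α β hα hβ hwα)

end Groth.Agent.H86.TD
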