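import Mathlib.RingTheory.Polynomial.Basic
import Mathlib.Algebra.Polynomial.Derivative
import Mathlib.Algebra.Polynomial.PartialFractions
import Mathlib.Algebra.Algebra.Bilinear
import Mathlib.LinearAlgebra.Dimension.Finrank
import Mathlib.Tactic

set_option autoImplicit false

namespace Groth.Agent.H86.Wr

open Polynomial Finset

variable {k : Type*} [Field k] {m : ℕ} (r : Fin m → k) (a : Fin m → ℕ)

/-- product of the linear factors over a finset -/
noncomputable def Ps (s : Finset (Fin m)) : k[X] := ∏ j ∈ s, (X - C (r j))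

/-- product of the powers over a finset -/
noncomputable def Ds (s : Finset (Fin m)) : k[X] := ∏ j ∈ s, (X - C (r j)) ^ a j

/-- the logarithmic derivative numerator -/
noncomputable def Qs (s : Finset (Fin m)) : k[X] :=
  ∑ j ∈ s, C (a j : k) * Ps r (s.erase j)

theorem Ps_erase (s : Finset (Fin m)) {i : Fin m} (hi : i ∈ s) :
    Ps r s = (X - C (r i)) * Ps r (s.erase i) := by
  unfold Ps
  rw [Finset.mul_prod_erase s (fun l => X - C (r l)) hi]

theorem Ds_erase (s : Finset (Fin m)) {i : Fin m} (hi : i ∈ s) :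
    Ds r a s = (X - C (r i)) ^ a i * Ds r a (s.erase i) := by
  unfold Ds
  rw [Finset.mul_prod_erase s (fun l => (X - C (r l)) ^ a l) hi]

theorem Ps_mul_derivative_Ds (s : Finset (Fin m)) :
    Ps r s * derivative (Ds r a s) = Qs r a s * Ds r a s := by
  unfold Ds Qs
  rw [derivative_prod_finset, Finset.mul_sum, Finset.sum_mul]
  apply Finset.sum_congr rfl
  intro j hj
  rw [derivative_X_sub_C_pow]
  have h1 : Ps r s = (X - C (r j)) * Ps r (s.erase j) := Ps_erase r s hj
  have h2 : ∏ l ∈ s, (X - C (r l)) ^ a l =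
      (X - C (r j)) ^ a j * ∏ l ∈ s.erase j, (X - C (r l)) ^ a l := by
    rw [Finset.mul_prod_erase s (fun l => (X - C (r l)) ^ a l) hj]
  rw [h1, h2]
  rcases Nat.eq_zero_or_pos (a j) with h0 | hpos
  · simp [h0]
  · have h3 : (X - C (r j)) ^ a j = (X - C (r j)) ^ (a j - 1) * (X - C (r j)) := by
      rw [← pow_succ]
      congr 1
      omega
    rw [h3]
    ring

/-- the operator `Ψ ↦ P Ψ' - Q Ψ` attached to a finset of points -/
noncomputable def Ts (s : Finset (Fin m)) : k[X] →ₗ[k] k[X] :=
  (LinearMap.mulLeft k (Ps r s)).comp derivative - LinearMap.mulLeft k (Qs r a s)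

theorem Ts_apply (s : Finset (Fin m)) (Ψ : k[X]) :
    Ts r a s Ψ = Ps r s * derivative Ψ - Qs r a s * Ψ := rfl

theorem Ts_Ds_mul (s : Finset (Fin m)) (g : k[X]) :
    Ts r a s (Ds r a s * g) = Ds r a s * Ps r s * derivative g := by
  rw [Ts_apply, derivative_mul, mul_add, ← mul_assoc, Ps_mul_derivative_Ds]
  ring

theorem Qs_erase (s : Finset (Fin m)) {i : Fin m} (hi : i ∈ s) :
    Qs r a s = C (a i : k) * Ps r (s.erase i) + (X - C (r i)) * Qs r a (s.erase i) := by
  unfold Qs
  rw [← Finset.add_sum_erase s _ hi, Finset.mul_sum]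
  congr 1
  apply Finset.sum_congr rfl
  intro j hj
  have hji : j ≠ i := Finset.ne_of_mem_erase hj
  have hjs : j ∈ s := Finset.mem_of_mem_erase hj
  have hi' : i ∈ s.erase j := Finset.mem_erase.mpr ⟨hji.symm, hi⟩
  rw [Ps_erase r (s.erase j) hi', Finset.erase_right_comm]
  ring

/-- local form of the operator at a marked point -/
theorem Ts_local (s : Finset (Fin m)) {i : Fin m} (hi : i ∈ s) (n : ℕ) (G : k[X]) :
    Ts r a s ((X - C (r i)) ^ n * G) =
      (X - C (r i)) ^ n * ((C (n : k) - C (a i : k)) * Ps r (s.erase i) * G +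
        (X - C (r i)) * (Ps r (s.erase i) * derivative G - Qs r a (s.erase i) * G)) := by
  rw [Ts_apply, derivative_mul, derivative_X_sub_C_pow, Ps_erase r s hi, Qs_erase r a s hi]
  rcases Nat.eq_zero_or_pos n with h0 | hpos
  · subst h0
    simp
    ring
  · have h3 : (X - C (r i)) ^ n = (X - C (r i)) ^ (n - 1) * (X - C (r i)) := by
      rw [← pow_succ]
      congr 1
      omega
    rw [h3]
    ring

/-- the operator applied to a multiple of the product over the other points -/
theorem Ts_Ds_erase_mul (s : Finset (Fin m)) {i : Fin m} (hi : i ∈ s) (u : k[X]) :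
    Ts r a s (Ds r a (s.erase i) * u) =
      Ds r a (s.erase i) * Ps r (s.erase i) *
        ((X - C (r i)) * derivative u - C (a i : k) * u) := by
  rw [Ts_apply, derivative_mul, Ps_erase r s hi, Qs_erase r a s hi]
  have h := Ps_mul_derivative_Ds r a (s.erase i)
  have h' : (X - C (r i)) * Ps r (s.erase i) * (derivative (Ds r a (s.erase i)) * u) =
      (X - C (r i)) * u * (Ps r (s.erase i) * derivative (Ds r a (s.erase i))) := by ring
  rw [mul_add, h', h]
  ring

/-- local form at an arbitrary point -/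
theorem Ts_local' (s : Finset (Fin m)) (q : k) (n : ℕ) (G : k[X]) :
    Ts r a s ((X - C q) ^ (n + 1) * G) =
      (X - C q) ^ n * (C ((n + 1 : ℕ) : k) * Ps r s * G +
        (X - C q) * (Ps r s * derivative G - Qs r a s * G)) := by
  rw [Ts_apply, derivative_mul, derivative_X_sub_C_pow, Nat.add_sub_cancel, pow_succ]
  ring

end Groth.Agent.H86.Wr
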