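import Groth.Agent.H86.Wronsk1

set_option autoImplicit false

namespace Groth.Agent.H86.Wr

open Polynomial Finset

variable {k : Type*} [Field k] {m : ℕ} (r : Fin m → k) (a : Fin m → ℕ)

theorem Ps_monic (s : Finset (Fin m)) : (Ps r s).Monic :=
  monic_prod_of_monic _ _ fun j _ => monic_X_sub_C (r j)

theorem Ds_monic (s : Finset (Fin m)) : (Ds r a s).Monic :=
  monic_prod_of_monic _ _ fun j _ => (monic_X_sub_C (r j)).pow (a j)

theorem natDegree_Ps (s : Finset (Fin m)) : (Ps r s).natDegree = s.card := by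
  unfold Ps
  rw [natDegree_prod_of_monic _ _ fun j _ => monic_X_sub_C (r j)]
  simp

theorem natDegree_Ds (s : Finset (Fin m)) : (Ds r a s).natDegree = ∑ j ∈ s, a j := by
  unfold Ds
  rw [natDegree_prod_of_monic _ _ fun j _ => (monic_X_sub_C (r j)).pow (a j)]
  apply Finset.sum_congr rfl
  intro j _
  rw [natDegree_pow, natDegree_X_sub_C, mul_one]

theorem eval_Ps_ne_zero (s : Finset (Fin m)) (q : k) (hq : ∀ j ∈ s, q ≠ r j) :
    (Ps r s).eval q ≠ 0 := by
  unfold Ps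
  rw [eval_prod, Finset.prod_ne_zero_iff]
  intro j hj
  rw [eval_sub, eval_X, eval_C, sub_ne_zero]
  exact hq j hj

theorem eval_Ds_ne_zero (s : Finset (Fin m)) (q : k) (hq : ∀ j ∈ s, q ≠ r j) :
    (Ds r a s).eval q ≠ 0 := by
  unfold Ds
  rw [eval_prod, Finset.prod_ne_zero_iff]
  intro j hj
  rw [eval_pow, eval_sub, eval_X, eval_C]
  exact pow_ne_zero _ (sub_ne_zero.mpr (hq j hj))

theorem ne_of_mem_erase_inj (hr : Function.Injective r) (s : Finset (Fin m)) (i : Fin m) :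
    ∀ j ∈ s.erase i, r i ≠ r j := fun j hj h =>
  (Finset.ne_of_mem_erase hj) (hr h).symm

theorem Ts_Ds (s : Finset (Fin m)) : Ts r a s (Ds r a s) = 0 := by
  have := Ts_Ds_mul r a s 1
  rwa [mul_one, derivative_one, mul_zero] at this

theorem Ts_sub_smul_Ds (s : Finset (Fin m)) (Ψ : k[X]) (c : k) :
    Ts r a s (Ψ - c • Ds r a s) = Ts r a s Ψ := by
  rw [map_sub, map_smul, Ts_Ds, smul_zero, sub_zero]

section CharZero

variable [CharZero k]

/-- exact order at a marked point -/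
theorem not_dvd_Ts_marked (hr : Function.Injective r) (s : Finset (Fin m)) {i : Fin m}
    (hi : i ∈ s) (n : ℕ) (hn : n ≠ a i) (G : k[X]) (hG : G.eval (r i) ≠ 0) :
    ¬ (X - C (r i)) ^ (n + 1) ∣ Ts r a s ((X - C (r i)) ^ n * G) := by
  rw [Ts_local r a s hi, pow_succ]
  intro hdvd
  have hu : (X - C (r i)) ^ n ≠ 0 := pow_ne_zero _ (X_sub_C_ne_zero _)
  rw [mul_dvd_mul_iff_left hu, dvd_add_left (dvd_mul_right _ _), dvd_iff_isRoot] at hdvd
  have : eval (r i) ((C (n : k) - C (a i : k)) * Ps r (s.erase i) * G) = 0 := hdvd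
  rw [eval_mul, eval_mul, eval_sub, eval_C, eval_C] at this
  have h1 : ((n : k) - (a i : k)) ≠ 0 := by
    rw [sub_ne_zero]
    exact fun h => hn (Nat.cast_injective h)
  have h2 := eval_Ps_ne_zero r (s.erase i) (r i) (ne_of_mem_erase_inj r hr s i)
  exact (mul_ne_zero (mul_ne_zero h1 h2) hG) this

/-- exact order at an unmarked point -/
theorem not_dvd_Ts_unmarked (s : Finset (Fin m)) (q : k) (hq : ∀ j ∈ s, q ≠ r j)
    (n : ℕ) (G : k[X]) (hG : G.eval q ≠ 0) :
    ¬ (X - C q) ^ (n + 1) ∣ Ts r a s ((X - C q) ^ (n + 1) * G) := by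
  rw [Ts_local' r a s q n, pow_succ]
  intro hdvd
  have hu : (X - C q) ^ n ≠ 0 := pow_ne_zero _ (X_sub_C_ne_zero _)
  rw [mul_dvd_mul_iff_left hu, dvd_add_left (dvd_mul_right _ _), dvd_iff_isRoot] at hdvd
  have : eval q (C ((n + 1 : ℕ) : k) * Ps r s * G) = 0 := hdvd
  rw [eval_mul, eval_mul, eval_C] at this
  have h1 : (((n + 1 : ℕ) : k)) ≠ 0 := Nat.cast_ne_zero.mpr (Nat.succ_ne_zero n)
  exact (mul_ne_zero (mul_ne_zero h1 (eval_Ps_ne_zero r s q hq)) hG) this

end CharZero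

end Groth.Agent.H86.Wr
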