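import Groth.Agent.H86.Wronsk2

set_option autoImplicit false

namespace Groth.Agent.H86.Wr

open Polynomial Finset

variable {k : Type*} [Field k] {m : ℕ} (r : Fin m → k) (a : Fin m → ℕ)

theorem natDegree_Qs_le (s : Finset (Fin m)) : (Qs r a s).natDegree ≤ s.card - 1 := by
  unfold Qs
  apply natDegree_sum_le_of_forall_le
  intro j hj
  refine (natDegree_C_mul_le _ _).trans ?_
  rw [natDegree_Ps, Finset.card_erase_of_mem hj]

theorem coeff_Qs (s : Finset (Fin m)) (hs : s.Nonempty) :
    (Qs r a s).coeff (s.card - 1) = ((∑ j ∈ s, a j : ℕ) : k) := by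
  unfold Qs
  rw [finsetSum_coeff, Nat.cast_sum]
  apply Finset.sum_congr rfl
  intro j hj
  rw [coeff_C_mul]
  have h1 : (Ps r (s.erase j)).natDegree = s.card - 1 := by
    rw [natDegree_Ps, Finset.card_erase_of_mem hj]
  have h2 : (Ps r (s.erase j)).coeff (s.card - 1) = 1 := by
    rw [← h1]
    exact (Ps_monic r (s.erase j)).coeff_natDegree
  rw [h2, mul_one]

section CharZero

variable [CharZero k]

/-- the degree of `Ts Ψ` when the degree of `Ψ` is not the exceptional one -/
theorem natDegree_Ts (s : Finset (Fin m)) (Ψ : k[X]) (hΨ : Ψ ≠ 0)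
    (ht : Ψ.natDegree ≠ ∑ j ∈ s, a j) :
    Ts r a s Ψ ≠ 0 ∧ (Ts r a s Ψ).natDegree + 1 = Ψ.natDegree + s.card := by
  set t := Ψ.natDegree with ht_def
  have hpos : 1 ≤ t + s.card := by
    rcases s.eq_empty_or_nonempty with rfl | hs
    · simp only [Finset.sum_empty] at ht
      omega
    · have := Finset.card_pos.mpr hs
      omega
  set e := t + s.card - 1 with he
  -- first term
  have hc1 : (Ps r s * derivative Ψ).coeff e = Ψ.leadingCoeff * (t : k) := by
    rcases Nat.eq_zero_or_pos t with h0 | htpos
    · have : derivative Ψ = 0 := by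
        rw [eq_C_of_natDegree_eq_zero (ht_def ▸ h0 : Ψ.natDegree = 0), derivative_C]
      rw [this, mul_zero, coeff_zero, h0, Nat.cast_zero, mul_zero]
    · have he' : e = s.card + (t - 1) := by omega
      rw [he', coeff_mul_add_eq_of_natDegree_le (natDegree_Ps r s).le
        ((natDegree_derivative_le Ψ).trans (by rw [← ht_def]))]
      have : (Ps r s).coeff s.card = 1 := by
        have := (Ps_monic r s).coeff_natDegree
        rwa [natDegree_Ps] at this
      rw [this, one_mul, coeff_derivative]
      have h1 : t - 1 + 1 = t := by omega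
      rw [h1, leadingCoeff, ← ht_def]
      congr 1
      have : ((t - 1 : ℕ) : k) + 1 = ((t - 1 + 1 : ℕ) : k) := by push_cast; ring
      rw [this, h1]
  -- second term
  have hc2 : (Qs r a s * Ψ).coeff e = ((∑ j ∈ s, a j : ℕ) : k) * Ψ.leadingCoeff := by
    rcases s.eq_empty_or_nonempty with rfl | hs
    · simp [Qs]
    · have hcard := Finset.card_pos.mpr hs
      have he' : e = (s.card - 1) + t := by omega
      rw [he', coeff_mul_add_eq_of_natDegree_le (natDegree_Qs_le r a s) (le_of_eq ht_def.symm),
        coeff_Qs r a s hs]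
      rfl
  have hcoeff : (Ts r a s Ψ).coeff e =
      ((t : k) - ((∑ j ∈ s, a j : ℕ) : k)) * Ψ.leadingCoeff := by
    rw [Ts_apply, coeff_sub, hc1, hc2]
    ring
  have hne : (Ts r a s Ψ).coeff e ≠ 0 := by
    rw [hcoeff]
    apply mul_ne_zero
    · rw [sub_ne_zero]
      exact fun h => ht (Nat.cast_injective h)
    · exact leadingCoeff_ne_zero.mpr hΨ
  have hle : (Ts r a s Ψ).natDegree ≤ e := by
    rw [Ts_apply]
    apply (natDegree_sub_le _ _).trans
    apply max_le
    · rcases Nat.eq_zero_or_pos t with h0 | htpos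
      · have hd : derivative Ψ = 0 := by
          rw [eq_C_of_natDegree_eq_zero (ht_def ▸ h0 : Ψ.natDegree = 0), derivative_C]
        rw [hd, mul_zero, natDegree_zero]
        omega
      · apply natDegree_mul_le.trans
        rw [natDegree_Ps]
        have := natDegree_derivative_le Ψ
        rw [← ht_def] at this
        omega
    · rcases s.eq_empty_or_nonempty with rfl | hs
      · simp [Qs]
      · apply natDegree_mul_le.trans
        have := natDegree_Qs_le r a s
        have hcard := Finset.card_pos.mpr hs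
        omega
  have hdeg : (Ts r a s Ψ).natDegree = e := natDegree_eq_of_le_of_coeff_ne_zero hle hne
  refine ⟨fun h0 => hne (by rw [h0, coeff_zero]), ?_⟩
  rw [hdeg]
  omega

end CharZero

end Groth.Agent.H86.Wr
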