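import Mathlib
import Groth.Agent.H86.ZT10

/-!
# Rationality of the zeta series and `L(1) = h`
-/

set_option autoImplicit false

namespace Groth.Agent.H86.Zeta

open FunFld Module Groth.Agent.H55

section series

/-- the coefficients of `(1 - X)(1 - Q X) f` -/
theorem numer_eq (Q : ℤ) (f : PowerSeries ℤ) :
    (1 - PowerSeries.X) * (1 - PowerSeries.C Q * PowerSeries.X) * f =
      f - PowerSeries.C (Q + 1) * (PowerSeries.X * f) +
        PowerSeries.C Q * (PowerSeries.X * (PowerSeries.X * f)) := by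
  rw [map_add, map_one]
  ring

theorem coeff_numer_zero (Q : ℤ) (f : PowerSeries ℤ) :
    PowerSeries.coeff 0 ((1 - PowerSeries.X) * (1 - PowerSeries.C Q * PowerSeries.X) * f) =
      PowerSeries.coeff 0 f := by
  rw [numer_eq, map_add, map_sub, PowerSeries.coeff_C_mul, PowerSeries.coeff_C_mul,
    PowerSeries.coeff_zero_X_mul, PowerSeries.coeff_zero_X_mul]
  ring

theorem coeff_numer_one (Q : ℤ) (f : PowerSeries ℤ) :
    PowerSeries.coeff 1 ((1 - PowerSeries.X) * (1 - PowerSeries.C Q * PowerSeries.X) * f) =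
      PowerSeries.coeff 1 f - (Q + 1) * PowerSeries.coeff 0 f := by
  rw [numer_eq, map_add, map_sub, PowerSeries.coeff_C_mul, PowerSeries.coeff_C_mul,
    show (1 : ℕ) = 0 + 1 from rfl, PowerSeries.coeff_succ_X_mul, PowerSeries.coeff_succ_X_mul,
    PowerSeries.coeff_zero_X_mul]
  ring

theorem coeff_numer_succ_succ (Q : ℤ) (f : PowerSeries ℤ) (n : ℕ) :
    PowerSeries.coeff (n + 2) ((1 - PowerSeries.X) * (1 - PowerSeries.C Q * PowerSeries.X) * f) =
      PowerSeries.coeff (n + 2) f - (Q + 1) * PowerSeries.coeff (n + 1) f +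
        Q * PowerSeries.coeff n f := by
  rw [numer_eq, map_add, map_sub, PowerSeries.coeff_C_mul, PowerSeries.coeff_C_mul,
    show n + 2 = (n + 1) + 1 from rfl, PowerSeries.coeff_succ_X_mul,
    PowerSeries.coeff_succ_X_mul, PowerSeries.coeff_succ_X_mul]

end series

section zeta

variable {k K : Type*} [Field k] [Field K] [Algebra k K] [Finite k]

theorem coeff_zetaZ (n : ℕ) : PowerSeries.coeff n (zetaZ k K) = (effDivCount k K n : ℤ) := by
  unfold zetaZ
  rw [PowerSeries.coeff_mk]

theorem coeff_numerZ_zero : PowerSeries.coeff 0 (numerZ k K) = (effDivCount k K 0 : ℤ) := by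
  unfold numerZ
  rw [coeff_numer_zero, coeff_zetaZ]

theorem coeff_numerZ_one : PowerSeries.coeff 1 (numerZ k K) =
    (effDivCount k K 1 : ℤ) - ((Nat.card k : ℤ) + 1) * (effDivCount k K 0 : ℤ) := by
  unfold numerZ
  rw [coeff_numer_one, coeff_zetaZ, coeff_zetaZ]

theorem coeff_numerZ_succ_succ (n : ℕ) : PowerSeries.coeff (n + 2) (numerZ k K) =
    (effDivCount k K (n + 2) : ℤ) - ((Nat.card k : ℤ) + 1) * (effDivCount k K (n + 1) : ℤ) +
      (Nat.card k : ℤ) * (effDivCount k K n : ℤ) := by
  unfold numerZ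
  rw [coeff_numer_succ_succ, coeff_zetaZ, coeff_zetaZ, coeff_zetaZ]

/-- the number of effective divisors of large degree, in `ℤ` -/
theorem count_effective_int (hK : IsFunctionField k K) (n : ℕ) (hn : 2 * genus k K ≤ n + 1) :
    ((Nat.card k : ℤ) - 1) * (effDivCount k K n : ℤ) =
      (classNum k K : ℤ) * ((Nat.card k : ℤ) ^ (n + 1 - genus k K) - 1) := by
  obtain ⟨D₁, hD₁⟩ := deg_surjective hK (n : ℤ)
  have h := count_effective hK n hn D₁ hD₁
  have hq : 1 ≤ Nat.card k := Nat.card_pos
  have hq' : 1 ≤ Nat.card k ^ (n + 1 - genus k K) := Nat.one_le_pow _ _ hq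
  have := congrArg (fun m : ℕ => (m : ℤ)) h
  simp only [Nat.cast_mul] at this
  rw [Nat.cast_sub hq, Nat.cast_sub hq'] at this
  push_cast at this
  exact this

theorem card_sub_one_ne_zero : ((Nat.card k : ℤ) - 1) ≠ 0 := by
  have hq : 1 < Nat.card k := Finite.one_lt_card
  have : (1 : ℤ) < (Nat.card k : ℤ) := by exact_mod_cast hq
  omega

/-- the coefficients of the numerator vanish beyond `2g` -/
theorem coeff_numerZ_eq_zero (hK : IsFunctionField k K) (n : ℕ) (hn : 2 * genus k K < n) :
    PowerSeries.coeff n (numerZ k K) = 0 := by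
  by_cases hn1 : n = 1
  · subst hn1
    have hg0 : genus k K = 0 := by omega
    rw [coeff_numerZ_one]
    apply mul_left_cancel₀ (card_sub_one_ne_zero (k := k))
    have h0 := count_effective_int hK 0 (by omega)
    have h1 := count_effective_int hK 1 (by omega)
    rw [hg0] at h0 h1
    set q := (Nat.card k : ℤ)
    rw [mul_zero]
    have : (q - 1) * ((effDivCount k K 1 : ℤ) - (q + 1) * (effDivCount k K 0 : ℤ)) =
        (q - 1) * (effDivCount k K 1 : ℤ) - (q + 1) * ((q - 1) * (effDivCount k K 0 : ℤ)) := by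
      ring
    rw [this, h0, h1]
    ring
  obtain ⟨m, rfl⟩ : ∃ m, n = m + 2 := ⟨n - 2, by omega⟩
  rw [coeff_numerZ_succ_succ]
  apply mul_left_cancel₀ (card_sub_one_ne_zero (k := k))
  have h0 := count_effective_int hK m (by omega)
  have h1 := count_effective_int hK (m + 1) (by omega)
  have h2 := count_effective_int hK (m + 2) (by omega)
  have e1 : m + 1 + 1 - genus k K = (m + 1 - genus k K) + 1 := by omega
  have e2 : m + 2 + 1 - genus k K = (m + 1 - genus k K) + 2 := by omega
  rw [e1] at h1
  rw [e2] at h2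
  set s := m + 1 - genus k K
  set q := (Nat.card k : ℤ)
  rw [mul_zero]
  have : (q - 1) * ((effDivCount k K (m + 2) : ℤ) - (q + 1) * (effDivCount k K (m + 1) : ℤ) +
      q * (effDivCount k K m : ℤ)) =
      (q - 1) * (effDivCount k K (m + 2) : ℤ) - (q + 1) * ((q - 1) * (effDivCount k K (m + 1) : ℤ)) +
      q * ((q - 1) * (effDivCount k K m : ℤ)) := by ring
  rw [this, h0, h1, h2]
  ring

/-- **Rationality** of the zeta series -/
theorem exists_polynomial_eq_numerZ (hK : IsFunctionField k K) :
    ∃ p : Polynomial ℤ, (p : PowerSeries ℤ) = numerZ k K := by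
  refine ⟨PowerSeries.trunc (2 * genus k K + 1) (numerZ k K), ?_⟩
  ext n
  rw [Polynomial.coeff_coe, PowerSeries.coeff_trunc]
  split_ifs with h
  · rfl
  · exact (coeff_numerZ_eq_zero hK n (by omega)).symm

/-- partial sums of the coefficients of the numerator -/
theorem sum_coeff_numerZ (M : ℕ) :
    ∑ i ∈ Finset.range (M + 2), PowerSeries.coeff i (numerZ k K) =
      (effDivCount k K (M + 1) : ℤ) - (Nat.card k : ℤ) * (effDivCount k K M : ℤ) := by
  induction M with
  | zero =>
    rw [Finset.sum_range_succ, Finset.sum_range_one, coeff_numerZ_zero, coeff_numerZ_one]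
    ring
  | succ M ih =>
    rw [Finset.sum_range_succ, ih, coeff_numerZ_succ_succ]
    ring

/-- `L(1) = h` -/
theorem eval_one_eq_classNum (hK : IsFunctionField k K) (p : Polynomial ℤ)
    (hp : (p : PowerSeries ℤ) = numerZ k K) : p.eval 1 = (classNum k K : ℤ) := by
  have hcoeff : ∀ n, p.coeff n = PowerSeries.coeff n (numerZ k K) := by
    intro n
    rw [← hp, Polynomial.coeff_coe]
  have hdeg : p.natDegree < 2 * genus k K + 1 + 2 := by
    have : p.natDegree ≤ 2 * genus k K := by
      rw [Polynomial.natDegree_le_iff_coeff_eq_zero]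
      intro n hn
      rw [hcoeff]
      exact coeff_numerZ_eq_zero hK n hn
    omega
  rw [Polynomial.eval_eq_sum_range' hdeg]
  simp only [one_pow, mul_one, hcoeff]
  rw [sum_coeff_numerZ]
  apply mul_left_cancel₀ (card_sub_one_ne_zero (k := k))
  have h0 := count_effective_int hK (2 * genus k K + 1) (by omega)
  have h1 := count_effective_int hK (2 * genus k K + 1 + 1) (by omega)
  have e0 : 2 * genus k K + 1 + 1 - genus k K = genus k K + 2 := by omega
  have e1 : 2 * genus k K + 1 + 1 + 1 - genus k K = genus k K + 3 := by omega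
  rw [e0] at h0
  rw [e1] at h1
  set q := (Nat.card k : ℤ)
  have : (q - 1) * ((effDivCount k K (2 * genus k K + 1 + 1) : ℤ) -
      q * (effDivCount k K (2 * genus k K + 1) : ℤ)) =
      (q - 1) * (effDivCount k K (2 * genus k K + 1 + 1) : ℤ) -
      q * ((q - 1) * (effDivCount k K (2 * genus k K + 1) : ℤ)) := by ring
  rw [this, h0, h1]
  ring

end zeta

end Groth.Agent.H86.Zeta
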