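import Mathlib
import Groth.Agent.H86.ZT11

/-!
# The class sums `f(n) = ∑_{classes of degree n} q^{ℓ}` and their functional equation
-/

set_option autoImplicit false

namespace Groth.Agent.H86.Zeta

open FunFld Module Groth.Agent.H55

variable {k K : Type*} [Field k] [Field K] [Algebra k K]

/-- a representative of a class of degree zero -/
noncomputable def rep (c : Cl0 k K) : Divisor k K := (Quotient.out c).1

theorem deg_rep (c : Cl0 k K) : (rep c).deg = 0 := mem_ker_degHom.mp (Quotient.out c).2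

theorem cls0_rep (c : Cl0 k K) : cls0 (rep c) (deg_rep c) = c := by
  unfold cls0 rep
  exact Quotient.out_eq' c

theorem cls0_eq_iff (hK : IsFunctionField k K) (E E' : Divisor k K) (hE : E.deg = 0)
    (hE' : E'.deg = 0) : cls0 E hE = cls0 E' hE' ↔ ∃ z : K, z ≠ 0 ∧ E' = E + div k z := by
  unfold cls0
  rw [QuotientAddGroup.eq, AddSubgroup.mem_addSubgroupOf, mem_prinDivs_iff hK]
  constructor
  · rintro ⟨z, hz, h⟩
    refine ⟨z, hz, ?_⟩
    rw [h]
    change E' = E + (-E + E')
    abel
  · rintro ⟨z, hz, h⟩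
    refine ⟨z, hz, ?_⟩
    change div k z = -E + E'
    rw [h]
    abel

theorem cls0_sub (E E' : Divisor k K) (hE : E.deg = 0) (hE' : E'.deg = 0) :
    cls0 E hE - cls0 E' hE' = cls0 (E - E') (by rw [Divisor.deg_sub, hE, hE', sub_zero]) := rfl

/-- linearly equivalent divisors have the same `ℓ` -/
theorem ell_eq_of_cls0_eq (hK : IsFunctionField k K) (D E E' : Divisor k K) (hE : E.deg = 0)
    (hE' : E'.deg = 0) (h : cls0 E hE = cls0 E' hE') : ell (D + E) = ell (D + E') := by
  obtain ⟨z, hz, h'⟩ := (cls0_eq_iff hK E E' hE hE').mp h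
  rw [h', ← add_assoc, ell_add_div hK _ hz]

section finite

variable [Finite k]

/-- the number of effective divisors of degree `n` as a sum over the classes -/
theorem count_effective_sum (hK : IsFunctionField k K) [Fintype (Cl0 k K)] (n : ℕ)
    (D₁ : Divisor k K) (hD₁ : D₁.deg = n) :
    (Nat.card k - 1) * effDivCount k K n =
      ∑ c : Cl0 k K, (Nat.card k ^ ell (D₁ + rep c) - 1) := by
  classical
  haveI := finite_eff hK n
  rw [effDivCount_eq, ← Nat.card_congr (Equiv.sigmaFiberEquiv (clsOf D₁ hD₁)),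
    Nat.card_sigma, Finset.mul_sum]
  apply Finset.sum_congr rfl
  intro c _
  have hE := deg_rep c
  rw [← natCard_effClass hK (D₁ + rep c)]
  congr 1
  apply Nat.card_congr
  refine ⟨fun A => ⟨A.1.1, A.1.2.1, ((clsOf_eq_cls0_iff hK D₁ hD₁ A.1 (rep c) hE).mp
      (A.2.trans (cls0_rep c).symm))⟩,
    fun A => ⟨⟨A.1, A.2.1, ?_⟩, ?_⟩, fun A => rfl, fun A => rfl⟩
  · obtain ⟨z, _, hz⟩ := A.2.2
    rw [hz, deg_add_div hK, Divisor.deg_add, hD₁, hE, add_zero]
  · refine Eq.trans ?_ (cls0_rep c)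
    rw [clsOf_eq_cls0_iff hK]
    exact A.2.2

end finite

end Groth.Agent.H86.Zeta
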