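import Mathlib
import Groth.Agent.H86.ZT12

/-!
# The functional equation of the class sums
-/

set_option autoImplicit false

namespace Groth.Agent.H86.Zeta

open FunFld Module Groth.Agent.H55

variable {k K : Type*} [Field k] [Field K] [Algebra k K]

theorem deg_zsmul (n : ℤ) (D : Divisor k K) : (n • D).deg = n * D.deg := by
  have : (n • D).deg = n • D.deg := map_zsmul (Divisor.degHom (k := k) (K := K)) n D
  rw [this, smul_eq_mul]

/-- the class sums -/
noncomputable def fz [Fintype (Cl0 k K)] (D₁ : Divisor k K) (n : ℤ) : ℚ :=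
  ∑ c : Cl0 k K, (Nat.card k : ℚ) ^ ell (n • D₁ + rep c)

section finite

variable [Finite k] (hK : IsFunctionField k K) [Fintype (Cl0 k K)] (D₁ : Divisor k K)
  (hD₁ : D₁.deg = 1)

include hD₁ in
theorem deg_zsmul_add_rep (n : ℤ) (c : Cl0 k K) : (n • D₁ + rep c).deg = n := by
  rw [Divisor.deg_add, deg_zsmul, hD₁, deg_rep, mul_one, add_zero]

include hK hD₁ in
theorem fz_of_neg (n : ℤ) (hn : n < 0) : fz D₁ n = (classNum k K : ℚ) := by
  unfold fz
  have : ∀ c : Cl0 k K, ell (n • D₁ + rep c) = 0 := by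
    intro c
    have hbot := L_eq_bot_of_deg_neg hK (n • D₁ + rep c) (by rw [deg_zsmul_add_rep D₁ hD₁]; exact hn)
    unfold ell
    rw [hbot]
    exact finrank_bot k K
  simp only [this, pow_zero, Finset.sum_const, Finset.card_univ, nsmul_eq_mul, mul_one]
  rw [classNum_eq, Nat.card_eq_fintype_card (α := Cl0 k K)]

include hK hD₁ in
theorem card_sub_one_mul_effDivCount (n : ℕ) :
    ((Nat.card k : ℚ) - 1) * (effDivCount k K n : ℚ) = fz D₁ (n : ℤ) - (classNum k K : ℚ) := by
  have h := count_effective_sum hK n ((n : ℤ) • D₁) (by rw [deg_zsmul, hD₁, mul_one])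
  have hq : 1 ≤ Nat.card k := Nat.card_pos
  have := congrArg (fun m : ℕ => (m : ℚ)) h
  simp only [Nat.cast_mul, Nat.cast_sum] at this
  rw [Nat.cast_sub hq] at this
  rw [Nat.cast_one] at this
  rw [this]
  unfold fz
  have h1 : ∀ c : Cl0 k K, ((Nat.card k ^ ell ((n : ℤ) • D₁ + rep c) - 1 : ℕ) : ℚ) =
      (Nat.card k : ℚ) ^ ell ((n : ℤ) • D₁ + rep c) - 1 := by
    intro c
    rw [Nat.cast_sub (Nat.one_le_pow _ _ hq)]
    push_cast
    rfl
  simp only [h1, Finset.sum_sub_distrib, Finset.sum_const, Finset.card_univ, nsmul_eq_mul, mul_one]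
  rw [classNum_eq, Nat.card_eq_fintype_card (α := Cl0 k K)]

include hK hD₁ in
/-- the functional equation of the class sums, from the Riemann–Roch theorem -/
theorem fz_symm (n : ℤ) :
    fz D₁ n = (Nat.card k : ℚ) ^ (n + 1 - (genus k K : ℤ)) *
      fz D₁ (2 * (genus k K : ℤ) - 2 - n) := by
  classical
  obtain ⟨C, hC⟩ := exists_canonical hK
  have hCdeg := (canonical_ell_deg hK hC).2
  have hq0 : (Nat.card k : ℚ) ≠ 0 := by
    have : 0 < Nat.card k := Nat.card_pos
    positivity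
  set w : Divisor k K := C - (2 * (genus k K : ℤ) - 2) • D₁ with hw
  have hwdeg : w.deg = 0 := by
    rw [hw, Divisor.deg_sub, deg_zsmul, hD₁, hCdeg]
    ring
  set τ : Cl0 k K ≃ Cl0 k K := Equiv.subLeft (cls0 w hwdeg) with hτ
  unfold fz
  rw [← Equiv.sum_comp τ (fun c => (Nat.card k : ℚ) ^
    ell ((2 * (genus k K : ℤ) - 2 - n) • D₁ + rep c)), Finset.mul_sum]
  apply Finset.sum_congr rfl
  intro c _
  have hrr := riemann_roch hK hC (n • D₁ + rep c)
  rw [deg_zsmul_add_rep D₁ hD₁] at hrr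
  have hlin : ell (C - (n • D₁ + rep c)) =
      ell ((2 * (genus k K : ℤ) - 2 - n) • D₁ + rep (τ c)) := by
    have e : C - (n • D₁ + rep c) = (2 * (genus k K : ℤ) - 2 - n) • D₁ + (w - rep c) := by
      rw [hw, sub_smul, sub_smul]
      abel
    rw [e]
    have hd1 : (w - rep c).deg = 0 := by rw [Divisor.deg_sub, hwdeg, deg_rep c, sub_zero]
    apply ell_eq_of_cls0_eq hK _ (w - rep c) (rep (τ c)) hd1 (deg_rep (τ c))
    rw [cls0_rep, hτ, Equiv.subLeft_apply]
    have := cls0_sub w (rep c) hwdeg (deg_rep c)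
    rw [cls0_rep] at this
    exact this.symm
  rw [hlin] at hrr
  rw [← zpow_natCast, hrr, zpow_add₀ hq0, zpow_natCast]

end finite

end Groth.Agent.H86.Zeta
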