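import Mathlib
import Groth.Agent.H86.ZT13

/-!
# The functional equation of the numerator of the zeta function
-/

set_option autoImplicit false

namespace Groth.Agent.H86.Zeta

open FunFld Module Groth.Agent.H55

variable {k K : Type*} [Field k] [Field K] [Algebra k K]

variable (k K) in
/-- the number of effective divisors of degree `n`, extended by zero to negative `n` -/
noncomputable def az (n : ℤ) : ℚ := if 0 ≤ n then (effDivCount k K n.toNat : ℚ) else 0

theorem az_natCast (n : ℕ) : az k K (n : ℤ) = (effDivCount k K n : ℚ) := by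
  unfold az
  rw [if_pos (Int.natCast_nonneg n), Int.toNat_natCast]

theorem az_of_neg {n : ℤ} (hn : n < 0) : az k K n = 0 := by
  unfold az
  rw [if_neg (not_le.mpr hn)]

variable (k K) in
/-- the coefficients of the numerator, extended by zero to negative indices -/
noncomputable def cz (n : ℤ) : ℚ :=
  az k K n - ((Nat.card k : ℚ) + 1) * az k K (n - 1) + (Nat.card k : ℚ) * az k K (n - 2)

theorem cz_natCast [Finite k] (n : ℕ) :
    cz k K (n : ℤ) = ((PowerSeries.coeff n (numerZ k K) : ℤ) : ℚ) := by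
  unfold cz
  match n with
  | 0 =>
    rw [coeff_numerZ_zero, az_of_neg (by norm_num : ((0 : ℕ) : ℤ) - 1 < 0),
      az_of_neg (by norm_num : ((0 : ℕ) : ℤ) - 2 < 0), az_natCast]
    push_cast
    ring
  | 1 =>
    rw [coeff_numerZ_one, az_of_neg (by norm_num : ((1 : ℕ) : ℤ) - 2 < 0), az_natCast,
      show ((1 : ℕ) : ℤ) - 1 = ((0 : ℕ) : ℤ) by norm_num, az_natCast]
    push_cast
    ring
  | m + 2 =>
    rw [coeff_numerZ_succ_succ, az_natCast,
      show ((m + 2 : ℕ) : ℤ) - 1 = ((m + 1 : ℕ) : ℤ) by push_cast; ring, az_natCast,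
      show ((m + 2 : ℕ) : ℤ) - 2 = ((m : ℕ) : ℤ) by push_cast; ring, az_natCast]
    push_cast
    ring

section finite

variable [Finite k] (hK : IsFunctionField k K) [Fintype (Cl0 k K)] (D₁ : Divisor k K)
  (hD₁ : D₁.deg = 1)

include hK hD₁ in
theorem az_eq (n : ℤ) :
    ((Nat.card k : ℚ) - 1) * az k K n = fz D₁ n - (classNum k K : ℚ) := by
  by_cases hn : 0 ≤ n
  · obtain ⟨m, rfl⟩ := Int.eq_ofNat_of_zero_le hn
    rw [az_natCast, card_sub_one_mul_effDivCount hK D₁ hD₁]
  · rw [az_of_neg (not_le.mp hn), fz_of_neg hK D₁ hD₁ n (not_le.mp hn), mul_zero, sub_self]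

include hK hD₁ in
theorem card_sub_one_mul_cz (n : ℤ) :
    ((Nat.card k : ℚ) - 1) * cz k K n =
      fz D₁ n - ((Nat.card k : ℚ) + 1) * fz D₁ (n - 1) + (Nat.card k : ℚ) * fz D₁ (n - 2) := by
  unfold cz
  have h0 := az_eq hK D₁ hD₁ n
  have h1 := az_eq hK D₁ hD₁ (n - 1)
  have h2 := az_eq hK D₁ hD₁ (n - 2)
  linear_combination h0 - ((Nat.card k : ℚ) + 1) * h1 + (Nat.card k : ℚ) * h2

include hK hD₁ in
/-- the functional equation for the coefficients of the numerator -/
theorem cz_symm (n : ℤ) :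
    cz k K (2 * (genus k K : ℤ) - n) =
      (Nat.card k : ℚ) ^ ((genus k K : ℤ) - n) * cz k K n := by
  have hq1 : ((Nat.card k : ℚ) - 1) ≠ 0 := by
    have hq : 1 < Nat.card k := Finite.one_lt_card
    have : (1 : ℚ) < (Nat.card k : ℚ) := by exact_mod_cast hq
    linarith
  have hq0 : (Nat.card k : ℚ) ≠ 0 := by
    have : 0 < Nat.card k := Nat.card_pos
    positivity
  apply mul_left_cancel₀ hq1
  rw [card_sub_one_mul_cz hK D₁ hD₁, mul_left_comm, card_sub_one_mul_cz hK D₁ hD₁]
  have e0 := fz_symm hK D₁ hD₁ (2 * (genus k K : ℤ) - n)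
  have e1 := fz_symm hK D₁ hD₁ (2 * (genus k K : ℤ) - n - 1)
  have e2 := fz_symm hK D₁ hD₁ (2 * (genus k K : ℤ) - n - 2)
  rw [show 2 * (genus k K : ℤ) - 2 - (2 * (genus k K : ℤ) - n) = n - 2 by ring,
    show 2 * (genus k K : ℤ) - n + 1 - (genus k K : ℤ) = ((genus k K : ℤ) - n) + 1 by ring,
    zpow_add₀ hq0, zpow_one] at e0
  rw [show 2 * (genus k K : ℤ) - 2 - (2 * (genus k K : ℤ) - n - 1) = n - 1 by ring,
    show 2 * (genus k K : ℤ) - n - 1 + 1 - (genus k K : ℤ) = (genus k K : ℤ) - n by ring] at e1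
  rw [show 2 * (genus k K : ℤ) - 2 - (2 * (genus k K : ℤ) - n - 2) = n by ring,
    show 2 * (genus k K : ℤ) - n - 2 + 1 - (genus k K : ℤ) = ((genus k K : ℤ) - n) - 1 by ring,
    zpow_sub₀ hq0, zpow_one] at e2
  rw [e0, e1, e2]
  field_simp
  ring

end finite

section main

variable [Finite k]

/-- the functional equation, the degree and the leading coefficient of the numerator -/
theorem numerZ_functional_equation (hK : IsFunctionField k K) :
    (∀ n : ℕ, 2 * genus k K < n → PowerSeries.coeff n (numerZ k K) = 0) ∧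
    PowerSeries.coeff (2 * genus k K) (numerZ k K) ≠ 0 ∧
    ∀ i : ℕ, i ≤ 2 * genus k K →
      (((PowerSeries.coeff (2 * genus k K - i) (numerZ k K) : ℤ)) : ℚ) =
        (Nat.card k : ℚ) ^ ((genus k K : ℤ) - i) *
          (((PowerSeries.coeff i (numerZ k K) : ℤ)) : ℚ) := by
  classical
  haveI := finite_cl0 hK
  letI : Fintype (Cl0 k K) := Fintype.ofFinite _
  obtain ⟨D₁, hD₁⟩ := deg_surjective hK 1
  have hsymm : ∀ i : ℕ, i ≤ 2 * genus k K →
      (((PowerSeries.coeff (2 * genus k K - i) (numerZ k K) : ℤ)) : ℚ) =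
        (Nat.card k : ℚ) ^ ((genus k K : ℤ) - i) *
          (((PowerSeries.coeff i (numerZ k K) : ℤ)) : ℚ) := by
    intro i hi
    rw [← cz_natCast, ← cz_natCast, Nat.cast_sub hi]
    push_cast
    exact cz_symm hK D₁ hD₁ i
  refine ⟨fun n hn => coeff_numerZ_eq_zero hK n hn, ?_, hsymm⟩
  have h0 := hsymm 0 (Nat.zero_le _)
  rw [Nat.sub_zero, coeff_numerZ_zero] at h0
  intro hzero
  rw [hzero] at h0
  have hq0 : (Nat.card k : ℚ) ≠ 0 := by
    have : 0 < Nat.card k := Nat.card_pos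
    positivity
  have ha0 : 0 < effDivCount k K 0 := by
    rw [effDivCount_eq]
    haveI := finite_eff hK 0
    haveI : Nonempty (Eff k K 0) := ⟨⟨0, le_rfl, by rw [Divisor.deg_zero]; rfl⟩⟩
    exact Nat.card_pos
  have : (0 : ℚ) < (Nat.card k : ℚ) ^ ((genus k K : ℤ) - (0 : ℕ)) *
      (((effDivCount k K 0 : ℕ) : ℤ) : ℚ) := by
    apply mul_pos
    · apply zpow_pos
      have : 0 < Nat.card k := Nat.card_pos
      positivity
    · exact_mod_cast ha0
  rw [← h0] at this
  simp at this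

end main

end Groth.Agent.H86.Zeta
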