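import Mathlib

/-!
# ZT15: factorisation of self-reciprocal polynomials over `ℂ` into reciprocal pairs
-/

set_option autoImplicit false

namespace Groth.Agent.H86.Zeta

open Polynomial

/-- the quadratic factor attached to a reciprocal pair. -/
theorem pair_eq (β : ℂ) (hβ : β ≠ 0) :
    (X - C β) * (X - C β⁻¹) = (1 - C β * X) * (1 - C β⁻¹ * X) := by
  have h : (C β : ℂ[X]) * C β⁻¹ = 1 := by
    rw [← C_mul, mul_inv_cancel₀ hβ, C_1]
  linear_combination (1 - X ^ 2) * h

theorem reflect_one_X_sub_C (β : ℂ) : reflect 1 (X - C β : ℂ[X]) = 1 - C β * X := by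
  rw [reflect_sub, reflect_one_X, reflect_C, pow_one]

theorem reflect_two_pair (β : ℂ) (hβ : β ≠ 0) :
    reflect 2 ((X - C β) * (X - C β⁻¹) : ℂ[X]) = (X - C β) * (X - C β⁻¹) := by
  have h1 : (X - C β : ℂ[X]).natDegree ≤ 1 := (natDegree_X_sub_C_le _)
  have h2 : (X - C β⁻¹ : ℂ[X]).natDegree ≤ 1 := (natDegree_X_sub_C_le _)
  have := reflect_mul (X - C β : ℂ[X]) (X - C β⁻¹) h1 h2
  rw [show (1 + 1 : ℕ) = 2 from rfl] at this
  rw [this, reflect_one_X_sub_C, reflect_one_X_sub_C, pair_eq β hβ]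

/-- key divisibility: a palindromic polynomial of even degree with a root `β` is divisible by
`(X - β)(X - β⁻¹)`. -/
theorem pair_dvd_of_palindromic (n : ℕ) (M : ℂ[X]) (hdeg : M.natDegree = 2 * n + 2)
    (hrefl : reflect (2 * n + 2) M = M) (β : ℂ) (hβ : β ≠ 0) (hroot : M.IsRoot β) :
    (X - C β) * (X - C β⁻¹) ∣ M := by
  obtain ⟨M₂, hM₂⟩ : (X - C β) ∣ M := dvd_iff_isRoot.mpr hroot
  have hM0 : M ≠ 0 := by
    intro h
    rw [h, natDegree_zero] at hdeg
    omega
  have hM₂0 : M₂ ≠ 0 := by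
    rintro rfl
    exact hM0 (by rw [hM₂, mul_zero])
  have hdeg₂ : M₂.natDegree = 2 * n + 1 := by
    have := natDegree_mul (X_sub_C_ne_zero β) hM₂0
    rw [← hM₂, hdeg, natDegree_X_sub_C] at this
    omega
  letI : Invertible β := invertibleOfNonzero hβ
  have hinv : ⅟β = β⁻¹ := invOf_eq_inv β
  suffices h : M₂.IsRoot β⁻¹ by
    obtain ⟨M₁, hM₁⟩ := dvd_iff_isRoot.mpr h
    exact ⟨M₁, by rw [hM₂, hM₁, mul_assoc]⟩
  by_cases hne : β⁻¹ = β
  · -- double root
    have hβ2 : β * β = 1 := by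
      nth_rewrite 1 [← hne]
      exact inv_mul_cancel₀ hβ
    have hr : reflect (1 + (2 * n + 1)) ((X - C β) * M₂) =
        reflect 1 (X - C β) * reflect (2 * n + 1) M₂ :=
      reflect_mul _ _ (natDegree_X_sub_C_le _) hdeg₂.le
    rw [show 1 + (2 * n + 1) = 2 * n + 2 by ring, ← hM₂, hrefl, reflect_one_X_sub_C] at hr
    have h1 : (1 - C β * X : ℂ[X]) = (X - C β) * (- C β) := by
      have : (C β : ℂ[X]) * C β = 1 := by rw [← C_mul, hβ2, C_1]
      linear_combination (-1 : ℂ[X]) * this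
    rw [hM₂, h1, mul_assoc] at hr
    have h2 : M₂ = - C β * reflect (2 * n + 1) M₂ :=
      mul_left_cancel₀ (X_sub_C_ne_zero β) hr
    have h3 := eval₂_reflect_mul_pow (RingHom.id ℂ) β (2 * n + 1) M₂ hdeg₂.le
    rw [hinv, hne] at h3
    have h4 : β ^ (2 * n + 1) = β := by
      rw [pow_succ, pow_mul, pow_two, hβ2, one_pow, one_mul]
    rw [h4] at h3
    have h5 : eval β M₂ = - β * eval β (reflect (2 * n + 1) M₂) := by
      conv_lhs => rw [h2]
      simp
    rw [hne, IsRoot.def]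
    simp only [eval₂_id] at h3
    have : (2 : ℂ) * eval β M₂ = 0 := by
      linear_combination h5 - h3
    simpa using this
  · have h0 : eval β⁻¹ M = 0 := by
      have h3 := eval₂_reflect_mul_pow (RingHom.id ℂ) β (2 * n + 2) M hdeg.le
      rw [hrefl, hinv] at h3
      simp only [eval₂_id] at h3
      rw [hroot, mul_eq_zero] at h3
      rcases h3 with h3 | h3
      · exact h3
      · exact absurd (pow_eq_zero_iff (by omega) |>.mp h3) hβ
    rw [hM₂, eval_mul, eval_sub, eval_X, eval_C, mul_eq_zero] at h0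
    rcases h0 with h0 | h0
    · exact absurd (sub_eq_zero.mp h0) hne
    · exact h0

/-- A palindromic polynomial of degree `≤ 2g` with constant coefficient `1` is a product of `g`
reciprocal pairs. -/
theorem exists_list_of_palindromic :
    ∀ (g : ℕ) (M : ℂ[X]), M.natDegree ≤ 2 * g → reflect (2 * g) M = M → M.coeff 0 = 1 →
      ∃ l : List ℂ, l.length = g ∧ (∀ γ ∈ l, γ ≠ 0) ∧
        M = (l.map fun γ => (1 - C γ * X) * (1 - C γ⁻¹ * X)).prod := by
  intro g
  induction g with
  | zero =>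
    intro M hdeg _ h0
    refine ⟨[], rfl, by simp, ?_⟩
    have hC := eq_C_of_natDegree_le_zero (p := M) (by simpa using hdeg)
    rw [hC, h0]
    simp
  | succ g ih =>
    intro M hdeg hrefl h0
    have h22 : 2 * (g + 1) = 2 * g + 2 := by ring
    rw [h22] at hdeg hrefl
    have htop : M.coeff (2 * g + 2) = 1 := by
      rw [← hrefl, coeff_reflect, revAt_le le_rfl, Nat.sub_self, h0]
    have hdeg' : M.natDegree = 2 * g + 2 :=
      le_antisymm hdeg (le_natDegree_of_ne_zero (by rw [htop]; exact one_ne_zero))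
    have hdegne : M.degree ≠ 0 := by
      intro h
      have := natDegree_eq_zero_iff_degree_le_zero.mpr h.le
      omega
    obtain ⟨β, hroot⟩ := IsAlgClosed.exists_root M hdegne
    have hβ : β ≠ 0 := by
      rintro rfl
      rw [IsRoot.def, ← coeff_zero_eq_eval_zero, h0] at hroot
      exact one_ne_zero hroot
    obtain ⟨M₁, hM₁⟩ := pair_dvd_of_palindromic g M hdeg' hrefl β hβ hroot
    set Q : ℂ[X] := (X - C β) * (X - C β⁻¹) with hQ
    have hQ0 : Q ≠ 0 := mul_ne_zero (X_sub_C_ne_zero _) (X_sub_C_ne_zero _)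
    have hM0 : M ≠ 0 := by
      intro h
      rw [h, natDegree_zero] at hdeg'
      omega
    have hM₁0 : M₁ ≠ 0 := by
      rintro rfl
      exact hM0 (by rw [hM₁, mul_zero])
    have hQdeg : Q.natDegree = 2 := by
      rw [hQ, natDegree_mul (X_sub_C_ne_zero _) (X_sub_C_ne_zero _), natDegree_X_sub_C,
        natDegree_X_sub_C]
    have hdeg₁ : M₁.natDegree = 2 * g := by
      have := natDegree_mul hQ0 hM₁0
      rw [← hM₁, hdeg', hQdeg] at this
      omega
    have hrefl₁ : reflect (2 * g) M₁ = M₁ := by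
      have hr : reflect (2 + 2 * g) (Q * M₁) = reflect 2 Q * reflect (2 * g) M₁ :=
        reflect_mul _ _ hQdeg.le hdeg₁.le
      rw [show 2 + 2 * g = 2 * g + 2 by ring, ← hM₁, hrefl, hQ, reflect_two_pair β hβ, ← hQ] at hr
      rw [hM₁] at hr
      exact (mul_left_cancel₀ hQ0 hr).symm
    have h0₁ : M₁.coeff 0 = 1 := by
      have : M.coeff 0 = Q.coeff 0 * M₁.coeff 0 := by rw [hM₁, mul_coeff_zero]
      rw [h0] at this
      have hQ00 : Q.coeff 0 = 1 := by
        rw [hQ, mul_coeff_zero]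
        simp [hβ]
      rw [hQ00, one_mul] at this
      exact this.symm
    obtain ⟨l, hlen, hl0, hl⟩ := ih M₁ hdeg₁.le hrefl₁ h0₁
    refine ⟨β :: l, by simp [hlen], ?_, ?_⟩
    · intro γ hγ
      rcases List.mem_cons.mp hγ with rfl | hγ
      · exact hβ
      · exact hl0 γ hγ
    · rw [List.map_cons, List.prod_cons, ← hl, ← pair_eq β hβ, ← hM₁]

end Groth.Agent.H86.Zeta
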